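import Mathlib

/-!
# Stably free ideals of a domain are principal (helper84)

A variant of Mathlib's `Module.free_of_isStablyFree_of_invertible` (whose auxiliary cofactor maps
are private): if a nonzero ideal `I` of a domain is stably free as a module, it is principal.
-/

set_option autoImplicit false
universe u

namespace Groth.Agent.Lib.Helper84.RegUFD

open Module

section Cofactor

variable {R : Type*} [CommRing R] {M N : Type*} [AddCommGroup M] [Module R M]
  [AddCommGroup N] [Module R N] {n : ℕ}

/-- Cofactor expansion along the `M`-summand of `M × N` (copy of Mathlib's private helper). -/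
noncomputable def cofactorLinear (bN : Module.Basis (Fin n) R N) :
    M × N →ₗ[R] (M × N) [⋀^Fin n]→ₗ[R] M where
  toFun x := (bN.det.compLinearMap (LinearMap.snd R M N)).smulRight x.1
  map_add' x y := AlternatingMap.ext fun _ ↦ by simp
  map_smul' c x := AlternatingMap.ext fun _ ↦ by simp [smul_smul, mul_comm]

/-- The induced map from the top exterior power of `M × N` to `M`. -/
noncomputable def cofactorToLeft (bN : Module.Basis (Fin n) R N) :
    ⋀[R]^(n + 1) (M × N) →ₗ[R] M :=
  exteriorPower.alternatingMapLinearEquiv (AlternatingMap.alternatizeUncurryFin (cofactorLinear bN))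

lemma cofactorToLeft_ιMulti_cons (bN : Module.Basis (Fin n) R N) (m : M) :
    cofactorToLeft bN (exteriorPower.ιMulti R (n + 1) (Fin.cons (m, 0) fun i ↦ (0, bN i))) = m := by
  simp [cofactorToLeft, cofactorLinear, AlternatingMap.alternatizeUncurryFin_apply,
    Fin.sum_univ_succ, Module.Basis.det_self]

end Cofactor

/-- A finite stably free module `M` such that `M × N` has rank `rank N + 1` for every finite free
`N` with `M × N` free is a quotient of `R`. -/
theorem exists_surjective_of_isStablyFree (R : Type u) (M : Type*) [CommRing R] [Nontrivial R]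
    [AddCommGroup M] [Module R M] [Module.Finite R M] [IsStablyFree R M]
    (hrank : ∀ (N : Type u) [AddCommGroup N] [Module R N] [Module.Finite R N] [Module.Free R N],
      Module.Free R (M × N) → Module.finrank R (M × N) = Module.finrank R N + 1) :
    ∃ f : R →ₗ[R] M, Function.Surjective f := by
  obtain ⟨N, _, _, _, _, hfree⟩ := IsStablyFree.exist_free_prod R M
  let n := Module.finrank R N
  have hp : Module.finrank R (M × N) = n + 1 := hrank N hfree
  let e : R ≃ₗ[R] ⋀[R]^(n + 1) (M × N) :=
    (Module.nonempty_linearEquiv_of_finrank_eq_one <| by simp [exteriorPower.finrank_eq, hp]).some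
  let bN : Module.Basis (Fin n) R N := Module.finBasis R N
  refine ⟨cofactorToLeft bN ∘ₗ e.toLinearMap, fun x ↦
    ⟨e.symm (exteriorPower.ιMulti R (n + 1) (Fin.cons (x, 0) fun i ↦ (0, bN i))), ?_⟩⟩
  simp [cofactorToLeft_ιMulti_cons]

/-- Rank of `I × N` for a nonzero ideal `I` of a domain. -/
theorem finrank_ideal_prod {S : Type u} [CommRing S] [IsDomain S] (I : Ideal S) (hI : I ≠ ⊥)
    (N : Type u) [AddCommGroup N] [Module S N] [Module.Finite S N] :
    Module.finrank S (I × N) = Module.finrank S N + 1 := by
  have hI1 : Module.rank S I = 1 := by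
    apply le_antisymm
    · have := Submodule.rank_le (R := S) (M := S) I
      rwa [rank_self] at this
    · rw [Cardinal.one_le_iff_pos, rank_pos_iff_exists_ne_zero]
      obtain ⟨x, hx, hx0⟩ := Submodule.exists_mem_ne_zero_of_ne_bot hI
      exact ⟨⟨x, hx⟩, fun h => hx0 (congrArg Subtype.val h)⟩
  have h := LinearMap.rank_range_add_rank_ker (LinearMap.fst S I N)
  rw [LinearMap.range_eq_top.2 LinearMap.fst_surjective, rank_top, LinearMap.ker_fst,
    (LinearEquiv.ofInjective (LinearMap.inr S I N) LinearMap.inr_injective).symm.rank_eq, hI1] at h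
  have hN : Module.rank S N = (Module.finrank S N : Cardinal) :=
    (Module.finrank_eq_rank S N).symm
  rw [hN] at h
  have : Module.rank S (I × N) = ((Module.finrank S N + 1 : ℕ) : Cardinal) := by
    rw [← h]; push_cast; ring
  exact Module.finrank_eq_of_rank_eq this

/-- A nonzero stably free ideal of a Noetherian domain is principal. -/
theorem isPrincipal_of_isStablyFree {S : Type u} [CommRing S] [IsDomain S] (I : Ideal S)
    [Module.Finite S I] [IsStablyFree S I] : I.IsPrincipal := by
  by_cases hI : I = ⊥
  · subst hI; exact bot_isPrincipal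
  obtain ⟨f, hf⟩ := exists_surjective_of_isStablyFree S I
    (fun N _ _ _ _ _ => finrank_ideal_prod I hI N)
  refine ⟨⟨(f 1 : S), ?_⟩⟩
  apply le_antisymm
  · intro x hx
    obtain ⟨r, hr⟩ := hf ⟨x, hx⟩
    rw [Submodule.mem_span_singleton]
    refine ⟨r, ?_⟩
    have : f r = r • f 1 := by rw [← map_smul, smul_eq_mul, mul_one]
    rw [this] at hr
    have := congrArg Subtype.val hr
    simpa using this
  · rw [Submodule.span_singleton_le_iff_mem]
    exact (f 1).2

end Groth.Agent.Lib.Helper84.RegUFD
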