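import Mathlib
import Groth.Agent.S6862
import Groth.Agent.Lib.Helper33.PdLocus

/-!
# Localizations of modules of finite projective dimension over a local ring are stably free
when they are projective (helper84)
-/

set_option autoImplicit false
universe u
open CategoryTheory

namespace Groth.Agent.Lib.Helper84.RegUFD

/-- Over a local ring `A`, if a finite module `M` has finite projective dimension and a localization
`S⁻¹M` is projective, then `S⁻¹M` is stably free. -/
theorem isStablyFree_localizedModule (A : Type u) [CommRing A] [IsLocalRing A] [IsNoetherianRing A]
    (S : Submonoid A) (n : ℕ) :
    ∀ (M : Type u) [AddCommGroup M] [Module A M] [Module.Finite A M],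
      HasProjectiveDimensionLT (ModuleCat.of A M) (n + 1) →
      Module.Projective (Localization S) (LocalizedModule S M) →
      Module.IsStablyFree (Localization S) (LocalizedModule S M) := by
  induction n with
  | zero =>
    intro M _ _ _ h _
    rw [zero_add, ← projective_iff_hasProjectiveDimensionLT_one,
      ← IsProjective.iff_projective] at h
    have : Module.Free A M := Module.free_of_flat_of_isLocalRing
    have : Module.Free (Localization S) (LocalizedModule S M) :=
      Module.free_of_isLocalizedModule S (LocalizedModule.mkLinearMap S M)
    infer_instance
  | succ n ih =>
    intro M _ _ _ h hproj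
    rcases Module.exists_finite_presentation A M with ⟨P, _, _, _, _, f, surjf⟩
    have hexA : Function.Exact (LinearMap.ker f).subtype f := LinearMap.exact_subtype_ker_map f
    -- projective dimension of the kernel
    let T := ModuleCat.shortComplexOfCompEqZero (LinearMap.ker f).subtype f
      (LinearMap.ext fun y => hexA.apply_apply_eq_zero y)
    have T_exact : T.ShortExact := ModuleCat.shortComplex_shortExact T hexA
      (Submodule.injective_subtype _) surjf
    have projT : Projective T.X₂ :=
      (IsProjective.iff_projective (R := A) (P := P)).mp inferInstance
    have hK : HasProjectiveDimensionLT (ModuleCat.of A (LinearMap.ker f)) (n + 1) :=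
      (T_exact.hasProjectiveDimensionLT_X₃_iff n projT).1 h
    -- localized sequence
    have hinj := LocalizedModule.map_injective S (LinearMap.ker f).subtype
      (Submodule.injective_subtype _)
    have hsurj := LocalizedModule.map_surjective S f surjf
    have hex : Function.Exact (LocalizedModule.map S (LinearMap.ker f).subtype)
        (LocalizedModule.map S f) := LocalizedModule.map_exact S _ f hexA
    have hKproj : Module.Projective (Localization S) (LocalizedModule S (LinearMap.ker f)) := by
      rw [IsProjective.iff_projective, projective_iff_hasProjectiveDimensionLT_one]
      refine (Groth.Agent.Lib.Helper33.PdLocus.hasProjectiveDimensionLT_localized_step A S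
        (LinearMap.ker f).subtype f (Submodule.injective_subtype _) hexA surjf 0).1 ?_
      have h1 : HasProjectiveDimensionLT (ModuleCat.of (Localization S) (LocalizedModule S M)) 1 := by
        rw [← projective_iff_hasProjectiveDimensionLT_one, ← IsProjective.iff_projective]
        exact hproj
      exact hasProjectiveDimensionLT_of_ge _ 1 2 (by omega)
    have hKsf : Module.IsStablyFree (Localization S) (LocalizedModule S (LinearMap.ker f)) :=
      ih (LinearMap.ker f) hK hKproj
    have hPfree : Module.Free (Localization S) (LocalizedModule S P) :=
      Module.free_of_isLocalizedModule S (LocalizedModule.mkLinearMap S P)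
    have hPsf : Module.IsStablyFree (Localization S) (LocalizedModule S P) := inferInstance
    exact (Groth.Agent.S6862.result (R := Localization S)
      (LocalizedModule.map S (LinearMap.ker f).subtype) (LocalizedModule.map S f)
      hinj hsurj hex).1 hKsf hPsf

end Groth.Agent.Lib.Helper84.RegUFD
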