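import Mathlib

/-!
# Height-one primes in locally factorial Noetherian domains are projective modules (helper84)
-/

set_option autoImplicit false
universe u

namespace Groth.Agent.Lib.Helper84.RegUFD

theorem projective_of_isPrincipal {T : Type*} [CommRing T] [IsDomain T] (J : Ideal T)
    (hJ : J.IsPrincipal) : Module.Projective T J := by
  obtain ⟨a, rfl⟩ := hJ
  by_cases ha : a = 0
  · subst ha
    have : Subsingleton (Submodule.span T {(0:T)}) := by
      rw [Submodule.span_zero_singleton]; infer_instance
    infer_instance
  · exact Module.Projective.of_equiv (LinearEquiv.toSpanNonzeroSingleton T T a ha)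

/-- In a Noetherian domain whose localizations at maximal ideals are factorial, the extension of a
height-one prime to such a localization is principal. -/
theorem isPrincipal_map_of_ufd {S : Type u} [CommRing S] [IsDomain S]
    (P : Ideal S) [hP : P.IsPrime] (hP1 : P.height = 1) (Q : Ideal S) [Q.IsPrime]
    [UniqueFactorizationMonoid (Localization.AtPrime Q)] :
    (P.map (algebraMap S (Localization.AtPrime Q))).IsPrincipal := by
  by_cases hPQ : P ≤ Q
  · have hd : Disjoint (Q.primeCompl : Set S) (P : Set S) := by
      rw [Set.disjoint_left]
      intro s hs hsP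
      exact hs (hPQ hsP)
    have := IsLocalization.isPrime_of_isPrime_disjoint Q.primeCompl (Localization.AtPrime Q) P hP hd
    apply UniqueFactorizationMonoid.isPrincipal_of_height_eq_one
    rw [← IsLocalization.height_under Q.primeCompl,
      IsLocalization.under_map_of_isPrime_disjoint Q.primeCompl (Localization.AtPrime Q) hP hd, hP1]
  · obtain ⟨s, hsP, hsQ⟩ := Set.not_subset.1 hPQ
    have : P.map (algebraMap S (Localization.AtPrime Q)) = ⊤ :=
      Ideal.eq_top_of_isUnit_mem _ (Ideal.mem_map_of_mem _ hsP)
        (IsLocalization.map_units (Localization.AtPrime Q) (⟨s, hsQ⟩ : Q.primeCompl))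
    rw [this]
    exact top_isPrincipal

theorem projective_of_forall_ufd {S : Type u} [CommRing S] [IsDomain S] [IsNoetherianRing S]
    (P : Ideal S) [P.IsPrime] (hP : P.height = 1)
    (h : ∀ (Q : Ideal S) [Q.IsMaximal], UniqueFactorizationMonoid (Localization.AtPrime Q)) :
    Module.Projective S P := by
  have : Module.FinitePresentation S P := Module.finitePresentation_of_finite S P
  refine Module.projective_of_localization_maximal'
    (fun Q _ => Localization.AtPrime Q)
    (fun Q _ => (P : Submodule S S).localized' (Localization.AtPrime Q) Q.primeCompl
      (Algebra.linearMap S (Localization.AtPrime Q)))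
    (fun Q _ => (P : Submodule S S).toLocalized' (Localization.AtPrime Q) Q.primeCompl
      (Algebra.linearMap S (Localization.AtPrime Q)))
    (fun Q hQ => ?_)
  have := h Q
  have hJ : ((P : Submodule S S).localized' (Localization.AtPrime Q) Q.primeCompl
      (Algebra.linearMap S (Localization.AtPrime Q)) : Ideal (Localization.AtPrime Q)) =
      P.map (algebraMap S (Localization.AtPrime Q)) := by
    rw [Submodule.localized'_eq_span]
    rfl
  have key : ((P : Submodule S S).localized' (Localization.AtPrime Q) Q.primeCompl
      (Algebra.linearMap S (Localization.AtPrime Q)) : Ideal (Localization.AtPrime Q)).IsPrincipal := by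
    rw [hJ]
    exact isPrincipal_map_of_ufd P hP Q
  exact projective_of_isPrincipal _ key

end Groth.Agent.Lib.Helper84.RegUFD
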