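import Mathlib
import Groth.Agent.S0558
import Groth.Agent.S0563
import Groth.Agent.S0564
import Groth.Agent.Lib.Helper84.RegUFD1
import Groth.Agent.Lib.Helper84.RegUFD2
import Groth.Agent.Lib.Helper84.RegUFD3

/-!
# Auslander–Buchsbaum: a regular local ring is a unique factorisation domain (helper84)
-/

set_option autoImplicit false
universe u
open IsLocalRing CategoryTheory

namespace Groth.Agent.Lib.Helper84.RegUFD

/-- Nakayama: in a Noetherian local ring with `m ≠ 0` there is `x ∈ m \ m²`. -/
theorem exists_mem_maximalIdeal_notMem_sq (R : Type u) [CommRing R] [IsLocalRing R]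
    [IsNoetherianRing R] (hm : maximalIdeal R ≠ ⊥) :
    ∃ x ∈ maximalIdeal R, x ∉ maximalIdeal R ^ 2 := by
  by_contra hcon
  push Not at hcon
  apply hm
  have hle : maximalIdeal R ≤ maximalIdeal R • maximalIdeal R := by
    intro x hx
    have := hcon x hx
    rwa [pow_two] at this
  exact Submodule.eq_bot_of_le_smul_of_le_jacobson_bot (maximalIdeal R) (maximalIdeal R)
    (IsNoetherian.noetherian _) hle (IsLocalRing.maximalIdeal_le_jacobson ⊥)

/-- The localization of the submodule `p ⊆ R` is the extended ideal. -/
noncomputable def localizedIdealEquiv {R : Type u} [CommRing R] (M : Submonoid R)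
    (P : Ideal (Localization M)) :
    LocalizedModule M (P.comap (algebraMap R (Localization M))) ≃ₗ[Localization M] P :=
  let p : Ideal R := P.comap (algebraMap R (Localization M))
  let J : Submodule (Localization M) (Localization M) :=
    (p : Submodule R R).localized' (Localization M) M (Algebra.linearMap R (Localization M))
  have hJ : J = P := by
    show (p : Submodule R R).localized' (Localization M) M (Algebra.linearMap R (Localization M)) = P
    rw [Submodule.localized'_eq_span]
    exact IsLocalization.map_under M (Localization M) P
  ((IsLocalizedModule.iso M ((p : Submodule R R).toLocalized' (Localization M) M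
      (Algebra.linearMap R (Localization M)))).extendScalarsOfIsLocalization M (Localization M)).trans
    (LinearEquiv.ofEq J P hJ)

theorem ufd_aux : ∀ (d : ℕ) (R : Type u) [CommRing R] [IsRegularLocalRing R],
    ringKrullDim R = d → UniqueFactorizationMonoid R := by
  intro d
  induction d using Nat.strong_induction_on with
  | _ d ih =>
  intro R _ _ hd
  have hdom : IsDomain R := Groth.Agent.S0558.result R
  by_cases hm : maximalIdeal R = ⊥
  · apply UniqueFactorizationMonoid.of_forall_isPrincipal_of_height_eq_one
    intro p hp _
    have : p = ⊥ := le_bot_iff.1 (hm ▸ IsLocalRing.le_maximalIdeal hp.ne_top)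
    subst this
    exact bot_isPrincipal
  · obtain ⟨x, hx, hx2⟩ := exists_mem_maximalIdeal_notMem_sq R hm
    obtain ⟨hreg, _⟩ := Groth.Agent.S0558.isRegularLocalRing_quot R x hx hx2
    have hdomq : IsDomain (R ⧸ Ideal.span ({x} : Set R)) := Groth.Agent.S0558.result _
    have hprime : (Ideal.span ({x} : Set R)).IsPrime :=
      (Ideal.Quotient.isDomain_iff_prime _).1 hdomq
    have hx0 : x ≠ 0 := by
      rintro rfl
      exact hx2 (Ideal.zero_mem _)
    have hxp : Prime x := (Ideal.span_singleton_prime hx0).1 hprime
    rw [UniqueFactorizationMonoid.iff_localizationAway_of_prime hxp]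
    have hdomS : IsDomain (Localization.Away x) :=
      IsLocalization.Away.isDomain (Localization.Away x) hx0
    apply UniqueFactorizationMonoid.of_forall_isPrincipal_of_height_eq_one
    intro P hP hP1
    -- localizations at maximal ideals are factorial by induction
    have hloc : ∀ (Q : Ideal (Localization.Away x)) [Q.IsMaximal],
        UniqueFactorizationMonoid (Localization.AtPrime Q) := by
      intro Q hQ
      have hQp : Q.IsPrime := hQ.isPrime
      have hregq : IsRegularLocalRing
          (Localization.AtPrime (Q.comap (algebraMap R (Localization.Away x)))) :=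
        Groth.Agent.S0564.result R _
      have hregQ : IsRegularLocalRing (Localization.AtPrime Q) :=
        IsRegularLocalRing.of_ringEquiv
          (IsLocalization.localizationLocalizationAtPrimeIsoLocalization
            (Submonoid.powers x) Q).toRingEquiv
      have hxq : x ∉ Q.comap (algebraMap R (Localization.Away x)) := fun h =>
        hQp.ne_top (Ideal.eq_top_of_isUnit_mem _ h (IsLocalization.Away.algebraMap_isUnit x))
      have hqlt : Q.comap (algebraMap R (Localization.Away x)) < maximalIdeal R :=
        lt_of_le_of_ne (IsLocalRing.le_maximalIdeal (Ideal.IsPrime.ne_top inferInstance))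
          (fun h => hxq (h ▸ hx))
      have hht := Ideal.height_strict_mono_of_isPrime_of_isPrime hqlt
      have hdimQ : ringKrullDim (Localization.AtPrime Q) =
          (Q.comap (algebraMap R (Localization.Away x))).height :=
        IsLocalization.AtPrime.ringKrullDim_eq_height _ _
      have hmh : (maximalIdeal R).height = (d : ℕ∞) := by
        have := IsLocalRing.maximalIdeal_height_eq_ringKrullDim (R := R)
        rw [hd] at this
        exact_mod_cast this
      rw [hmh] at hht
      have hne : (Q.comap (algebraMap R (Localization.Away x))).height ≠ ⊤ := ne_top_of_lt hht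
      obtain ⟨d', hd'⟩ := ENat.ne_top_iff_exists.1 hne
      have hlt : d' < d := by
        rw [← hd'] at hht
        exact_mod_cast hht
      refine ih d' hlt (Localization.AtPrime Q) ?_
      rw [hdimQ, ← hd']
      rfl
    have hproj : Module.Projective (Localization.Away x) P := projective_of_forall_ufd P hP1 hloc
    -- stably free via the finite free resolution over `R`
    have hpd : HasProjectiveDimensionLT
        (ModuleCat.of R (P.comap (algebraMap R (Localization.Away x)))) (d + 1) :=
      Groth.Agent.S0563.result R d hd _
    let e := localizedIdealEquiv (Submonoid.powers x) P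
    have hproj' : Module.Projective (Localization (Submonoid.powers x))
        (LocalizedModule (Submonoid.powers x) (P.comap (algebraMap R (Localization.Away x)))) :=
      Module.Projective.of_equiv e.symm
    have hsf := isStablyFree_localizedModule R (Submonoid.powers x) d _ hpd hproj'
    have : Module.IsStablyFree (Localization.Away x) P := Module.IsStablyFree.equiv e
    exact isPrincipal_of_isStablyFree P

/-- **Auslander–Buchsbaum**: a regular local ring is a unique factorisation domain. -/
theorem uniqueFactorizationMonoid_of_isRegularLocalRing (R : Type u) [CommRing R]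
    [IsRegularLocalRing R] : UniqueFactorizationMonoid R := by
  have hfin : ringKrullDim R ≠ ⊤ := by
    rw [← IsLocalRing.maximalIdeal_height_eq_ringKrullDim]
    exact_mod_cast Ideal.height_ne_top (IsLocalRing.maximalIdeal.isMaximal R).ne_top
  have hbot : ringKrullDim R ≠ ⊥ := ringKrullDim_ne_bot
  obtain ⟨n, hn⟩ : ∃ n : ℕ, ringKrullDim R = n := by
    rw [← IsLocalRing.maximalIdeal_height_eq_ringKrullDim] at hfin ⊢
    have h1 : (maximalIdeal R).height ≠ ⊤ := by exact_mod_cast hfin
    obtain ⟨n, hn⟩ := ENat.ne_top_iff_exists.1 h1
    exact ⟨n, by rw [← hn]; rfl⟩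
  exact ufd_aux n R hn

end Groth.Agent.Lib.Helper84.RegUFD
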