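import Groth.Agent.Lib.Helper75.ComodModule
import Groth.Prelude.Def_GLin4
import Groth.Prelude.Def_ComodSub

/-!
# Matrix coefficients and maps from the coordinate ring of `GL_n` (helper84)

* `IsCorepMatrix M` : `Δ (M i j) = Σ_l M i l ⊗ M l j` and `ε (M i j) = δ_ij`.
* `IsCorepMatrix.exists_bialgHom` : such a matrix over a commutative Hopf algebra `A` is the image of
  the generic matrix under a bialgebra map `O(GL_n) → A`.
* `coeffMatrix` : the matrix of coefficients of a comodule with a finite basis; it is a
  corepresentation matrix and `ρ (b j) = Σ_i b i ⊗ M i j`.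
-/

set_option autoImplicit false
set_option linter.unusedSectionVars false
universe u v w

open TensorProduct

namespace Groth.Agent.Lib.Helper84

section Corep

variable {k : Type u} [CommRing k] {A : Type v} [CommRing A] [HopfAlgebra k A] {n : ℕ}

local notation "Δ" => CoalgebraStruct.comul (R := k) (A := A)
local notation "ε" => CoalgebraStruct.counit (R := k) (A := A)
local notation "𝑺" => HopfAlgebraStruct.antipode (R := k) (A := A)

variable (k) in
/-- a corepresentation matrix -/
structure IsCorepMatrix (M : Matrix (Fin n) (Fin n) A) : Prop where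
  comul : ∀ i j, Δ (M i j) = ∑ l : Fin n, M i l ⊗ₜ[k] M l j
  counit : ∀ i j, ε (M i j) = if i = j then (1 : k) else 0

namespace IsCorepMatrix

variable {M : Matrix (Fin n) (Fin n) A} (hM : IsCorepMatrix k M)

include hM

theorem mul_map_antipode : M * M.map 𝑺 = 1 := by
  ext i j
  rw [Matrix.mul_apply]
  have h1 := HopfAlgebra.mul_antipode_lTensor_comul_apply (R := k) (M i j)
  rw [hM.comul, map_sum, map_sum, hM.counit] at h1
  simp only [LinearMap.lTensor_tmul, LinearMap.mul'_apply] at h1
  simp only [Matrix.map_apply]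
  rw [h1, Matrix.one_apply]
  split_ifs <;> simp

theorem det_mul_det : M.det * (M.map 𝑺).det = 1 := by
  rw [← Matrix.det_mul, hM.mul_map_antipode, Matrix.det_one]

theorem comulAlgHom_mapMatrix :
    (Bialgebra.comulAlgHom k A).mapMatrix M =
      M.map (Algebra.TensorProduct.includeLeft : A →ₐ[k] A ⊗[k] A) *
        M.map (Algebra.TensorProduct.includeRight : A →ₐ[k] A ⊗[k] A) := by
  ext i j
  rw [Matrix.mul_apply]
  simp only [AlgHom.mapMatrix_apply, Matrix.map_apply, Bialgebra.comulAlgHom_apply,
    Algebra.TensorProduct.includeLeft_apply, Algebra.TensorProduct.includeRight_apply,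
    Algebra.TensorProduct.tmul_mul_tmul, mul_one, one_mul]
  exact hM.comul i j

theorem comul_det : Δ M.det = M.det ⊗ₜ[k] M.det := by
  have h1 : Bialgebra.comulAlgHom k A M.det = ((Bialgebra.comulAlgHom k A).mapMatrix M).det :=
    AlgHom.map_det _ _
  rw [hM.comulAlgHom_mapMatrix, Matrix.det_mul] at h1
  have h2 : (M.map (Algebra.TensorProduct.includeLeft : A →ₐ[k] A ⊗[k] A)).det =
      M.det ⊗ₜ[k] (1 : A) := by
    have := AlgHom.map_det (Algebra.TensorProduct.includeLeft : A →ₐ[k] A ⊗[k] A) M
    rw [AlgHom.mapMatrix_apply] at this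
    rw [← this]
    rfl
  have h3 : (M.map (Algebra.TensorProduct.includeRight : A →ₐ[k] A ⊗[k] A)).det =
      (1 : A) ⊗ₜ[k] M.det := by
    have := AlgHom.map_det (Algebra.TensorProduct.includeRight : A →ₐ[k] A ⊗[k] A) M
    rw [AlgHom.mapMatrix_apply] at this
    rw [← this]
    rfl
  rw [h2, h3, Algebra.TensorProduct.tmul_mul_tmul, mul_one, one_mul] at h1
  exact h1

theorem counit_det : ε M.det = 1 := by
  have h1 : Bialgebra.counitAlgHom k A M.det = ((Bialgebra.counitAlgHom k A).mapMatrix M).det :=
    AlgHom.map_det _ _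
  have h2 : (Bialgebra.counitAlgHom k A).mapMatrix M = 1 := by
    ext i j
    simp only [AlgHom.mapMatrix_apply, Matrix.map_apply, Bialgebra.counitAlgHom_apply]
    rw [hM.counit, Matrix.one_apply]
  rw [h2, Matrix.det_one] at h1
  exact h1

theorem counit_det_antipode : ε (M.map 𝑺).det = 1 := by
  have h1 := congrArg (Bialgebra.counitAlgHom k A) hM.det_mul_det
  rw [map_mul, map_one, Bialgebra.counitAlgHom_apply, Bialgebra.counitAlgHom_apply,
    hM.counit_det, one_mul] at h1
  exact h1

theorem comul_det_antipode :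
    Δ (M.map 𝑺).det = (M.map 𝑺).det ⊗ₜ[k] (M.map 𝑺).det := by
  set d := (M.map 𝑺).det with hd
  have h1 : Bialgebra.comulAlgHom k A M.det * Bialgebra.comulAlgHom k A d = 1 := by
    rw [← map_mul, hM.det_mul_det, map_one]
  rw [Bialgebra.comulAlgHom_apply, Bialgebra.comulAlgHom_apply, hM.comul_det] at h1
  have h2 : (M.det ⊗ₜ[k] M.det) * (d ⊗ₜ[k] d) = (1 : A ⊗[k] A) := by
    rw [Algebra.TensorProduct.tmul_mul_tmul, hM.det_mul_det, Algebra.TensorProduct.one_def]
  calc Δ d = Δ d * ((M.det ⊗ₜ[k] M.det) * (d ⊗ₜ[k] d)) := by rw [h2, mul_one]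
    _ = ((M.det ⊗ₜ[k] M.det) * Δ d) * (d ⊗ₜ[k] d) := by ring
    _ = d ⊗ₜ[k] d := by rw [h1, one_mul]

end IsCorepMatrix

end Corep

/-- a corepresentation matrix defines a bialgebra map out of the coordinate ring of `GL_n` -/
theorem IsCorepMatrix.exists_bialgHom {k : Type u} [CommRing k] {A : Type u} [CommRing A] [HopfAlgebra k A]
    {n : ℕ} {M : Matrix (Fin n) (Fin n) A} (hM : IsCorepMatrix k M) :
    ∃ π : CoordGrp.GLn n k →ₐc[k] A, ∀ i j, π (CoordGrp.GLn.X i j) = M i j := by
  let d : A := (M.map (HopfAlgebraStruct.antipode (R := k) (A := A))).det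
  let π₀ : CoordGrp.GLn n k →ₐ[k] A := CoordGrp.GLn.pt n k M d hM.det_mul_det
  have hc : (Bialgebra.counitAlgHom k A).comp π₀ = Bialgebra.counitAlgHom k (CoordGrp.GLn n k) := by
    apply CoordGrp.GLn.algHom_ext
    · intro i j
      simp only [AlgHom.comp_apply, Bialgebra.counitAlgHom_apply]
      rw [show π₀ (CoordGrp.GLn.X i j) = M i j from CoordGrp.GLn.pt_X M d _ i j, hM.counit,
        CoordGrp.GLn.counit_X]
    · simp only [AlgHom.comp_apply, Bialgebra.counitAlgHom_apply]
      rw [show π₀ CoordGrp.GLn.Dinv = d from CoordGrp.GLn.pt_Dinv M d _, CoordGrp.GLn.counit_Dinv]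
      exact hM.counit_det_antipode
  have hm : (Algebra.TensorProduct.map π₀ π₀).comp (Bialgebra.comulAlgHom k (CoordGrp.GLn n k)) =
      (Bialgebra.comulAlgHom k A).comp π₀ := by
    apply CoordGrp.GLn.algHom_ext
    · intro i j
      simp only [AlgHom.comp_apply, Bialgebra.comulAlgHom_apply]
      rw [show π₀ (CoordGrp.GLn.X i j) = M i j from CoordGrp.GLn.pt_X M d _ i j, hM.comul,
        CoordGrp.GLn.comul_X, map_sum]
      refine Finset.sum_congr rfl fun l _ => ?_
      rw [Algebra.TensorProduct.map_tmul,
        show π₀ (CoordGrp.GLn.X i l) = M i l from CoordGrp.GLn.pt_X M d _ i l,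
        show π₀ (CoordGrp.GLn.X l j) = M l j from CoordGrp.GLn.pt_X M d _ l j]
    · simp only [AlgHom.comp_apply, Bialgebra.comulAlgHom_apply]
      rw [show π₀ CoordGrp.GLn.Dinv = d from CoordGrp.GLn.pt_Dinv M d _, CoordGrp.GLn.comul_Dinv,
        Algebra.TensorProduct.map_tmul,
        show π₀ CoordGrp.GLn.Dinv = d from CoordGrp.GLn.pt_Dinv M d _]
      exact hM.comul_det_antipode.symm
  refine ⟨BialgHom.ofAlgHom π₀ hc hm, fun i j => ?_⟩
  show π₀ (CoordGrp.GLn.X i j) = M i j
  exact CoordGrp.GLn.pt_X M d hM.det_mul_det i j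

end Groth.Agent.Lib.Helper84

namespace Groth.Agent.Lib.Helper84

open Groth.Agent.Lib.Helper75

section Coeff

variable {k : Type u} [CommRing k] {A : Type v} [CommRing A] [HopfAlgebra k A]
variable {V : Type w} [AddCommGroup V] [Module k V] {n : ℕ}

/-- expansion of a tensor along a finite basis of the left factor -/
theorem eq_sum_tmul_contractL (b : Module.Basis (Fin n) k V) (z : V ⊗[k] A) :
    z = ∑ i : Fin n, b i ⊗ₜ[k] contractL A (b.coord i) z := by
  induction z using TensorProduct.induction_on with
  | zero => simp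
  | add x y hx hy =>
    simp only [map_add, TensorProduct.tmul_add, Finset.sum_add_distrib]
    rw [← hx, ← hy]
  | tmul v a =>
    simp only [contractL_tmul, Module.Basis.coord_apply]
    conv_lhs => rw [← b.sum_repr v, TensorProduct.sum_tmul]
    refine Finset.sum_congr rfl fun i _ => ?_
    rw [TensorProduct.smul_tmul]

variable [HopfRep.Comod k A V]

/-- the matrix of coefficients of a comodule in a finite basis -/
noncomputable def coeffMatrix (b : Module.Basis (Fin n) k V) : Matrix (Fin n) (Fin n) A :=
  fun i j => cf (A := A) (b.coord i) (b j)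

theorem coact_basis (b : Module.Basis (Fin n) k V) (j : Fin n) :
    coactMap k A V (b j) = ∑ i : Fin n, b i ⊗ₜ[k] coeffMatrix (A := A) b i j :=
  eq_sum_tmul_contractL b _

theorem isCorepMatrix_coeffMatrix (b : Module.Basis (Fin n) k V) :
    IsCorepMatrix k (coeffMatrix (A := A) b) where
  comul i j := by
    show CoalgebraStruct.comul (R := k) (cf (A := A) (b.coord i) (b j)) = _
    rw [comul_cf, coact_basis, map_sum]
    refine Finset.sum_congr rfl fun l _ => ?_
    rw [LinearMap.rTensor_tmul]
    rfl
  counit i j := by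
    show CoalgebraStruct.counit (R := k) (cf (A := A) (b.coord i) (b j)) = _
    rw [counit_cf, Module.Basis.coord_apply, Module.Basis.repr_self, Finsupp.single_apply]
    simp only [eq_comm]

end Coeff

end Groth.Agent.Lib.Helper84

namespace Groth.Agent.Lib.Helper84

open Groth.Agent.Lib.Helper75

section FiniteSub

variable {K : Type u} [Field K] {A : Type v} [AddCommGroup A] [Module K A] [Coalgebra K A]
variable {V : Type w} [AddCommGroup V] [Module K V] [HopfRep.Comod K A V]

theorem isSubcomod_sup {W W' : Submodule K V} (hW : HopfRep.IsSubcomod (k := K) (A := A) W)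
    (hW' : HopfRep.IsSubcomod (k := K) (A := A) W') :
    HopfRep.IsSubcomod (k := K) (A := A) (W ⊔ W') := by
  rw [isSubcomod_iff] at hW hW' ⊢
  intro f w hw
  obtain ⟨x, hx, y, hy, rfl⟩ := Submodule.mem_sup.mp hw
  rw [map_add]
  exact Submodule.add_mem_sup (hW f x hx) (hW' f y hy)

/-- every finite subset of a comodule over a field lies in a finite-dimensional subcomodule -/
theorem exists_finite_subcomod_finset (s : Finset V) :
    ∃ W : Submodule K V, HopfRep.IsSubcomod (k := K) (A := A) W ∧ Module.Finite K W ∧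
      (s : Set V) ⊆ W := by
  classical
  induction s using Finset.induction_on with
  | empty =>
    refine ⟨⊥, ?_, inferInstance, ?_⟩
    · rw [isSubcomod_iff]
      intro f w hw
      rw [(Submodule.mem_bot K).mp hw, map_zero]
      exact Submodule.zero_mem _
    · simp
  | insert a s _ ih =>
    obtain ⟨W, hW, hfin, hsW⟩ := ih
    haveI := hfin
    refine ⟨orbit K A a ⊔ W, isSubcomod_sup (isSubcomod_orbit a) hW, inferInstance, ?_⟩
    intro x hx
    rw [Finset.coe_insert, Set.mem_insert_iff] at hx
    rcases hx with rfl | hx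
    · exact Submodule.mem_sup_left (self_mem_orbit x)
    · exact Submodule.mem_sup_right (hsW hx)

end FiniteSub

section Regular

variable {k : Type u} [Field k] {A : Type v} [CommRing A] [HopfAlgebra k A] {n : ℕ}

/-- for a subcomodule `V` of the regular comodule with basis `b`, the basis vectors are
combinations of the matrix coefficients: `b j = Σ_i ε(b i) M i j` -/
theorem basis_eq_sum_counit_smul (V : Submodule k A)
    (hV : HopfRep.IsSubcomod (k := k) (A := A) V) (b : Module.Basis (Fin n) k V) (j : Fin n) :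
    ((b j : V) : A) = ∑ i : Fin n, CoalgebraStruct.counit (R := k) ((b i : V) : A) •
      @coeffMatrix k _ A _ _ V _ _ n (ComodSub.Comod.restr (HopfRep.Comod.regular k A) V hV) b i j := by
  letI cV : HopfRep.Comod k A V := ComodSub.Comod.restr (HopfRep.Comod.regular k A) V hV
  have h1 : CoalgebraStruct.comul (R := k) ((b j : V) : A) =
      ∑ i : Fin n, ((b i : V) : A) ⊗ₜ[k] coeffMatrix (A := A) b i j := by
    have h2 := ComodSub.restr_coact_coe (HopfRep.Comod.regular k A) V hV (b j)
    have h3 : cV.coact (b j) = ∑ i : Fin n, b i ⊗ₜ[k] coeffMatrix (A := A) b i j :=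
      coact_basis b j
    rw [h3, map_sum] at h2
    simp only [LinearMap.rTensor_tmul, Submodule.subtype_apply] at h2
    exact h2.symm
  have h4 := Coalgebra.rTensor_counit_comul (R := k) ((b j : V) : A)
  rw [h1, map_sum] at h4
  simp only [LinearMap.rTensor_tmul] at h4
  have h5 := congrArg (TensorProduct.lid k A) h4
  rw [map_sum] at h5
  simp only [TensorProduct.lid_tmul, one_smul] at h5
  exact h5.symm

end Regular

end Groth.Agent.Lib.Helper84
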