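import Mathlib
import Groth.Agent.S5671
import Groth.Agent.S0558
import Groth.Agent.Lib.Helper62.SmoothReg3
import Groth.Agent.Lib.Helper23.FreeOrbitReg
import Groth.Agent.Lib.Helper29.CM

/-!
# Regular quotients via derivations (helper84; S9225, S9226, S9227)
-/

set_option autoImplicit false

universe u

namespace Groth.Agent.Lib.Helper84.DerReg

open IsLocalRing RingTheory.Sequence

section Local

variable {R : Type u} [CommRing R]

/-- a derivation maps `I^2` into `I` -/
theorem derivation_sq_mem (I : Ideal R) (D : Derivation ℤ R R) {x : R} (hx : x ∈ I ^ 2) :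
    D x ∈ I := by
  rw [pow_two] at hx
  refine Submodule.mul_induction_on hx ?_ ?_
  · intro a ha b hb
    rw [D.leibniz, smul_eq_mul, smul_eq_mul]
    exact add_mem (Ideal.mul_mem_right _ _ ha) (Ideal.mul_mem_right _ _ hb)
  · intro a b ha hb
    rw [map_add]; exact add_mem ha hb

variable [IsLocalRing R]

/-- Key independence lemma. -/
theorem coeff_mem_of_sum_mem_sq (m : ℕ) (f : Fin m → R)
    (hf : ∀ i, f i ∈ maximalIdeal R) (D : Fin m → Derivation ℤ R R)
    (hdet : IsUnit (Matrix.det (Matrix.of (fun i j : Fin m => D i (f j)))))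
    (c : Fin m → R) (hc : ∑ j, c j * f j ∈ maximalIdeal R ^ 2) : ∀ k, c k ∈ maximalIdeal R := by
  set M : Matrix (Fin m) (Fin m) R := Matrix.of (fun i j : Fin m => D i (f j)) with hM
  have hv : ∀ i, (M.mulVec c) i ∈ maximalIdeal R := by
    intro i
    have h1 := derivation_sq_mem (maximalIdeal R) (D i) hc
    rw [map_sum] at h1
    have h2 : ∑ j, D i (c j * f j) = ∑ j, f j * D i (c j) + M.mulVec c i := by
      rw [Matrix.mulVec, dotProduct, ← Finset.sum_add_distrib]
      refine Finset.sum_congr rfl fun j _ => ?_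
      rw [(D i).leibniz, hM, Matrix.of_apply, smul_eq_mul, smul_eq_mul]
      ring
    rw [h2] at h1
    have h3 : ∑ j, f j * D i (c j) ∈ maximalIdeal R :=
      Ideal.sum_mem _ fun j _ => Ideal.mul_mem_right _ _ (hf j)
    exact (Ideal.add_mem_iff_right _ h3).1 h1
  intro k
  have h4 : (M.adjugate * M).mulVec c = M.det • c := by
    rw [Matrix.adjugate_mul, Matrix.smul_mulVec, Matrix.one_mulVec]
  rw [← Matrix.mulVec_mulVec] at h4
  have h5 : (M.adjugate.mulVec (M.mulVec c)) k ∈ maximalIdeal R := by
    rw [Matrix.mulVec, dotProduct]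
    exact Ideal.sum_mem _ fun i _ => Ideal.mul_mem_left _ _ (hv i)
  rw [h4, Pi.smul_apply, smul_eq_mul] at h5
  exact (Ideal.unit_mul_mem_iff_mem _ hdet).1 h5

end Local

section Reg

variable {R : Type u} [CommRing R]

/-- elements of the maximal ideal of a regular local ring with independent images in `m/m²`
generate an ideal with regular quotient and form a regular sequence -/
theorem regular_of_independent [IsRegularLocalRing R] (m : ℕ) (f : Fin m → R)
    (hf : ∀ i, f i ∈ maximalIdeal R)
    (hind : ∀ c : Fin m → R, ∑ j, c j * f j ∈ maximalIdeal R ^ 2 → ∀ k, c k ∈ maximalIdeal R) :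
    IsRegularLocalRing (R ⧸ Ideal.span (Set.range f)) ∧
      RingTheory.Sequence.IsRegular R (List.ofFn f) := by
  have hJ : Ideal.span (Set.range f) ≤ maximalIdeal R :=
    Ideal.span_le.2 (by rintro _ ⟨i, rfl⟩; exact hf i)
  have hreg : IsRegularLocalRing (R ⧸ Ideal.span (Set.range f)) := by
    apply Groth.Agent.Lib.Helper62.SmoothReg.isRegularLocalRing_quotient_of_mem_mul R _ hJ
    intro j hj hj2
    obtain ⟨c, rfl⟩ := (Ideal.mem_span_range_iff_exists_fun).1 hj
    have hc := hind c (by rwa [pow_two])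
    exact Ideal.sum_mem _ fun i _ => Ideal.mul_mem_mul (hc i) (Ideal.subset_span ⟨i, rfl⟩)
  refine ⟨hreg, ?_⟩
  obtain ⟨d, hd⟩ : ∃ d : ℕ, ringKrullDim R = d :=
    ⟨(maximalIdeal R).spanFinrank, IsRegularLocalRing.spanFinrank_maximalIdeal.symm⟩
  have hdim := Groth.Agent.Lib.Helper23.FreeOrbitReg.ringKrullDim_quotient_add_le R d hd
    (Ideal.span (Set.range f)) m f rfl
    (fun t ht => hind t (by rw [pow_two]; exact Ideal.mul_mono_right hJ ht))
  have hCM := Groth.Agent.S5671.isCM_of_regular R
  have hmem : ∀ x ∈ List.ofFn f, x ∈ maximalIdeal R := by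
    intro x hx
    rw [List.mem_ofFn] at hx
    obtain ⟨i, rfl⟩ := hx
    exact hf i
  have hof : Ideal.ofList (List.ofFn f) = Ideal.span (Set.range f) := by
    unfold Ideal.ofList
    congr 1
    ext x
    simp [List.mem_ofFn]
  have hsmul : Ideal.ofList (List.ofFn f) • (⊤ : Submodule R R) = Ideal.span (Set.range f) := by
    rw [smul_eq_mul, Ideal.mul_top, hof]
  have h1 := (Groth.Agent.Lib.Helper29.CMLib.isWeaklyRegular_iff_of_isCM R (List.ofFn f) R hCM
    hmem).1
  have hweak : IsWeaklyRegular R (List.ofFn f) := by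
    rw [h1, hsmul, Module.supportDim_quotient_eq_ringKrullDim,
      Module.supportDim_self_eq_ringKrullDim, List.length_ofFn]
    apply le_antisymm
    · rw [hd]; exact hdim
    · have h2 := Groth.Agent.Lib.Helper29.CMLib.supportDim_le_quotient_add_length R
        (List.ofFn f) R hmem
      rw [hsmul, Module.supportDim_quotient_eq_ringKrullDim,
        Module.supportDim_self_eq_ringKrullDim, List.length_ofFn] at h2
      exact h2
  refine ⟨hweak, ?_⟩
  rw [hsmul]
  intro h
  have : (⊤ : Ideal R) ≤ maximalIdeal R := h ▸ hJ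
  exact (IsLocalRing.maximalIdeal.isMaximal R).ne_top (top_le_iff.1 this)

end Reg

section Global

variable {R : Type u} [CommRing R]

/-- Core of S9225: if `t * f ∈ p²` with `t ∉ p`, `f ∈ p`, `p` prime, then `D f ∈ p`. -/
theorem der_mem_of_mul_mem_sq (p : Ideal R) [p.IsPrime] (D : Derivation ℤ R R) {t f : R}
    (ht : t ∉ p) (hf : f ∈ p) (h : t * f ∈ p ^ 2) : D f ∈ p := by
  have h1 := derivation_sq_mem p D h
  rw [Derivation.leibniz, smul_eq_mul, smul_eq_mul] at h1
  have h2 : f * D t ∈ p := p.mul_mem_right _ hf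
  have h3 : t * D f ∈ p := by
    have := p.sub_mem h1 h2
    simpa using this
  exact (Ideal.IsPrime.mem_or_mem ‹p.IsPrime› h3).resolve_left ht

/-- If `f ∈ p` and `D f ∉ p` then the image of `f` in `R_p` is not in the square of the maximal
ideal. -/
theorem algebraMap_notMem_sq (p : Ideal R) [p.IsPrime] (D : Derivation ℤ R R) {f : R}
    (hf : f ∈ p) (hDf : D f ∉ p) :
    algebraMap R (Localization.AtPrime p) f ∉ (maximalIdeal (Localization.AtPrime p)) ^ 2 := by
  intro hmem
  rw [← Localization.AtPrime.map_eq_maximalIdeal, ← Ideal.map_pow] at hmem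
  rw [IsLocalization.mem_map_algebraMap_iff p.primeCompl] at hmem
  obtain ⟨⟨a, s⟩, hs⟩ := hmem
  rw [← map_mul] at hs
  obtain ⟨c, hc⟩ := (IsLocalization.eq_iff_exists p.primeCompl _).1 hs
  apply hDf
  refine der_mem_of_mul_mem_sq p D (t := c * s) ?_ hf ?_
  · exact (c * s).2
  · have : (c : R) * (s : R) * f = c * a := by rw [← hc]; ring
    rw [this]
    exact Ideal.mul_mem_left _ _ a.2

/-- S9225 core: `R` regular, `D f` a unit mod `f` ⟹ `R/(f)` regular. -/
theorem isRegularRing_quotient_of_unit [IsRegularRing R] (f : R) (D : Derivation ℤ R R)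
    (hD : IsUnit (Ideal.Quotient.mk (Ideal.span {f}) (D f))) :
    IsRegularRing (R ⧸ Ideal.span ({f} : Set R)) := by
  set I := Ideal.span ({f} : Set R) with hI
  rw [isRegularRing_iff]
  intro q hq
  let p : Ideal R := q.comap (Ideal.Quotient.mk I)
  have hp : p.IsPrime := Ideal.comap_isPrime _ _
  have hfp : f ∈ p := by
    show Ideal.Quotient.mk I f ∈ q
    rw [Ideal.Quotient.eq_zero_iff_mem.2 (hI ▸ Ideal.subset_span rfl)]; exact q.zero_mem
  have hDf : D f ∉ p := by
    intro h
    have : Ideal.Quotient.mk I (D f) ∈ q := h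
    exact hq.ne_top (Ideal.eq_top_of_isUnit_mem _ this hD)
  have h1 : algebraMap R (Localization.AtPrime p) f ∈ maximalIdeal (Localization.AtPrime p) :=
    (IsLocalization.AtPrime.to_map_mem_maximal_iff (Localization.AtPrime p) p f).2 hfp
  have h2 := algebraMap_notMem_sq p D hfp hDf
  obtain ⟨hreg, -⟩ := Groth.Agent.S0558.isRegularLocalRing_quot (Localization.AtPrime p) _ h1 h2
  have hmap : I.map (algebraMap R (Localization.AtPrime p)) =
      Ideal.span {algebraMap R (Localization.AtPrime p) f} := by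
    rw [hI, Ideal.map_span, Set.image_singleton]
  have hloc : IsLocalization (Algebra.algebraMapSubmonoid (R ⧸ I) p.primeCompl)
      (Localization.AtPrime p ⧸ I.map (algebraMap R (Localization.AtPrime p))) := inferInstance
  have hsub : Algebra.algebraMapSubmonoid (R ⧸ I) p.primeCompl = q.primeCompl := by
    ext x
    obtain ⟨r, rfl⟩ := Ideal.Quotient.mk_surjective x
    constructor
    · rintro ⟨r', hr', hrr'⟩
      have : Ideal.Quotient.mk I r' ∉ q := hr'
      rw [← Ideal.Quotient.algebraMap_eq, hrr'] at this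
      exact this
    · intro hr
      exact ⟨r, hr, rfl⟩
  rw [hsub] at hloc
  have hreg' : IsRegularLocalRing
      (Localization.AtPrime p ⧸ I.map (algebraMap R (Localization.AtPrime p))) := by
    rw [hmap]; exact hreg
  let e : Localization.AtPrime q ≃ₐ[R ⧸ I]
      (Localization.AtPrime p ⧸ I.map (algebraMap R (Localization.AtPrime p))) :=
    IsLocalization.algEquiv q.primeCompl _ _
  exact IsRegularLocalRing.of_ringEquiv e.symm.toRingEquiv

end Global

end Groth.Agent.Lib.Helper84.DerReg
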