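import Mathlib
import Groth.Agent.Lib.Helper84.DerReg

/-!
# Regular quotients: local form (helper84; S11104, S11097)
-/

set_option autoImplicit false

universe u

namespace Groth.Agent.Lib.Helper84.DerReg

open IsLocalRing

section Global2

variable {R : Type u} [CommRing R]

/-- If the image of `f` in `R_p` lies in the square of the maximal ideal, then `t * f ∈ p²` for
some `t ∉ p`. -/
theorem exists_mul_mem_sq (p : Ideal R) [p.IsPrime] {f : R}
    (hmem : algebraMap R (Localization.AtPrime p) f ∈ (maximalIdeal (Localization.AtPrime p)) ^ 2) :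
    ∃ t : R, t ∉ p ∧ t * f ∈ p ^ 2 := by
  rw [← Localization.AtPrime.map_eq_maximalIdeal, ← Ideal.map_pow] at hmem
  rw [IsLocalization.mem_map_algebraMap_iff p.primeCompl] at hmem
  obtain ⟨⟨a, s⟩, hs⟩ := hmem
  rw [← map_mul] at hs
  obtain ⟨c, hc⟩ := (IsLocalization.eq_iff_exists p.primeCompl _).1 hs
  refine ⟨c * s, (c * s).2, ?_⟩
  have : (c : R) * (s : R) * f = c * a := by rw [← hc]; ring
  rw [this]
  exact Ideal.mul_mem_left _ _ a.2

/-- Local form: `R` regular, `q` a prime of `R/(f)` with preimage `p`, and `f/1 ∉ (pR_p)²`.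
Then `(R/(f))_q` is a regular local ring. -/
theorem isRegularLocalRing_localization_quotient [IsRegularRing R] (I : Ideal R) (f : R)
    (hI : I = Ideal.span ({f} : Set R))
    (q : Ideal (R ⧸ I)) [hq : q.IsPrime]
    (p : Ideal R) [hp : p.IsPrime] (hpq : p = q.comap (Ideal.Quotient.mk I))
    (h2 : algebraMap R (Localization.AtPrime p) f ∉ (maximalIdeal (Localization.AtPrime p)) ^ 2) :
    IsRegularLocalRing (Localization.AtPrime q) := by
  have hfp : f ∈ p := by
    rw [hpq]
    show Ideal.Quotient.mk I f ∈ q
    rw [Ideal.Quotient.eq_zero_iff_mem.2 (hI ▸ Ideal.subset_span rfl)]; exact q.zero_mem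
  have h1 : algebraMap R (Localization.AtPrime p) f ∈ maximalIdeal (Localization.AtPrime p) :=
    (IsLocalization.AtPrime.to_map_mem_maximal_iff (Localization.AtPrime p) p f).2 hfp
  obtain ⟨hreg, -⟩ := Groth.Agent.S0558.isRegularLocalRing_quot (Localization.AtPrime p) _ h1 h2
  have hmap : I.map (algebraMap R (Localization.AtPrime p)) =
      Ideal.span {algebraMap R (Localization.AtPrime p) f} := by
    rw [hI, Ideal.map_span, Set.image_singleton]
  have hloc : IsLocalization (Algebra.algebraMapSubmonoid (R ⧸ I) p.primeCompl)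
      (Localization.AtPrime p ⧸ I.map (algebraMap R (Localization.AtPrime p))) := inferInstance
  have hsub : Algebra.algebraMapSubmonoid (R ⧸ I) p.primeCompl = q.primeCompl := by
    ext x
    obtain ⟨r, rfl⟩ := Ideal.Quotient.mk_surjective x
    constructor
    · rintro ⟨r', hr', hrr'⟩
      have : Ideal.Quotient.mk I r' ∉ q := by
        intro h; apply hr'; rw [hpq]; exact h
      rw [← Ideal.Quotient.algebraMap_eq, hrr'] at this
      exact this
    · intro hr
      refine ⟨r, ?_, rfl⟩
      intro h; apply hr; rw [hpq] at h; exact h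
  rw [hsub] at hloc
  have hreg' : IsRegularLocalRing
      (Localization.AtPrime p ⧸ I.map (algebraMap R (Localization.AtPrime p))) := by
    rw [hmap]; exact hreg
  let e : Localization.AtPrime q ≃ₐ[R ⧸ I]
      (Localization.AtPrime p ⧸ I.map (algebraMap R (Localization.AtPrime p))) :=
    IsLocalization.algEquiv q.primeCompl _ _
  exact IsRegularLocalRing.of_ringEquiv e.symm.toRingEquiv

end Global2

end Groth.Agent.Lib.Helper84.DerReg
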