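import Mathlib
import Groth.Agent.Lib.Helper84.DerReg2
import Groth.Agent.S0560
import Groth.Agent.S0558
import Groth.Agent.Lib.Helper23.FreeOrbitReg

/-!
# Global Kummer extensions of regular rings

`R` regular, `s` a nonzerodivisor with `R/(s)` regular, `e` invertible in `R`:
then `R[X]/(X^e - s)` is regular.
-/

set_option autoImplicit false
universe u

namespace Groth.Agent.Lib.Helper84.Cyc

open Polynomial IsLocalRing
open Groth.Agent.Lib.Helper84.DerReg

theorem isRegularRing_of_subsingleton (R : Type u) [CommRing R] [Subsingleton R] :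
    IsRegularRing R := by
  have : IsNoetherianRing R := inferInstance
  rw [isRegularRing_iff]
  intro p hp
  exact absurd (Subsingleton.elim _ _) hp.ne_top

theorem isReduced_of_isRegularRing (R : Type u) [CommRing R] [IsRegularRing R] : IsReduced R := by
  apply isReduced_ofLocalizationMaximal
  intro P hP
  have : IsDomain (Localization.AtPrime P) := Groth.Agent.S0558.result _
  infer_instance

section

variable {R : Type u} [CommRing R] (s : R) (e : ℕ)

/-- the `ℤ`-derivation `d/dX` of `R[X]`. -/
noncomputable def dX : Derivation ℤ R[X] R[X] :=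
  (Polynomial.derivative' (R := R)).restrictScalars ℤ

theorem dX_apply (p : R[X]) : dX p = derivative p := rfl

/-- `R[X]/(X^e - s) → R/(s)`, `X ↦ 0`. -/
noncomputable def toQuot (he0 : e ≠ 0) :
    AdjoinRoot (X ^ e - C s : R[X]) →+* R ⧸ Ideal.span {s} :=
  AdjoinRoot.lift (Ideal.Quotient.mk _) 0 (by
    rw [eval₂_sub, eval₂_pow, eval₂_X, eval₂_C, zero_pow he0, zero_sub, neg_eq_zero]
    exact Ideal.Quotient.eq_zero_iff_mem.mpr (Ideal.mem_span_singleton_self s))

theorem toQuot_root (he0 : e ≠ 0) : toQuot s e he0 (AdjoinRoot.root _) = 0 :=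
  AdjoinRoot.lift_root _

theorem toQuot_of (he0 : e ≠ 0) (a : R) :
    toQuot s e he0 (AdjoinRoot.of _ a) = Ideal.Quotient.mk _ a :=
  AdjoinRoot.lift_of _

theorem root_pow : (AdjoinRoot.root (X ^ e - C s : R[X])) ^ e = AdjoinRoot.of _ s := by
  have h0 : AdjoinRoot.mk (X ^ e - C s : R[X]) (X ^ e - C s) = 0 := AdjoinRoot.mk_self
  rw [map_sub, map_pow, AdjoinRoot.mk_X, AdjoinRoot.mk_C, sub_eq_zero] at h0
  exact h0

theorem toQuot_surjective (he0 : e ≠ 0) : Function.Surjective (toQuot s e he0) := by
  intro y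
  obtain ⟨a, rfl⟩ := Ideal.Quotient.mk_surjective y
  exact ⟨AdjoinRoot.of _ a, toQuot_of s e he0 a⟩

theorem ker_toQuot (he0 : e ≠ 0) :
    RingHom.ker (toQuot s e he0) = Ideal.span {AdjoinRoot.root (X ^ e - C s : R[X])} := by
  apply le_antisymm
  · intro b hb
    obtain ⟨p, rfl⟩ := AdjoinRoot.mk_surjective b
    rw [RingHom.mem_ker, toQuot, AdjoinRoot.lift_mk, eval₂_at_zero] at hb
    rw [Ideal.Quotient.eq_zero_iff_mem, Ideal.mem_span_singleton'] at hb
    obtain ⟨c, hc⟩ := hb
    have hp : p = divX p * X + C (c * s) := by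
      rw [hc]; exact (divX_mul_X_add p).symm
    rw [hp, map_add, map_mul, AdjoinRoot.mk_X, AdjoinRoot.mk_C, map_mul, ← root_pow s e]
    apply Ideal.add_mem
    · exact Ideal.mul_mem_left _ _ (Ideal.mem_span_singleton_self _)
    · apply Ideal.mul_mem_left
      exact Ideal.mem_span_singleton.mpr (dvd_pow_self _ he0)
  · rw [Ideal.span_singleton_le_iff_mem, RingHom.mem_ker]
    exact toQuot_root s e he0

theorem root_mem_nonZeroDivisors (hs : s ∈ nonZeroDivisors R) (he0 : e ≠ 0) :
    AdjoinRoot.root (X ^ e - C s : R[X]) ∈ nonZeroDivisors (AdjoinRoot (X ^ e - C s : R[X])) := by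
  rw [mem_nonZeroDivisors_iff_right]
  intro b hb
  obtain ⟨p, rfl⟩ := AdjoinRoot.mk_surjective b
  rw [← AdjoinRoot.mk_X, ← map_mul, AdjoinRoot.mk_eq_zero] at hb
  obtain ⟨h, hh⟩ := hb
  have h0 : h.coeff 0 = 0 := by
    have := congrArg (fun q => coeff q 0) hh
    simp only [mul_coeff_zero, coeff_X_zero, mul_zero] at this
    have hf0 : (X ^ e - C s : R[X]).coeff 0 = -s := by
      rw [coeff_sub, coeff_X_pow, coeff_C_zero, if_neg (Ne.symm he0), zero_sub]
    rw [hf0] at this
    have h3 : h.coeff 0 * s = 0 := by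
      have h2 : -s * h.coeff 0 = 0 := this.symm
      rw [neg_mul, neg_eq_zero] at h2
      rw [mul_comm]; exact h2
    exact (mem_nonZeroDivisors_iff_right.mp hs) _ h3
  obtain ⟨h', rfl⟩ := X_dvd_iff.mpr h0
  have hXreg : ∀ q r : R[X], q * X = r * X → q = r := by
    intro q r hqr
    ext n
    have := congrArg (fun q => coeff q (n + 1)) hqr
    simpa [coeff_mul_X] using this
  have : p = (X ^ e - C s) * h' := by
    apply hXreg
    rw [hh]; ring
  rw [this, map_mul, AdjoinRoot.mk_self, zero_mul]

/-- **Global Kummer extension of a regular ring.** -/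
theorem isRegularRing_adjoinRoot [IsRegularRing R] (hs : s ∈ nonZeroDivisors R)
    (hreg : IsRegularRing (R ⧸ Ideal.span {s})) (he0 : e ≠ 0) (heu : IsUnit (e : R)) :
    IsRegularRing (AdjoinRoot (X ^ e - C s : R[X])) := by
  set f : R[X] := X ^ e - C s with hf
  have hN : IsNoetherianRing (AdjoinRoot f) :=
    isNoetherianRing_of_surjective _ _ (AdjoinRoot.mk f) AdjoinRoot.mk_surjective
  rw [isRegularRing_iff]
  intro q hq
  by_cases hX : AdjoinRoot.root f ∈ q
  · -- the root lies in `q`: divide by it
    set t : AdjoinRoot f := AdjoinRoot.root f with ht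
    have hker : RingHom.ker (toQuot s e he0) = Ideal.span {t} := ker_toQuot s e he0
    have hsurj := toQuot_surjective s e he0
    have hkq : RingHom.ker (toQuot s e he0) ≤ q := by
      rw [hker, Ideal.span_singleton_le_iff_mem]; exact hX
    have hP' : (q.map (toQuot s e he0)).IsPrime := Ideal.map_isPrime_of_surjective hsurj hkq
    have hcomap : q = (q.map (toQuot s e he0)).comap (toQuot s e he0) := by
      rw [Ideal.comap_map_of_surjective _ hsurj, ← RingHom.ker_eq_comap_bot, sup_eq_left.mpr hkq]
    obtain ⟨ψ⟩ := Groth.Agent.Lib.Helper23.FreeOrbitReg.nonempty_quotient_atPrime_equiv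
      (toQuot s e he0) hsurj (q.map (toQuot s e he0)) q hcomap
    have hmap : (RingHom.ker (toQuot s e he0)).map (algebraMap _ (Localization.AtPrime q)) =
        Ideal.span {algebraMap _ (Localization.AtPrime q) t} := by
      rw [hker, Ideal.map_span, Set.image_singleton]
    have hR1 : IsRegularLocalRing (Localization.AtPrime (q.map (toQuot s e he0))) :=
      hreg.isRegularLocalRing_localization _
    have hR2 : IsRegularLocalRing (Localization.AtPrime q ⧸
        Ideal.span {algebraMap _ (Localization.AtPrime q) t}) :=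
      IsRegularLocalRing.of_ringEquiv ((Ideal.quotEquivOfEq hmap).symm.trans ψ).symm
    have hN' : IsNoetherianRing (Localization.AtPrime q) :=
      IsLocalization.isNoetherianRing q.primeCompl _ hN
    refine Groth.Agent.S0560.result (Localization.AtPrime q)
      (algebraMap _ (Localization.AtPrime q) t) ?_ ?_
    · exact (IsLocalization.AtPrime.to_map_mem_maximal_iff _ q t).mpr hX
    · exact IsLocalization.map_nonZeroDivisors_le q.primeCompl _
        ⟨t, root_mem_nonZeroDivisors s e hs he0, rfl⟩
  · -- the root is not in `q`: the derivative is a unit at `q`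
    let p : Ideal R[X] := q.comap (Ideal.Quotient.mk (Ideal.span {f}))
    have hp : p.IsPrime := Ideal.comap_isPrime (Ideal.Quotient.mk (Ideal.span {f})) q
    have hXp : (X : R[X]) ∉ p := by
      intro h
      apply hX
      have : Ideal.Quotient.mk (Ideal.span {f}) X ∈ q := h
      exact this
    refine isRegularLocalRing_localization_quotient (Ideal.span {f}) f rfl q (hq := hq) p (hp := hp) rfl ?_
    apply algebraMap_notMem_sq p dX
    · show Ideal.Quotient.mk (Ideal.span {f}) f ∈ q
      rw [Ideal.Quotient.eq_zero_iff_mem.mpr (Ideal.mem_span_singleton_self f)]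
      exact q.zero_mem
    · change derivative f ∉ p
      rw [hf, derivative_sub, derivative_C, sub_zero, derivative_X_pow]
      intro hmem
      obtain ⟨v, hv⟩ := heu
      have h1 : (C (v⁻¹ : Rˣ).1 : R[X]) * (C (e : R) * X ^ (e - 1)) = X ^ (e - 1) := by
        rw [← mul_assoc, ← C_mul, ← hv, Units.inv_mul, C_1, one_mul]
      have h2 : (X : R[X]) ^ (e - 1) ∈ p := by
        rw [← h1]; exact Ideal.mul_mem_left _ _ hmem
      exact hXp (hp.mem_of_pow_mem _ h2)

end

end Groth.Agent.Lib.Helper84.Cyc
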