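import Groth.Agent.Lib.Helper84.SchemeQuot

/-!
# Descent of morphisms along a quotient-like morphism, local form (helper84)

* `exists_unique_desc_of_cover` : let `π : X ⟶ Y` be quasi-compact, surjective and
  scheme-theoretically dominant, `ψ : X ⟶ Z`, and suppose `Y` is covered by affine opens `U i` with
  affine preimages `π⁻¹ U i` mapped by `ψ` into affine opens `V i` of `Z`, such that the sections
  `ψ^♯ r` (`r ∈ Γ(Z, V i)`) come from `Γ(Y, U i)`.  Then `ψ` factors uniquely through `π`.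
-/

set_option autoImplicit false
universe u

open CategoryTheory Limits AlgebraicGeometry TopologicalSpace

namespace Groth.Agent.Lib.Helper84

set_option maxHeartbeats 800000 in
theorem exists_unique_desc_of_cover {X Y Z : Scheme.{u}}
    (π : X ⟶ Y) [Surjective π] [IsSchemeTheoreticallyDominant π] [QuasiCompact π]
    (ψ : X ⟶ Z)
    {ι : Type u} (U : ι → Y.Opens) (hU : ∀ i, IsAffineOpen (U i))
    (hW : ∀ i, IsAffineOpen (π ⁻¹ᵁ U i))
    (V : ι → Z.Opens) (hV : ∀ i, IsAffineOpen (V i))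
    (hcov : ∀ y : Y, ∃ i, y ∈ U i)
    (hfV : ∀ i, π ⁻¹ᵁ U i ≤ ψ ⁻¹ᵁ V i)
    (hrange : ∀ i (r : Γ(Z, V i)), ψ.appLE (V i) (π ⁻¹ᵁ U i) (hfV i) r ∈ Set.range (π.app (U i))) :
    ∃! χ : Y ⟶ Z, π ≫ χ = ψ := by
  have hepi : ∀ {P : Scheme.{u}} (j : P ⟶ Y) [IsOpenImmersion j], Epi (pullback.snd π j) :=
    fun j _ => epi_of_surjective_of_dominant _
  have hepi0 : Epi π := epi_of_surjective_of_dominant π
  refine existsUnique_of_exists_of_unique ?_
    (fun χ₁ χ₂ h₁ h₂ => by rw [← cancel_epi π, h₁, h₂])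
  let W : ι → X.Opens := fun i => π ⁻¹ᵁ U i
  let ν : ∀ i, Γ(Y, U i) ⟶ Γ(X, W i) := fun i => π.app (U i)
  let θ : ∀ i, Γ(Z, V i) ⟶ Γ(X, W i) := fun i => ψ.appLE (V i) (W i) (hfV i)
  have hνinj : ∀ i, Function.Injective (ν i) := fun i => π.app_injective (U i)
  have hlift : ∀ i, ∃ θ' : Γ(Z, V i) ⟶ Γ(Y, U i), θ' ≫ ν i = θ i :=
    fun i => exists_lift_of_range_le (θ i) (ν i) (hνinj i) (hrange i)
  choose θ' hθ' using hlift
  let χ : ∀ i, Spec Γ(Y, U i) ⟶ Z := fun i => Spec.map (θ' i) ≫ (hV i).fromSpec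
  have hχ : ∀ i, Spec.map (ν i) ≫ χ i = (hW i).fromSpec ≫ ψ := fun i => by
    simp only [χ]
    rw [← Spec.map_comp_assoc, hθ']
    exact IsAffineOpen.SpecMap_appLE_fromSpec ψ (hV i) (hW i) (hfV i)
  have hνπ : ∀ i, Spec.map (ν i) ≫ (hU i).fromSpec = (hW i).fromSpec ≫ π := fun i => by
    have := IsAffineOpen.SpecMap_appLE_fromSpec π (hU i) (hW i) le_rfl
    rwa [← Scheme.Hom.app_eq_appLE] at this
  -- the cover of `Y`
  let 𝒰 : Y.OpenCover :=
    { I₀ := ι
      X := fun i => Spec Γ(Y, U i)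
      f := fun i => (hU i).fromSpec
      mem₀ := by
        rw [Scheme.presieve₀_mem_precoverage_iff]
        refine ⟨fun y => ?_, fun i => inferInstance⟩
        obtain ⟨i, hi⟩ := hcov y
        refine ⟨i, ?_⟩
        rw [(hU i).range_fromSpec]
        exact hi }
  have hglue : ∀ i j, pullback.fst (𝒰.f i) (𝒰.f j) ≫ χ i = pullback.snd (𝒰.f i) (𝒰.f j) ≫ χ j := by
    intro i j
    let jij : pullback (𝒰.f i) (𝒰.f j) ⟶ Y := pullback.fst (𝒰.f i) (𝒰.f j) ≫ 𝒰.f i
    have : Epi (pullback.snd π jij) := hepi jij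
    rw [← cancel_epi (pullback.snd π jij)]
    have key : ∀ (l : ι) (q : pullback (𝒰.f i) (𝒰.f j) ⟶ 𝒰.X l) (hq : q ≫ 𝒰.f l = jij),
        pullback.snd π jij ≫ q ≫ χ l = pullback.fst π jij ≫ ψ := by
      intro l q hq
      have hrange : Set.range (pullback.fst π jij) ⊆ Set.range (hW l).fromSpec := by
        rw [(hW l).range_fromSpec]
        rintro _ ⟨x, rfl⟩
        show π ((pullback.fst π jij) x) ∈ U l
        have h1 : π ((pullback.fst π jij) x) = (q ≫ 𝒰.f l) ((pullback.snd π jij) x) := by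
          rw [hq, ← Scheme.Hom.comp_apply, ← Scheme.Hom.comp_apply, pullback.condition]
        rw [h1]
        have h2 : (q ≫ 𝒰.f l) ((pullback.snd π jij) x) ∈ Set.range (hU l).fromSpec :=
          ⟨q ((pullback.snd π jij) x), rfl⟩
        rw [(hU l).range_fromSpec] at h2
        exact h2
      let t := IsOpenImmersion.lift (hW l).fromSpec (pullback.fst π jij) hrange
      have ht : t ≫ (hW l).fromSpec = pullback.fst π jij := IsOpenImmersion.lift_fac _ _ _
      have ht2 : t ≫ Spec.map (ν l) = pullback.snd π jij ≫ q := by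
        rw [← cancel_mono (𝒰.f l)]
        show (t ≫ Spec.map (ν l)) ≫ (hU l).fromSpec = _
        rw [Category.assoc, hνπ, ← Category.assoc, ht, pullback.condition, Category.assoc, hq]
      rw [← Category.assoc, ← ht2, Category.assoc, hχ, ← Category.assoc, ht]
    rw [key i (pullback.fst _ _) rfl, key j (pullback.snd _ _) pullback.condition.symm]
  refine ⟨𝒰.glueMorphisms χ hglue, ?_⟩
  -- the cover of `X`
  let 𝒲 : X.OpenCover :=
    { I₀ := ι
      X := fun i => Spec Γ(X, W i)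
      f := fun i => (hW i).fromSpec
      mem₀ := by
        rw [Scheme.presieve₀_mem_precoverage_iff]
        refine ⟨fun x => ?_, fun i => inferInstance⟩
        obtain ⟨i, hi⟩ := hcov (π x)
        refine ⟨i, ?_⟩
        rw [(hW i).range_fromSpec]
        exact hi }
  apply 𝒲.hom_ext
  intro i
  show (hW i).fromSpec ≫ π ≫ _ = (hW i).fromSpec ≫ ψ
  rw [← Category.assoc, ← hνπ, Category.assoc]
  have := 𝒰.ι_glueMorphisms χ hglue i
  rw [show (hU i).fromSpec = 𝒰.f i from rfl, this, hχ]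

end Groth.Agent.Lib.Helper84
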