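import Mathlib

/-!
# One Kummer step `A[T]/(T^n - a)` over a regular local ring (helper84, for S2921)

`A` regular local, `f : Fin (r+1) → A` elements of the maximal ideal whose classes in the cotangent
space are linearly independent, `n ≥ 1`.  Then `A₁ = AdjoinRoot (X^n - C (f 0))` is a regular local
ring and the images of `f 1, …, f r` are still linearly independent in the cotangent space of `A₁`.
-/

set_option autoImplicit false

universe u

namespace Groth.Agent.Lib.Helper84.Kummer

open IsLocalRing Polynomial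

section IntegralDim

variable {R S : Type*} [CommRing R] [CommRing S] [Algebra R S]

lemma ringKrullDim_le_of_isIntegral [Algebra.IsIntegral R S] :
    ringKrullDim S ≤ ringKrullDim R := by
  refine Order.krullDim_le_of_strictMono (PrimeSpectrum.comap (algebraMap R S)) ?_
  intro q q' hlt
  have hle : q.asIdeal ≤ q'.asIdeal := hlt.le
  have hne : q.asIdeal ≠ q'.asIdeal := fun h => hlt.ne (PrimeSpectrum.ext h)
  obtain ⟨x, hxq', hxq⟩ := SetLike.exists_of_lt (lt_of_le_of_ne hle hne)
  exact Ideal.comap_lt_comap_of_integral_mem_sdiff hle ⟨hxq', hxq⟩ (Algebra.IsIntegral.isIntegral x)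

lemma ringKrullDim_ge_of_isIntegral_of_injective [Algebra.IsIntegral R S]
    (hinj : Function.Injective (algebraMap R S)) :
    ringKrullDim R ≤ ringKrullDim S := by
  unfold ringKrullDim Order.krullDim
  refine iSup_le fun l => ?_
  obtain ⟨P, -, hP, hPl⟩ := Ideal.exists_ideal_over_prime_of_isIntegral
    (R := R) (S := S) l.head.asIdeal ⊥ (by
      rw [← RingHom.ker_eq_comap_bot, (RingHom.injective_iff_ker_eq_bot _).1 hinj]; exact bot_le)
  have := hP
  have : P.LiesOver l.head.asIdeal := ⟨hPl.symm⟩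
  obtain ⟨L, hlen, -, -⟩ := Ideal.exists_ltSeries_of_hasGoingUp l P
  rw [← hlen]
  exact le_iSup (fun L : LTSeries (PrimeSpectrum S) => (L.length : WithBot ℕ∞)) L

lemma ringKrullDim_eq_of_isIntegral_of_injective [Algebra.IsIntegral R S]
    (hinj : Function.Injective (algebraMap R S)) :
    ringKrullDim S = ringKrullDim R :=
  le_antisymm ringKrullDim_le_of_isIntegral (ringKrullDim_ge_of_isIntegral_of_injective hinj)

end IntegralDim

section Basic

variable {A : Type u} [CommRing A]

/-- `X^n - a` -/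
noncomputable abbrev kp (n : ℕ) (a : A) : A[X] := X ^ n - C a

theorem kp_monic {n : ℕ} (hn : n ≠ 0) (a : A) : (kp n a).Monic := monic_X_pow_sub_C a hn

theorem root_pow (n : ℕ) (a : A) :
    (AdjoinRoot.root (kp n a)) ^ n = AdjoinRoot.of (kp n a) a := by
  have h := AdjoinRoot.eval₂_root (kp n a)
  rw [kp, eval₂_sub, eval₂_pow, eval₂_X, eval₂_C] at h
  exact sub_eq_zero.1 h

theorem finite_ext {n : ℕ} (hn : n ≠ 0) (a : A) : Module.Finite A (AdjoinRoot (kp n a)) :=
  Module.Finite.of_basis (AdjoinRoot.powerBasis' (kp_monic hn a)).basis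

theorem free_ext {n : ℕ} (hn : n ≠ 0) (a : A) : Module.Free A (AdjoinRoot (kp n a)) :=
  Module.Free.of_basis (AdjoinRoot.powerBasis' (kp_monic hn a)).basis

end Basic

section Local

variable {A : Type u} [CommRing A] [IsLocalRing A] {n : ℕ} (hn : n ≠ 0) {a : A}
  (ha : a ∈ maximalIdeal A)

include hn ha in
theorem ev_aux : (kp n a).eval₂ (residue A) (0 : ResidueField A) = 0 := by
  rw [kp, eval₂_sub, eval₂_pow, eval₂_X, eval₂_C, zero_pow hn, (residue_eq_zero_iff a).2 ha,
    sub_zero]

/-- evaluation `T ↦ 0` to the residue field -/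
noncomputable def ev : AdjoinRoot (kp n a) →+* ResidueField A :=
  AdjoinRoot.lift (residue A) 0 (ev_aux hn ha)

theorem ev_of (x : A) : ev hn ha (AdjoinRoot.of (kp n a) x) = residue A x := by
  rw [ev, AdjoinRoot.lift_of]

theorem ev_root : ev hn ha (AdjoinRoot.root (kp n a)) = 0 := by
  rw [ev, AdjoinRoot.lift_root]

theorem ev_surjective : Function.Surjective (ev hn ha) := by
  intro y
  obtain ⟨x, rfl⟩ := residue_surjective y
  exact ⟨AdjoinRoot.of _ x, ev_of hn ha x⟩

/-- the candidate maximal ideal -/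
noncomputable abbrev MM (n : ℕ) (a : A) : Ideal (AdjoinRoot (kp n a)) :=
  (maximalIdeal A).map (AdjoinRoot.of (kp n a)) ⊔ Ideal.span {AdjoinRoot.root (kp n a)}

theorem ker_ev_le : RingHom.ker (ev hn ha) ≤ MM n a := by
  intro x hx
  rw [RingHom.mem_ker] at hx
  obtain ⟨p, rfl⟩ := AdjoinRoot.mk_surjective x
  have hp := Polynomial.divX_mul_X_add p
  rw [← hp, map_add, map_mul, AdjoinRoot.mk_X, AdjoinRoot.mk_C] at hx ⊢
  rw [map_add, map_mul, ev_root, mul_zero, zero_add, ev_of, residue_eq_zero_iff] at hx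
  refine Ideal.add_mem _ ?_ ?_
  · exact Ideal.mem_sup_right (Ideal.mul_mem_left _ _ (Ideal.mem_span_singleton_self _))
  · exact Ideal.mem_sup_left (Ideal.mem_map_of_mem _ hx)

theorem MM_le_ker_ev : MM n a ≤ RingHom.ker (ev hn ha) := by
  refine sup_le ?_ ?_
  · rw [Ideal.map_le_iff_le_comap]
    intro x hx
    rw [Ideal.mem_comap, RingHom.mem_ker, ev_of, residue_eq_zero_iff]
    exact hx
  · rw [Ideal.span_le]
    intro x hx
    rw [Set.mem_singleton_iff] at hx
    subst hx
    exact ev_root hn ha

theorem ker_ev_eq : RingHom.ker (ev hn ha) = MM n a :=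
  le_antisymm (ker_ev_le hn ha) (MM_le_ker_ev hn ha)

include hn ha in
theorem isLocalRing_ext : IsLocalRing (AdjoinRoot (kp n a)) := by
  have : Module.Finite A (AdjoinRoot (kp n a)) := finite_ext hn a
  have : Algebra.IsIntegral A (AdjoinRoot (kp n a)) := Algebra.IsIntegral.of_finite A _
  have hmax : (RingHom.ker (ev hn ha)).IsMaximal :=
    RingHom.ker_isMaximal_of_surjective _ (ev_surjective hn ha)
  refine IsLocalRing.of_unique_max_ideal ⟨_, hmax, ?_⟩
  intro N hN
  have := hN
  have h1 : (N.comap (algebraMap A (AdjoinRoot (kp n a)))).IsMaximal :=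
    Ideal.isMaximal_comap_of_isIntegral_of_isMaximal N
  have h2 : N.comap (algebraMap A (AdjoinRoot (kp n a))) = maximalIdeal A :=
    IsLocalRing.eq_maximalIdeal h1
  have h3 : (maximalIdeal A).map (AdjoinRoot.of (kp n a)) ≤ N := by
    rw [Ideal.map_le_iff_le_comap]
    exact h2.ge
  have h4 : AdjoinRoot.root (kp n a) ∈ N := by
    have : AdjoinRoot.root (kp n a) ^ n ∈ N := by
      rw [root_pow]
      exact h3 (Ideal.mem_map_of_mem _ ha)
    exact hN.isPrime.mem_of_pow_mem n this
  have h5 : RingHom.ker (ev hn ha) ≤ N := by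
    rw [ker_ev_eq]
    exact sup_le h3 ((Ideal.span_singleton_le_iff_mem _).2 h4)
  exact (hmax.eq_of_le hN.ne_top h5).symm

include hn ha in
theorem maximalIdeal_ext [IsLocalRing (AdjoinRoot (kp n a))] :
    maximalIdeal (AdjoinRoot (kp n a)) = MM n a := by
  have hmax : (RingHom.ker (ev hn ha)).IsMaximal :=
    RingHom.ker_isMaximal_of_surjective _ (ev_surjective hn ha)
  rw [← ker_ev_eq hn ha]
  exact (IsLocalRing.eq_maximalIdeal hmax).symm

include hn ha in
theorem of_injective : Function.Injective (AdjoinRoot.of (kp n a)) := by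
  have : Module.Free A (AdjoinRoot (kp n a)) := free_ext hn a
  have : Nontrivial (AdjoinRoot (kp n a)) := (ev hn ha).domain_nontrivial
  exact FaithfulSMul.algebraMap_injective A (AdjoinRoot (kp n a))

end Local

end Groth.Agent.Lib.Helper84.Kummer
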