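import Mathlib
import Groth.Agent.Lib.Helper84.Kummer1
import Groth.Agent.S5671
import Groth.Agent.S15797

/-!
# Finite regular extensions of regular local rings are free

`R` regular local, `A` regular local, finite and injective over `R`: then `A` is a free `R`-module
and `R` is a direct summand of `A`.
-/

set_option autoImplicit false
universe u v

namespace Groth.Agent.Lib.Helper84.Coprod

open IsLocalRing RingTheory.Sequence

/-- A finite module over a Noetherian local ring whose maximal ideal is generated by an
`M`-regular sequence is free. -/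
theorem free_of_isWeaklyRegular : ∀ (n : ℕ) (R : Type u) [CommRing R] [IsLocalRing R]
    [IsNoetherianRing R] (M : Type v) [AddCommGroup M] [Module R M] [Module.Finite R M]
    (rs : List R), rs.length = n → Ideal.ofList rs = maximalIdeal R → IsWeaklyRegular M rs →
    Module.Free R M := by
  intro n
  induction n with
  | zero =>
    intro R _ _ _ M _ _ _ rs hlen hgen _
    have hrs : rs = [] := List.eq_nil_of_length_eq_zero hlen
    rw [hrs, Ideal.ofList_nil] at hgen
    have hF : IsField R := (IsLocalRing.isField_iff_maximalIdeal_eq).mpr hgen.symm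
    let _ := hF.toField
    exact Module.Free.of_divisionRing R M
  | succ n ih =>
    intro R _ _ _ M _ _ _ rs hlen hgen hreg
    obtain ⟨x, rs', rfl⟩ := List.exists_cons_of_length_eq_add_one hlen
    rw [isWeaklyRegular_cons_iff'] at hreg
    obtain ⟨hx, hreg'⟩ := hreg
    have hxm : x ∈ maximalIdeal R := by
      rw [← hgen]; exact Ideal.subset_span (List.mem_cons_self)
    have hne : Ideal.span {x} ≠ ⊤ := by
      intro h
      rw [Ideal.span_singleton_eq_top] at h
      exact (mem_maximalIdeal x).mp hxm h
    have : Nontrivial (R ⧸ Ideal.span {x}) := Ideal.Quotient.nontrivial_iff.mpr hne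
    have : IsLocalRing (R ⧸ Ideal.span {x}) :=
      IsLocalRing.of_surjective' (Ideal.Quotient.mk _) Ideal.Quotient.mk_surjective
    have hfin : Module.Finite (R ⧸ Ideal.span {x}) (QuotSMulTop x M) :=
      Module.Finite.of_restrictScalars_finite R _ _
    have hgen' : Ideal.ofList (rs'.map (Ideal.Quotient.mk (Ideal.span {x}))) =
        maximalIdeal (R ⧸ Ideal.span {x}) := by
      rw [← Ideal.map_ofList]
      have h1 : Ideal.ofList (x :: rs') = Ideal.span {x} ⊔ Ideal.ofList rs' := Ideal.ofList_cons x rs'
      have h2 : (maximalIdeal R).map (Ideal.Quotient.mk (Ideal.span {x})) =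
          maximalIdeal (R ⧸ Ideal.span {x}) := by
        have hmax : ((maximalIdeal R).map (Ideal.Quotient.mk (Ideal.span {x}))).IsMaximal := by
          apply Ideal.IsMaximal.map_of_surjective_of_ker_le Ideal.Quotient.mk_surjective
          rw [Ideal.mk_ker, Ideal.span_singleton_le_iff_mem]
          exact hxm
        exact IsLocalRing.eq_maximalIdeal hmax
      rw [← h2, ← hgen, h1, Ideal.map_sup, Ideal.map_quotient_self, bot_sup_eq]
    have hfree : Module.Free (R ⧸ Ideal.span {x}) (QuotSMulTop x M) :=
      ih (R ⧸ Ideal.span {x}) (QuotSMulTop x M) _ (by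
        rw [List.length_map]; simpa using hlen) hgen' hreg'
    have hfp : Module.FinitePresentation R M := Module.finitePresentation_of_finite R M
    refine (Module.free_quotSMulTop_iff_free R M ?_ hx).mp hfree
    rw [IsLocalRing.jacobson_eq_maximalIdeal ⊥ bot_ne_top]
    exact hxm

section Ext

variable (R : Type u) [CommRing R] [IsRegularLocalRing R]
  (A : Type v) [CommRing A] [IsRegularLocalRing A] [Algebra R A] [Module.Finite R A]
  (hinj : Function.Injective (algebraMap R A))

include hinj in
theorem map_maximalIdeal_le : (maximalIdeal R).map (algebraMap R A) ≤ maximalIdeal A := by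
  have : Algebra.IsIntegral R A := Algebra.IsIntegral.of_finite R A
  obtain ⟨Q, -, hQ, hQc⟩ := Ideal.exists_ideal_over_prime_of_isIntegral (R := R) (S := A)
    (maximalIdeal R) ⊥ (by
      rw [← RingHom.ker_eq_comap_bot, (RingHom.injective_iff_ker_eq_bot _).1 hinj]; exact bot_le)
  rw [Ideal.map_le_iff_le_comap, ← hQc]
  exact Ideal.comap_mono (IsLocalRing.le_maximalIdeal hQ.ne_top)

theorem maximalIdeal_le_radical_map :
    maximalIdeal A ≤ ((maximalIdeal R).map (algebraMap R A)).radical := by
  have : Algebra.IsIntegral R A := Algebra.IsIntegral.of_finite R A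
  rw [Ideal.radical_eq_sInf]
  refine le_sInf ?_
  rintro P ⟨hP, hPp⟩
  have h1 : maximalIdeal R ≤ P.comap (algebraMap R A) := Ideal.map_le_iff_le_comap.mp hP
  have hPc : (P.comap (algebraMap R A)).IsPrime := Ideal.comap_isPrime _ _
  have h2 : P.comap (algebraMap R A) = maximalIdeal R :=
    ((maximalIdeal.isMaximal R).eq_of_le hPc.ne_top h1).symm
  have h3 : P.IsMaximal := by
    apply Ideal.isMaximal_of_isIntegral_of_isMaximal_comap (R := R) P
    rw [h2]; exact maximalIdeal.isMaximal R
  rw [IsLocalRing.eq_maximalIdeal h3]

include hinj in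
/-- A regular local ring finite and injective over a regular local ring is free over it. -/
theorem free_of_finite_regular : Module.Free R A := by
  classical
  have : Algebra.IsIntegral R A := Algebra.IsIntegral.of_finite R A
  have hdim : ringKrullDim A = ringKrullDim R :=
    Groth.Agent.Lib.Helper84.Kummer.ringKrullDim_eq_of_isIntegral_of_injective hinj
  have hfg : (maximalIdeal R).FG := (maximalIdeal R).fg_of_isNoetherianRing
  obtain ⟨s, hcard, hspan⟩ := Submodule.FG.exists_span_finset_card_eq_spanFinrank hfg
  have hd : ((maximalIdeal R).spanFinrank : WithBot ℕ∞) = ringKrullDim R :=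
    IsRegularLocalRing.spanFinrank_maximalIdeal
  set rs : List R := s.toList with hrs
  have hlen : rs.length = (maximalIdeal R).spanFinrank := by
    rw [hrs, Finset.length_toList, hcard]
  have hgen : Ideal.ofList rs = maximalIdeal R := by
    rw [← hspan]
    show Ideal.span {r | r ∈ rs} = Ideal.span (s : Set R)
    congr 1
    ext r
    simp [hrs]
  have hCM := Groth.Agent.S5671.isCM_of_regular A
  have hmapgen : Ideal.ofList (rs.map (algebraMap R A)) = (maximalIdeal R).map (algebraMap R A) := by
    rw [← Ideal.map_ofList, hgen]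
  have hreg : IsWeaklyRegular A (rs.map (algebraMap R A)) := by
    refine Groth.Agent.S15797.isWeaklyRegular_of_sop A hCM (maximalIdeal R).spanFinrank
      (by rw [hdim, ← hd]) _ (by rw [List.length_map, hlen]) ?_ ?_
    · intro x hx
      have : x ∈ Ideal.ofList (rs.map (algebraMap R A)) := Ideal.subset_span hx
      rw [hmapgen] at this
      exact map_maximalIdeal_le R A hinj this
    · rw [hmapgen]
      exact maximalIdeal_le_radical_map R A
  rw [isWeaklyRegular_map_algebraMap_iff] at hreg
  exact free_of_isWeaklyRegular _ R A rs hlen hgen hreg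

include hinj in
/-- `R` is a direct summand of `A`. -/
theorem exists_retraction : ∃ s : A →ₗ[R] R, s 1 = 1 := by
  classical
  have hfree := free_of_finite_regular R A hinj
  let b := Module.Free.chooseBasis R A
  have hsum : (1 : A) = ∑ j, b.repr 1 j • b j := (b.sum_repr 1).symm
  by_cases hex : ∃ j, IsUnit (b.repr 1 j)
  · obtain ⟨j, hj⟩ := hex
    obtain ⟨c, hc⟩ := hj
    refine ⟨(c⁻¹ : Rˣ).1 • b.coord j, ?_⟩
    rw [LinearMap.smul_apply, Module.Basis.coord_apply, ← hc, smul_eq_mul, Units.inv_mul]
  · exfalso
    push Not at hex
    have hmem : (1 : A) ∈ maximalIdeal A := by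
      rw [hsum]
      refine Ideal.sum_mem _ fun j _ => ?_
      rw [Algebra.smul_def]
      refine Ideal.mul_mem_right _ _ ?_
      apply map_maximalIdeal_le R A hinj
      exact Ideal.mem_map_of_mem _ ((mem_maximalIdeal _).mpr (hex j))
    exact (maximalIdeal.isMaximal A).ne_top ((Ideal.eq_top_iff_one _).mpr hmem)

end Ext

end Groth.Agent.Lib.Helper84.Coprod
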