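import Mathlib

/-!
# Galois-type descent for invariant rings (helper84)

For a finite group `G` acting on a commutative ring `A` we study the "witness ideal"
`WIdeal G A` of those `c : A` such that there are `x_i, y_i` with
`∑ x_i * g • y_i = c` if `g = 1` and `0` otherwise (i.e. `c • e_1` lies in the image of
`A ⊗_{A^G} A → ∏_G A`).  It is not contained in any prime at which `G` acts freely
(`∀ g ≠ 1, ∃ a, g • a - a ∉ Q`), and for `c` in it we get the trace dual-basis identity
`∑ x_i * tr (y_i * a) = c * a` (Chase–Harrison–Rosenberg).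
-/

set_option autoImplicit false

universe u w

namespace Groth.Agent.Lib.Helper84.WQ7

open scoped BigOperators

variable (G : Type w) [Group G] [Fintype G] (A : Type u) [CommRing A] [MulSemiringAction G A]

/-- The witness predicate. -/
def W (c : A) : Prop :=
  ∃ (ι : Type) (_ : Fintype ι) (x y : ι → A),
    ∀ g : G, ∑ i, x i * g • y i = open Classical in if g = 1 then c else 0

variable {G A}

theorem W_zero : W G A 0 := by
  refine ⟨PEmpty, inferInstance, PEmpty.elim, PEmpty.elim, fun g => ?_⟩
  simp

theorem W_add {c d : A} (hc : W G A c) (hd : W G A d) : W G A (c + d) := by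
  obtain ⟨ι, _, x, y, h⟩ := hc
  obtain ⟨κ, _, x', y', h'⟩ := hd
  refine ⟨ι ⊕ κ, inferInstance, Sum.elim x x', Sum.elim y y', fun g => ?_⟩
  rw [Fintype.sum_sum_type]
  simp only [Sum.elim_inl, Sum.elim_inr]
  rw [h g, h' g]
  split_ifs <;> simp

theorem W_smul (a : A) {c : A} (hc : W G A c) : W G A (a * c) := by
  obtain ⟨ι, _, x, y, h⟩ := hc
  refine ⟨ι, inferInstance, fun i => a * x i, y, fun g => ?_⟩
  have : ∑ i, a * x i * g • y i = a * ∑ i, x i * g • y i := by
    rw [Finset.mul_sum]
    exact Finset.sum_congr rfl fun i _ => by ring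
  rw [this, h g]
  split_ifs <;> simp

variable (G A) in
/-- The witness ideal. -/
def WIdeal : Ideal A where
  carrier := {c | W G A c}
  zero_mem' := W_zero
  add_mem' := W_add
  smul_mem' a _ hc := W_smul a hc

theorem mem_WIdeal {c : A} : c ∈ WIdeal G A ↔ W G A c := Iff.rfl

/-- product witnesses -/
theorem exists_prod_witness [DecidableEq G] (a : G → A) (T : Finset G) :
    ∃ (ι : Type) (_ : Fintype ι) (x y : ι → A),
      ∀ g : G, ∑ i, x i * g • y i = ∏ t ∈ T, (g • a t - t • a t) := by
  induction T using Finset.induction_on with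
  | empty =>
    refine ⟨PUnit, inferInstance, fun _ => 1, fun _ => 1, fun g => ?_⟩
    simp
  | insert t₀ T ht ih =>
    obtain ⟨ι, _, x, y, h⟩ := ih
    refine ⟨ι ⊕ ι, inferInstance, Sum.elim x (fun i => -(t₀ • a t₀) * x i),
      Sum.elim (fun i => y i * a t₀) y, fun g => ?_⟩
    rw [Fintype.sum_sum_type, Finset.prod_insert ht, ← h g]
    simp only [Sum.elim_inl, Sum.elim_inr, smul_mul']
    rw [sub_mul, Finset.mul_sum, Finset.mul_sum, sub_eq_add_neg, ← Finset.sum_neg_distrib]
    congr 1
    · exact Finset.sum_congr rfl fun i _ => by ring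
    · exact Finset.sum_congr rfl fun i _ => by ring

theorem W_prod [DecidableEq G] (a : G → A) :
    W G A (∏ t ∈ Finset.univ.erase (1 : G), (a t - t • a t)) := by
  obtain ⟨ι, _, x, y, h⟩ := exists_prod_witness a (Finset.univ.erase (1 : G))
  refine ⟨ι, inferInstance, x, y, fun g => ?_⟩
  rw [h g]
  split_ifs with hg
  · subst hg
    simp
  · apply Finset.prod_eq_zero (i := g)
    · simp [hg]
    · simp

/-- The witness ideal is not contained in a prime at which `G` acts freely. -/
theorem not_WIdeal_le (Q : Ideal A) [Q.IsPrime]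
    (hQ : ∀ g : G, g ≠ 1 → ∃ a : A, g • a - a ∉ Q) : ¬ WIdeal G A ≤ Q := by
  classical
  intro hle
  have hch : ∀ g : G, ∃ a : A, g ≠ 1 → g • a - a ∉ Q := by
    intro g
    by_cases hg : g = 1
    · exact ⟨0, fun h => absurd hg h⟩
    · obtain ⟨a, ha⟩ := hQ g hg
      exact ⟨a, fun _ => ha⟩
  choose a ha using hch
  have hmem : ∏ t ∈ Finset.univ.erase (1 : G), (a t - t • a t) ∈ Q := hle (W_prod a)
  rw [Ideal.IsPrime.prod_mem_iff] at hmem
  obtain ⟨t, ht, htQ⟩ := hmem
  have ht1 : t ≠ 1 := (Finset.mem_erase.mp ht).1
  apply ha t ht1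
  have : t • a t - a t = -(a t - t • a t) := by ring
  rw [this]
  exact Q.neg_mem htQ

/-- trace -/
def tr (a : A) : A := ∑ g : G, g • a

variable (G) in
theorem smul_tr (h : G) (a : A) : h • tr (G := G) a = tr (G := G) a := by
  unfold tr
  rw [Finset.smul_sum]
  simp only [smul_smul]
  exact Fintype.sum_equiv (Equiv.mulLeft h) _ _ fun g => rfl

/-- The trace dual basis identity. -/
theorem sum_mul_tr {ι : Type} [Fintype ι] (x y : ι → A) (c : A)
    (h : ∀ g : G, ∑ i, x i * g • y i = open Classical in if g = 1 then c else 0) (a : A) :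
    ∑ i, x i * tr (G := G) (y i * a) = c * a := by
  classical
  unfold tr
  simp only [Finset.mul_sum, smul_mul']
  rw [Finset.sum_comm]
  have : ∀ g : G, ∑ i, x i * (g • y i * g • a) = (if g = 1 then c else 0) * g • a := by
    intro g
    rw [← h g, Finset.sum_mul]
    exact Finset.sum_congr rfl fun i _ => by ring
  simp only [this]
  rw [Finset.sum_eq_single (1 : G)]
  · simp
  · intro g _ hg
    simp [hg]
  · intro h1
    exact absurd (Finset.mem_univ _) h1

section Fixed

variable (G A)

instance isInvariant_fixed : Algebra.IsInvariant (FixedPoints.subring A G) A G :=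
  ⟨fun b hb => ⟨⟨b, hb⟩, rfl⟩⟩

theorem isIntegral_fixed : Algebra.IsIntegral (FixedPoints.subring A G) A :=
  Algebra.IsInvariant.isIntegral (FixedPoints.subring A G) A G

variable {G A}

/-- the trace form against `y` as a linear map to the invariants -/
def trL (y : A) : A →ₗ[FixedPoints.subring A G] FixedPoints.subring A G where
  toFun a := ⟨tr (G := G) (y * a), fun h => smul_tr G h _⟩
  map_add' a b := by
    apply Subtype.ext
    simp only [tr, mul_add, smul_add, Finset.sum_add_distrib]
    rfl
  map_smul' b a := by
    apply Subtype.ext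
    have hb : ∀ g : G, g • (b : A) = b := b.2
    simp only [tr, RingHom.id_apply]
    change ∑ g : G, g • (y * ((b : A) * a)) = (b : A) * ∑ g : G, g • (y * a)
    rw [Finset.mul_sum]
    refine Finset.sum_congr rfl fun g _ => ?_
    simp only [smul_mul', hb]
    ring

theorem coe_trL (y a : A) : ((trL (G := G) y a : FixedPoints.subring A G) : A) = tr (G := G) (y * a) :=
  rfl

/-- **Local projectivity**: if the invariant `s` is a witness and lies in `S`, then the
localization of `A` is projective over the localization of the invariants. -/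
theorem projective_localization (S : Submonoid (FixedPoints.subring A G))
    (s : FixedPoints.subring A G) (hsS : s ∈ S) (hs : W G A (s : A)) :
    Module.Projective (Localization S)
      (Localization (Algebra.algebraMapSubmonoid A S)) := by
  classical
  obtain ⟨ι, _, x, y, h⟩ := hs
  let B := FixedPoints.subring A G
  let B' := Localization S
  let A' := Localization (Algebra.algebraMapSubmonoid A S)
  let fA : A →ₗ[B] A' := (IsScalarTower.toAlgHom B A A').toLinearMap
  let fB : B →ₗ[B] B' := Algebra.linearMap B B'
  let τ' : ι → (A' →ₗ[B'] B') := fun i =>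
    IsLocalizedModule.mapExtendScalars S fA fB B' (trL (G := G) (y i))
  have hmem : (s : A) ∈ Algebra.algebraMapSubmonoid A S := ⟨s, hsS, rfl⟩
  let u : A' := IsLocalization.mk' A' (1 : A) ⟨(s : A), hmem⟩
  have hu : u * algebraMap A A' (s : A) = 1 := by
    have := IsLocalization.mk'_spec A' (1 : A) ⟨(s : A), hmem⟩
    rw [map_one] at this
    exact this
  let x' : ι → A' := fun i => algebraMap A A' (x i) * u
  let imap : A' →ₗ[B'] (ι → B') := LinearMap.pi τ'
  let rmap : (ι → B') →ₗ[B'] A' := Fintype.linearCombination B' x'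
  refine Module.Projective.of_split imap rmap ?_
  apply LinearMap.restrictScalars_injective B
  apply IsLocalizedModule.linearMap_ext S fA fA
  ext a
  simp only [LinearMap.coe_comp, LinearMap.coe_restrictScalars, Function.comp_apply,
    LinearMap.id_coe, id_eq]
  change rmap (imap (fA a)) = fA a
  simp only [rmap, imap, Fintype.linearCombination_apply, LinearMap.pi_apply, τ',
    IsLocalizedModule.mapExtendScalars_apply_apply, IsLocalizedModule.map_apply]
  have key : ∀ i, fB (trL (G := G) (y i) a) • x' i
      = algebraMap A A' (x i * tr (G := G) (y i * a)) * u := by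
    intro i
    simp only [fB, x', Algebra.linearMap_apply, Algebra.smul_def]
    rw [← IsScalarTower.algebraMap_apply B B' A', IsScalarTower.algebraMap_apply B A A',
      map_mul]
    change algebraMap A A' (tr (G := G) (y i * a)) * _ = _
    ring
  simp only [key]
  rw [← Finset.sum_mul, ← map_sum, sum_mul_tr x y (s : A) h a, map_mul]
  change _ = algebraMap A A' a
  calc algebraMap A A' (s : A) * algebraMap A A' a * u
      = (u * algebraMap A A' (s : A)) * algebraMap A A' a := by ring
    _ = algebraMap A A' a := by rw [hu, one_mul]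

end Fixed

end Groth.Agent.Lib.Helper84.WQ7
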