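import Mathlib
import Groth.Agent.Lib.Helper84.WQ7
import Groth.Agent.Lib.Helper88.CohenStruct2
import Groth.Agent.Lib.Helper76.PSCohen

/-!
# Finiteness over the invariants for finite group actions on complete local rings (helper84)

`A` complete Noetherian local, `k → A` a field mapping onto the residue field, `G` a finite group
acting on `A` by ring automorphisms fixing `k`.  Then `A` is finite over a power series subring
contained in `A^G`; hence `A^G` is Noetherian and `A` is finite over `A^G`.
-/

set_option autoImplicit false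

universe u v w

namespace Groth.Agent.Lib.Helper84.WQ9

open IsLocalRing Groth.Agent.Lib.Helper76.PSComplete Polynomial

section

variable {A : Type u} [CommRing A] [IsLocalRing A]
  {G : Type w} [Group G] [MulSemiringAction G A]

theorem smul_mem_maximalIdeal (g : G) {a : A} (ha : a ∈ maximalIdeal A) :
    g • a ∈ maximalIdeal A := by
  rw [mem_maximalIdeal, mem_nonunits_iff] at ha ⊢
  intro hu
  apply ha
  have := (MulSemiringAction.toRingHom G A g⁻¹).isUnit_map hu
  simpa using this

end

section

variable (A : Type u) [CommRing A] [Nontrivial A] (k : Type v) [Field k] [Algebra k A]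

include A in
theorem small_k : Small.{u} k := small_of_injective (algebraMap k A).injective

/-- the coefficient field, moved to the universe of `A` -/
abbrev kA : Type u := @Shrink.{u} k (small_k A k)

noncomputable instance : Field (kA A k) := @Shrink.instField _ (small_k A k) _

noncomputable instance : Algebra (kA A k) A :=
  ((algebraMap k A).comp (@Shrink.ringEquiv k (small_k A k) _ _).toRingHom).toAlgebra

theorem algebraMap_kA (x : kA A k) :
    algebraMap (kA A k) A x = algebraMap k A ((@Shrink.ringEquiv k (small_k A k) _ _) x) := rfl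

end

section

variable (A : Type u) [CommRing A] [IsLocalRing A] [IsNoetherianRing A]
  [IsAdicComplete (maximalIdeal A) A]
  (k : Type v) [Field k] [Algebra k A]
  (G : Type w) [Group G] [Fintype G] [MulSemiringAction G A]

/-- coefficients of the characteristic polynomial of an element of the maximal ideal lie in the
maximal ideal (below the top degree) -/
theorem coeff_charpoly_mem {a : A} (ha : a ∈ maximalIdeal A) {j : ℕ} (hj : j < Fintype.card G) :
    (MulSemiringAction.charpoly G a).coeff j ∈ maximalIdeal A := by
  rw [← Ideal.Quotient.eq_zero_iff_mem, ← Polynomial.coeff_map]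
  have : (MulSemiringAction.charpoly G a).map (Ideal.Quotient.mk (maximalIdeal A))
      = X ^ Fintype.card G := by
    rw [MulSemiringAction.charpoly_eq, Polynomial.map_prod]
    have : ∀ g : G, (X - C (g • a)).map (Ideal.Quotient.mk (maximalIdeal A)) = X := by
      intro g
      rw [Polynomial.map_sub, Polynomial.map_X, Polynomial.map_C,
        Ideal.Quotient.eq_zero_iff_mem.mpr (smul_mem_maximalIdeal g ha), map_zero, sub_zero]
    simp only [this, Finset.prod_const, Finset.card_univ]
  rw [this, Polynomial.coeff_X_pow, if_neg (ne_of_lt hj)]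

theorem natDegree_charpoly [Nontrivial A] (a : A) :
    (MulSemiringAction.charpoly G a).natDegree = Fintype.card G := by
  rw [MulSemiringAction.charpoly_eq, Polynomial.natDegree_prod_of_monic _ _
    (fun g _ => monic_X_sub_C _)]
  simp

/-- `a ^ |G|` lies in any ideal containing the lower coefficients of the characteristic
polynomial of `a` -/
theorem pow_card_mem (J : Ideal A) (a : A)
    (h : ∀ j, j < Fintype.card G → (MulSemiringAction.charpoly G a).coeff j ∈ J) :
    a ^ Fintype.card G ∈ J := by
  have h0 := MulSemiringAction.eval_charpoly G a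
  rw [Polynomial.eval_eq_sum_range, natDegree_charpoly, Finset.sum_range_succ] at h0
  have h1 : (MulSemiringAction.charpoly G a).coeff (Fintype.card G) = 1 := by
    have := (MulSemiringAction.monic_charpoly G a).coeff_natDegree
    rwa [natDegree_charpoly] at this
  rw [h1, one_mul] at h0
  have h2 : a ^ Fintype.card G
      = -∑ j ∈ Finset.range (Fintype.card G), (MulSemiringAction.charpoly G a).coeff j * a ^ j := by
    rw [eq_neg_iff_add_eq_zero, add_comm]; exact h0
  rw [h2]
  refine J.neg_mem (J.sum_mem fun j hj => J.mul_mem_right _ (h j (Finset.mem_range.mp hj)))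

theorem exists_finite_evC (hk : Function.Surjective (residue A ∘ algebraMap k A)) :
    ∃ (n' : ℕ) (c : Fin n' → A) (hc : ∀ i, c i ∈ maximalIdeal A),
      (∀ i (g : G), g • c i = c i) ∧
      (∃ M : ℕ, maximalIdeal A ^ M ≤ Ideal.span (Set.range c)) ∧
      ((evC (maximalIdeal A) c hc : MvPowerSeries (Fin n') (kA A k) →ₐ[kA A k] A) :
        MvPowerSeries (Fin n') (kA A k) →+* A).Finite := by
  classical
  obtain ⟨n, u, hu⟩ := Submodule.fg_iff_exists_fin_generating_family.mp
    (IsNoetherian.noetherian (maximalIdeal A))
  have hum : ∀ i, u i ∈ maximalIdeal A := fun i => by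
    rw [← hu]; exact Submodule.subset_span ⟨i, rfl⟩
  let N := Fintype.card G
  let c₀ : Fin n × Fin N → A := fun ij => (MulSemiringAction.charpoly G (u ij.1)).coeff ij.2
  let c : Fin (n * N) → A := c₀ ∘ finProdFinEquiv.symm
  have hc₀ : ∀ ij, c₀ ij ∈ maximalIdeal A := fun ij => coeff_charpoly_mem A G (hum ij.1) ij.2.2
  have hc : ∀ i, c i ∈ maximalIdeal A := fun i => hc₀ _
  refine ⟨n * N, c, hc, fun i g => MulSemiringAction.smul_coeff_charpoly _ _ g, ?_⟩
  rw [and_comm]
  let J : Ideal A := Ideal.span (Set.range c)
  have hrange : Set.range c = Set.range c₀ := by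
    simp only [c]
    rw [Set.range_comp, Equiv.range_eq_univ, Set.image_univ]
  have hpow : ∀ i, u i ^ N ∈ J := by
    intro i
    apply pow_card_mem A G J (u i)
    intro j hj
    apply Ideal.subset_span
    rw [hrange]
    exact ⟨(i, ⟨j, hj⟩), rfl⟩
  have hrad : maximalIdeal A ≤ J.radical := by
    rw [← hu]
    apply Ideal.span_le.mpr
    rintro _ ⟨i, rfl⟩
    exact ⟨N, hpow i⟩
  obtain ⟨M, hM⟩ := Ideal.exists_pow_le_of_le_radical_of_fg hrad
    (IsNoetherian.noetherian (maximalIdeal A))
  have hres : Function.Surjective ((residue A).comp (algebraMap (kA A k) A)) := by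
    intro x
    obtain ⟨c', hc'⟩ := hk x
    refine ⟨(@Shrink.ringEquiv k (small_k A k) _ _).symm c', ?_⟩
    rw [RingHom.comp_apply, algebraMap_kA, RingEquiv.apply_symm_apply]
    exact hc'
  exact ⟨Groth.Agent.Lib.Helper88.CohenStruct2.finite_evC (⊥ : Ideal (kA A k)) hres
    (by simp) c hc M (hM.trans le_sup_right), M, hM⟩

/-- the maximal ideal of the invariants generates an `𝔪`-primary ideal -/
theorem exists_pow_le_map_comap (hk : Function.Surjective (residue A ∘ algebraMap k A)) :
    ∃ M : ℕ, maximalIdeal A ^ M ≤
      ((maximalIdeal A).comap (FixedPoints.subring A G).subtype).map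
        (FixedPoints.subring A G).subtype := by
  obtain ⟨n', c, hc, hcinv, ⟨M, hM⟩, -⟩ := exists_finite_evC A k G hk
  refine ⟨M, hM.trans ?_⟩
  rw [Ideal.span_le]
  rintro _ ⟨i, rfl⟩
  exact Ideal.mem_map_of_mem _ (show (⟨c i, fun g => hcinv i g⟩ : FixedPoints.subring A G) ∈
    (maximalIdeal A).comap (FixedPoints.subring A G).subtype from hc i)

theorem evC_congr' {n' : ℕ} {b b' : Fin n' → A} (h : b = b') (hb : ∀ s, b s ∈ maximalIdeal A)
    (hb' : ∀ s, b' s ∈ maximalIdeal A) :
    (evC (maximalIdeal A) b hb : MvPowerSeries (Fin n') (kA A k) →ₐ[kA A k] A)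
      = evC (maximalIdeal A) b' hb' := by
  subst h; rfl

/-- **Finiteness over the invariants.** -/
theorem fixed_finite (hk : Function.Surjective (residue A ∘ algebraMap k A))
    (hGk : ∀ (σ : G) (c : k), σ • algebraMap k A c = algebraMap k A c) :
    IsNoetherianRing (FixedPoints.subring A G) ∧ Module.Finite (FixedPoints.subring A G) A := by
  classical
  obtain ⟨n', c, hc, hcinv, -, hfin⟩ := exists_finite_evC A k G hk
  let B := FixedPoints.subring A G
  let R₀ := MvPowerSeries (Fin n') (kA A k)
  let φ : R₀ →ₐ[kA A k] A := evC (maximalIdeal A) c hc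
  have hφinv : ∀ (g : G) (F : R₀), g • φ F = φ F := by
    intro g F
    let γ : A →ₐ[kA A k] A :=
      { MulSemiringAction.toRingHom G A g with
        commutes' := fun x => by
          rw [algebraMap_kA]
          exact hGk g _ }
    have hγ : ∀ a, γ a = g • a := fun a => rfl
    have hX : ∀ s, (γ.comp φ) (MvPowerSeries.X s) = c s := by
      intro s
      rw [AlgHom.comp_apply, hγ]
      change g • (evC (maximalIdeal A) c hc (MvPowerSeries.X s)) = c s
      rw [evC_X, hcinv]
    have h1 : γ.comp φ = φ := by
      rw [evC_unique (maximalIdeal A) (γ.comp φ) (fun s => by rw [hX]; exact hc s)]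
      exact evC_congr' A k (funext hX) _ _
    have := AlgHom.congr_fun h1 F
    rw [AlgHom.comp_apply, hγ] at this
    exact this
  let φB : R₀ →+* B := (φ : R₀ →+* A).codRestrict (FixedPoints.subring A G)
    (fun F g => hφinv g F)
  letI : Algebra R₀ A := (φ : R₀ →+* A).toAlgebra
  letI : Algebra R₀ B := φB.toAlgebra
  haveI : IsScalarTower R₀ B A := IsScalarTower.of_algebraMap_eq (fun F => rfl)
  haveI : Module.Finite R₀ A := hfin
  haveI : IsNoetherianRing R₀ := inferInstance
  haveI : IsNoetherian R₀ A := isNoetherian_of_isNoetherianRing_of_finite R₀ A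
  haveI : IsNoetherian R₀ B :=
    isNoetherian_of_injective (IsScalarTower.toAlgHom R₀ B A).toLinearMap Subtype.val_injective
  haveI : Module.Finite R₀ B := inferInstance
  exact ⟨IsNoetherianRing.of_finite R₀ B, Module.Finite.of_restrictScalars_finite R₀ B A⟩

end

end Groth.Agent.Lib.Helper84.WQ9
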