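import Mathlib

/-!
# Étale with trivial residue field extension ⇒ isomorphism modulo powers of the maximal ideals
(helper84)

* `local_core`: a flat local homomorphism `S → T` of local rings with `m_S T = m_T` and trivial
  residue field extension induces surjections `S → T / m_T ^ n` with kernel `m_S ^ n`.
* `main`: the same conclusion for `B_P → C_Q` when some `C_f` (`f ∉ Q`) is étale over `B` and every
  element of `C` is congruent mod `Q` to a fraction of elements of `B`.
-/

set_option autoImplicit false

namespace Groth.Agent.Lib.Helper84.LocalIsoPow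

open IsLocalRing

theorem local_core {S T : Type*} [CommRing S] [CommRing T] [IsLocalRing S] [IsLocalRing T]
    [Algebra S T] [IsLocalHom (algebraMap S T)] [Module.Flat S T]
    (hm : (maximalIdeal S).map (algebraMap S T) = maximalIdeal T)
    (hres : ∀ y : T, ∃ x : S, y - algebraMap S T x ∈ maximalIdeal T) (n : ℕ) :
    Function.Surjective ((Ideal.Quotient.mk (maximalIdeal T ^ n)).comp (algebraMap S T)) ∧
      Ideal.comap (algebraMap S T) (maximalIdeal T ^ n) = maximalIdeal S ^ n := by
  have hpow : ∀ n, maximalIdeal T ^ n = (maximalIdeal S ^ n).map (algebraMap S T) := by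
    intro n; rw [Ideal.map_pow, hm]
  have : Module.FaithfullyFlat S T := Module.FaithfullyFlat.of_flat_of_isLocalHom
  refine ⟨?_, ?_⟩
  · have key : ∀ n, ∀ y : T, ∃ x : S, y - algebraMap S T x ∈ maximalIdeal T ^ n := by
      intro n
      induction n with
      | zero => intro y; exact ⟨0, by simp⟩
      | succ n ih =>
        intro y
        obtain ⟨x₀, hx₀⟩ := ih y
        have claim : ∀ z ∈ (maximalIdeal S ^ n).map (algebraMap S T),
            ∃ x : S, z - algebraMap S T x ∈ maximalIdeal T ^ (n + 1) := by
          intro z hz
          refine Submodule.span_induction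
            (p := fun z _ => ∃ x : S, z - algebraMap S T x ∈ maximalIdeal T ^ (n + 1))
            ?_ ?_ ?_ ?_ hz
          · rintro _ ⟨a, ha, rfl⟩; exact ⟨a, by simp⟩
          · exact ⟨0, by simp⟩
          · rintro z₁ z₂ _ _ ⟨x₁, h₁⟩ ⟨x₂, h₂⟩
            refine ⟨x₁ + x₂, ?_⟩
            rw [map_add]
            have := Ideal.add_mem _ h₁ h₂
            convert this using 1; ring
          · rintro t z hz ⟨x, hx⟩
            obtain ⟨xt, hxt⟩ := hres t
            refine ⟨xt * x, ?_⟩
            have : t • z - algebraMap S T (xt * x) =
                (t - algebraMap S T xt) * z + algebraMap S T xt * (z - algebraMap S T x) := by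
              rw [smul_eq_mul, map_mul]; ring
            rw [this]
            refine Ideal.add_mem _ ?_ (Ideal.mul_mem_left _ _ hx)
            rw [pow_succ']
            exact Ideal.mul_mem_mul hxt (by rw [hpow n]; exact hz)
        rw [hpow n] at hx₀
        obtain ⟨x₁, hx₁⟩ := claim _ hx₀
        refine ⟨x₀ + x₁, ?_⟩
        rw [map_add]
        convert hx₁ using 1; ring
    intro z
    obtain ⟨y, rfl⟩ := Ideal.Quotient.mk_surjective z
    obtain ⟨x, hx⟩ := key n y
    refine ⟨x, ?_⟩
    rw [RingHom.comp_apply]
    refine Ideal.Quotient.eq.mpr ?_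
    rw [← neg_sub]
    exact neg_mem hx
  · rw [hpow n]; exact Ideal.comap_map_eq_self_of_faithfullyFlat _

theorem main {B C : Type*} [CommRing B] [CommRing C] [Algebra B C] (Q : Ideal C) [Q.IsPrime]
    (f : C) (hf : f ∉ Q) [Algebra.Etale B (Localization.Away f)]
    (hres : ∀ x : C, ∃ b t : B, t ∉ Q.comap (algebraMap B C) ∧
      algebraMap B C t * x - algebraMap B C b ∈ Q) (n : ℕ) :
    Function.Surjective ((Ideal.Quotient.mk (maximalIdeal (Localization.AtPrime Q) ^ n)).comp
        (Localization.localRingHom (Q.comap (algebraMap B C)) Q (algebraMap B C) rfl)) ∧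
      Ideal.comap (Localization.localRingHom (Q.comap (algebraMap B C)) Q (algebraMap B C) rfl)
        (maximalIdeal (Localization.AtPrime Q) ^ n) =
        maximalIdeal (Localization.AtPrime (Q.comap (algebraMap B C))) ^ n := by
  let P := Q.comap (algebraMap B C)
  let S := Localization.AtPrime P
  let T := Localization.AtPrime Q
  let L := Localization.Away f
  let φ : S →+* T := Localization.localRingHom P Q (algebraMap B C) rfl
  let : Algebra S T := φ.toAlgebra
  have : IsScalarTower B S T := IsScalarTower.of_algebraMap_eq fun b => by
    rw [RingHom.algebraMap_toAlgebra]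
    change _ = Localization.localRingHom P Q (algebraMap B C) rfl (algebraMap B S b)
    rw [Localization.localRingHom_to_map, IsScalarTower.algebraMap_apply B C T]
  have : IsLocalHom (algebraMap S T) := Localization.isLocalHom_localRingHom _ _ _ _
  have hle : Submonoid.powers f ≤ Q.primeCompl := by
    rw [Submonoid.powers_le]; exact hf
  let : Algebra L T :=
    IsLocalization.localizationAlgebraOfSubmonoidLe L T (Submonoid.powers f) Q.primeCompl hle
  have : IsScalarTower C L T :=
    IsLocalization.localization_isScalarTower_of_submonoid_le L T (Submonoid.powers f)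
      Q.primeCompl hle
  have : IsLocalization (Q.primeCompl.map (algebraMap C L)) T :=
    IsLocalization.isLocalization_of_submonoid_le L T (Submonoid.powers f) Q.primeCompl hle
  have : IsScalarTower B L T := IsScalarTower.of_algebraMap_eq fun b => by
    rw [IsScalarTower.algebraMap_apply B C L, ← IsScalarTower.algebraMap_apply C L T,
      ← IsScalarTower.algebraMap_apply B C T]
  have : Module.Flat L T := IsLocalization.flat T (Q.primeCompl.map (algebraMap C L))
  have : Module.Flat B T := Module.Flat.trans B L T
  have : Module.Flat S T := (Module.flat_iff_of_isLocalization S P.primeCompl T).mpr inferInstance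
  have : Algebra.FormallyUnramified L T :=
    Algebra.FormallyUnramified.of_isLocalization (Q.primeCompl.map (algebraMap C L))
  have : Algebra.FormallyUnramified B T := Algebra.FormallyUnramified.comp B L T
  have : Algebra.FormallyUnramified S T := Algebra.FormallyUnramified.of_restrictScalars B S T
  have : Algebra.EssFiniteType L T :=
    Algebra.EssFiniteType.of_isLocalization T (Q.primeCompl.map (algebraMap C L))
  have : Algebra.EssFiniteType B T := Algebra.EssFiniteType.comp B L T
  have : Algebra.EssFiniteType S T := Algebra.EssFiniteType.of_comp B S T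
  have hm : (maximalIdeal S).map (algebraMap S T) = maximalIdeal T :=
    Algebra.FormallyUnramified.map_maximalIdeal
  -- residue fields
  have hbase : ∀ c : C, ∃ x : S, algebraMap C T c - algebraMap S T x ∈ maximalIdeal T := by
    intro c
    obtain ⟨b, t, ht, hbt⟩ := hres c
    let t' : P.primeCompl := ⟨t, ht⟩
    refine ⟨IsLocalization.mk' S b t', ?_⟩
    have hunit : IsUnit (algebraMap C T (algebraMap B C t)) :=
      (IsLocalization.AtPrime.isUnit_to_map_iff T Q _).mpr ht
    have h1 : (algebraMap C T c - algebraMap S T (IsLocalization.mk' S b t')) *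
        algebraMap C T (algebraMap B C t) =
        algebraMap C T (algebraMap B C t * c - algebraMap B C b) := by
      have e1 : algebraMap C T (algebraMap B C t) = algebraMap S T (algebraMap B S t) := by
        rw [← IsScalarTower.algebraMap_apply B C T, IsScalarTower.algebraMap_apply B S T]
      have e2 : algebraMap S T (IsLocalization.mk' S b t') * algebraMap S T (algebraMap B S t) =
          algebraMap C T (algebraMap B C b) := by
        rw [← map_mul, IsLocalization.mk'_spec S b t', ← IsScalarTower.algebraMap_apply B S T,
          IsScalarTower.algebraMap_apply B C T]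
      rw [sub_mul, map_sub, map_mul, ← e2, e1]; ring
    have h2 : algebraMap C T (algebraMap B C t * c - algebraMap B C b) ∈ maximalIdeal T :=
      (IsLocalization.AtPrime.to_map_mem_maximal_iff T Q _).mpr hbt
    rw [← h1] at h2
    exact (Ideal.mul_unit_mem_iff_mem _ hunit).mp h2
  have hres' : ∀ y : T, ∃ x : S, y - algebraMap S T x ∈ maximalIdeal T := by
    intro y
    obtain ⟨⟨c, u⟩, hcu⟩ := IsLocalization.surj Q.primeCompl y
    obtain ⟨xc, hxc⟩ := hbase c
    obtain ⟨xu, hxu⟩ := hbase u
    have huu : IsUnit (algebraMap C T (u : C)) := IsLocalization.map_units T u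
    have hxu_unit : IsUnit xu := by
      by_contra hnu
      have h0 : xu ∈ maximalIdeal S := (mem_maximalIdeal _).mpr hnu
      have h3 : algebraMap S T xu ∈ maximalIdeal T := by
        rw [← hm]; exact Ideal.mem_map_of_mem _ h0
      have h4 : algebraMap C T u ∈ maximalIdeal T := by
        have := Ideal.add_mem _ hxu h3
        simpa using this
      exact (mem_maximalIdeal _).mp h4 huu
    obtain ⟨v, hv⟩ := hxu_unit
    refine ⟨xc * ↑v⁻¹, ?_⟩
    have h5 : (y - algebraMap S T (xc * ↑v⁻¹)) * algebraMap C T u =
        (algebraMap C T c - algebraMap S T xc) -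
          algebraMap S T (xc * ↑v⁻¹) * (algebraMap C T u - algebraMap S T xu) := by
      have h7 : algebraMap S T (xc * ↑v⁻¹) * algebraMap S T xu = algebraMap S T xc := by
        rw [← map_mul, ← hv, mul_assoc, Units.inv_mul, mul_one]
      have hcu' : y * algebraMap C T (u : C) = algebraMap C T c := hcu
      rw [sub_mul, hcu', mul_sub, h7]; ring
    have h6 : (y - algebraMap S T (xc * ↑v⁻¹)) * algebraMap C T u ∈ maximalIdeal T := by
      rw [h5]; exact Ideal.sub_mem _ hxc (Ideal.mul_mem_left _ _ hxu)
    exact (Ideal.mul_unit_mem_iff_mem _ huu).mp h6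
  exact local_core hm hres' n

end Groth.Agent.Lib.Helper84.LocalIsoPow
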