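import Mathlib.RingTheory.HopfAlgebra.Convolution
import Mathlib.RingTheory.Bialgebra.TensorProduct
import Mathlib.RingTheory.HopfAlgebra.TensorProduct

/-!
# The antipode of a commutative Hopf algebra reverses the comultiplication (helper84)

`comul (S a) = (S ⊗ S) (swap (comul a))`, deduced from `mul_inv_rev` in Mathlib's convolution group
of algebra maps `A →ₐ A ⊗ A`, in which `comul = includeLeft * includeRight`.
-/

set_option autoImplicit false
universe u v

open TensorProduct

namespace Groth.Agent.Lib.Helper84

variable {k : Type u} [CommRing k] {A : Type v} [CommRing A] [HopfAlgebra k A]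

theorem lift_comp_antipode_eq (z : A ⊗[k] A) :
    Algebra.TensorProduct.lift
      ((Algebra.TensorProduct.includeRight (R := k) (A := A) (B := A)).comp
        (HopfAlgebra.antipodeAlgHom k A))
      ((Algebra.TensorProduct.includeLeft (R := k) (S := k) (A := A) (B := A)).comp
        (HopfAlgebra.antipodeAlgHom k A))
      (fun _ _ => Commute.all _ _) z =
    TensorProduct.map (HopfAlgebra.antipode k (A := A)) (HopfAlgebra.antipode k (A := A))
      (TensorProduct.comm k A A z) := by
  induction z using TensorProduct.induction_on with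
  | zero => simp
  | add x y hx hy => simp only [map_add, hx, hy]
  | tmul x y =>
    simp [Algebra.TensorProduct.lift_tmul, Algebra.TensorProduct.tmul_mul_tmul]

/-- The antipode of a commutative Hopf algebra is an anti-coalgebra map. -/
theorem comul_antipode (a : A) :
    Coalgebra.comul (R := k) (HopfAlgebra.antipode k a) =
      TensorProduct.map (HopfAlgebra.antipode k (A := A)) (HopfAlgebra.antipode k (A := A))
        (TensorProduct.comm k A A (Coalgebra.comul (R := k) a)) := by
  let i₁ : WithConv (A →ₐ[k] A ⊗[k] A) :=
    WithConv.toConv (Algebra.TensorProduct.includeLeft (R := k) (S := k) (A := A) (B := A))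
  let i₂ : WithConv (A →ₐ[k] A ⊗[k] A) :=
    WithConv.toConv (Algebra.TensorProduct.includeRight (R := k) (A := A) (B := A))
  let δ : WithConv (A →ₐ[k] A ⊗[k] A) := WithConv.toConv (Bialgebra.comulAlgHom k A)
  have hδ : δ = i₁ * i₂ := by
    apply WithConv.ofConv_injective
    apply AlgHom.ext
    intro c
    have := AlgHom.convMul_apply i₁ i₂ c
    rw [this]
    simp only [i₁, i₂, δ]
    have h2 : Algebra.TensorProduct.lift
        (Algebra.TensorProduct.includeLeft (R := k) (S := k) (A := A) (B := A))
        (Algebra.TensorProduct.includeRight (R := k) (A := A) (B := A))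
        (fun _ _ => Commute.all _ _) = AlgHom.id k (A ⊗[k] A) := by
      ext <;> simp
    rw [h2]
    rfl
  have hinv : δ⁻¹ = i₂⁻¹ * i₁⁻¹ := by
    rw [hδ]
    exact mul_inv_rev i₁ i₂
  have h1 : (δ⁻¹ : WithConv (A →ₐ[k] A ⊗[k] A)).ofConv a =
      Coalgebra.comul (R := k) (HopfAlgebra.antipode k a) := rfl
  rw [← h1, hinv]
  have := AlgHom.convMul_apply (i₂⁻¹) (i₁⁻¹) a
  rw [this]
  exact lift_comp_antipode_eq _

end Groth.Agent.Lib.Helper84
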