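import Mathlib

/-!
# Pseudo-reflections of finite invertible order on a local `k`-algebra have principal `I_g`

`A` Noetherian local `k`-algebra with residue field `k`, `g` an automorphism of finite order
invertible in `k`.  If the image of `I_g = (g a - a)` in `A/𝔪²` is spanned by one element `L ∈ I_g`,
then `I_g` is generated by `g L - L`.
-/

namespace Groth.Agent.Lib.Helper84.CST

open IsLocalRing

universe u v w

variable {k : Type u} {A : Type v} [Field k] [CommRing A] [Algebra k A]
variable {G : Type w} [Group G] [MulSemiringAction G A] [SMulCommClass G k A]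

set_option linter.unusedSectionVars false

/-- the ideal generated by the `g a - a` -/
def Ig (g : G) : Ideal A := Ideal.span {x : A | ∃ a, x = g • a - a}

theorem delta_mem (g : G) (a : A) : g • a - a ∈ Ig g := Ideal.subset_span ⟨a, rfl⟩

theorem pow_delta_mem (g : G) (j : ℕ) (a : A) : g ^ j • a - a ∈ Ig g := by
  induction j generalizing a with
  | zero => simp
  | succ j ih =>
    have : g ^ (j + 1) • a - a = (g ^ j • (g • a) - g • a) + (g • a - a) := by
      rw [pow_succ, mul_smul]
      abel
    rw [this]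
    exact add_mem (ih _) (delta_mem g a)

theorem smul_mem_maximalIdeal' [IsLocalRing A] (g : G) (a : A) (ha : a ∈ maximalIdeal A) :
    g • a ∈ maximalIdeal A := by
  rw [mem_maximalIdeal, mem_nonunits_iff] at ha ⊢
  intro hu
  apply ha
  have := hu.map (MulSemiringAction.toRingHom G A g⁻¹)
  simpa using this

variable [IsLocalRing A]

theorem Ig_le (hres : ∀ a : A, ∃ c : k, a - algebraMap k A c ∈ maximalIdeal A) (g : G) :
    Ig g ≤ maximalIdeal A := by
  rw [Ig, Ideal.span_le]
  rintro x ⟨a, rfl⟩
  obtain ⟨c, hc⟩ := hres a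
  have : g • a - a = g • (a - algebraMap k A c) - (a - algebraMap k A c) := by
    rw [smul_sub, Algebra.algebraMap_eq_smul_one, smul_comm, smul_one]
    abel
  rw [this]
  exact sub_mem (smul_mem_maximalIdeal' g _ hc) hc

theorem delta_mul (g : G) (a b : A) :
    g • (a * b) - a * b = g • a * (g • b - b) + (g • a - a) * b := by
  rw [smul_mul']
  ring

theorem delta_sq_mem (hres : ∀ a : A, ∃ c : k, a - algebraMap k A c ∈ maximalIdeal A)
    (g : G) (r : A) (hr : r ∈ maximalIdeal A ^ 2) :
    g • r - r ∈ maximalIdeal A * Ig g := by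
  rw [pow_two] at hr
  refine Submodule.mul_induction_on hr (fun a ha b hb => ?_) (fun x y hx hy => ?_)
  · rw [delta_mul]
    refine add_mem (Ideal.mul_mem_mul (smul_mem_maximalIdeal' g a ha) (delta_mem g b)) ?_
    rw [mul_comm (g • a - a) b]
    exact Ideal.mul_mem_mul hb (delta_mem g a)
  · have : g • (x + y) - (x + y) = (g • x - x) + (g • y - y) := by
      rw [smul_add]
      abel
    rw [this]
    exact add_mem hx hy

/-- every `δ a` is `δ y` for some `y ∈ I_g` (averaging over the cyclic group of `g`). -/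
theorem exists_mem_Ig_delta_eq (g : G) (_hpos : 0 < orderOf g) (he : (orderOf g : k) ≠ 0) (a : A) :
    ∃ y ∈ Ig g, g • a - a = g • y - y := by
  set e := orderOf g with he'
  set s : A := ∑ j ∈ Finset.range e, g ^ j • a with hs
  have hgs : g • s = s := by
    rw [hs, Finset.smul_sum]
    have h1 : ∀ j ∈ Finset.range e, g • g ^ j • a = g ^ (j + 1) • a := by
      intro j _
      rw [← mul_smul, ← pow_succ']
    rw [Finset.sum_congr rfl h1]
    have h2 := Finset.sum_range_succ (fun j => g ^ j • a) e
    have h3 := Finset.sum_range_succ' (fun j => g ^ j • a) e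
    rw [h2] at h3
    simp only [pow_zero, one_smul] at h3
    rw [he', pow_orderOf_eq_one, one_smul] at h3
    exact (add_right_cancel h3).symm
  set π : A := ((e : k)⁻¹) • s with hπ
  have hgπ : g • π = π := by rw [hπ, smul_comm, hgs]
  refine ⟨a - π, ?_, ?_⟩
  · have : a - π = ((e : k)⁻¹) • ∑ j ∈ Finset.range e, (a - g ^ j • a) := by
      rw [Finset.sum_sub_distrib, smul_sub, ← hs, ← hπ, Finset.sum_const, Finset.card_range,
        ← Nat.cast_smul_eq_nsmul k, smul_smul, inv_mul_cancel₀ he, one_smul]
    rw [this, Algebra.smul_def]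
    refine Ideal.mul_mem_left _ _ (Ideal.sum_mem _ fun j _ => ?_)
    rw [← neg_sub]
    exact neg_mem (pow_delta_mem g j a)
  · rw [smul_sub, hgπ]
    abel

/-- **Principal generator.** -/
theorem exists_principal [IsNoetherianRing A]
    (hres : ∀ a : A, ∃ c : k, a - algebraMap k A c ∈ maximalIdeal A)
    (g : G) (hpos : 0 < orderOf g) (he : (orderOf g : k) ≠ 0)
    (L : A) (_hL : L ∈ Ig g)
    (hU : ∀ y ∈ Ig g, ∃ c : k, y - c • L ∈ maximalIdeal A ^ 2) :
    (g • L - L) ∈ maximalIdeal A ∧ ∀ a : A, ∃ b : A, g • a - a = (g • L - L) * b := by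
  refine ⟨Ig_le hres g (delta_mem g L), ?_⟩
  have key : ∀ a : A, g • a - a ∈ Ideal.span {g • L - L} ⊔ maximalIdeal A * Ig g := by
    intro a
    obtain ⟨y, hy, hay⟩ := exists_mem_Ig_delta_eq (k := k) g hpos he a
    obtain ⟨c, hc⟩ := hU y hy
    have : g • y - y = c • (g • L - L) + (g • (y - c • L) - (y - c • L)) := by
      rw [smul_sub, smul_sub, smul_comm g c L]
      abel
    rw [hay, this]
    refine Submodule.add_mem_sup ?_ (delta_sq_mem hres g _ hc)
    rw [Algebra.smul_def]
    exact Ideal.mul_mem_left _ _ (Ideal.subset_span rfl)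
  have hle : Ig g ≤ Ideal.span {g • L - L} ⊔ maximalIdeal A • Ig g := by
    rw [Ig, Ideal.span_le]
    rintro x ⟨a, rfl⟩
    exact key a
  have hfin : (Ig g : Submodule A A).FG := IsNoetherian.noetherian _
  have := Submodule.le_of_le_smul_of_le_jacobson_bot hfin
    (IsLocalRing.maximalIdeal_le_jacobson _) hle
  intro a
  have ha := this (delta_mem g a)
  rw [Ideal.mem_span_singleton'] at ha
  obtain ⟨b, hb⟩ := ha
  exact ⟨b, by rw [← hb, mul_comm]⟩

end Groth.Agent.Lib.Helper84.CST
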