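import Mathlib

/-!
# Chevalley–Shephard–Todd, local form (Serre's `Tor₁` argument done by hand)

`B → A` injective, `G` finite acting on `A` with invariants `B`, `|G|` invertible in `B`,
`A` Noetherian local and finite over the Noetherian local ring `B`.  If `G` is generated by
elements `g` with `g • a - a = L * Δ a` for some `L ∈ 𝔪_A` and a `B`-linear `Δ`, then `A` is a free
`B`-module.
-/

namespace Groth.Agent.Lib.Helper84.CST

open TensorProduct IsLocalRing

universe u v w

variable {B : Type u} {A : Type v} [CommRing B] [CommRing A] [Algebra B A]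
variable {G : Type w} [Group G] [MulSemiringAction G A] [SMulCommClass G B A]

set_option linter.unusedSectionVars false

variable (B) in
/-- the `B`-linear map `a ↦ g • a` -/
noncomputable def sig (g : G) : A →ₗ[B] A where
  toFun a := g • a
  map_add' := smul_add g
  map_smul' b a := smul_comm g b a

@[simp] theorem sig_apply (g : G) (a : A) : sig B g a = g • a := rfl

theorem smul_algebraMap (g : G) (b : B) : g • algebraMap B A b = algebraMap B A b := by
  rw [Algebra.algebraMap_eq_smul_one, smul_comm, smul_one]

variable [IsLocalRing B]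

/-- `W = A ⊗_B 𝔪_B` -/
abbrev W (B : Type u) (A : Type v) [CommRing B] [CommRing A] [Algebra B A] [IsLocalRing B] : Type _ :=
  A ⊗[B] (maximalIdeal B)

/-- multiplication map `A ⊗_B 𝔪_B → A` -/
noncomputable def mu : W B A →ₗ[A] A :=
  TensorProduct.AlgebraTensorModule.lift
    ((LinearMap.lsmul A ((maximalIdeal B) →ₗ[B] A)).flip
      ((Algebra.linearMap B A).comp (maximalIdeal B).subtype))

@[simp] theorem mu_tmul (a : A) (n : maximalIdeal B) :
    mu (a ⊗ₜ[B] n) = a * algebraMap B A (n : B) := by
  simp [mu]

theorem rT_smul (g : G) (a : A) (t : W B A) :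
    (sig B g).rTensor (maximalIdeal B) (a • t) = (g • a) • (sig B g).rTensor (maximalIdeal B) t := by
  induction t using TensorProduct.induction_on with
  | zero => simp
  | tmul x y =>
    rw [TensorProduct.smul_tmul', LinearMap.rTensor_tmul, LinearMap.rTensor_tmul,
      TensorProduct.smul_tmul']
    simp only [sig_apply, smul_eq_mul, smul_mul']
  | add x y hx hy => rw [smul_add, map_add, hx, hy, map_add, smul_add]

theorem mulLeft_rT (L : A) (t : W B A) :
    (LinearMap.mulLeft B L).rTensor (maximalIdeal B) t = L • t := by
  induction t using TensorProduct.induction_on with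
  | zero => simp
  | tmul x y =>
    rw [LinearMap.rTensor_tmul, TensorProduct.smul_tmul']
    simp
  | add x y hx hy => rw [map_add, hx, hy, smul_add]

theorem mu_rT_sig (g : G) (t : W B A) :
    mu ((sig B g).rTensor (maximalIdeal B) t) = g • mu t := by
  induction t using TensorProduct.induction_on with
  | zero => simp
  | tmul x y =>
    rw [LinearMap.rTensor_tmul, mu_tmul, mu_tmul, smul_mul', smul_algebraMap]
    rfl
  | add x y hx hy => rw [map_add, map_add, hx, hy, map_add, smul_add]

theorem mu_rT_lin (Δ : A →ₗ[B] A) (t : W B A) :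
    mu (Δ.rTensor (maximalIdeal B) t) = Δ (mu t) := by
  induction t using TensorProduct.induction_on with
  | zero => simp
  | tmul x y =>
    rw [LinearMap.rTensor_tmul, mu_tmul, mu_tmul, mul_comm x, ← Algebra.smul_def, map_smul,
      Algebra.smul_def, mul_comm]
  | add x y hx hy => rw [map_add, map_add, hx, hy, map_add, map_add]

/-- the key identity for a pseudo-reflection -/
theorem rT_sub (g : G) (L : A) (Δ : A →ₗ[B] A) (h : ∀ a, g • a - a = L * Δ a) (t : W B A) :
    (sig B g).rTensor (maximalIdeal B) t - t = L • Δ.rTensor (maximalIdeal B) t := by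
  have h1 : sig B g - LinearMap.id = (LinearMap.mulLeft B L).comp Δ := by
    ext a
    simpa using h a
  have h2 := congrArg (fun f : A →ₗ[B] A => f.rTensor (maximalIdeal B) t) h1
  simp only [LinearMap.rTensor_sub, LinearMap.rTensor_id, LinearMap.sub_apply, LinearMap.id_apply,
    LinearMap.rTensor_comp, LinearMap.comp_apply] at h2
  rw [h2, mulLeft_rT]

variable [Fintype G]

/-- Invariant elements of the kernel vanish. -/
theorem eq_zero_of_invariant (hinj : Function.Injective (algebraMap B A))
    (u : B) (hu : (Fintype.card G : B) * u = 1)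
    (hinv : ∀ a : A, (∀ g : G, g • a = a) → ∃ b : B, algebraMap B A b = a)
    (t : W B A) (hmu : mu t = 0) (ht : ∀ g : G, (sig B g).rTensor (maximalIdeal B) t = t) :
    t = 0 := by
  classical
  -- Reynolds operator
  have hR : ∀ a : A, ∃ b : B, algebraMap B A b = u • ∑ g : G, g • a := by
    intro a
    apply hinv
    intro h
    rw [smul_comm, Finset.smul_sum]
    congr 1
    refine Fintype.sum_equiv (Equiv.mulLeft h) _ _ fun g => ?_
    simp [mul_smul]
  choose r hr using hR
  let rl : A →ₗ[B] B :=
    { toFun := r
      map_add' := fun x y => hinj (by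
        rw [map_add, hr, hr, hr]
        simp only [smul_add, Finset.sum_add_distrib])
      map_smul' := fun b x => hinj (by
        rw [hr, RingHom.id_apply, smul_eq_mul, map_mul, hr]
        rw [← Algebra.smul_def]
        simp only [smul_comm _ b, ← Finset.smul_sum]) }
  have hcomp : (Algebra.linearMap B A).comp rl = u • ∑ g : G, sig B g := by
    ext a
    simp only [LinearMap.comp_apply, Algebra.linearMap_apply, LinearMap.smul_apply,
      LinearMap.sum_apply, sig_apply]
    exact hr a
  have h1 : t = ((Algebra.linearMap B A).comp rl).rTensor (maximalIdeal B) t := by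
    rw [hcomp]
    have : (u • ∑ g : G, sig B g).rTensor (maximalIdeal B) t
        = u • ∑ g : G, (sig B g).rTensor (maximalIdeal B) t := by
      rw [LinearMap.rTensor_smul, LinearMap.smul_apply]
      congr 1
      have := map_sum (LinearMap.rTensorHom (R := B) (M := maximalIdeal B) (N := A) (P := A))
        (fun g : G => sig B g) Finset.univ
      simp only [LinearMap.coe_rTensorHom] at this
      rw [this, LinearMap.sum_apply]
    rw [this]
    simp only [ht, Finset.sum_const, Finset.card_univ]
    rw [← Nat.cast_smul_eq_nsmul B, smul_smul, mul_comm, hu, one_smul]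
  rw [LinearMap.rTensor_comp, LinearMap.comp_apply] at h1
  set s := rl.rTensor (maximalIdeal B) t with hs
  have hs' : s = (1 : B) ⊗ₜ[B] (TensorProduct.lid B (maximalIdeal B) s) := by
    rw [← TensorProduct.lid_symm_apply, LinearEquiv.symm_apply_apply]
  rw [hs', LinearMap.rTensor_tmul] at h1
  rw [h1] at hmu
  rw [mu_tmul, Algebra.linearMap_apply, map_one, one_mul] at hmu
  have h0 : ((TensorProduct.lid B (maximalIdeal B) s : maximalIdeal B) : B) = 0 :=
    hinj (by rw [hmu, map_zero])
  have h0' : TensorProduct.lid B (maximalIdeal B) s = 0 := Subtype.ext h0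
  rw [h1, h0', TensorProduct.tmul_zero]

theorem rT_one (t : W B A) : (sig B (1 : G)).rTensor (maximalIdeal B) t = t := by
  have : sig B (1 : G) = (LinearMap.id : A →ₗ[B] A) := by
    ext a
    simp
  rw [this, LinearMap.rTensor_id, LinearMap.id_apply]

theorem rT_mul (g h : G) (t : W B A) :
    (sig B (g * h)).rTensor (maximalIdeal B) t
      = (sig B g).rTensor (maximalIdeal B) ((sig B h).rTensor (maximalIdeal B) t) := by
  have : sig B (g * h) = (sig B g).comp (sig B h : A →ₗ[B] A) := by
    ext a
    simp [mul_smul]
  rw [this, LinearMap.rTensor_comp, LinearMap.comp_apply]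

theorem smul_mem_maximalIdeal [IsLocalRing A] (g : G) (a : A) (ha : a ∈ maximalIdeal A) :
    g • a ∈ maximalIdeal A := by
  rw [mem_maximalIdeal, mem_nonunits_iff] at ha ⊢
  intro hu
  apply ha
  have := hu.map (MulSemiringAction.toRingHom G A g⁻¹)
  simpa using this

variable [IsLocalRing A] [IsNoetherianRing A] [IsNoetherianRing B] [Module.Finite B A]

theorem ker_mu_eq_bot (hinj : Function.Injective (algebraMap B A))
    (u : B) (hu : (Fintype.card G : B) * u = 1)
    (hinv : ∀ a : A, (∀ g : G, g • a = a) → ∃ b : B, algebraMap B A b = a)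
    (S : Set G)
    (hS : ∀ g ∈ S, ∃ L ∈ maximalIdeal A, ∃ Δ : A →ₗ[B] A, ∀ a, g • a - a = L * Δ a)
    (hgen : Subgroup.closure S = ⊤) :
    LinearMap.ker (mu : W B A →ₗ[A] A) = ⊥ := by
  classical
  set T := LinearMap.ker (mu : W B A →ₗ[A] A) with hT
  have hsT : ∀ (g : G) (t : W B A), t ∈ T → (sig B g).rTensor (maximalIdeal B) t ∈ T := by
    intro g t ht
    rw [hT, LinearMap.mem_ker] at ht ⊢
    rw [mu_rT_sig, ht, smul_zero]
  have hsmT : ∀ (g : G) (t : W B A), t ∈ maximalIdeal A • T →
      (sig B g).rTensor (maximalIdeal B) t ∈ maximalIdeal A • T := by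
    intro g t ht
    refine Submodule.smul_induction_on ht (fun a ha x hx => ?_) (fun x y hx hy => ?_)
    · rw [rT_smul]
      exact Submodule.smul_mem_smul (smul_mem_maximalIdeal g a ha) (hsT g x hx)
    · rw [map_add]
      exact add_mem hx hy
  let H : Subgroup G :=
    { carrier := {g | ∀ t ∈ T, (sig B g).rTensor (maximalIdeal B) t - t ∈ maximalIdeal A • T}
      one_mem' := by
        intro t _
        rw [rT_one, sub_self]
        exact zero_mem _
      mul_mem' := by
        intro g h hg hh t ht
        have e : (sig B (g * h)).rTensor (maximalIdeal B) t - t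
            = (sig B g).rTensor (maximalIdeal B) ((sig B h).rTensor (maximalIdeal B) t - t)
              + ((sig B g).rTensor (maximalIdeal B) t - t) := by
          rw [rT_mul, map_sub]
          abel
        rw [e]
        exact add_mem (hsmT g _ (hh t ht)) (hg t ht)
      inv_mem' := by
        intro g hg t ht
        have e : (sig B g⁻¹).rTensor (maximalIdeal B) t - t
            = -((sig B g⁻¹).rTensor (maximalIdeal B) ((sig B g).rTensor (maximalIdeal B) t - t)) := by
          rw [map_sub, ← rT_mul, inv_mul_cancel, rT_one]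
          abel
        rw [e]
        exact neg_mem (hsmT g⁻¹ _ (hg t ht)) }
  have hSH : S ⊆ H := by
    intro g hg t ht
    obtain ⟨L, hL, Δ, hΔ⟩ := hS g hg
    rw [rT_sub g L Δ hΔ]
    refine Submodule.smul_mem_smul hL ?_
    rw [hT, LinearMap.mem_ker] at ht ⊢
    rw [mu_rT_lin, ht, map_zero]
  have hH : H = ⊤ := top_unique (hgen ▸ (Subgroup.closure_le H).2 hSH)
  have hall : ∀ (g : G), ∀ t ∈ T,
      (sig B g).rTensor (maximalIdeal B) t - t ∈ maximalIdeal A • T := by
    intro g
    have : g ∈ H := hH ▸ Subgroup.mem_top g
    exact this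
  have hle : T ≤ maximalIdeal A • T := by
    intro t ht
    set ρ : W B A := u • ∑ g : G, (sig B g).rTensor (maximalIdeal B) t with hρ
    have hρT : ρ ∈ T :=
      T.smul_of_tower_mem u (Submodule.sum_mem _ fun g _ => hsT g t ht)
    have hρinv : ∀ h : G, (sig B h).rTensor (maximalIdeal B) ρ = ρ := by
      intro h
      rw [hρ, map_smul, map_sum]
      congr 1
      refine Fintype.sum_equiv (Equiv.mulLeft h) _ _ fun g => ?_
      rw [Equiv.coe_mulLeft, rT_mul]
    have hρ0 : ρ = 0 :=
      eq_zero_of_invariant hinj u hu hinv ρ (by rwa [hT, LinearMap.mem_ker] at hρT) hρinv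
    have ht' : t = ρ + u • ∑ g : G, (t - (sig B g).rTensor (maximalIdeal B) t) := by
      rw [hρ, ← smul_add, ← Finset.sum_add_distrib]
      simp only [add_sub_cancel, Finset.sum_const, Finset.card_univ]
      rw [← Nat.cast_smul_eq_nsmul B, smul_smul, mul_comm, hu, one_smul]
    rw [ht', hρ0, zero_add]
    refine (maximalIdeal A • T).smul_of_tower_mem u (Submodule.sum_mem _ fun g _ => ?_)
    have := hall g t ht
    rw [← neg_sub] at this
    exact neg_mem_iff.mp this
  have hfin : Module.Finite A (W B A) := inferInstance
  have hnoeth : IsNoetherian A (W B A) := isNoetherian_of_isNoetherianRing_of_finite A (W B A)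
  exact Submodule.eq_bot_of_le_smul_of_le_jacobson_bot (maximalIdeal A) T
    (IsNoetherian.noetherian T) hle (IsLocalRing.maximalIdeal_le_jacobson _)

/-- **Local Chevalley–Shephard–Todd (freeness part).** -/
theorem free_of_pseudo (hinj : Function.Injective (algebraMap B A))
    (u : B) (hu : (Fintype.card G : B) * u = 1)
    (hinv : ∀ a : A, (∀ g : G, g • a = a) → ∃ b : B, algebraMap B A b = a)
    (S : Set G)
    (hS : ∀ g ∈ S, ∃ L ∈ maximalIdeal A, ∃ Δ : A →ₗ[B] A, ∀ a, g • a - a = L * Δ a)
    (hgen : Subgroup.closure S = ⊤) :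
    Module.Free B A := by
  have hker := ker_mu_eq_bot hinj u hu hinv S hS hgen
  have hinjmu : Function.Injective (mu : W B A →ₗ[A] A) := LinearMap.ker_eq_bot.mp hker
  have : Module.FinitePresentation B A := Module.finitePresentation_of_finite B A
  apply Module.free_of_maximalIdeal_rTensor_injective
  have hcomm : ∀ x : (maximalIdeal B) ⊗[B] A,
      TensorProduct.lid B A ((maximalIdeal B).subtype.rTensor A x)
        = mu (TensorProduct.comm B _ _ x) := by
    intro x
    induction x using TensorProduct.induction_on with
    | zero => simp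
    | tmul n a => simp [mu_tmul, Algebra.smul_def, mul_comm]
    | add x y hx hy => simp only [map_add, hx, hy]
  intro x y hxy
  have := congrArg (TensorProduct.lid B A) hxy
  rw [hcomm, hcomm] at this
  exact (TensorProduct.comm B _ _).injective (hinjmu this)

end Groth.Agent.Lib.Helper84.CST
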