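import Mathlib

/-!
# Rings of invariants of a finite group of invertible order: local, Noetherian
-/

namespace Groth.Agent.Lib.Helper84.CST

open IsLocalRing

universe u v w

variable {B : Type u} {A : Type v} [CommRing B] [CommRing A] [Algebra B A]
variable {G : Type w} [Group G] [MulSemiringAction G A] [SMulCommClass G B A]

set_option linter.unusedSectionVars false

theorem smul_algebraMap' (g : G) (b : B) : g • algebraMap B A b = algebraMap B A b := by
  rw [Algebra.algebraMap_eq_smul_one, smul_comm, smul_one]

theorem isUnit_of_isUnit_map (hinj : Function.Injective (algebraMap B A))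
    (hinv : ∀ a : A, (∀ g : G, g • a = a) → ∃ b : B, algebraMap B A b = a)
    (b : B) (h : IsUnit (algebraMap B A b)) : IsUnit b := by
  obtain ⟨c, hc⟩ := h.exists_right_inv
  have hcinv : ∀ g : G, g • c = c := by
    intro g
    have h1 : algebraMap B A b * g • c = 1 := by
      have := congrArg (fun x => g • x) hc
      simpa [smul_mul', smul_algebraMap'] using this
    calc g • c = (algebraMap B A b * c) * g • c := by rw [hc, one_mul]
      _ = c * (algebraMap B A b * g • c) := by ring
      _ = c := by rw [h1, mul_one]
  obtain ⟨b', hb'⟩ := hinv c hcinv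
  exact isUnit_iff_exists_inv.mpr ⟨b', hinj (by rw [map_mul, hb', hc, map_one])⟩

theorem isLocalHom_of_invariants (hinj : Function.Injective (algebraMap B A))
    (hinv : ∀ a : A, (∀ g : G, g • a = a) → ∃ b : B, algebraMap B A b = a) :
    IsLocalHom (algebraMap B A) :=
  ⟨fun b h => isUnit_of_isUnit_map hinj hinv b h⟩

theorem isLocalRing_of_invariants [IsLocalRing A] (hinj : Function.Injective (algebraMap B A))
    (hinv : ∀ a : A, (∀ g : G, g • a = a) → ∃ b : B, algebraMap B A b = a) :
    IsLocalRing B := by
  have : Nontrivial B := (algebraMap B A).domain_nontrivial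
  refine IsLocalRing.of_nonunits_add fun a b ha hb => ?_
  have ha' : algebraMap B A a ∈ nonunits A := fun h => ha (isUnit_of_isUnit_map hinj hinv a h)
  have hb' : algebraMap B A b ∈ nonunits A := fun h => hb (isUnit_of_isUnit_map hinj hinv b h)
  have hab := IsLocalRing.nonunits_add ha' hb'
  intro h
  apply hab
  rw [← map_add]
  exact h.map _

variable [Fintype G]

/-- The Reynolds retraction. -/
theorem exists_retraction (hinj : Function.Injective (algebraMap B A))
    (u : B) (hu : (Fintype.card G : B) * u = 1)
    (hinv : ∀ a : A, (∀ g : G, g • a = a) → ∃ b : B, algebraMap B A b = a) :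
    ∃ r : A →ₗ[B] B, ∀ b : B, r (algebraMap B A b) = b := by
  classical
  have hR : ∀ a : A, ∃ b : B, algebraMap B A b = u • ∑ g : G, g • a := by
    intro a
    apply hinv
    intro h
    rw [smul_comm, Finset.smul_sum]
    congr 1
    refine Fintype.sum_equiv (Equiv.mulLeft h) _ _ fun g => ?_
    simp [mul_smul]
  choose r hr using hR
  refine ⟨{ toFun := r
            map_add' := fun x y => hinj (by
              rw [map_add, hr, hr, hr]
              simp only [smul_add, Finset.sum_add_distrib])
            map_smul' := fun b x => hinj (by
              rw [hr, RingHom.id_apply, smul_eq_mul, map_mul, hr]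
              rw [← Algebra.smul_def]
              simp only [smul_comm _ b, ← Finset.smul_sum]) }, fun b => hinj ?_⟩
  change algebraMap B A (r (algebraMap B A b)) = _
  rw [hr]
  simp only [smul_algebraMap', Finset.sum_const, Finset.card_univ]
  rw [← Nat.cast_smul_eq_nsmul B, smul_smul, mul_comm, hu, one_smul]

theorem isNoetherianRing_of_retraction [IsNoetherianRing A] (r : A →ₗ[B] B)
    (hr : ∀ b : B, r (algebraMap B A b) = b) : IsNoetherianRing B := by
  have hcomap : ∀ I : Ideal B, ∀ z ∈ I.map (algebraMap B A), r z ∈ I := by
    intro I z hz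
    have key : ∀ a : A, r (a * z) ∈ I := by
      rw [Ideal.map] at hz
      induction hz using Submodule.span_induction with
      | mem x hx =>
        obtain ⟨y, hy, rfl⟩ := hx
        intro a
        rw [mul_comm, ← Algebra.smul_def, map_smul, smul_eq_mul]
        exact I.mul_mem_right _ hy
      | zero => intro a; simp
      | add x y _ _ hx hy => intro a; rw [mul_add, map_add]; exact add_mem (hx a) (hy a)
      | smul c x _ hx => intro a; rw [smul_eq_mul, ← mul_assoc]; exact hx (a * c)
    simpa using key 1
  have hinj' : Function.Injective (fun I : Ideal B => I.map (algebraMap B A)) := by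
    intro I J hIJ
    have h1 : ∀ I J : Ideal B, I.map (algebraMap B A) = J.map (algebraMap B A) → I ≤ J := by
      intro I J hIJ x hx
      have := hcomap J (algebraMap B A x) (hIJ ▸ Ideal.mem_map_of_mem _ hx)
      rwa [hr] at this
    exact le_antisymm (h1 I J hIJ) (h1 J I hIJ.symm)
  have hmono : StrictMono (fun I : Ideal B => I.map (algebraMap B A)) :=
    Monotone.strictMono_of_injective (fun I J h => Ideal.map_mono h) hinj'
  have hA : WellFoundedGT (Ideal A) := inferInstance
  rw [isNoetherianRing_iff, isNoetherian_iff']
  exact hmono.wellFoundedGT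

end Groth.Agent.Lib.Helper84.CST
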