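import Mathlib
import Groth.Agent.Lib.Helper76.PSDim

/-!
# Linear algebra of the pseudo-reflection condition; the power series case
-/

namespace Groth.Agent.Lib.Helper84.CST

open IsLocalRing

universe u v

section abstract

variable {k : Type u} {A : Type v} [Field k] [CommRing A] [Algebra k A] [IsLocalRing A]

/-- If `A/𝔪²` has dimension `≤ n+1` and `A/(I + 𝔪²)` has dimension `≥ n`, the image of `I` in
`A/𝔪²` is spanned by a single element of `I`. -/
theorem exists_spanning (n : ℕ) (I : Ideal A)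
    [Module.Finite k (A ⧸ maximalIdeal A ^ 2)]
    (hV : Module.finrank k (A ⧸ maximalIdeal A ^ 2) ≤ n + 1)
    (hn : n ≤ Module.finrank k (A ⧸ (I ⊔ maximalIdeal A ^ 2))) :
    ∃ L ∈ I, ∀ y ∈ I, ∃ c : k, y - c • L ∈ maximalIdeal A ^ 2 := by
  have hle : maximalIdeal A ^ 2 ≤ I ⊔ maximalIdeal A ^ 2 := le_sup_right
  set q : (A ⧸ maximalIdeal A ^ 2) →ₗ[k] (A ⧸ (I ⊔ maximalIdeal A ^ 2)) :=
    (Ideal.Quotient.factorₐ k hle).toLinearMap with hq
  have hqmk : ∀ a : A, q (Ideal.Quotient.mk _ a) = Ideal.Quotient.mk _ a := fun a => rfl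
  have hsurj : Function.Surjective q := by
    intro x
    obtain ⟨a, rfl⟩ := Ideal.Quotient.mk_surjective x
    exact ⟨Ideal.Quotient.mk _ a, hqmk a⟩
  have hrange : LinearMap.range q = ⊤ := LinearMap.range_eq_top.mpr hsurj
  have hrk := LinearMap.finrank_range_add_finrank_ker q
  rw [hrange, finrank_top] at hrk
  have hker : Module.finrank k (LinearMap.ker q) ≤ 1 := by omega
  obtain ⟨v, hv⟩ := finrank_le_one_iff.mp hker
  obtain ⟨L₀, hL₀⟩ := Ideal.Quotient.mk_surjective (v : A ⧸ maximalIdeal A ^ 2)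
  have hL₀J : L₀ ∈ I ⊔ maximalIdeal A ^ 2 := by
    have := v.2
    rw [LinearMap.mem_ker, ← hL₀, hqmk, Ideal.Quotient.eq_zero_iff_mem] at this
    exact this
  obtain ⟨L, hL, r, hr, hLr⟩ := Submodule.mem_sup.mp hL₀J
  have hvL : (v : A ⧸ maximalIdeal A ^ 2) = Ideal.Quotient.mk _ L := by
    rw [← hL₀, ← hLr, map_add, Ideal.Quotient.eq_zero_iff_mem.mpr hr, add_zero]
  refine ⟨L, hL, fun y hy => ?_⟩
  have hyker : (Ideal.Quotient.mk (maximalIdeal A ^ 2) y) ∈ LinearMap.ker q := by
    rw [LinearMap.mem_ker, hqmk, Ideal.Quotient.eq_zero_iff_mem]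
    exact Ideal.mem_sup_left hy
  obtain ⟨c, hc⟩ := hv ⟨_, hyker⟩
  refine ⟨c, ?_⟩
  have hc' : c • (v : A ⧸ maximalIdeal A ^ 2) = Ideal.Quotient.mk _ y := by
    have := congrArg Subtype.val hc
    simpa using this
  rw [← Ideal.Quotient.eq_zero_iff_mem, map_sub, ← hc', hvL]
  have : Ideal.Quotient.mk (maximalIdeal A ^ 2) (c • L) = c • Ideal.Quotient.mk _ L := by
    rw [Algebra.smul_def, map_mul, Algebra.smul_def]
    rfl
  rw [this, sub_self]

end abstract

section ps

open MvPowerSeries Groth.Agent.Lib.Helper76.PSComplete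

variable (k : Type u) [Field k] (n : ℕ)

theorem ps_hres (a : MvPowerSeries (Fin n) k) :
    ∃ c : k, a - algebraMap k (MvPowerSeries (Fin n) k) c ∈
      maximalIdeal (MvPowerSeries (Fin n) k) := by
  refine ⟨constantCoeff a, ?_⟩
  rw [mem_maximalIdeal, mem_nonunits_iff, MvPowerSeries.isUnit_iff_constantCoeff]
  have : algebraMap k (MvPowerSeries (Fin n) k) (constantCoeff a) = C (constantCoeff a) := rfl
  simp [this]

theorem ps_decomp (a : MvPowerSeries (Fin n) k) :
    ∃ (c₀ : k) (c : Fin n → k),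
      a - (algebraMap k (MvPowerSeries (Fin n) k) c₀ + ∑ i, c i • (X i : MvPowerSeries (Fin n) k)) ∈
        maximalIdeal (MvPowerSeries (Fin n) k) ^ 2 := by
  obtain ⟨c₀, hc₀⟩ := ps_hres k n a
  have hmem := hc₀
  rw [maximalIdeal_eq_varIdeal k (Fin n), varIdeal, Ideal.mem_span_range_iff_exists_fun] at hmem
  obtain ⟨f, hf⟩ := hmem
  choose c hc using fun i => ps_hres k n (f i)
  refine ⟨c₀, c, ?_⟩
  have hX : ∀ i, (X i : MvPowerSeries (Fin n) k) ∈ maximalIdeal (MvPowerSeries (Fin n) k) := by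
    intro i
    rw [maximalIdeal_eq_varIdeal k (Fin n)]
    exact X_mem_varIdeal i
  have : a - (algebraMap k (MvPowerSeries (Fin n) k) c₀
      + ∑ i, c i • (X i : MvPowerSeries (Fin n) k))
      = ∑ i, (f i - algebraMap k (MvPowerSeries (Fin n) k) (c i)) * X i := by
    simp only [sub_mul, Finset.sum_sub_distrib, hf, Algebra.smul_def]
    ring
  rw [this, pow_two]
  exact Ideal.sum_mem _ fun i _ => Ideal.mul_mem_mul (hc i) (hX i)

/-- the spanning family of `A/𝔪²` -/
noncomputable def vfam : Option (Fin n) → (MvPowerSeries (Fin n) k ⧸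
    maximalIdeal (MvPowerSeries (Fin n) k) ^ 2)
  | none => 1
  | some i => Ideal.Quotient.mk _ (X i)

theorem span_vfam : Submodule.span k (Set.range (vfam k n)) = ⊤ := by
  rw [eq_top_iff]
  rintro x -
  obtain ⟨a, rfl⟩ := Ideal.Quotient.mk_surjective x
  obtain ⟨c₀, c, hc⟩ := ps_decomp k n a
  have : Ideal.Quotient.mk (maximalIdeal (MvPowerSeries (Fin n) k) ^ 2) a
      = c₀ • vfam k n none + ∑ i, c i • vfam k n (some i) := by
    rw [← sub_eq_zero]
    rw [← Ideal.Quotient.eq_zero_iff_mem, map_sub, map_add, map_sum] at hc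
    rw [← hc]
    congr 1
    simp only [vfam, Algebra.smul_def, map_mul]
    congr 1
    simp
  rw [this]
  refine add_mem (Submodule.smul_mem _ _ (Submodule.subset_span ⟨none, rfl⟩))
    (Submodule.sum_mem _ fun i _ => Submodule.smul_mem _ _ (Submodule.subset_span ⟨some i, rfl⟩))

instance finite_quot_sq : Module.Finite k (MvPowerSeries (Fin n) k ⧸
    maximalIdeal (MvPowerSeries (Fin n) k) ^ 2) := by
  rw [Module.finite_def, ← span_vfam k n]
  exact Submodule.fg_span (Set.finite_range _)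

theorem finrank_quot_sq_le : Module.finrank k (MvPowerSeries (Fin n) k ⧸
    maximalIdeal (MvPowerSeries (Fin n) k) ^ 2) ≤ n + 1 := by
  have h := finrank_range_le_card (R := k) (vfam k n)
  rw [Set.finrank, span_vfam, finrank_top] at h
  simpa using h

end ps

end Groth.Agent.Lib.Helper84.CST
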