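import Groth.Agent.Lib.Helper84.Antipode
import Groth.Prelude.Def_HopfRep
import Groth.Prelude.Def_ComodSub

/-!
# Passage between left and right comodules through the antipode (helper84)

For a commutative Hopf algebra `A`: a left comodule structure `l` gives the right comodule structure
`rightOfLeft l` with coaction `ComodSub.rcoactOfLeft l` (`m ↦ Σ m₀ ⊗ S(m₋₁)`), and a right structure `c`
gives the left structure `leftOfRight c` with coaction `ComodSub.lcoactOfRight c`.
-/

set_option autoImplicit false
universe u v w

open TensorProduct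

namespace Groth.Agent.Lib.Helper84

variable {k : Type u} [CommRing k] {A : Type v} [CommRing A] [HopfAlgebra k A]
  {M : Type w} [AddCommGroup M] [Module k M]

local notation "𝑺" => HopfAlgebraStruct.antipode (R := k) (A := A)
local notation "Δ" => CoalgebraStruct.comul (R := k) (A := A)
local notation "ε" => CoalgebraStruct.counit (R := k) (A := A)

/-- `(a ⊗ b) ⊗ m ↦ m ⊗ (S b ⊗ S a)` -/
noncomputable def twistT' (k : Type u) [CommRing k] (A : Type v) [CommRing A] [HopfAlgebra k A]
    (M : Type w) [AddCommGroup M] [Module k M] : (A ⊗[k] A) ⊗[k] M →ₗ[k] M ⊗[k] (A ⊗[k] A) :=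
  (TensorProduct.map (HopfAlgebraStruct.antipode (R := k) (A := A))
      (HopfAlgebraStruct.antipode (R := k) (A := A)) ∘ₗ
    (TensorProduct.comm k A A).toLinearMap).lTensor M ∘ₗ
    (TensorProduct.comm k (A ⊗[k] A) M).toLinearMap

@[simp] theorem twistT'_tmul (a b : A) (m : M) :
    twistT' k A M ((a ⊗ₜ[k] b) ⊗ₜ[k] m) = m ⊗ₜ[k] (𝑺 b ⊗ₜ[k] 𝑺 a) := by
  simp [twistT']

theorem twistT'_tmul' (z : A ⊗[k] A) (m : M) :
    twistT' k A M (z ⊗ₜ[k] m) =
      m ⊗ₜ[k] (TensorProduct.map 𝑺 𝑺 (TensorProduct.comm k A A z)) := by
  simp [twistT']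

/-- `m ⊗ (a ⊗ b) ↦ S b ⊗ (S a ⊗ m)` -/
noncomputable def twistU' (k : Type u) [CommRing k] (A : Type v) [CommRing A] [HopfAlgebra k A]
    (M : Type w) [AddCommGroup M] [Module k M] : M ⊗[k] (A ⊗[k] A) →ₗ[k] A ⊗[k] (A ⊗[k] M) :=
  (TensorProduct.assoc k A A M).toLinearMap ∘ₗ
    (TensorProduct.comm k M (A ⊗[k] A)).toLinearMap ∘ₗ
    (TensorProduct.map (HopfAlgebraStruct.antipode (R := k) (A := A))
      (HopfAlgebraStruct.antipode (R := k) (A := A)) ∘ₗ
    (TensorProduct.comm k A A).toLinearMap).lTensor M

@[simp] theorem twistU'_tmul (a b : A) (m : M) :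
    twistU' k A M (m ⊗ₜ[k] (a ⊗ₜ[k] b)) = 𝑺 b ⊗ₜ[k] (𝑺 a ⊗ₜ[k] m) := by
  simp [twistU']

/-! ### left to right -/

section LeftToRight

variable (l : ComodSub.LComod k A M)

theorem rcoact_aux1' (y : A ⊗[k] M) (a : A) :
    TensorProduct.assoc k M A A
        ((TensorProduct.comm k A M (𝑺.rTensor M y)) ⊗ₜ[k] 𝑺 a) =
      twistT' k A M ((TensorProduct.assoc k A A M).symm (a ⊗ₜ[k] y)) := by
  induction y using TensorProduct.induction_on with
  | zero => simp
  | add x y hx hy => simp only [map_add, TensorProduct.add_tmul, TensorProduct.tmul_add, hx, hy]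
  | tmul b m => simp

theorem rcoact_aux1 (x : A ⊗[k] M) :
    TensorProduct.assoc k M A A
        ((ComodSub.rcoactOfLeft l).rTensor A (TensorProduct.comm k A M (𝑺.rTensor M x))) =
      twistT' k A M ((TensorProduct.assoc k A A M).symm (l.coact.lTensor A x)) := by
  induction x using TensorProduct.induction_on with
  | zero => simp
  | add x y hx hy => simp only [map_add, hx, hy]
  | tmul a m =>
    simp only [LinearMap.rTensor_tmul, TensorProduct.comm_tmul, LinearMap.lTensor_tmul]
    rw [ComodSub.rcoactOfLeft_apply]
    exact rcoact_aux1' (l.coact m) a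

theorem rcoact_aux2 (x : A ⊗[k] M) :
    (Δ).lTensor M (TensorProduct.comm k A M (𝑺.rTensor M x)) =
      twistT' k A M ((Δ).rTensor M x) := by
  induction x using TensorProduct.induction_on with
  | zero => simp
  | add x y hx hy => simp only [map_add, hx, hy]
  | tmul a m =>
    simp only [LinearMap.rTensor_tmul, TensorProduct.comm_tmul, LinearMap.lTensor_tmul]
    rw [twistT'_tmul']
    congr 1
    exact comul_antipode a

theorem rcoact_aux3 (x : A ⊗[k] M) :
    (ε).lTensor M (TensorProduct.comm k A M (𝑺.rTensor M x)) =
      TensorProduct.comm k k M ((ε).rTensor M x) := by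
  induction x using TensorProduct.induction_on with
  | zero => simp
  | add x y hx hy => simp only [map_add, hx, hy]
  | tmul a m =>
    simp only [LinearMap.rTensor_tmul, TensorProduct.comm_tmul, LinearMap.lTensor_tmul]
    congr 1
    exact HopfAlgebra.counit_antipode a

/-- The right comodule structure `m ↦ Σ m₀ ⊗ S(m₋₁)` attached to a left comodule structure. -/
@[reducible] noncomputable def rightOfLeft : HopfRep.Comod k A M where
  coact := ComodSub.rcoactOfLeft l
  coassoc := by
    apply LinearMap.ext
    intro m
    simp only [LinearMap.coe_comp, Function.comp_apply, LinearEquiv.coe_coe]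
    have hco := LinearMap.congr_fun l.coassoc m
    simp only [LinearMap.coe_comp, Function.comp_apply, LinearEquiv.coe_coe] at hco
    conv_lhs => rw [ComodSub.rcoactOfLeft_apply]
    rw [rcoact_aux1, hco, LinearEquiv.symm_apply_apply, ← rcoact_aux2]
    rfl
  counit_comp := by
    apply LinearMap.ext
    intro m
    simp only [LinearMap.coe_comp, Function.comp_apply, LinearMap.flip_apply,
      TensorProduct.mk_apply]
    have hco := LinearMap.congr_fun l.counit_comp m
    simp only [LinearMap.coe_comp, Function.comp_apply, TensorProduct.mk_apply] at hco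
    rw [ComodSub.rcoactOfLeft_apply, rcoact_aux3, hco, TensorProduct.comm_tmul]

theorem rightOfLeft_coact : (rightOfLeft l).coact = ComodSub.rcoactOfLeft l := rfl

end LeftToRight

/-! ### right to left -/

section RightToLeft

variable (c : HopfRep.Comod k A M)

theorem lcoact_aux1' (y : M ⊗[k] A) (b : A) :
    (𝑺 b) ⊗ₜ[k] (TensorProduct.comm k M A (𝑺.lTensor M y)) =
      twistU' k A M (TensorProduct.assoc k M A A (y ⊗ₜ[k] b)) := by
  induction y using TensorProduct.induction_on with
  | zero => simp
  | add x y hx hy => simp only [map_add, TensorProduct.add_tmul, TensorProduct.tmul_add, hx, hy]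
  | tmul m a => simp

theorem lcoact_aux1 (x : M ⊗[k] A) :
    (ComodSub.lcoactOfRight c).lTensor A (TensorProduct.comm k M A (𝑺.lTensor M x)) =
      twistU' k A M (TensorProduct.assoc k M A A (c.coact.rTensor A x)) := by
  induction x using TensorProduct.induction_on with
  | zero => simp
  | add x y hx hy => simp only [map_add, hx, hy]
  | tmul m a =>
    simp only [LinearMap.rTensor_tmul, TensorProduct.comm_tmul, LinearMap.lTensor_tmul]
    rw [ComodSub.lcoactOfRight_apply]
    exact lcoact_aux1' (c.coact m) a

theorem lcoact_aux2' (z : A ⊗[k] A) (m : M) :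
    TensorProduct.assoc k A A M
        ((TensorProduct.map 𝑺 𝑺 (TensorProduct.comm k A A z)) ⊗ₜ[k] m) =
      twistU' k A M (m ⊗ₜ[k] z) := by
  induction z using TensorProduct.induction_on with
  | zero => simp
  | add x y hx hy => simp only [map_add, TensorProduct.add_tmul, TensorProduct.tmul_add, hx, hy]
  | tmul a b => simp

theorem lcoact_aux2 (x : M ⊗[k] A) :
    TensorProduct.assoc k A A M ((Δ).rTensor M (TensorProduct.comm k M A (𝑺.lTensor M x))) =
      twistU' k A M ((Δ).lTensor M x) := by
  induction x using TensorProduct.induction_on with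
  | zero => simp
  | add x y hx hy => simp only [map_add, hx, hy]
  | tmul m a =>
    simp only [LinearMap.rTensor_tmul, TensorProduct.comm_tmul, LinearMap.lTensor_tmul]
    rw [comul_antipode]
    exact lcoact_aux2' _ m

theorem lcoact_aux3 (x : M ⊗[k] A) :
    (ε).rTensor M (TensorProduct.comm k M A (𝑺.lTensor M x)) =
      TensorProduct.comm k M k ((ε).lTensor M x) := by
  induction x using TensorProduct.induction_on with
  | zero => simp
  | add x y hx hy => simp only [map_add, hx, hy]
  | tmul m a =>
    simp only [LinearMap.rTensor_tmul, TensorProduct.comm_tmul, LinearMap.lTensor_tmul]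
    congr 1
    exact HopfAlgebra.counit_antipode a

/-- The left comodule structure `m ↦ Σ S(m₁) ⊗ m₀` attached to a right comodule structure. -/
@[reducible] noncomputable def leftOfRight : ComodSub.LComod k A M where
  coact := ComodSub.lcoactOfRight c
  coassoc := by
    apply LinearMap.ext
    intro m
    simp only [LinearMap.coe_comp, Function.comp_apply, LinearEquiv.coe_coe]
    have hco := LinearMap.congr_fun c.coassoc m
    simp only [LinearMap.coe_comp, Function.comp_apply, LinearEquiv.coe_coe] at hco
    conv_lhs => rw [ComodSub.lcoactOfRight_apply]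
    rw [lcoact_aux1, hco, ← lcoact_aux2]
    rfl
  counit_comp := by
    apply LinearMap.ext
    intro m
    simp only [LinearMap.coe_comp, Function.comp_apply, TensorProduct.mk_apply]
    have hco := LinearMap.congr_fun c.counit_comp m
    simp only [LinearMap.coe_comp, Function.comp_apply, LinearMap.flip_apply,
      TensorProduct.mk_apply] at hco
    rw [ComodSub.lcoactOfRight_apply, lcoact_aux3, hco, TensorProduct.comm_tmul]

theorem leftOfRight_coact : (leftOfRight c).coact = ComodSub.lcoactOfRight c := rfl

end RightToLeft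

end Groth.Agent.Lib.Helper84
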