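import Groth.Prelude.Def_Conn
import Mathlib.LinearAlgebra.FreeModule.Finite.Basic
import Mathlib.LinearAlgebra.Dual.Basis

/-!
Helper lemmas on tensor products with a finite free module of "differentials", used for the
`Conn` family of statements (helper84).
-/

set_option autoImplicit false

universe u

namespace Groth.Agent.Lib.Helper84

open TensorProduct

section

variable {B : Type u} [CommRing B] {Ω : Type u} [AddCommGroup Ω] [Module B Ω]
variable {X Y : Type u} [AddCommGroup X] [Module B X] [AddCommGroup Y] [Module B Y]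

/-- Contraction `X ⊗ Ω → X` along a functional `θ : Ω → B`. -/
noncomputable def contr (X : Type u) [AddCommGroup X] [Module B X] (θ : Ω →ₗ[B] B) :
    X ⊗[B] Ω →ₗ[B] X :=
  (TensorProduct.rid B X).toLinearMap ∘ₗ TensorProduct.map LinearMap.id θ

@[simp]
theorem contr_tmul (θ : Ω →ₗ[B] B) (x : X) (ω : Ω) : contr X θ (x ⊗ₜ[B] ω) = θ ω • x := by
  simp [contr]

theorem contr_map (θ : Ω →ₗ[B] B) (f : X →ₗ[B] Y) (t : X ⊗[B] Ω) :
    contr Y θ (TensorProduct.map f LinearMap.id t) = f (contr X θ t) := by
  induction t using TensorProduct.induction_on with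
  | zero => simp
  | add x y hx hy => simp only [map_add, hx, hy]
  | tmul x ω => simp

theorem decomp {ι : Type*} [Fintype ι] (b : Module.Basis ι B Ω) (t : X ⊗[B] Ω) :
    t = ∑ q, contr X (b.coord q) t ⊗ₜ[B] b q := by
  induction t using TensorProduct.induction_on with
  | zero => simp
  | add x y hx hy =>
    simp only [map_add, TensorProduct.add_tmul, Finset.sum_add_distrib]
    rw [← hx, ← hy]
  | tmul x ω =>
    simp only [contr_tmul, Module.Basis.coord_apply]
    conv_lhs => rw [← b.sum_repr ω, TensorProduct.tmul_sum]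
    refine Finset.sum_congr rfl fun q _ => ?_
    rw [TensorProduct.tmul_smul, TensorProduct.smul_tmul']

theorem eq_zero_of_contr {ι : Type*} [Fintype ι] (b : Module.Basis ι B Ω) (t : X ⊗[B] Ω)
    (h : ∀ q, contr X (b.coord q) t = 0) : t = 0 := by
  rw [decomp b t]
  simp [h]

/-- Elements of `Hom(E, G) ⊗ Ω` are separated by the evaluations, when `Ω` is finite free. -/
theorem hom_tensor_ext [Module.Finite B Ω] [Module.Free B Ω]
    {E G : Type u} [AddCommGroup E] [Module B E] [AddCommGroup G] [Module B G]
    (t t' : (E →ₗ[B] G) ⊗[B] Ω)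
    (h : ∀ e : E, TensorProduct.map (LinearMap.applyₗ e) LinearMap.id t =
      TensorProduct.map (LinearMap.applyₗ e) LinearMap.id t') : t = t' := by
  classical
  rw [← sub_eq_zero]
  let b := Module.Free.chooseBasis B Ω
  apply eq_zero_of_contr b
  intro q
  ext e
  have h1 := contr_map (b.coord q) (LinearMap.applyₗ e : (E →ₗ[B] G) →ₗ[B] G) (t - t')
  rw [map_sub, h e, sub_self, map_zero] at h1
  simpa using h1.symm

end

section

variable {B : Type u} [CommRing B] {Ω : Type u} [AddCommGroup Ω] [Module B Ω]
variable {X Y : Type u} [AddCommGroup X] [Module B X] [AddCommGroup Y] [Module B Y]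

theorem map_sum_left_apply {κ : Type*} (s : Finset κ) (f : κ → (X →ₗ[B] Y)) (t : X ⊗[B] Ω) :
    TensorProduct.map (∑ j ∈ s, f j) (LinearMap.id : Ω →ₗ[B] Ω) t =
      ∑ j ∈ s, TensorProduct.map (f j) LinearMap.id t := by
  classical
  induction s using Finset.induction_on with
  | empty => simp
  | insert a s ha ih =>
    rw [Finset.sum_insert ha, Finset.sum_insert ha, TensorProduct.map_add_left,
      LinearMap.add_apply, ih]

theorem map_comp_left_apply {Z : Type u} [AddCommGroup Z] [Module B Z]
    (f : Y →ₗ[B] Z) (g : X →ₗ[B] Y) (t : X ⊗[B] Ω) :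
    TensorProduct.map (f ∘ₗ g) (LinearMap.id : Ω →ₗ[B] Ω) t =
      TensorProduct.map f LinearMap.id (TensorProduct.map g LinearMap.id t) := by
  induction t using TensorProduct.induction_on with
  | zero => simp
  | add x y hx hy => simp only [map_add, hx, hy]
  | tmul x ω => simp

end

end Groth.Agent.Lib.Helper84
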