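import Mathlib

/-!
# Coproduct decompositions of commutative algebras

If `A` is the coproduct (in commutative `R`-algebras) of subalgebras `Bs j`, then for each `i`,
`A ≅ Bs i ⊗_R N` where `N` is the subalgebra generated by the other `Bs j`.
-/

set_option autoImplicit false
universe u v

namespace Groth.Agent.Lib.Helper84.Coprod

open TensorProduct

section

variable {R : Type u} [CommRing R] {A : Type v} [CommRing A] [Algebra R A]
  {ι : Type*} (Bs : ι → Subalgebra R A) (i : ι)

/-- the subalgebra generated by the `Bs j`, `j ≠ i`. -/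
def NN : Subalgebra R A := ⨆ (j : ι) (_ : j ≠ i), Bs j

theorem le_NN {j : ι} (hj : j ≠ i) : Bs j ≤ NN Bs i := le_iSup₂ (f := fun j (_ : j ≠ i) => Bs j) j hj

/-- multiplication `Bs i ⊗ N → A`. -/
noncomputable def mult : (Bs i) ⊗[R] (NN Bs i) →ₐ[R] A :=
  Algebra.TensorProduct.productMap (Bs i).val (NN Bs i).val

theorem mult_tmul (b : Bs i) (n : NN Bs i) : mult Bs i (b ⊗ₜ n) = (b : A) * (n : A) := rfl

variable (hcoprod : ∀ (C : Type (max u v)) [CommRing C] [Algebra R C]
    (φ : ∀ j : ι, Bs j →ₐ[R] C), ∃! ψ : A →ₐ[R] C, ∀ j (x : Bs j), ψ x = φ j x)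

open Classical in
/-- the family of maps to the tensor product. -/
noncomputable def phiFam (j : ι) : Bs j →ₐ[R] ULift.{u} ((Bs i) ⊗[R] (NN Bs i)) :=
  if h : j = i then
    (ULift.algEquiv (R := R) (A := (Bs i) ⊗[R] (NN Bs i))).symm.toAlgHom.comp
      ((Algebra.TensorProduct.includeLeft : Bs i →ₐ[R] (Bs i) ⊗[R] (NN Bs i)).comp
        (Subalgebra.inclusion (le_of_eq (congrArg Bs h))))
  else
    (ULift.algEquiv (R := R) (A := (Bs i) ⊗[R] (NN Bs i))).symm.toAlgHom.comp
      ((Algebra.TensorProduct.includeRight : NN Bs i →ₐ[R] (Bs i) ⊗[R] (NN Bs i)).comp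
        (Subalgebra.inclusion (le_NN Bs i h)))

/-- the comultiplication-like map `A → Bs i ⊗ N`. -/
noncomputable def psi : A →ₐ[R] (Bs i) ⊗[R] (NN Bs i) :=
  (ULift.algEquiv (R := R) (A := (Bs i) ⊗[R] (NN Bs i))).toAlgHom.comp
    (Classical.choose (hcoprod _ (phiFam Bs i)).exists)

theorem psi_self (x : Bs i) : psi Bs i hcoprod (x : A) = x ⊗ₜ 1 := by
  have h := Classical.choose_spec (hcoprod _ (phiFam Bs i)).exists i x
  rw [psi, AlgHom.comp_apply, h, phiFam, dif_pos rfl]
  rfl

theorem psi_other {j : ι} (hj : j ≠ i) (x : Bs j) :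
    psi Bs i hcoprod (x : A) = 1 ⊗ₜ (Subalgebra.inclusion (le_NN Bs i hj) x) := by
  have h := Classical.choose_spec (hcoprod _ (phiFam Bs i)).exists j x
  rw [psi, AlgHom.comp_apply, h, phiFam, dif_neg hj]
  rfl

theorem psi_NN (n : NN Bs i) : psi Bs i hcoprod (n : A) = 1 ⊗ₜ n := by
  let F : NN Bs i →ₐ[R] (Bs i) ⊗[R] (NN Bs i) := (psi Bs i hcoprod).comp (NN Bs i).val
  let G : NN Bs i →ₐ[R] (Bs i) ⊗[R] (NN Bs i) := Algebra.TensorProduct.includeRight
  have hle : NN Bs i ≤ (AlgHom.equalizer F G).map (NN Bs i).val := by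
    refine iSup₂_le fun j hj => ?_
    intro x hx
    refine ⟨⟨x, le_NN Bs i hj hx⟩, ?_, rfl⟩
    show F _ = G _
    exact psi_other Bs i hcoprod hj ⟨x, hx⟩
  obtain ⟨n', hn', hnn'⟩ := hle n.2
  have : n' = n := Subtype.ext hnn'
  rw [this] at hn'
  exact hn'

theorem psi_mult (t : (Bs i) ⊗[R] (NN Bs i)) : psi Bs i hcoprod (mult Bs i t) = t := by
  have : (psi Bs i hcoprod).comp (mult Bs i) = AlgHom.id R _ := by
    apply Algebra.TensorProduct.ext'
    intro b n
    rw [AlgHom.comp_apply, mult_tmul, map_mul, psi_self, psi_NN, AlgHom.id_apply,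
      Algebra.TensorProduct.tmul_mul_tmul, mul_one, one_mul]
  exact AlgHom.congr_fun this t

theorem mult_psi (a : A) : mult Bs i (psi Bs i hcoprod a) = a := by
  let φ' : ∀ j : ι, Bs j →ₐ[R] ULift.{u} A := fun j =>
    (ULift.algEquiv (R := R) (A := A)).symm.toAlgHom.comp (Bs j).val
  obtain ⟨ψ₀, -, huniq⟩ := hcoprod _ φ'
  have h1 : (ULift.algEquiv (R := R) (A := A)).symm.toAlgHom = ψ₀ :=
    huniq _ (fun j x => rfl)
  have h2 : (ULift.algEquiv (R := R) (A := A)).symm.toAlgHom.comp
      ((mult Bs i).comp (psi Bs i hcoprod)) = ψ₀ := by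
    apply huniq
    intro j x
    have key : mult Bs i (psi Bs i hcoprod (x : A)) = (x : A) := by
      by_cases hj : j = i
      · subst hj
        rw [psi_self, mult_tmul]
        simp
      · rw [psi_other Bs i hcoprod hj, mult_tmul]
        simp
    show (ULift.algEquiv (R := R) (A := A)).symm (mult Bs i (psi Bs i hcoprod (x : A))) =
      (ULift.algEquiv (R := R) (A := A)).symm (x : A)
    rw [key]
  have h3 := AlgHom.congr_fun (h2.trans h1.symm) a
  exact (ULift.algEquiv (R := R) (A := A)).symm.injective h3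

/-- `A ≅ Bs i ⊗ N`. -/
noncomputable def tensorEquiv : (Bs i) ⊗[R] (NN Bs i) ≃ₐ[R] A :=
  AlgEquiv.ofAlgHom (mult Bs i) (psi Bs i hcoprod)
    (AlgHom.ext (mult_psi Bs i hcoprod)) (AlgHom.ext (psi_mult Bs i hcoprod))

/-- the `Bs i`-linear version. -/
noncomputable def tensorLinearEquiv : (Bs i) ⊗[R] (NN Bs i) ≃ₗ[Bs i] A :=
  { (tensorEquiv Bs i hcoprod).toLinearEquiv with
    map_smul' := by
      intro b t
      show mult Bs i (b • t) = b • mult Bs i t
      induction t using TensorProduct.induction_on with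
      | zero => simp
      | tmul b' n =>
        rw [TensorProduct.smul_tmul', mult_tmul, mult_tmul, smul_eq_mul,
          Subalgebra.coe_mul, mul_assoc, Algebra.smul_def]
        rfl
      | add x y hx hy => rw [smul_add, map_add, map_add, smul_add, hx, hy] }

variable (s : A →ₗ[R] R) (hs : s 1 = 1)

/-- retraction `A → Bs i`. -/
noncomputable def retrB : A →ₗ[R] Bs i :=
  ((TensorProduct.rid R (Bs i)).toLinearMap.comp
    (LinearMap.lTensor (Bs i) (s.comp (NN Bs i).val.toLinearMap))).comp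
      (psi Bs i hcoprod).toLinearMap

include hs in
theorem retrB_comp : (retrB Bs i hcoprod s).comp (Bs i).val.toLinearMap = LinearMap.id := by
  apply LinearMap.ext
  intro b
  show (TensorProduct.rid R (Bs i)) ((LinearMap.lTensor (Bs i) (s.comp (NN Bs i).val.toLinearMap))
    (psi Bs i hcoprod (b : A))) = b
  rw [psi_self, LinearMap.lTensor_tmul]
  show (TensorProduct.rid R (Bs i)) (b ⊗ₜ s 1) = b
  rw [hs, TensorProduct.rid_tmul, one_smul]

/-- retraction `A → N`. -/
noncomputable def retrN : A →ₗ[R] NN Bs i :=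
  ((TensorProduct.lid R (NN Bs i)).toLinearMap.comp
    (LinearMap.rTensor (NN Bs i) (s.comp (Bs i).val.toLinearMap))).comp
      (psi Bs i hcoprod).toLinearMap

include hs in
theorem retrN_comp : (retrN Bs i hcoprod s).comp (NN Bs i).val.toLinearMap = LinearMap.id := by
  apply LinearMap.ext
  intro n
  show (TensorProduct.lid R (NN Bs i)) ((LinearMap.rTensor (NN Bs i) (s.comp (Bs i).val.toLinearMap))
    (psi Bs i hcoprod (n : A))) = n
  rw [psi_NN, LinearMap.rTensor_tmul]
  show (TensorProduct.lid R (NN Bs i)) (s 1 ⊗ₜ n) = n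
  rw [hs, TensorProduct.lid_tmul, one_smul]

include hcoprod hs in
theorem projective_B [Module.Projective R A] : Module.Projective R (Bs i) :=
  Module.Projective.of_split _ _ (retrB_comp Bs i hcoprod s hs)

include hcoprod hs in
theorem flat_N [Module.Flat R A] : Module.Flat R (NN Bs i) :=
  Module.Flat.of_retract _ _ (retrN_comp Bs i hcoprod s hs)

include hcoprod hs in
theorem flat_over_B [Module.Flat R A] : Module.Flat (Bs i) A := by
  have := flat_N Bs i hcoprod s hs
  exact Module.Flat.of_linearEquiv (tensorLinearEquiv Bs i hcoprod).symm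

end

end Groth.Agent.Lib.Helper84.Coprod
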