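import Mathlib

/-!
# Invariants modulo high powers come from the base (Artin–Rees) (helper84)

`A'` Noetherian local, `B` a local ring finite over `A'` with local structure map, a finite family of
`A'`-linear endomorphisms `act i` of `B` whose common fixed points are exactly the image of `A'`.
Then an element of `B` fixed modulo a high power of the maximal ideal is congruent modulo `m_B ^ k` to
an element of `A'` (`core_AR`); and the `m_B`-adic topology induces the `m_{A'}`-adic topology on `A'`
(`core_AR2`).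
-/

set_option autoImplicit false
set_option linter.unusedSectionVars false

namespace Groth.Agent.Lib.Helper84.CplInv

open IsLocalRing

section AR

variable {A' B : Type*} [CommRing A'] [CommRing B] [IsNoetherianRing A'] [IsLocalRing A']
  [IsLocalRing B] [Algebra A' B] [Module.Finite A' B] [IsLocalHom (algebraMap A' B)]

/-- every prime of `B` over `m_{A'} B` is the maximal ideal -/
theorem maximalIdeal_le_radical_map :
    maximalIdeal B ≤ ((maximalIdeal A').map (algebraMap A' B)).radical := by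
  have : Algebra.IsIntegral A' B := Algebra.IsIntegral.of_finite A' B
  rw [Ideal.radical_eq_sInf]
  refine le_sInf ?_
  rintro P ⟨hP, hPp⟩
  have h1 : maximalIdeal A' ≤ P.comap (algebraMap A' B) := Ideal.map_le_iff_le_comap.mp hP
  have hPc : (P.comap (algebraMap A' B)).IsPrime := Ideal.comap_isPrime _ _
  have h2 : P.comap (algebraMap A' B) = maximalIdeal A' :=
    ((maximalIdeal.isMaximal A').eq_of_le hPc.ne_top h1).symm
  have h3 : P.IsMaximal := by
    apply Ideal.isMaximal_of_isIntegral_of_isMaximal_comap (R := A') P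
    rw [h2]; exact maximalIdeal.isMaximal A'
  rw [IsLocalRing.eq_maximalIdeal h3]

theorem exists_pow_le_map : ∃ e : ℕ, maximalIdeal B ^ e ≤ (maximalIdeal A').map (algebraMap A' B) := by
  have hB : IsNoetherianRing B := IsNoetherianRing.of_finite A' B
  exact Ideal.exists_pow_le_of_le_radical_of_fg maximalIdeal_le_radical_map
    ((isNoetherianRing_iff_ideal_fg B).mp hB _)

theorem map_le_maximalIdeal : (maximalIdeal A').map (algebraMap A' B) ≤ maximalIdeal B := by
  rw [Ideal.map_le_iff_le_comap]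
  intro a ha
  exact (IsLocalRing.mem_maximalIdeal _).mpr
    (fun hu => (IsLocalRing.mem_maximalIdeal _).mp ha (isUnit_of_map_unit (algebraMap A' B) a hu))

/-- `m_B ^ (e (k + c)) ⊆ m_{A'} ^ (k + c) B` as `A'`-submodules -/
theorem pow_le_smul_top {e : ℕ} (he : maximalIdeal B ^ e ≤ (maximalIdeal A').map (algebraMap A' B))
    (j : ℕ) {b : B} (hb : b ∈ maximalIdeal B ^ (e * j)) :
    b ∈ (maximalIdeal A' ^ j • ⊤ : Submodule A' B) := by
  rw [Ideal.smul_top_eq_map, Submodule.restrictScalars_mem, Ideal.map_pow]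
  rw [pow_mul] at hb
  exact Ideal.pow_right_mono he j hb

theorem smul_top_le_pow (j : ℕ) {b : B} (hb : b ∈ (maximalIdeal A' ^ j • ⊤ : Submodule A' B)) :
    b ∈ maximalIdeal B ^ j := by
  rw [Ideal.smul_top_eq_map, Submodule.restrictScalars_mem, Ideal.map_pow] at hb
  exact Ideal.pow_right_mono map_le_maximalIdeal j hb

theorem pi_mem_smul_top {ι : Type*} [Finite ι] (I : Ideal A') (y : ι → B)
    (hy : ∀ i, y i ∈ (I • ⊤ : Submodule A' B)) : y ∈ (I • ⊤ : Submodule A' (ι → B)) := by
  classical
  cases nonempty_fintype ι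
  have : y = ∑ i, LinearMap.single A' (fun _ => B) i (y i) := by
    ext j
    simp [Finset.sum_apply, Pi.single_apply]
  rw [this]
  refine Submodule.sum_mem _ fun i _ => ?_
  have h := Submodule.mem_map_of_mem (f := LinearMap.single A' (fun _ => B) i) (hy i)
  rw [Submodule.map_smul''] at h
  exact Submodule.smul_mono le_rfl le_top h

theorem core_AR {ι : Type*} [Finite ι] (act : ι → (B →ₗ[A'] B))
    (hinv : ∀ b : B, (∀ i, act i b = b) → ∃ a', algebraMap A' B a' = b) (k : ℕ) :
    ∃ N, ∀ b : B, (∀ i, act i b - b ∈ maximalIdeal B ^ N) →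
      ∃ a' : A', b - algebraMap A' B a' ∈ maximalIdeal B ^ k := by
  obtain ⟨e, he⟩ := exists_pow_le_map (A' := A') (B := B)
  let Φ : B →ₗ[A'] (ι → B) := LinearMap.pi fun i => act i - LinearMap.id
  obtain ⟨c, hc⟩ := Ideal.exists_pow_inf_eq_pow_smul (maximalIdeal A') (LinearMap.range Φ)
  refine ⟨e * (k + c), fun b hb => ?_⟩
  have h1 : Φ b ∈ (maximalIdeal A' ^ (k + c) • ⊤ : Submodule A' (ι → B)) := by
    apply pi_mem_smul_top
    intro i
    exact pow_le_smul_top he (k + c) (hb i)
  have h2 : Φ b ∈ (maximalIdeal A' ^ (k + c) • ⊤ ⊓ LinearMap.range Φ : Submodule A' (ι → B)) :=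
    ⟨h1, LinearMap.mem_range_self Φ b⟩
  rw [hc (k + c) (by omega), Nat.add_sub_cancel] at h2
  have h3 : Φ b ∈ (maximalIdeal A' ^ k • LinearMap.range Φ : Submodule A' (ι → B)) :=
    Submodule.smul_mono le_rfl inf_le_right h2
  rw [LinearMap.range_eq_map, ← Submodule.map_smul''] at h3
  obtain ⟨b', hb', hΦ⟩ := h3
  have hfix : ∀ i, act i (b - b') = b - b' := by
    intro i
    have := congrFun hΦ i
    simp only [Φ, LinearMap.pi_apply, LinearMap.sub_apply, LinearMap.id_apply] at this
    rw [map_sub]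
    linear_combination -this
  obtain ⟨a', ha'⟩ := hinv _ hfix
  refine ⟨a', ?_⟩
  rw [ha', sub_sub_cancel]
  exact smul_top_le_pow k hb'

theorem core_AR2 (hinj : Function.Injective (algebraMap A' B)) (k : ℕ) :
    ∃ K, ∀ a' : A', algebraMap A' B a' ∈ maximalIdeal B ^ K → a' ∈ maximalIdeal A' ^ k := by
  obtain ⟨e, he⟩ := exists_pow_le_map (A' := A') (B := B)
  let Ψ : A' →ₗ[A'] B := Algebra.linearMap A' B
  obtain ⟨c, hc⟩ := Ideal.exists_pow_inf_eq_pow_smul (maximalIdeal A') (LinearMap.range Ψ)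
  refine ⟨e * (k + c), fun a' ha' => ?_⟩
  have h1 : Ψ a' ∈ (maximalIdeal A' ^ (k + c) • ⊤ : Submodule A' B) :=
    pow_le_smul_top he (k + c) ha'
  have h2 : Ψ a' ∈ (maximalIdeal A' ^ (k + c) • ⊤ ⊓ LinearMap.range Ψ : Submodule A' B) :=
    ⟨h1, LinearMap.mem_range_self Ψ a'⟩
  rw [hc (k + c) (by omega), Nat.add_sub_cancel] at h2
  have h3 : Ψ a' ∈ (maximalIdeal A' ^ k • LinearMap.range Ψ : Submodule A' B) :=
    Submodule.smul_mono le_rfl inf_le_right h2
  rw [LinearMap.range_eq_map, ← Submodule.map_smul''] at h3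
  obtain ⟨a'', ha'', hΨ⟩ := h3
  have : a'' = a' := hinj hΨ
  rw [← this]
  simpa using ha''

end AR

end Groth.Agent.Lib.Helper84.CplInv
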