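import Mathlib

/-!
# Invariants of a completed local extension (helper84)

* `evalₐ_eq_zero_iff`, `evalₐ_of_le`, `evalₐ_map`: levelwise control of ring homomorphisms between
  adic completions which are compatible with a ring homomorphism of the underlying rings.
* `cpl_main`: `φ : A → B` a local homomorphism of Noetherian local rings, a family `act g` of ring
  endomorphisms of `B` fixing `φ(A)`, such that elements of `B` fixed modulo high powers of `m_B` are
  close to `φ(A)` and the `m_B`-adic topology induces the `m_A`-adic one on `A`. Then for every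
  action of the group on `B^` compatible with `act` and every `f : A^ → B^` compatible with `φ`,
  the group fixes `f(A^)` and every invariant of `B^` lies in `f(A^)`.
-/

set_option autoImplicit false

namespace Groth.Agent.Lib.Helper84.CplInv

open IsLocalRing AdicCompletion

section Eval

variable {R : Type*} [CommRing R] (I : Ideal R)

theorem evalₐ_eq_zero_iff (hI : I.FG) (k : ℕ) (x : AdicCompletion I R) :
    evalₐ I k x = 0 ↔ x ∈ (I ^ k • ⊤ : Submodule R (AdicCompletion I R)) := by
  rw [pow_smul_top_eq_ker_eval hI, LinearMap.mem_ker]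
  have h1 : I ^ k ≤ (I ^ k • ⊤ : Ideal R) := by simp
  have h2 : (I ^ k • ⊤ : Ideal R) ≤ I ^ k := by simp
  constructor
  · intro h
    rw [← factor_evalₐ_eq_eval I x h1, h, _root_.map_zero]
  · intro h
    rw [← factor_eval_eq_evalₐ I x h2, h, _root_.map_zero]

theorem evalₐ_of_le (hI : I.FG) {j k : ℕ} (hkj : k ≤ j) (x : AdicCompletion I R) (r : R)
    (hx : evalₐ I j x = Ideal.Quotient.mk _ r) : evalₐ I k x = Ideal.Quotient.mk _ r := by
  have h0 : evalₐ I j (x - of I R r) = 0 := by rw [map_sub, evalₐ_of, hx, sub_self]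
  rw [evalₐ_eq_zero_iff I hI] at h0
  have h1 : x - of I R r ∈ (I ^ k • ⊤ : Submodule R (AdicCompletion I R)) :=
    Submodule.smul_mono (Ideal.pow_le_pow_right hkj) le_rfl h0
  rw [← evalₐ_eq_zero_iff I hI, map_sub, evalₐ_of, sub_eq_zero] at h1
  exact h1

variable {T : Type*} [CommRing T] (J : Ideal T)

theorem evalₐ_map (hI : I.FG) (θ : AdicCompletion I R →+* AdicCompletion J T) (ρ : R →+* T)
    (hθ : ∀ r, θ (of I R r) = of J T (ρ r)) (hρ : ∀ r ∈ I, ρ r ∈ J)
    (k : ℕ) (x : AdicCompletion I R) (r : R) (hx : evalₐ I k x = Ideal.Quotient.mk _ r) :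
    evalₐ J k (θ x) = Ideal.Quotient.mk _ (ρ r) := by
  have hρk : ∀ s ∈ I ^ k, ρ s ∈ J ^ k := by
    intro s hs
    have h1 : I.map ρ ≤ J := Ideal.map_le_iff_le_comap.mpr hρ
    have h2 : ρ s ∈ (I ^ k).map ρ := Ideal.mem_map_of_mem ρ hs
    rw [Ideal.map_pow] at h2
    exact Ideal.pow_right_mono h1 k h2
  have key : ∀ z ∈ (I ^ k • ⊤ : Submodule R (AdicCompletion I R)), evalₐ J k (θ z) = 0 := by
    intro z hz
    refine Submodule.smul_induction_on hz ?_ ?_
    · intro s hs y _
      rw [Algebra.smul_def, AdicCompletion.algebraMap_apply, Algebra.algebraMap_self_apply,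
        map_mul, hθ, map_mul, evalₐ_of]
      rw [Ideal.Quotient.eq_zero_iff_mem.mpr (hρk s hs), zero_mul]
    · intro y z hy hz
      rw [map_add, map_add, hy, hz, add_zero]
  have h0 : evalₐ I k (x - of I R r) = 0 := by rw [map_sub, evalₐ_of, hx, sub_self]
  rw [evalₐ_eq_zero_iff I hI] at h0
  have h1 := key _ h0
  rw [map_sub, map_sub, hθ, evalₐ_of, sub_eq_zero] at h1
  exact h1

end Eval

section Main

variable {A B : Type*} [CommRing A] [CommRing B] [IsNoetherianRing A] [IsNoetherianRing B]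
  [IsLocalRing A] [IsLocalRing B] (φ : A →+* B)
  (hφ : ∀ a ∈ maximalIdeal A, φ a ∈ maximalIdeal B)
  {D : Type*} [Group D] (act : D → (B →+* B))
  (hact_local : ∀ g, ∀ b ∈ maximalIdeal B, act g b ∈ maximalIdeal B)
  (hact_φ : ∀ g a, act g (φ a) = φ a)
  (hC1 : ∀ k, ∃ N, ∀ b : B, (∀ g, act g b - b ∈ maximalIdeal B ^ N) →
    ∃ a : A, b - φ a ∈ maximalIdeal B ^ k)
  (hC2 : ∀ k, ∃ K, ∀ a : A, φ a ∈ maximalIdeal B ^ K → a ∈ maximalIdeal A ^ k)
  [MulSemiringAction D (AdicCompletion (maximalIdeal B) B)]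
  (hσ : ∀ (g : D) (b : B), g • (of (maximalIdeal B) B b) = of (maximalIdeal B) B (act g b))
  (f : AdicCompletion (maximalIdeal A) A →+* AdicCompletion (maximalIdeal B) B)
  (hf : ∀ a, f (of (maximalIdeal A) A a) = of (maximalIdeal B) B (φ a))

include hφ hact_local hact_φ hσ hf in
theorem cpl_fixed (g : D) (c : AdicCompletion (maximalIdeal A) A) : g • f c = f c := by
  have hA : (maximalIdeal A).FG := (isNoetherianRing_iff_ideal_fg A).mp inferInstance _
  have hB : (maximalIdeal B).FG := (isNoetherianRing_iff_ideal_fg B).mp inferInstance _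
  apply ext_evalₐ
  intro k
  obtain ⟨a, ha⟩ := Ideal.Quotient.mk_surjective (evalₐ (maximalIdeal A) k c)
  have h1 := evalₐ_map (maximalIdeal A) (maximalIdeal B) hA f φ hf hφ k c a ha.symm
  have h2 := evalₐ_map (maximalIdeal B) (maximalIdeal B) hB
    (MulSemiringAction.toRingHom D _ g) (act g) (hσ g) (hact_local g) k (f c) (φ a) h1
  rw [MulSemiringAction.toRingHom_apply, hact_φ] at h2
  rw [h2, h1]

include hφ hact_local hC1 hC2 hσ hf in
theorem cpl_invariant (x : AdicCompletion (maximalIdeal B) B) (hx : ∀ g : D, g • x = x) :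
    ∃ c, f c = x := by
  classical
  have hA : (maximalIdeal A).FG := (isNoetherianRing_iff_ideal_fg A).mp inferInstance _
  have hB : (maximalIdeal B).FG := (isNoetherianRing_iff_ideal_fg B).mp inferInstance _
  -- representatives of x
  have hb : ∀ j, ∃ b : B, evalₐ (maximalIdeal B) j x = Ideal.Quotient.mk _ b := fun j => by
    obtain ⟨b, hb⟩ := Ideal.Quotient.mk_surjective (evalₐ (maximalIdeal B) j x)
    exact ⟨b, hb.symm⟩
  choose b hb using hb
  have hbfix : ∀ j g, act g (b j) - b j ∈ maximalIdeal B ^ j := by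
    intro j g
    have h2 := evalₐ_map (maximalIdeal B) (maximalIdeal B) hB
      (MulSemiringAction.toRingHom D _ g) (act g) (hσ g) (hact_local g) j x (b j) (hb j)
    rw [MulSemiringAction.toRingHom_apply, hx g, hb j] at h2
    exact Ideal.Quotient.eq.mp h2.symm
  choose N hN using hC1
  have ha : ∀ k, ∃ a : A, evalₐ (maximalIdeal B) k x = Ideal.Quotient.mk _ (φ a) := by
    intro k
    obtain ⟨a, ha⟩ := hN k (b (max (N k) k)) (fun g =>
      Ideal.pow_le_pow_right (le_max_left _ _) (hbfix _ g))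
    refine ⟨a, ?_⟩
    rw [evalₐ_of_le (maximalIdeal B) hB (le_max_right (N k) k) x _ (hb _)]
    exact Ideal.Quotient.eq.mpr ha
  choose a ha using ha
  choose K hK using hC2
  let K' : ℕ → ℕ := fun k => (Finset.range (k + 1)).sup (fun j => max (K j) j)
  have hK'1 : ∀ k, K k ≤ K' k := fun k =>
    le_trans (le_max_left _ _)
      (Finset.le_sup (f := fun j => max (K j) j) (Finset.self_mem_range_succ k))
  have hK'2 : ∀ k, k ≤ K' k := fun k =>
    le_trans (le_max_right _ _)
      (Finset.le_sup (f := fun j => max (K j) j) (Finset.self_mem_range_succ k))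
  have hK'mono : ∀ {m l}, m ≤ l → K' m ≤ K' l := fun {m l} hml =>
    Finset.sup_mono (Finset.range_mono (by omega))
  have hcauchy : IsAdicCauchy (maximalIdeal A) A (fun k => a (K' k)) := by
    intro m l hml
    rw [SModEq.sub_mem]
    have h1 : φ (a (K' m) - a (K' l)) ∈ maximalIdeal B ^ K' m := by
      have e1 := ha (K' m)
      have e2 := evalₐ_of_le (maximalIdeal B) hB (hK'mono hml) x _ (ha (K' l))
      rw [map_sub]
      exact Ideal.Quotient.eq.mp (e1.symm.trans e2)
    have h2 := hK m _ (Ideal.pow_le_pow_right (hK'1 m) h1)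
    simpa using h2
  refine ⟨AdicCompletion.mk (maximalIdeal A) A ⟨fun k => a (K' k), hcauchy⟩, ?_⟩
  apply ext_evalₐ
  intro k
  have h1 := evalₐ_map (maximalIdeal A) (maximalIdeal B) hA f φ hf hφ k
    (AdicCompletion.mk (maximalIdeal A) A ⟨fun k => a (K' k), hcauchy⟩) (a (K' k))
    (evalₐ_mk _ k _)
  rw [h1]
  exact (evalₐ_of_le (maximalIdeal B) hB (hK'2 k) x _ (ha (K' k))).symm

end Main

end Groth.Agent.Lib.Helper84.CplInv
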