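import Mathlib
import Groth.Agent.Lib.Helper84.CplInv1

/-!
# Localizing a finite invariant extension at a stable prime (helper84)

`S1 → S` finite injective, `S1` Noetherian, `S` a domain, a finite group `D` acting on `S` by
`S1`-algebra automorphisms with invariants exactly `S1`, `Q` a `D`-stable prime of `S`,
`q' = Q ∩ S1`.  Then `B = S_Q` is finite over `A' = (S1)_{q'}`, the action of `D` extends to `B`
(`act`) with invariants `A'`, and the Artin–Rees statements `L1`, `L2` hold for `ψ : A' → B`.
-/

set_option autoImplicit false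
set_option linter.unusedSectionVars false

namespace Groth.Agent.Lib.Helper84.CplInv

open IsLocalRing

section Loc

variable {S1 S : Type*} [CommRing S1] [CommRing S] [IsDomain S] [Algebra S1 S]
  {D : Type*} [Group D] [MulSemiringAction D S]
  (Q : Ideal S) [Q.IsPrime] (hQ : ∀ (g : D) (s : S), s ∈ Q → g • s ∈ Q)

include hQ in
theorem smul_mem_iff (g : D) (s : S) : g • s ∈ Q ↔ s ∈ Q := by
  refine ⟨fun h => ?_, hQ g s⟩
  have := hQ g⁻¹ _ h
  rwa [inv_smul_smul] at this

include hQ in
theorem comap_toRingHom (g : D) : Q = Q.comap (MulSemiringAction.toRingHom D S g) := by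
  ext s
  rw [Ideal.mem_comap, MulSemiringAction.toRingHom_apply, smul_mem_iff Q hQ]

/-- the action on the localization -/
noncomputable def act (g : D) : Localization.AtPrime Q →+* Localization.AtPrime Q :=
  Localization.localRingHom Q Q (MulSemiringAction.toRingHom D S g) (comap_toRingHom Q hQ g)

theorem act_algebraMap (g : D) (s : S) :
    act Q hQ g (algebraMap S (Localization.AtPrime Q) s) =
      algebraMap S (Localization.AtPrime Q) (g • s) := by
  rw [act, Localization.localRingHom_to_map, MulSemiringAction.toRingHom_apply]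

theorem act_mem_maximalIdeal (g : D) (b : Localization.AtPrime Q)
    (hb : b ∈ maximalIdeal (Localization.AtPrime Q)) :
    act Q hQ g b ∈ maximalIdeal (Localization.AtPrime Q) := by
  have : IsLocalHom (act Q hQ g) := Localization.isLocalHom_localRingHom _ _ _ _
  rw [mem_maximalIdeal, mem_nonunits_iff] at hb ⊢
  exact fun hu => hb (isUnit_of_map_unit (act Q hQ g) b hu)

/-- the map `A' → B` -/
noncomputable def psi : Localization.AtPrime (Q.comap (algebraMap S1 S)) →+* Localization.AtPrime Q :=
  Localization.localRingHom (Q.comap (algebraMap S1 S)) Q (algebraMap S1 S) rfl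

theorem psi_algebraMap (s1 : S1) :
    psi (S1 := S1) Q (algebraMap S1 _ s1) = algebraMap S (Localization.AtPrime Q) (algebraMap S1 S s1) := by
  rw [psi, Localization.localRingHom_to_map]

theorem psi_mem_maximalIdeal (a' : Localization.AtPrime (Q.comap (algebraMap S1 S)))
    (ha : a' ∈ maximalIdeal _) : psi (S1 := S1) Q a' ∈ maximalIdeal (Localization.AtPrime Q) := by
  have : IsLocalHom (psi (S1 := S1) Q) := Localization.isLocalHom_localRingHom _ _ _ _
  rw [mem_maximalIdeal, mem_nonunits_iff] at ha ⊢
  exact fun hu => ha (isUnit_of_map_unit (psi (S1 := S1) Q) a' hu)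

variable [SMulCommClass D S1 S]

theorem act_psi (g : D) (a' : Localization.AtPrime (Q.comap (algebraMap S1 S))) :
    act Q hQ g (psi (S1 := S1) Q a') = psi (S1 := S1) Q a' := by
  have : (act Q hQ g).comp (psi (S1 := S1) Q) = psi (S1 := S1) Q := by
    apply IsLocalization.ringHom_ext (Q.comap (algebraMap S1 S)).primeCompl
    ext s1
    simp only [RingHom.comp_apply]
    rw [psi_algebraMap, act_algebraMap, smul_algebraMap]
  exact RingHom.congr_fun this a'

variable [Finite D] [IsNoetherianRing S1] [Module.Finite S1 S]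
  (hinj : Function.Injective (algebraMap S1 S))
  (hinv : ∀ s : S, (∀ g : D, g • s = s) → ∃ s1 : S1, algebraMap S1 S s1 = s)

include hQ hinv in
/-- every element outside `Q` divides an element of `S1` outside `Q` -/
theorem exists_dvd_norm (s : S) (hs : s ∉ Q) :
    ∃ s1 : S1, s1 ∉ Q.comap (algebraMap S1 S) ∧ s ∣ algebraMap S1 S s1 := by
  classical
  cases nonempty_fintype D
  have hfix : ∀ g : D, g • (∏ h : D, h • s) = ∏ h : D, h • s := by
    intro g
    rw [Finset.smul_prod']
    simp only [smul_smul]
    exact Fintype.prod_equiv (Equiv.mulLeft g) _ _ (fun h => rfl)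
  obtain ⟨s1, hs1⟩ := hinv _ hfix
  refine ⟨s1, ?_, ?_⟩
  · rw [Ideal.mem_comap, hs1]
    intro hmem
    obtain ⟨h, -, hh⟩ := (Ideal.IsPrime.prod_mem_iff).mp hmem
    exact hs ((smul_mem_iff Q hQ h s).mp hh)
  · rw [hs1]
    have := Finset.dvd_prod_of_mem (fun h : D => h • s) (Finset.mem_univ (1 : D))
    simpa using this

include hQ hinv in
theorem isLocalization_B :
    IsLocalization (Algebra.algebraMapSubmonoid S (Q.comap (algebraMap S1 S)).primeCompl)
      (Localization.AtPrime Q) := by
  have hle : Algebra.algebraMapSubmonoid S (Q.comap (algebraMap S1 S)).primeCompl ≤ Q.primeCompl := by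
    rintro _ ⟨s1, hs1, rfl⟩
    exact hs1
  refine ⟨fun m => ?_, fun z => ?_, fun {x y} hxy => ?_⟩
  · exact IsLocalization.map_units (M := Q.primeCompl) _ ⟨m.1, hle m.2⟩
  · obtain ⟨⟨x, n⟩, hxn⟩ := IsLocalization.surj Q.primeCompl z
    obtain ⟨s1, hs1, n', hn'⟩ := exists_dvd_norm Q hQ hinv n.1 n.2
    refine ⟨⟨x * n', ⟨algebraMap S1 S s1, ⟨s1, hs1, rfl⟩⟩⟩, ?_⟩
    simp only at hxn ⊢
    rw [hn', map_mul, ← mul_assoc, hxn, map_mul]
  · obtain ⟨n, hn⟩ := (IsLocalization.eq_iff_exists Q.primeCompl _).mp hxy
    obtain ⟨s1, hs1, n', hn'⟩ := exists_dvd_norm Q hQ hinv n.1 n.2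
    refine ⟨⟨algebraMap S1 S s1, ⟨s1, hs1, rfl⟩⟩, ?_⟩
    simp only
    rw [hn', mul_comm (n : S) n', mul_assoc, mul_assoc, hn]

theorem algebraMap_B_injective : Function.Injective (algebraMap S (Localization.AtPrime Q)) :=
  IsLocalization.injective _ Q.primeCompl_le_nonZeroDivisors

include hinj in
theorem psi_injective : Function.Injective (psi (S1 := S1) Q) := by
  rw [injective_iff_map_eq_zero]
  intro a' ha'
  obtain ⟨s1, t1, rfl⟩ := IsLocalization.exists_mk'_eq (Q.comap (algebraMap S1 S)).primeCompl a'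
  have h1 : psi (S1 := S1) Q (algebraMap S1 _ s1) = 0 := by
    rw [← IsLocalization.mk'_spec (M := (Q.comap (algebraMap S1 S)).primeCompl) _ s1 t1, map_mul,
      ha', zero_mul]
  rw [psi_algebraMap, ← map_zero (algebraMap S (Localization.AtPrime Q))] at h1
  have h2 := hinj ((algebraMap_B_injective Q h1).trans (map_zero _).symm)
  rw [h2, IsLocalization.mk'_zero]

include hQ hinj hinv in
theorem L1L2 :
    (∀ k, ∃ N, ∀ b : Localization.AtPrime Q,
      (∀ g : D, act Q hQ g b - b ∈ maximalIdeal (Localization.AtPrime Q) ^ N) →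
      ∃ a' : Localization.AtPrime (Q.comap (algebraMap S1 S)),
        b - psi (S1 := S1) Q a' ∈ maximalIdeal (Localization.AtPrime Q) ^ k) ∧
    (∀ k, ∃ K, ∀ a' : Localization.AtPrime (Q.comap (algebraMap S1 S)),
      psi (S1 := S1) Q a' ∈ maximalIdeal (Localization.AtPrime Q) ^ K →
      a' ∈ maximalIdeal (Localization.AtPrime (Q.comap (algebraMap S1 S))) ^ k) := by
  let q' := Q.comap (algebraMap S1 S)
  let A' := Localization.AtPrime q'
  let B := Localization.AtPrime Q
  let : Algebra A' B := (psi (S1 := S1) Q).toAlgebra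
  have hψ : algebraMap A' B = psi (S1 := S1) Q := RingHom.algebraMap_toAlgebra _
  have : IsScalarTower S1 A' B := IsScalarTower.of_algebraMap_eq fun s1 => by
    rw [hψ, psi_algebraMap, IsScalarTower.algebraMap_apply S1 S B]
  have : IsLocalHom (algebraMap A' B) := by
    rw [hψ]; exact Localization.isLocalHom_localRingHom _ _ _ _
  have := isLocalization_B (S1 := S1) Q hQ hinv
  have : Module.Finite A' B := Module.Finite.of_isLocalization S1 S q'.primeCompl
  -- linear maps
  let act' : D → (B →ₗ[A'] B) := fun g =>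
    { toFun := act Q hQ g
      map_add' := map_add _
      map_smul' := fun a' b => by
        rw [Algebra.smul_def, map_mul, hψ, act_psi, RingHom.id_apply, Algebra.smul_def, hψ] }
  have hinvB : ∀ b : B, (∀ g, act' g b = b) → ∃ a' : A', algebraMap A' B a' = b := by
    intro b hb
    obtain ⟨s, m, rfl⟩ := IsLocalization.exists_mk'_eq
      (Algebra.algebraMapSubmonoid S q'.primeCompl) b
    obtain ⟨s1', hs1', hm⟩ := m.2
    have hfix : ∀ g : D, g • s = s := by
      intro g
      have h1 := hb g
      change act Q hQ g _ = _ at h1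
      have h2 : act Q hQ g (IsLocalization.mk' B s m) * algebraMap S B (m : S) =
          algebraMap S B (g • s) := by
        have : algebraMap S B (m : S) = act Q hQ g (algebraMap S B (m : S)) := by
          rw [act_algebraMap, ← hm, smul_algebraMap]
        rw [this, ← map_mul, IsLocalization.mk'_spec, act_algebraMap]
      rw [h1, IsLocalization.mk'_spec] at h2
      exact (algebraMap_B_injective Q h2).symm
    obtain ⟨s1, hs1⟩ := hinv s hfix
    refine ⟨IsLocalization.mk' A' s1 ⟨s1', hs1'⟩, ?_⟩
    have hu : IsUnit (algebraMap S B (m : S)) :=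
      IsLocalization.map_units (M := Algebra.algebraMapSubmonoid S q'.primeCompl) B m
    apply hu.mul_right_cancel
    rw [IsLocalization.mk'_spec, ← hm, ← psi_algebraMap, ← hψ, ← map_mul,
      IsLocalization.mk'_spec, hψ, psi_algebraMap, hs1]
  refine ⟨fun k => ?_, fun k => ?_⟩
  · obtain ⟨N, hN⟩ := core_AR act' hinvB k
    refine ⟨N, fun b hb => ?_⟩
    obtain ⟨a', ha'⟩ := hN b hb
    exact ⟨a', by rwa [hψ] at ha'⟩
  · obtain ⟨K, hK⟩ := core_AR2 (A' := A') (B := B)
      (by rw [hψ]; exact psi_injective Q hinj) k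
    refine ⟨K, fun a' ha' => hK a' (by rwa [hψ])⟩

end Loc

end Groth.Agent.Lib.Helper84.CplInv
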