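import Mathlib
import Groth.Prelude.Def_Pi1

/-!
# Invariants of a subgroup are standard étale over the invariants of the group (helper84)

Let a finite group `G` act on a commutative ring `R`, let `H ≤ G`, `B = R^G`, `C = R^H`, and let
`c ∈ C` and a prime `q` of `R` be such that `c - g • c ∉ q` for all `g ∉ H`.  With
`P = ∏_{t ∈ G/H} (X - t c) ∈ B[X]` and `f = P'(c) ∈ C ∖ q`, Lagrange interpolation gives an
isomorphism of `B`-algebras `C_f ≅ (B[X]/P)_{P'}`; in particular `C_f` is étale over `B`.
-/

set_option autoImplicit false

universe u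

namespace Groth.Agent.Lib.Helper84.DecompEtale

open Polynomial

section Conj

variable {G R : Type u} [Group G] [CommRing R] [MulSemiringAction G R]
variable (H : Subgroup G)

instance : IsScalarTower (FixedPoints.subring R G) (FixedPoints.subring R H) R :=
  IsScalarTower.of_algebraMap_eq fun _ => rfl

/-- the conjugates of an `H`-invariant element, indexed by the cosets of `H` -/
noncomputable def conj (a : FixedPoints.subring R H) (t : G ⧸ H) : R :=
  Quotient.liftOn' t (fun g => g • (a : R)) (fun g₁ g₂ h12 => by
    rw [QuotientGroup.leftRel_apply] at h12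
    have h : (g₁⁻¹ * g₂) • (a : R) = a := a.2 ⟨g₁⁻¹ * g₂, h12⟩
    calc g₁ • (a : R) = g₁ • ((g₁⁻¹ * g₂) • (a : R)) := by rw [h]
      _ = g₂ • (a : R) := by rw [smul_smul, mul_inv_cancel_left])

theorem conj_mk (a : FixedPoints.subring R H) (g : G) :
    conj H a (QuotientGroup.mk g) = g • (a : R) := rfl

theorem smul_conj (g : G) (a : FixedPoints.subring R H) (t : G ⧸ H) :
    g • conj H a t = conj H a (g • t) := by
  induction t using QuotientGroup.induction_on with
  | H g' =>
    change g • (g' • (a : R)) = (g * g') • (a : R)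
    rw [smul_smul]

theorem conj_one (t : G ⧸ H) : conj H (1 : FixedPoints.subring R H) t = 1 := by
  induction t using QuotientGroup.induction_on with
  | H g' => rw [conj_mk]; simp

theorem conj_add (a b : FixedPoints.subring R H) (t : G ⧸ H) :
    conj H (a + b) t = conj H a t + conj H b t := by
  induction t using QuotientGroup.induction_on with
  | H g' => simp only [conj_mk]; push_cast; rw [smul_add]

theorem conj_mul (a b : FixedPoints.subring R H) (t : G ⧸ H) :
    conj H (a * b) t = conj H a t * conj H b t := by
  induction t using QuotientGroup.induction_on with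
  | H g' => simp only [conj_mk]; push_cast; rw [smul_mul']

theorem conj_algebraMap (b : FixedPoints.subring R G) (t : G ⧸ H) :
    conj H (algebraMap (FixedPoints.subring R G) (FixedPoints.subring R H) b) t = (b : R) := by
  induction t using QuotientGroup.induction_on with
  | H g' =>
    rw [conj_mk]
    exact b.2 g'

variable [Fintype G]

noncomputable local instance : Fintype (G ⧸ H) := Fintype.ofFinite _

noncomputable local instance : DecidableEq (G ⧸ H) := Classical.decEq _

variable (c : FixedPoints.subring R H)

/-- the linear factor `X - t c` -/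
noncomputable def lin (t : G ⧸ H) : R[X] := X - C (conj H c t)

/-- `P = ∏_t (X - t c)` -/
noncomputable def PR : R[X] := ∏ t : G ⧸ H, lin H c t

/-- `P_t = ∏_{t' ≠ t} (X - t' c)` -/
noncomputable def Pt (t : G ⧸ H) : R[X] := ∏ t' ∈ Finset.univ.erase t, lin H c t'

/-- the Lagrange interpolation polynomial `L(a) = ∑_t (t a) P_t` -/
noncomputable def LR (a : FixedPoints.subring R H) : R[X] :=
  ∑ t : G ⧸ H, C (conj H a t) * Pt H c t

theorem smul_lin (g : G) (t : G ⧸ H) : g • lin H c t = lin H c (g • t) := by
  unfold lin
  rw [smul_sub, Polynomial.smul_X, Polynomial.smul_C, smul_conj]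

theorem lin_mul_Pt (t : G ⧸ H) : lin H c t * Pt H c t = PR H c := by
  unfold Pt PR
  exact Finset.mul_prod_erase _ _ (Finset.mem_univ t)

theorem smul_PR (g : G) : g • PR H c = PR H c := by
  unfold PR
  rw [Finset.smul_prod']
  simp only [smul_lin]
  exact Fintype.prod_equiv (MulAction.toPerm g) _ _ fun t => rfl

theorem smul_Pt (g : G) (t : G ⧸ H) : g • Pt H c t = Pt H c (g • t) := by
  unfold Pt
  rw [Finset.smul_prod']
  simp only [smul_lin]
  refine Finset.prod_equiv (MulAction.toPerm g) ?_ fun t' _ => rfl
  intro t'
  simp only [Finset.mem_erase, Finset.mem_univ, and_true, MulAction.toPerm_apply, ne_eq]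
  exact not_congr (smul_left_cancel_iff g).symm

theorem smul_LR (g : G) (a : FixedPoints.subring R H) : g • LR H c a = LR H c a := by
  unfold LR
  rw [Finset.smul_sum]
  simp only [smul_mul', Polynomial.smul_C, smul_conj, smul_Pt]
  exact Fintype.sum_equiv (MulAction.toPerm g) _ _ fun t => rfl

theorem derivative_PR : derivative (PR H c) = ∑ t : G ⧸ H, Pt H c t := by
  unfold PR Pt
  rw [derivative_prod_finset]
  refine Finset.sum_congr rfl fun t _ => ?_
  unfold lin
  rw [derivative_sub, derivative_X, derivative_C, sub_zero, mul_one]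

theorem PR_dvd_Pt_mul_Pt {t u : G ⧸ H} (htu : t ≠ u) : PR H c ∣ Pt H c t * Pt H c u := by
  have hu : Pt H c u = lin H c t * ∏ t' ∈ (Finset.univ.erase u).erase t, lin H c t' := by
    unfold Pt
    exact (Finset.mul_prod_erase _ _ (Finset.mem_erase.mpr ⟨htu, Finset.mem_univ t⟩)).symm
  rw [hu, ← mul_assoc, mul_comm (Pt H c t), lin_mul_Pt]
  exact dvd_mul_right _ _

theorem PR_monic : (PR H c).Monic := by
  unfold PR lin
  exact monic_prod_of_monic _ _ fun t _ => monic_X_sub_C _

theorem LR_one : LR H c 1 = derivative (PR H c) := by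
  unfold LR
  rw [derivative_PR]
  refine Finset.sum_congr rfl fun t _ => ?_
  rw [conj_one, C_1, one_mul]

theorem LR_add (a b : FixedPoints.subring R H) : LR H c (a + b) = LR H c a + LR H c b := by
  unfold LR
  rw [← Finset.sum_add_distrib]
  refine Finset.sum_congr rfl fun t _ => ?_
  rw [conj_add, C_add, add_mul]

theorem LR_algebraMap_mul (b : FixedPoints.subring R G) (a : FixedPoints.subring R H) :
    LR H c (algebraMap (FixedPoints.subring R G) (FixedPoints.subring R H) b * a)
      = C (b : R) * LR H c a := by
  unfold LR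
  rw [Finset.mul_sum]
  refine Finset.sum_congr rfl fun t _ => ?_
  rw [conj_mul, conj_algebraMap, C_mul, mul_assoc]

theorem PR_dvd_LR_mul (a b : FixedPoints.subring R H) :
    PR H c ∣ LR H c a * LR H c b - LR H c (a * b) * derivative (PR H c) := by
  rw [derivative_PR]
  unfold LR
  rw [Finset.sum_mul_sum, Finset.sum_mul_sum, ← Finset.sum_sub_distrib]
  refine Finset.dvd_sum fun t _ => ?_
  rw [← Finset.sum_sub_distrib]
  refine Finset.dvd_sum fun u _ => ?_
  by_cases htu : t = u
  · subst htu
    rw [conj_mul, C_mul]
    have : C (conj H a t) * Pt H c t * (C (conj H b t) * Pt H c t)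
        - C (conj H a t) * C (conj H b t) * Pt H c t * Pt H c t = 0 := by ring
    rw [this]
    exact dvd_zero _
  · have : C (conj H a t) * Pt H c t * (C (conj H b u) * Pt H c u)
        - C (conj H (a * b) t) * Pt H c t * Pt H c u
        = (C (conj H a t) * C (conj H b u) - C (conj H (a * b) t)) * (Pt H c t * Pt H c u) := by
      ring
    rw [this]
    exact Dvd.dvd.mul_left (PR_dvd_Pt_mul_Pt H c htu) _

theorem PR_dvd_LR_self : PR H c ∣ LR H c c - X * derivative (PR H c) := by
  rw [derivative_PR]
  unfold LR
  rw [Finset.mul_sum, ← Finset.sum_sub_distrib]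
  refine Finset.dvd_sum fun t _ => ?_
  have : C (conj H c t) * Pt H c t - X * Pt H c t = -(lin H c t * Pt H c t) := by
    unfold lin
    ring
  rw [this, lin_mul_Pt]
  exact (dvd_refl _).neg_right

theorem eval_lin_one : (lin H c (QuotientGroup.mk 1)).eval (c : R) = 0 := by
  unfold lin
  rw [eval_sub, eval_X, eval_C, conj_mk, one_smul, sub_self]

theorem eval_PR : (PR H c).eval (c : R) = 0 := by
  rw [← lin_mul_Pt H c (QuotientGroup.mk 1), eval_mul, eval_lin_one, zero_mul]

theorem eval_Pt_of_ne {t : G ⧸ H} (ht : t ≠ QuotientGroup.mk 1) :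
    (Pt H c t).eval (c : R) = 0 := by
  unfold Pt
  rw [eval_prod]
  exact Finset.prod_eq_zero (Finset.mem_erase.mpr ⟨ht.symm, Finset.mem_univ _⟩)
    (eval_lin_one H c)

theorem eval_derivative_PR :
    (derivative (PR H c)).eval (c : R) = (Pt H c (QuotientGroup.mk 1)).eval (c : R) := by
  rw [derivative_PR, eval_finsetSum]
  exact Finset.sum_eq_single _ (fun t _ ht => eval_Pt_of_ne H c ht)
    (fun h => absurd (Finset.mem_univ _) h)

theorem eval_LR (a : FixedPoints.subring R H) :
    (LR H c a).eval (c : R) = (a : R) * (derivative (PR H c)).eval (c : R) := by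
  rw [eval_derivative_PR]
  unfold LR
  rw [eval_finsetSum]
  rw [Finset.sum_eq_single (QuotientGroup.mk 1 : G ⧸ H)]
  · rw [eval_mul, eval_C, conj_mk, one_smul]
  · intro t _ ht
    rw [eval_mul, eval_Pt_of_ne H c ht, mul_zero]
  · intro h
    exact absurd (Finset.mem_univ _) h

theorem eval_derivative_PR_notMem (q : Ideal R) [q.IsPrime]
    (hc : ∀ g : G, g ∉ H → (c : R) - g • (c : R) ∉ q) :
    (derivative (PR H c)).eval (c : R) ∉ q := by
  rw [eval_derivative_PR]
  unfold Pt
  rw [eval_prod]
  intro hmem
  rw [Ideal.IsPrime.prod_mem_iff] at hmem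
  obtain ⟨t, ht, htq⟩ := hmem
  have ht1 : t ≠ QuotientGroup.mk 1 := (Finset.mem_erase.mp ht).1
  induction t using QuotientGroup.induction_on with
  | H g =>
    have hg : g ∉ H := by
      intro hg
      apply ht1
      rw [QuotientGroup.eq]
      simpa using hg
    apply hc g hg
    unfold lin at htq
    rwa [eval_sub, eval_X, eval_C, conj_mk] at htq

end Conj

section Lift

variable {G R : Type u} [Group G] [CommRing R] [MulSemiringAction G R]

/-- an invariant polynomial, as a polynomial over the invariants -/
noncomputable def liftInv (p : R[X]) (hp : ∀ g : G, g • p = p) :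
    (FixedPoints.subring R G)[X] :=
  p.toSubring (FixedPoints.subring R G) (by
    intro r hr
    obtain ⟨n, -, rfl⟩ := Polynomial.mem_coeffs_iff.mp hr
    intro g
    have := congrArg (fun p' : R[X] => p'.coeff n) (hp g)
    simpa [Polynomial.smul_eq_map] using this)

theorem map_liftInv (p : R[X]) (hp : ∀ g : G, g • p = p) :
    (liftInv p hp).map (FixedPoints.subring R G).subtype = p :=
  map_toSubring _ _ _

theorem map_subtype_injective :
    Function.Injective (Polynomial.map (FixedPoints.subring R G).subtype) :=
  Polynomial.map_injective _ Subtype.val_injective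

end Lift

section Main

variable {G R : Type u} [Group G] [Fintype G] [CommRing R] [MulSemiringAction G R]
variable (H : Subgroup G) (c : FixedPoints.subring R H)

/-- `P` over the invariants -/
noncomputable def PB : (FixedPoints.subring R G)[X] := liftInv (PR H c) (smul_PR H c)

/-- `L(a)` over the invariants -/
noncomputable def LB (a : FixedPoints.subring R H) : (FixedPoints.subring R G)[X] :=
  liftInv (LR H c a) (fun g => smul_LR H c g a)

theorem map_PB : (PB H c).map (FixedPoints.subring R G).subtype = PR H c := map_liftInv _ _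

theorem map_LB (a : FixedPoints.subring R H) :
    (LB H c a).map (FixedPoints.subring R G).subtype = LR H c a := map_liftInv _ _

theorem PB_monic : (PB H c).Monic := by
  unfold PB liftInv
  exact (monic_toSubring _ _ _).mpr (PR_monic H c)

theorem LB_one : LB H c 1 = derivative (PB H c) := by
  apply map_subtype_injective
  rw [map_LB, ← derivative_map, map_PB, LR_one]

theorem LB_add (a b : FixedPoints.subring R H) : LB H c (a + b) = LB H c a + LB H c b := by
  apply map_subtype_injective
  rw [Polynomial.map_add, map_LB, map_LB, map_LB, LR_add]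

theorem LB_algebraMap_mul (b : FixedPoints.subring R G) (a : FixedPoints.subring R H) :
    LB H c (algebraMap (FixedPoints.subring R G) (FixedPoints.subring R H) b * a)
      = C b * LB H c a := by
  apply map_subtype_injective
  rw [Polynomial.map_mul, map_LB, map_LB, map_C, LR_algebraMap_mul]
  rfl

theorem PB_dvd_LB_mul (a b : FixedPoints.subring R H) :
    PB H c ∣ LB H c a * LB H c b - LB H c (a * b) * derivative (PB H c) := by
  rw [← Polynomial.map_dvd_map (FixedPoints.subring R G).subtype
    (Subring.subtype_injective _) (PB_monic H c)]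
  rw [Polynomial.map_sub, Polynomial.map_mul, Polynomial.map_mul, ← derivative_map, map_LB,
    map_LB, map_LB, map_PB]
  exact PR_dvd_LR_mul H c a b

theorem PB_dvd_LB_self : PB H c ∣ LB H c c - X * derivative (PB H c) := by
  rw [← Polynomial.map_dvd_map (FixedPoints.subring R G).subtype
    (Subring.subtype_injective _) (PB_monic H c)]
  rw [Polynomial.map_sub, Polynomial.map_mul, ← derivative_map, map_LB, map_PB, map_X]
  exact PR_dvd_LR_self H c

/-- evaluation in the `H`-invariants, computed in `R` -/
theorem coe_aeval (p : (FixedPoints.subring R G)[X]) (x : FixedPoints.subring R H) :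
    ((aeval x p : FixedPoints.subring R H) : R)
      = (p.map (FixedPoints.subring R G).subtype).eval (x : R) := by
  have h := Polynomial.aeval_algHom_apply
    (IsScalarTower.toAlgHom (FixedPoints.subring R G) (FixedPoints.subring R H) R) x p
  rw [eval_map]
  exact h.symm

theorem aeval_PB : aeval c (PB H c) = 0 := by
  apply Subtype.ext
  rw [coe_aeval, map_PB, eval_PR]
  rfl

/-- the element `f = P'(c)` -/
noncomputable def f : FixedPoints.subring R H := aeval c (derivative (PB H c))

theorem coe_f : ((f H c : FixedPoints.subring R H) : R) = (derivative (PR H c)).eval (c : R) := by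
  unfold f
  rw [coe_aeval, ← derivative_map, map_PB]

theorem aeval_LB (a : FixedPoints.subring R H) : aeval c (LB H c a) = a * f H c := by
  apply Subtype.ext
  rw [coe_aeval, map_LB, eval_LR]
  push_cast
  rw [coe_f]

/-- the standard étale pair `(P, P')` -/
noncomputable def pair : StandardEtalePair (FixedPoints.subring R G) where
  f := PB H c
  monic_f := PB_monic H c
  g := derivative (PB H c)
  cond := ⟨1, 0, 1, by simp⟩

/-- the inverse of `P'(X)` in the standard étale algebra -/
noncomputable def uE : (pair H c).Ring := ↑((pair H c).hasMap_X.2.unit⁻¹)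

theorem gX_mul_uE : aeval (pair H c).X (derivative (PB H c)) * uE H c = 1 :=
  (pair H c).hasMap_X.2.mul_val_inv

theorem aeval_X_PB : aeval (pair H c).X (PB H c) = 0 := (pair H c).hasMap_X.1

theorem aeval_X_of_dvd {p : (FixedPoints.subring R G)[X]} (hp : PB H c ∣ p) :
    aeval (pair H c).X p = 0 := by
  obtain ⟨q, rfl⟩ := hp
  rw [map_mul, aeval_X_PB, zero_mul]

/-- the map `a ↦ L(a)(X) / P'(X)` -/
noncomputable def psi0Fun (a : FixedPoints.subring R H) : (pair H c).Ring :=
  aeval (pair H c).X (LB H c a) * uE H c

theorem psi0Fun_one : psi0Fun H c 1 = 1 := by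
  unfold psi0Fun
  rw [LB_one, gX_mul_uE]

theorem psi0Fun_mul (a b : FixedPoints.subring R H) :
    psi0Fun H c (a * b) = psi0Fun H c a * psi0Fun H c b := by
  unfold psi0Fun
  have h := aeval_X_of_dvd H c (PB_dvd_LB_mul H c a b)
  rw [map_sub, map_mul, map_mul, sub_eq_zero] at h
  have hu := gX_mul_uE H c
  calc aeval (pair H c).X (LB H c (a * b)) * uE H c
      = aeval (pair H c).X (LB H c (a * b))
          * (aeval (pair H c).X (derivative (PB H c)) * uE H c) * uE H c := by
        rw [hu, mul_one]
    _ = (aeval (pair H c).X (LB H c (a * b)) * aeval (pair H c).X (derivative (PB H c)))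
          * uE H c * uE H c := by ring
    _ = aeval (pair H c).X (LB H c a) * uE H c * (aeval (pair H c).X (LB H c b) * uE H c) := by
        rw [← h]; ring

theorem psi0Fun_add (a b : FixedPoints.subring R H) :
    psi0Fun H c (a + b) = psi0Fun H c a + psi0Fun H c b := by
  unfold psi0Fun
  rw [LB_add, map_add, add_mul]

theorem psi0Fun_algebraMap (b : FixedPoints.subring R G) :
    psi0Fun H c (algebraMap (FixedPoints.subring R G) (FixedPoints.subring R H) b)
      = algebraMap (FixedPoints.subring R G) (pair H c).Ring b := by
  unfold psi0Fun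
  have h := LB_algebraMap_mul H c b 1
  rw [mul_one] at h
  rw [h, LB_one, map_mul, aeval_C, mul_assoc, gX_mul_uE, mul_one]

/-- `ψ₀ : C → E` as an algebra map -/
noncomputable def psi0 : FixedPoints.subring R H →ₐ[FixedPoints.subring R G] (pair H c).Ring where
  toFun := psi0Fun H c
  map_one' := psi0Fun_one H c
  map_mul' := psi0Fun_mul H c
  map_zero' := by
    have h := psi0Fun_add H c 0 0
    rw [add_zero] at h
    exact left_eq_add.mp h
  map_add' := psi0Fun_add H c
  commutes' := psi0Fun_algebraMap H c

theorem psi0_c : psi0 H c c = (pair H c).X := by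
  change psi0Fun H c c = _
  unfold psi0Fun
  have h := aeval_X_of_dvd H c (PB_dvd_LB_self H c)
  rw [map_sub, map_mul, aeval_X, sub_eq_zero] at h
  rw [h, mul_assoc, gX_mul_uE, mul_one]

theorem psi0_f : psi0 H c (f H c) = aeval (pair H c).X (derivative (PB H c)) := by
  unfold f
  rw [← Polynomial.aeval_algHom_apply, psi0_c]

theorem isUnit_psi0_f : IsUnit (psi0 H c (f H c)) := by
  rw [psi0_f]
  exact (pair H c).hasMap_X.2

/-- the canonical map `C → C_f` as a map of algebras over the invariants -/
noncomputable def iota :
    FixedPoints.subring R H →ₐ[FixedPoints.subring R G] Localization.Away (f H c) :=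
  IsScalarTower.toAlgHom _ _ _

theorem iota_apply (a : FixedPoints.subring R H) :
    iota H c a = algebraMap (FixedPoints.subring R H) (Localization.Away (f H c)) a := rfl

theorem hasMap_iota_c : (pair H c).HasMap (iota H c c) := by
  constructor
  · change aeval (iota H c c) (PB H c) = 0
    rw [Polynomial.aeval_algHom_apply, aeval_PB, map_zero]
  · change IsUnit (aeval (iota H c c) (derivative (PB H c)))
    rw [Polynomial.aeval_algHom_apply]
    exact IsLocalization.Away.algebraMap_isUnit (f H c)

/-- `φ : E → C_f`, `X ↦ c` -/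
noncomputable def phi :
    (pair H c).Ring →ₐ[FixedPoints.subring R G] Localization.Away (f H c) :=
  (pair H c).lift (iota H c c) (hasMap_iota_c H c)

theorem phi_X : phi H c (pair H c).X = iota H c c := (pair H c).lift_X _ _

/-- `ψ : C_f → E` -/
noncomputable def psi :
    Localization.Away (f H c) →ₐ[FixedPoints.subring R G] (pair H c).Ring where
  toRingHom := IsLocalization.Away.lift (f H c) (g := (psi0 H c : _ →+* (pair H c).Ring))
    (isUnit_psi0_f H c)
  commutes' := fun b => by
    rw [IsScalarTower.algebraMap_apply (FixedPoints.subring R G) (FixedPoints.subring R H)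
      (Localization.Away (f H c))]
    change (IsLocalization.Away.lift (f H c) (g := (psi0 H c : _ →+* (pair H c).Ring))
      (isUnit_psi0_f H c)) _ = _
    rw [IsLocalization.Away.lift_eq]
    exact (psi0 H c).commutes b

theorem psi_iota (a : FixedPoints.subring R H) : psi H c (iota H c a) = psi0 H c a := by
  change (IsLocalization.Away.lift (f H c) (g := (psi0 H c : _ →+* (pair H c).Ring))
      (isUnit_psi0_f H c)) _ = _
  rw [iota_apply, IsLocalization.Away.lift_eq]
  rfl

theorem psi_comp_phi : (psi H c).comp (phi H c) = AlgHom.id _ _ := by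
  apply StandardEtalePair.hom_ext
  rw [AlgHom.comp_apply, phi_X, psi_iota, psi0_c]
  rfl

theorem phi_psi0 (a : FixedPoints.subring R H) : phi H c (psi0 H c a) = iota H c a := by
  have hunit : IsUnit (iota H c (f H c)) := IsLocalization.Away.algebraMap_isUnit (f H c)
  apply hunit.mul_right_cancel
  have h1 : iota H c (f H c) = phi H c (aeval (pair H c).X (derivative (PB H c))) := by
    rw [← Polynomial.aeval_algHom_apply, phi_X]
    unfold f
    rw [Polynomial.aeval_algHom_apply]
  rw [← map_mul, ← aeval_LB, h1, ← map_mul]
  change phi H c (psi0Fun H c a * _) = _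
  unfold psi0Fun
  rw [mul_assoc, mul_comm (uE H c), gX_mul_uE, mul_one, ← Polynomial.aeval_algHom_apply, phi_X,
    Polynomial.aeval_algHom_apply]

theorem phi_comp_psi : (phi H c).comp (psi H c) = AlgHom.id _ _ := by
  apply AlgHom.coe_ringHom_injective
  apply IsLocalization.ringHom_ext (Submonoid.powers (f H c))
  ext a
  change phi H c (psi H c (iota H c a)) = iota H c a
  rw [psi_iota, phi_psi0]

/-- **Lagrange interpolation isomorphism** `E ≅ C_f`. -/
noncomputable def equiv :
    (pair H c).Ring ≃ₐ[FixedPoints.subring R G] Localization.Away (f H c) :=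
  AlgEquiv.ofAlgHom (phi H c) (psi H c) (phi_comp_psi H c) (psi_comp_phi H c)

/-- If `c ∈ R^H` satisfies `c - g c ∉ q` for all `g ∉ H`, then `R^H` is étale over `R^G` on a
principal open neighbourhood of `q ∩ R^H`. -/
theorem exists_etale_away (q : Ideal R) [q.IsPrime]
    (hc : ∀ g : G, g ∉ H → (c : R) - g • (c : R) ∉ q) :
    ∃ f' : FixedPoints.subring R H, (f' : R) ∉ q ∧
      Algebra.Etale (FixedPoints.subring R G) (Localization.Away f') :=
  ⟨f H c, by rw [coe_f]; exact eval_derivative_PR_notMem H c q hc,
    Algebra.Etale.of_equiv (equiv H c)⟩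

end Main

end Groth.Agent.Lib.Helper84.DecompEtale
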