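import Mathlib
import Groth.Prelude.Def_Pi1
import Groth.Agent.Lib.Helper84.DecompEtale

/-!
# Invariants separating a prime from its conjugates; traces over cosets (helper84)

For a finite group `G` acting on `R`, a prime `q` and a subgroup `H ⊇ Stab(q)`:
* `exists_sep`: there is `c ∈ R^H` with `c ∉ q` and `g • c ∈ q` for all `g ∉ H`;
* `tr H a = ∑_{t ∈ G/H} t a ∈ R^G` and `tr_sub_mem`: `tr H a ≡ a mod q` when `g • a ∈ q` for `g ∉ H`;
* `exists_frac`: every `x ∈ R^H` is congruent modulo `q` to a fraction `b / t` with `b, t ∈ R^G`,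
  `t ∉ q` (trivial residue field extension).
-/

set_option autoImplicit false

universe u

namespace Groth.Agent.Lib.Helper84.SepInv

open Polynomial
open scoped Pointwise

/-- an element not stabilizing `q` moves some element outside `q` into `q` -/
theorem exists_smul_mem_notMem {G R : Type*} [Group G] [Finite G] [CommRing R]
    [MulSemiringAction G R] (q : Ideal R) (g : G) (hg : g • q ≠ q) :
    ∃ x : R, g • x ∈ q ∧ x ∉ q := by
  by_contra hcon
  push Not at hcon
  have key : ∀ (k : ℕ) (x : R), g ^ (k + 1) • x ∈ q → g • x ∈ q := by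
    intro k
    induction k with
    | zero => intro x hx; simpa using hx
    | succ k ih =>
      intro x hx
      apply ih
      apply hcon
      rwa [← mul_smul, ← pow_succ']
  have H2 : ∀ x : R, x ∈ q → g • x ∈ q := by
    intro x hx
    have hpos : 0 < orderOf g := orderOf_pos g
    obtain ⟨k, hk⟩ := Nat.exists_eq_succ_of_ne_zero hpos.ne'
    apply key k
    rw [← Nat.succ_eq_add_one, ← hk, pow_orderOf_eq_one, one_smul]
    exact hx
  apply hg
  ext y
  rw [Ideal.mem_pointwise_smul_iff_inv_smul_mem]
  constructor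
  · intro h
    have := H2 _ h
    rwa [smul_inv_smul] at this
  · intro h
    apply hcon
    rwa [smul_inv_smul]

/-- an `H`-invariant outside `q` all of whose conjugates by elements outside `H` lie in `q` -/
theorem exists_sep {G R : Type*} [Group G] [Fintype G] [CommRing R] [MulSemiringAction G R]
    (q : Ideal R) [q.IsPrime] (H : Subgroup G) (hD : MulAction.stabilizer G q ≤ H) :
    ∃ c : FixedPoints.subring R ↥H, (c : R) ∉ q ∧ ∀ g : G, g ∉ H → g • (c : R) ∈ q := by
  classical
  have hx : ∀ g : G, g ∉ H → ∃ x : R, g • x ∈ q ∧ x ∉ q := by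
    intro g hg
    exact exists_smul_mem_notMem q g (fun h => hg (hD (MulAction.mem_stabilizer_iff.mpr h)))
  choose! x hx1 hx2 using hx
  let S : Finset G := Finset.univ.filter (fun g => g ∉ H)
  let u : R := ∏ g ∈ S, x g
  have hu : u ∉ q := by
    intro h
    obtain ⟨g, hg, hgq⟩ := (Ideal.IsPrime.prod_mem_iff).mp h
    exact hx2 g (Finset.mem_filter.mp hg).2 hgq
  have hgu : ∀ g : G, g ∉ H → g • u ∈ q := by
    intro g hg
    change g • (∏ g' ∈ S, x g') ∈ q
    rw [Finset.smul_prod']
    exact (Ideal.IsPrime.prod_mem_iff).mpr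
      ⟨g, Finset.mem_filter.mpr ⟨Finset.mem_univ _, hg⟩, hx1 g hg⟩
  have hghu : ∀ g : G, g ∉ H → ∀ h : ↥H, g • ((h : G) • u) ∈ q := by
    intro g hg h
    rw [smul_smul]
    apply hgu
    intro hgh
    apply hg
    have := H.mul_mem hgh (H.inv_mem h.2)
    simpa using this
  have : Nontrivial R := ⟨⟨u, 0, fun h => hu (h ▸ q.zero_mem)⟩⟩
  let π := Ideal.Quotient.mk q
  let F : R[X] := ∏ h : ↥H, (X - C ((h : G) • u))
  have hmonic : F.Monic := monic_prod_of_monic _ _ (fun _ _ => monic_X_sub_C _)
  have hdeg : F.natDegree = Fintype.card ↥H := by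
    change (∏ h : ↥H, (X - C ((h : G) • u))).natDegree = _
    rw [natDegree_prod_of_monic _ _ (fun _ _ => monic_X_sub_C _)]
    simp
  have hinv : ∀ h' : ↥H, h' • F = F := by
    intro h'
    change h' • (∏ j : ↥H, (X - C ((j : G) • u))) = ∏ j : ↥H, (X - C ((j : G) • u))
    rw [Finset.smul_prod']
    simp only [smul_sub, Polynomial.smul_X, Polynomial.smul_C]
    exact Fintype.prod_equiv (Equiv.mulLeft h') _ _ fun j => by
      change X - C ((h' : G) • ((j : G) • u)) = X - C (((h' * j : ↥H) : G) • u)
      rw [smul_smul]; rfl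
  have hgF : ∀ g : G, g ∉ H → (g • F).map π = X ^ Fintype.card ↥H := by
    intro g hg
    have : g • F = ∏ h : ↥H, (X - C (g • ((h : G) • u))) := by
      change g • (∏ j : ↥H, (X - C ((j : G) • u))) = _
      rw [Finset.smul_prod']
      refine Finset.prod_congr rfl fun i _ => ?_
      rw [smul_sub, Polynomial.smul_X, Polynomial.smul_C]
    rw [this, Polynomial.map_prod]
    rw [Finset.prod_congr rfl (g := fun _ => (X : (R ⧸ q)[X]))]
    · rw [Finset.prod_const, Finset.card_univ]
    · intro h _
      rw [Polynomial.map_sub, map_X, map_C]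
      have : π (g • ((h : G) • u)) = 0 := Ideal.Quotient.eq_zero_iff_mem.mpr (hghu g hg h)
      rw [this, map_zero, sub_zero]
  have heval : F.eval u = 0 := by
    change (∏ h : ↥H, (X - C ((h : G) • u))).eval u = 0
    rw [eval_prod]
    apply Finset.prod_eq_zero (Finset.mem_univ (1 : ↥H))
    simp
  have hex : ∃ i, i < Fintype.card ↥H ∧ F.coeff i ∉ q := by
    by_contra hcon
    push Not at hcon
    have hFmap : F.map π = X ^ Fintype.card ↥H := by
      ext i
      rw [coeff_map, coeff_X_pow]
      rcases lt_trichotomy i (Fintype.card ↥H) with hi | hi | hi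
      · rw [if_neg hi.ne]
        exact Ideal.Quotient.eq_zero_iff_mem.mpr (hcon i hi)
      · rw [if_pos hi, hi, ← hdeg]
        have : F.coeff F.natDegree = 1 := hmonic.coeff_natDegree
        rw [this, map_one]
      · rw [if_neg hi.ne']
        rw [coeff_eq_zero_of_natDegree_lt (by rw [hdeg]; exact hi), map_zero]
    have h1 : (F.map π).eval (π u) = 0 := by
      rw [eval_map, eval₂_at_apply, heval, map_zero]
    rw [hFmap, eval_pow, eval_X] at h1
    have h2 : π u = 0 := pow_eq_zero_iff (Fintype.card_ne_zero) |>.mp h1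
    exact hu (Ideal.Quotient.eq_zero_iff_mem.mp h2)
  obtain ⟨i, hi, hiq⟩ := hex
  refine ⟨⟨F.coeff i, fun h' => ?_⟩, hiq, fun g hg => ?_⟩
  · rw [← coeff_smul, hinv]
  · change g • F.coeff i ∈ q
    rw [← coeff_smul]
    have := congrArg (fun p => p.coeff i) (hgF g hg)
    simp only [coeff_map, coeff_X_pow, if_neg hi.ne] at this
    exact Ideal.Quotient.eq_zero_iff_mem.mp this

section Trace

open Groth.Agent.Lib.Helper84 Pi1

variable {G R : Type u} [Group G] [Fintype G] [CommRing R] [MulSemiringAction G R]
variable (H : Subgroup G)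

noncomputable local instance : Fintype (G ⧸ H) := Fintype.ofFinite _

/-- the trace from `R^H` to `R^G`: the sum of the conjugates over the cosets of `H` -/
noncomputable def tr (a : FixedPoints.subring R ↥H) : FixedPoints.subring R G :=
  ⟨∑ t : G ⧸ H, DecompEtale.conj H a t, fun g => by
    rw [Finset.smul_sum]
    simp only [DecompEtale.smul_conj]
    exact Fintype.sum_equiv (MulAction.toPerm g) _ _ fun t => rfl⟩

theorem coe_tr (a : FixedPoints.subring R ↥H) :
    ((tr H a : FixedPoints.subring R G) : R) = ∑ t : G ⧸ H, DecompEtale.conj H a t := rfl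

theorem tr_sub_mem (q : Ideal R) (a : FixedPoints.subring R ↥H)
    (ha : ∀ g : G, g ∉ H → g • (a : R) ∈ q) : ((tr H a : FixedPoints.subring R G) : R) - a ∈ q := by
  classical
  rw [coe_tr, ← Finset.add_sum_erase _ _ (Finset.mem_univ (QuotientGroup.mk 1 : G ⧸ H)),
    DecompEtale.conj_mk, one_smul, add_sub_cancel_left]
  refine Ideal.sum_mem _ fun t ht => ?_
  induction t using QuotientGroup.induction_on with
  | H g =>
    rw [DecompEtale.conj_mk]
    apply ha
    intro hg
    apply (Finset.mem_erase.mp ht).1
    rw [QuotientGroup.eq]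
    simpa using H.inv_mem hg

/-- trivial residue field extension: every `H`-invariant is congruent modulo `q` to a fraction of
`G`-invariants, when `H` contains the stabilizer of `q` -/
theorem exists_frac (q : Ideal R) [q.IsPrime] (hD : MulAction.stabilizer G q ≤ H)
    (x : FixedPoints.subring R ↥H) :
    ∃ b t : FixedPoints.subring R G, (t : R) ∉ q ∧ (t : R) * (x : R) - (b : R) ∈ q := by
  obtain ⟨c, hc, hgc⟩ := exists_sep q H hD
  refine ⟨tr H (x * c), tr H c, ?_, ?_⟩
  · intro h
    apply hc
    have := q.sub_mem h (tr_sub_mem H q c hgc)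
    simpa using this
  · have h1 := tr_sub_mem H q c hgc
    have h2 := tr_sub_mem H q (x * c) (fun g hg => by
      push_cast
      rw [smul_mul']
      exact q.mul_mem_left _ (hgc g hg))
    have : ((tr H c : FixedPoints.subring R G) : R) * (x : R) -
        ((tr H (x * c) : FixedPoints.subring R G) : R) =
        (((tr H c : FixedPoints.subring R G) : R) - c) * (x : R) -
          (((tr H (x * c) : FixedPoints.subring R G) : R) - ((x * c : FixedPoints.subring R ↥H) : R))
          := by
      push_cast; ring
    rw [this]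
    exact q.sub_mem (q.mul_mem_right _ h1) h2

end Trace

end Groth.Agent.Lib.Helper84.SepInv
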