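import Mathlib
import Groth.Agent.Lib.Helper84.CplInv3
import Groth.Agent.Lib.Helper84.DecompEtale
import Groth.Agent.Lib.Helper84.SepInv
import Groth.Agent.Lib.Helper84.LocalIsoPow

/-!
# The decomposition group and the completed local extension: hypotheses of `cpl_main` (helper84)

`R → S` finite, `R` Noetherian, `S` a domain with an action of a finite group `G` whose invariants are
the image of `R`; `Q` a prime of `S`, `D` its stabilizer, `P = Q ∩ R`.  We verify the two
approximation hypotheses `hC1`, `hC2` of `cpl_main` for `R_P → S_Q` and the action of `D` on `S_Q`.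
-/

set_option autoImplicit false
set_option linter.unusedSectionVars false
universe u

namespace Groth.Agent.Lib.Helper84.CplInv

open IsLocalRing
open scoped Pointwise

section Gal

variable {R S G : Type u} [CommRing R] [CommRing S] [IsDomain S] [Algebra R S]
  [Group G] [Finite G] [MulSemiringAction G S] [SMulCommClass G R S]
  (Q : Ideal S) [Q.IsPrime]

theorem hQ_stab (g : MulAction.stabilizer G Q) (s : S) (hs : s ∈ Q) : g • s ∈ Q := by
  have h1 : (g : G) • Q = Q := g.2
  have h2 : (g : G) • s ∈ (g : G) • Q := Ideal.smul_mem_pointwise_smul _ _ _ hs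
  rw [h1] at h2
  exact h2

instance smulCommClass_S1 :
    SMulCommClass (MulAction.stabilizer G Q) (FixedPoints.subring S (MulAction.stabilizer G Q)) S :=
  ⟨fun g s1 s => by
    change g • ((s1 : S) * s) = (s1 : S) * g • s
    rw [smul_mul', s1.2 g]⟩

/-- `R → S^D` -/
@[reducible] noncomputable def algRS1 :
    Algebra R (FixedPoints.subring S (MulAction.stabilizer G Q)) :=
  (RingHom.codRestrict (algebraMap R S) (FixedPoints.subring S (MulAction.stabilizer G Q))
    (fun r g => by
      change (g : G) • algebraMap R S r = algebraMap R S r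
      exact smul_algebraMap (g : G) r)).toAlgebra

/-- `R → S^G` -/
@[reducible] noncomputable def algRS0 : Algebra R (FixedPoints.subring S G) :=
  (RingHom.codRestrict (algebraMap R S) (FixedPoints.subring S G)
    (fun r g => by
      change g • algebraMap R S r = algebraMap R S r
      exact smul_algebraMap g r)).toAlgebra

attribute [local instance] algRS1 algRS0

theorem coe_algebraMap_S1 (r : R) :
    ((algebraMap R (FixedPoints.subring S (MulAction.stabilizer G Q)) r : _) : S) =
      algebraMap R S r := rfl

instance : IsScalarTower R (FixedPoints.subring S (MulAction.stabilizer G Q)) S :=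
  IsScalarTower.of_algebraMap_eq fun _ => rfl

instance : IsScalarTower R (FixedPoints.subring S G)
    (FixedPoints.subring S (MulAction.stabilizer G Q)) :=
  IsScalarTower.of_algebraMap_eq fun _ => rfl

variable [IsNoetherianRing R] [Module.Finite R S]

theorem finite_R_S1 : Module.Finite R (FixedPoints.subring S (MulAction.stabilizer G Q)) :=
  Module.Finite.of_injective
    (IsScalarTower.toAlgHom R (FixedPoints.subring S (MulAction.stabilizer G Q)) S).toLinearMap
    Subtype.val_injective

variable (R) in
include R in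
theorem noeth_S1 : IsNoetherianRing (FixedPoints.subring S (MulAction.stabilizer G Q)) := by
  have := finite_R_S1 (R := R) (G := G) Q
  exact IsNoetherianRing.of_finite R _

variable (R) in
include R in
theorem finite_S1_S : Module.Finite (FixedPoints.subring S (MulAction.stabilizer G Q)) S :=
  Module.Finite.of_restrictScalars_finite R _ S

variable (hinvR : ∀ s : S, (∀ g : G, g • s = s) → ∃ r : R, algebraMap R S r = s)

/-- the prime `Q ∩ S^D` -/
noncomputable abbrev q' : Ideal (FixedPoints.subring S (MulAction.stabilizer G Q)) :=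
  Q.comap (algebraMap (FixedPoints.subring S (MulAction.stabilizer G Q)) S)

include hinvR in
theorem bijective_algRS0 (hinjR : Function.Injective (algebraMap R S)) :
    Function.Bijective (algebraMap R (FixedPoints.subring S G)) := by
  refine ⟨fun x y h => hinjR (congrArg Subtype.val h), fun x => ?_⟩
  obtain ⟨r, hr⟩ := hinvR x.1 x.2
  exact ⟨r, Subtype.ext hr⟩

include hinvR in
theorem etale_R_S0 (hinjR : Function.Injective (algebraMap R S)) :
    Algebra.Etale R (FixedPoints.subring S G) :=
  Algebra.Etale.of_equiv
    (AlgEquiv.ofBijective (Algebra.ofId R (FixedPoints.subring S G)) (bijective_algRS0 hinvR hinjR))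

include hinvR in
/-- `R_P → (S^D)_{q'}` is bijective modulo powers of the maximal ideals -/
theorem modpow (hinjR : Function.Injective (algebraMap R S)) (n : ℕ) :
    Function.Surjective ((Ideal.Quotient.mk (maximalIdeal (Localization.AtPrime (q' (G := G) Q)) ^ n)).comp
        (Localization.localRingHom ((q' (G := G) Q).comap (algebraMap R _)) (q' (G := G) Q)
          (algebraMap R _) rfl)) ∧
      Ideal.comap (Localization.localRingHom ((q' (G := G) Q).comap (algebraMap R _)) (q' (G := G) Q)
          (algebraMap R _) rfl)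
        (maximalIdeal (Localization.AtPrime (q' (G := G) Q)) ^ n) =
        maximalIdeal (Localization.AtPrime ((q' (G := G) Q).comap (algebraMap R _))) ^ n := by
  classical
  cases nonempty_fintype G
  obtain ⟨c, hc, hgc⟩ := Groth.Agent.Lib.Helper84.SepInv.exists_sep Q (MulAction.stabilizer G Q) le_rfl
  obtain ⟨f', hf', hE⟩ := Groth.Agent.Lib.Helper84.DecompEtale.exists_etale_away
    (MulAction.stabilizer G Q) c Q
    (fun g hg h => hc (by
      have := Q.add_mem h (hgc g hg)
      simpa using this))
  have hE0 := etale_R_S0 hinvR hinjR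
  have hE' : Algebra.Etale R (Localization.Away f') :=
    Algebra.Etale.comp R (FixedPoints.subring S G) (Localization.Away f')
  have hres : ∀ x : FixedPoints.subring S (MulAction.stabilizer G Q), ∃ b t : R,
      t ∉ (q' (G := G) Q).comap (algebraMap R _) ∧
      algebraMap R (FixedPoints.subring S (MulAction.stabilizer G Q)) t * x -
        algebraMap R (FixedPoints.subring S (MulAction.stabilizer G Q)) b ∈ q' (G := G) Q := by
    intro x
    obtain ⟨b, t, ht, hbt⟩ := Groth.Agent.Lib.Helper84.SepInv.exists_frac
      (MulAction.stabilizer G Q) Q le_rfl x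
    obtain ⟨b', hb'⟩ := hinvR b.1 b.2
    obtain ⟨t', ht'⟩ := hinvR t.1 t.2
    refine ⟨b', t', ?_, ?_⟩
    · change algebraMap R S t' ∉ Q
      rw [ht']; exact ht
    · change algebraMap R S t' * (x : S) - algebraMap R S b' ∈ Q
      rw [ht', hb']; exact hbt
  exact Groth.Agent.Lib.Helper84.LocalIsoPow.main (q' (G := G) Q) f' hf' hres n

theorem algebraMap_A'_eq (r : R) :
    algebraMap R (Localization.AtPrime (q' (G := G) Q)) r =
      algebraMap (FixedPoints.subring S (MulAction.stabilizer G Q)) _
        (algebraMap R (FixedPoints.subring S (MulAction.stabilizer G Q)) r) :=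
  IsScalarTower.algebraMap_apply R (FixedPoints.subring S (MulAction.stabilizer G Q)) _ r

include hinvR in
theorem E1 (hinjR : Function.Injective (algebraMap R S)) (k : ℕ)
    (a' : Localization.AtPrime (q' (G := G) Q)) :
    ∃ r t : R, algebraMap R S t ∉ Q ∧
      algebraMap R (Localization.AtPrime (q' (G := G) Q)) t * a' -
        algebraMap R (Localization.AtPrime (q' (G := G) Q)) r ∈
        maximalIdeal (Localization.AtPrime (q' (G := G) Q)) ^ k := by
  obtain ⟨hsurj, -⟩ := modpow Q hinvR hinjR k
  obtain ⟨a0, ha0⟩ := hsurj (Ideal.Quotient.mk _ a')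
  obtain ⟨r, t, rfl⟩ := IsLocalization.exists_mk'_eq
    ((q' (G := G) Q).comap (algebraMap R _)).primeCompl a0
  rw [RingHom.comp_apply] at ha0
  have h1 := Ideal.Quotient.eq.mp ha0
  set φ0 := Localization.localRingHom ((q' (G := G) Q).comap (algebraMap R _)) (q' (G := G) Q)
          (algebraMap R _) rfl with hφ0
  have h2 : φ0 (IsLocalization.mk' _ r t) * algebraMap R (Localization.AtPrime (q' (G := G) Q)) (t : R) =
      algebraMap R (Localization.AtPrime (q' (G := G) Q)) r := by
    have e1 : algebraMap R (Localization.AtPrime (q' (G := G) Q)) (t : R) =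
        φ0 (algebraMap R _ (t : R)) := by
      rw [hφ0, Localization.localRingHom_to_map, algebraMap_A'_eq]
    have e2 : algebraMap R (Localization.AtPrime (q' (G := G) Q)) r =
        φ0 (algebraMap R _ r) := by
      rw [hφ0, Localization.localRingHom_to_map, algebraMap_A'_eq]
    rw [e1, e2, ← map_mul, IsLocalization.mk'_spec]
  refine ⟨r, t, t.2, ?_⟩
  have h3 : algebraMap R (Localization.AtPrime (q' (G := G) Q)) (t : R) * a' -
      algebraMap R (Localization.AtPrime (q' (G := G) Q)) r =
      - (algebraMap R (Localization.AtPrime (q' (G := G) Q)) (t : R) *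
        (φ0 (IsLocalization.mk' _ r t) - a')) := by
    rw [← h2]; ring
  rw [h3]
  exact neg_mem (Ideal.mul_mem_left _ _ h1)

include hinvR in
theorem E2 (hinjR : Function.Injective (algebraMap R S)) (k : ℕ) (r : R)
    (hr : algebraMap R (Localization.AtPrime (q' (G := G) Q)) r ∈
      maximalIdeal (Localization.AtPrime (q' (G := G) Q)) ^ k) :
    ∃ u : R, algebraMap R S u ∉ Q ∧ u * r ∈ (Q.comap (algebraMap R S)) ^ k := by
  obtain ⟨-, hker⟩ := modpow Q hinvR hinjR k
  set P0 : Ideal R := (q' (G := G) Q).comap (algebraMap R _) with hP0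
  have hP0eq : P0 = Q.comap (algebraMap R S) := rfl
  have h1 : algebraMap R (Localization.AtPrime P0) r ∈
      maximalIdeal (Localization.AtPrime P0) ^ k := by
    rw [← hker, Ideal.mem_comap, Localization.localRingHom_to_map, ← algebraMap_A'_eq]
    exact hr
  rw [← IsLocalization.AtPrime.map_eq_maximalIdeal P0 (Localization.AtPrime P0), ← Ideal.map_pow,
    IsLocalization.mem_map_algebraMap_iff P0.primeCompl] at h1
  obtain ⟨⟨i, u⟩, hiu⟩ := h1
  rw [← map_mul] at hiu
  obtain ⟨v, hv⟩ := (IsLocalization.eq_iff_exists P0.primeCompl _).mp hiu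
  refine ⟨v * u, ?_, ?_⟩
  · have : ((v * u : P0.primeCompl) : R) ∉ P0 := (v * u).2
    exact this
  · rw [← hP0eq]
    have : (v : R) * (u : R) * r = v * (r * u) := by ring
    rw [this, hv]
    exact Ideal.mul_mem_left _ _ i.2

theorem map_pow_mem {X Y : Type*} [CommRing X] [CommRing Y] (h : X →+* Y) {I : Ideal X} {J : Ideal Y}
    (hIJ : ∀ z ∈ I, h z ∈ J) (k : ℕ) {z : X} (hz : z ∈ I ^ k) : h z ∈ J ^ k := by
  have h1 : I.map h ≤ J := Ideal.map_le_iff_le_comap.mpr hIJ
  have h2 : h z ∈ (I ^ k).map h := Ideal.mem_map_of_mem h hz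
  rw [Ideal.map_pow] at h2
  exact Ideal.pow_right_mono h1 k h2

theorem psi_algebraMap_R (x : R) :
    psi (S1 := FixedPoints.subring S (MulAction.stabilizer G Q)) Q
      (algebraMap R (Localization.AtPrime (q' (G := G) Q)) x) =
      algebraMap S (Localization.AtPrime Q) (algebraMap R S x) := by
  rw [algebraMap_A'_eq, psi_algebraMap]
  rfl

variable (P : Ideal R) [P.IsPrime] (hP : P = Q.comap (algebraMap R S))

/-- `R_P → S_Q` -/
noncomputable def phi : Localization.AtPrime P →+* Localization.AtPrime Q :=
  Localization.localRingHom P Q (algebraMap R S) hP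

theorem phi_algebraMap (x : R) :
    phi Q P hP (algebraMap R _ x) = algebraMap S (Localization.AtPrime Q) (algebraMap R S x) := by
  rw [phi, Localization.localRingHom_to_map]

theorem phi_mem_maximalIdeal (a : Localization.AtPrime P) (ha : a ∈ maximalIdeal _) :
    phi Q P hP a ∈ maximalIdeal (Localization.AtPrime Q) := by
  have : IsLocalHom (phi Q P hP) := Localization.isLocalHom_localRingHom _ _ _ _
  rw [mem_maximalIdeal, mem_nonunits_iff] at ha ⊢
  exact fun hu => ha (isUnit_of_map_unit (phi Q P hP) a hu)

theorem act_phi (g : MulAction.stabilizer G Q) (a : Localization.AtPrime P) :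
    act Q (hQ_stab Q) g (phi Q P hP a) = phi Q P hP a := by
  have : (act Q (hQ_stab Q) g).comp (phi Q P hP) = phi Q P hP := by
    apply IsLocalization.ringHom_ext P.primeCompl
    ext x
    simp only [RingHom.comp_apply]
    rw [phi_algebraMap, act_algebraMap]
    congr 1
    exact smul_algebraMap (g : G) x
  exact RingHom.congr_fun this a

theorem phi_mk'_mul (r : R) (t : P.primeCompl) :
    phi Q P hP (IsLocalization.mk' _ r t) * algebraMap S (Localization.AtPrime Q) (algebraMap R S t) =
      algebraMap S (Localization.AtPrime Q) (algebraMap R S r) := by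
  rw [← phi_algebraMap Q P hP, ← map_mul, IsLocalization.mk'_spec, phi_algebraMap]

theorem isUnit_algebraMap_B {t : R} (ht : algebraMap R S t ∉ Q) :
    IsUnit (algebraMap S (Localization.AtPrime Q) (algebraMap R S t)) :=
  IsLocalization.map_units (M := Q.primeCompl) _ ⟨algebraMap R S t, ht⟩

include hinvR in
theorem hC12 (hinjR : Function.Injective (algebraMap R S)) :
    (∀ k, ∃ N, ∀ b : Localization.AtPrime Q,
      (∀ g : MulAction.stabilizer G Q,
        act Q (hQ_stab Q) g b - b ∈ maximalIdeal (Localization.AtPrime Q) ^ N) →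
      ∃ a : Localization.AtPrime P, b - phi Q P hP a ∈ maximalIdeal (Localization.AtPrime Q) ^ k) ∧
    (∀ k, ∃ K, ∀ a : Localization.AtPrime P,
      phi Q P hP a ∈ maximalIdeal (Localization.AtPrime Q) ^ K →
      a ∈ maximalIdeal (Localization.AtPrime P) ^ k) := by
  have := noeth_S1 R (G := G) Q
  have := finite_S1_S R (G := G) Q
  obtain ⟨hL1, hL2⟩ := L1L2 (S1 := FixedPoints.subring S (MulAction.stabilizer G Q))
    (D := MulAction.stabilizer G Q) Q (hQ_stab Q) Subtype.val_injective
    (fun s hs => ⟨⟨s, hs⟩, rfl⟩)
  have hψk : ∀ (k : ℕ) (z : Localization.AtPrime (q' (G := G) Q)),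
      z ∈ maximalIdeal _ ^ k →
      psi (S1 := FixedPoints.subring S (MulAction.stabilizer G Q)) Q z ∈
        maximalIdeal (Localization.AtPrime Q) ^ k := fun k z hz =>
    map_pow_mem _ (psi_mem_maximalIdeal Q) k hz
  have hmem : ∀ x : R, x ∈ P ↔ algebraMap R S x ∈ Q := fun x => by rw [hP]; rfl
  refine ⟨fun k => ?_, fun k => ?_⟩
  · obtain ⟨N, hN⟩ := hL1 k
    refine ⟨N, fun b hb => ?_⟩
    obtain ⟨a', ha'⟩ := hN b hb
    obtain ⟨r, t, ht, hrt⟩ := E1 Q hinvR hinjR k a'
    have htP : t ∈ P.primeCompl := fun h => ht ((hmem t).mp h)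
    refine ⟨IsLocalization.mk' _ r ⟨t, htP⟩, ?_⟩
    have key : algebraMap S (Localization.AtPrime Q) (algebraMap R S t) *
        (psi (S1 := FixedPoints.subring S (MulAction.stabilizer G Q)) Q a' -
          phi Q P hP (IsLocalization.mk' _ r ⟨t, htP⟩)) ∈
        maximalIdeal (Localization.AtPrime Q) ^ k := by
      have h1 := hψk k _ hrt
      rw [map_sub, map_mul, psi_algebraMap_R, psi_algebraMap_R] at h1
      have h2 := phi_mk'_mul Q P hP r ⟨t, htP⟩
      rw [mul_sub, mul_comm _ (phi Q P hP _), h2]
      exact h1
    have key2 := (Ideal.unit_mul_mem_iff_mem _ (isUnit_algebraMap_B Q ht)).mp key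
    have : b - phi Q P hP (IsLocalization.mk' _ r ⟨t, htP⟩) =
        (b - psi (S1 := FixedPoints.subring S (MulAction.stabilizer G Q)) Q a') +
        (psi (S1 := FixedPoints.subring S (MulAction.stabilizer G Q)) Q a' -
          phi Q P hP (IsLocalization.mk' _ r ⟨t, htP⟩)) := by ring
    rw [this]
    exact Ideal.add_mem _ ha' key2
  · obtain ⟨K, hK⟩ := hL2 k
    refine ⟨K, fun a ha => ?_⟩
    obtain ⟨r, t, rfl⟩ := IsLocalization.exists_mk'_eq P.primeCompl a
    have ht : algebraMap R S (t : R) ∉ Q := fun h => t.2 ((hmem _).mpr h)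
    have h1 : algebraMap S (Localization.AtPrime Q) (algebraMap R S r) ∈
        maximalIdeal (Localization.AtPrime Q) ^ K := by
      rw [← phi_mk'_mul Q P hP r t]
      exact Ideal.mul_mem_right _ _ ha
    rw [← psi_algebraMap_R (G := G) Q] at h1
    obtain ⟨u, hu, hur⟩ := E2 Q hinvR hinjR k r (hK _ h1)
    rw [← hP] at hur
    have h2 : algebraMap R (Localization.AtPrime P) (u * r) ∈
        maximalIdeal (Localization.AtPrime P) ^ k := by
      rw [← IsLocalization.AtPrime.map_eq_maximalIdeal P (Localization.AtPrime P), ← Ideal.map_pow]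
      exact Ideal.mem_map_of_mem _ hur
    have huP : u ∈ P.primeCompl := fun h => hu ((hmem u).mp h)
    have hu1 : IsUnit (algebraMap R (Localization.AtPrime P) u) :=
      IsLocalization.map_units (M := P.primeCompl) _ ⟨u, huP⟩
    rw [map_mul] at h2
    have h3 := (Ideal.unit_mul_mem_iff_mem _ hu1).mp h2
    have ht1 : IsUnit (algebraMap R (Localization.AtPrime P) (t : R)) :=
      IsLocalization.map_units (M := P.primeCompl) _ t
    rw [← IsLocalization.mk'_spec (M := P.primeCompl) (Localization.AtPrime P) r t] at h3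
    exact (Ideal.mul_unit_mem_iff_mem _ ht1).mp h3

end Gal

end Groth.Agent.Lib.Helper84.CplInv
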