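import Mathlib

/-!
# Auxiliary lemmas for the cyclic cover computation

* `mem_range_of_isIntegral`: a criterion for a ring to be integrally closed in a localization
  `K = C[1/Z]` when `C/(Z)` is reduced.
* Monomials `τ^i φ^j` in a commutative group, and the exponent identities used for
  cyclic covers.
-/

set_option autoImplicit false
universe u

namespace Groth.Agent.Lib.Helper84.Cyc

open Polynomial

section IC

variable {C K : Type*} [CommRing C] [CommRing K]

theorem dvd_pow_of_scaleRoots_root (Z y : C) (P : C[X]) (hP : P.Monic)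
    (h : (scaleRoots P Z).eval y = 0) : Z ∣ y ^ P.natDegree ∨ P.natDegree = 0 := by
  by_cases hd : P.natDegree = 0
  · exact Or.inr hd
  left
  have hm : (scaleRoots P Z).natDegree = P.natDegree := natDegree_scaleRoots P Z
  rw [eval_eq_sum_range, hm, Finset.sum_range_succ] at h
  have hlead : (scaleRoots P Z).coeff P.natDegree = 1 := by
    rw [coeff_scaleRoots_natDegree]; exact hP
  rw [hlead, one_mul] at h
  have h2 : y ^ P.natDegree = - ∑ i ∈ Finset.range P.natDegree, (scaleRoots P Z).coeff i * y ^ i :=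
    eq_neg_of_add_eq_zero_right h
  rw [h2]
  apply Dvd.dvd.neg_right ?_
  apply Finset.dvd_sum
  intro i hi
  rw [Finset.mem_range] at hi
  rw [coeff_scaleRoots]
  have : Z ∣ Z ^ (P.natDegree - i) := dvd_pow_self _ (by omega)
  exact Dvd.dvd.mul_right (Dvd.dvd.mul_left this _) _

/-- If `K = C[1/Z]` (in the weak sense `hgen`) and `Z` generates a radical ideal of `C`, then `C`
is integrally closed in `K`. -/
theorem mem_range_of_isIntegral (ι : C →+* K) (hι : Function.Injective ι) (Z : C)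
    (hZ : IsUnit (ι Z)) (hgen : ∀ x : K, ∃ n : ℕ, ι Z ^ n * x ∈ ι.range)
    (hred : ∀ (y : C) (m : ℕ), Z ∣ y ^ m → Z ∣ y)
    (x : K) (hx : ι.IsIntegralElem x) : x ∈ ι.range := by
  classical
  have key : ∀ n : ℕ, ι Z ^ n * x ∈ ι.range → x ∈ ι.range := by
    intro n
    induction n with
    | zero => intro h; simpa using h
    | succ n ih =>
      intro h
      apply ih
      obtain ⟨y, hy⟩ := h
      set x' := ι Z ^ n * x with hx'
      have hyx : ι y = ι Z * x' := by rw [hy, hx', pow_succ]; ring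
      have hint : ι.IsIntegralElem x' :=
        RingHom.IsIntegralElem.mul ι (RingHom.isIntegralElem_map ι (x := Z ^ n) |> fun h => by
          simpa using h) hx
      obtain ⟨P, hP, hPx⟩ := hint
      have h1 : eval₂ ι (ι Z * x') (scaleRoots P Z) = 0 := scaleRoots_eval₂_eq_zero ι hPx
      rw [← hyx, eval₂_hom] at h1
      have h2 : (scaleRoots P Z).eval y = 0 := hι (by rw [h1, map_zero])
      have hdvd : Z ∣ y := by
        rcases dvd_pow_of_scaleRoots_root Z y P hP h2 with h3 | h3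
        · exact hred y _ h3
        · -- degree zero: `P = 1`, so `1 = 0` in `K`
          have hP1 : P = 1 := by
            exact eq_one_of_monic_natDegree_zero hP h3
          rw [hP1, eval₂_one] at hPx
          have hK : ∀ k : K, k = 0 := fun k => by rw [← mul_one k, hPx, mul_zero]
          have : ι y = ι 0 := by rw [hK (ι y), map_zero]
          rw [hι this]; exact dvd_zero _
      obtain ⟨y', rfl⟩ := hdvd
      refine ⟨y', ?_⟩
      rw [map_mul] at hyx
      exact hZ.mul_left_cancel hyx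
  obtain ⟨n, hn⟩ := hgen x
  exact key n hn

end IC

section Grp

variable {G : Type*} [CommGroup G] (τ φ : G)

/-- the monomial `τ^i φ^j`. -/
def M (i j : ℤ) : G := τ ^ i * φ ^ j

theorem M_mul (i j i' j' : ℤ) : M τ φ i j * M τ φ i' j' = M τ φ (i + i') (j + j') := by
  simp only [M, zpow_add]; exact mul_mul_mul_comm _ _ _ _

theorem M_zpow (i j n : ℤ) : (M τ φ i j) ^ n = M τ φ (i * n) (j * n) := by
  simp only [M, mul_zpow, zpow_mul]

theorem M_pow (i j : ℤ) (n : ℕ) : (M τ φ i j) ^ n = M τ φ (i * n) (j * n) := by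
  rw [← zpow_natCast, M_zpow]

theorem M_one_zero : M τ φ 1 0 = τ := by simp [M]

theorem M_zero_one : M τ φ 0 1 = φ := by simp [M]

theorem M_zero_zero : M τ φ 0 0 = 1 := by simp [M]

theorem M_congr {i j i' j' : ℤ} (hi : i = i') (hj : j = j') : M τ φ i j = M τ φ i' j' := by
  rw [hi, hj]

variable (g N₁ α₁ a : ℕ) (b : ℤ) (h : (a : ℤ) * α₁ - b * N₁ = 1)

section Kside

variable (υ : G) (hrel : τ ^ (g * N₁) = υ * φ ^ (g * α₁))

include hrel in
theorem w_pow : (M τ φ N₁ (-α₁)) ^ g = υ := by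
  rw [M_pow, M]
  have h1 : τ ^ ((N₁ : ℤ) * g) = υ * φ ^ ((α₁ : ℤ) * g) := by
    have e1 : ((N₁ : ℤ) * g) = ((g * N₁ : ℕ) : ℤ) := by push_cast; ring
    have e2 : ((α₁ : ℤ) * g) = ((g * α₁ : ℕ) : ℤ) := by push_cast; ring
    rw [e1, e2, zpow_natCast, zpow_natCast, hrel]
  rw [h1, neg_mul, zpow_neg, mul_assoc, mul_inv_cancel, mul_one]

include h in
theorem z_pow : (M τ φ a (-b)) ^ N₁ = (M τ φ N₁ (-α₁)) ^ a * φ := by
  rw [M_pow, M_pow]
  nth_rewrite 3 [← M_zero_one τ φ]
  rw [M_mul]
  apply M_congr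
  · ring
  · linear_combination h

include h in
theorem tau_eq : τ = (M τ φ a (-b)) ^ α₁ * (M τ φ N₁ (-α₁)) ^ (-b) := by
  rw [M_pow, M_zpow, M_mul]
  nth_rewrite 1 [← M_one_zero τ φ]
  apply M_congr
  · linear_combination (-1 : ℤ) * h
  · ring

include h in
theorem phi_eq : φ = (M τ φ a (-b)) ^ N₁ * (M τ φ N₁ (-α₁)) ^ (-(a : ℤ)) := by
  rw [M_pow, M_zpow, M_mul]
  nth_rewrite 1 [← M_zero_one τ φ]
  apply M_congr
  · ring
  · linear_combination (-1 : ℤ) * h

include h in
theorem e_eq (i q r : ℤ) (hqr : i * α₁ = q * N₁ + r) :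
    M τ φ i (-q) = (M τ φ a (-b)) ^ r * (M τ φ N₁ (-α₁)) ^ ((a : ℤ) * q - i * b) := by
  rw [M_zpow, M_zpow, M_mul]
  apply M_congr
  · linear_combination (-i) * h + (a : ℤ) * hqr
  · linear_combination (q) * h - b * hqr

end Kside

section Lside

variable (Z W f : G) (hrel' : Z ^ N₁ = W ^ a * f)

include hrel' in
theorem f_eq : f = M Z W N₁ (-(a : ℤ)) := by
  rw [M, zpow_natCast, hrel', zpow_neg, zpow_natCast]
  rw [mul_comm (W ^ a) f, mul_assoc, mul_inv_cancel, mul_one]

include h hrel' in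
theorem T_pow : (M Z W α₁ (-b)) ^ (g * N₁) = W ^ g * f ^ (g * α₁) := by
  have hW : W ^ g = M Z W 0 g := by simp [M]
  rw [f_eq N₁ a Z W f hrel', M_pow, M_pow, hW, M_mul]
  apply M_congr
  · push_cast; ring
  · push_cast; linear_combination (g : ℤ) * h

include h hrel' in
theorem T_w : (M Z W α₁ (-b)) ^ N₁ * f ^ (-(α₁ : ℤ)) = W := by
  rw [f_eq N₁ a Z W f hrel', M_pow, M_zpow, M_mul]
  conv_rhs => rw [← M_zero_one Z W]
  apply M_congr
  · ring
  · linear_combination h

include h hrel' in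
theorem T_z : (M Z W α₁ (-b)) ^ a * f ^ (-b) = Z := by
  rw [f_eq N₁ a Z W f hrel', M_pow, M_zpow, M_mul]
  conv_rhs => rw [← M_one_zero Z W]
  apply M_congr
  · linear_combination h
  · ring

end Lside

end Grp

end Groth.Agent.Lib.Helper84.Cyc
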