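import Mathlib
import Groth.Agent.Lib.Helper84.Cyc1
import Groth.Agent.Lib.Helper84.Cyc2

/-!
# The tower `B ⊆ B₁ = B[W]/(W^g - u) ⊆ C = B₁[Z]/(Z^{N₁} - W^a f₁)`
-/

set_option autoImplicit false
universe u

namespace Groth.Agent.Lib.Helper84.Cyc

open Polynomial

section Tower

variable {B : Type u} [CommRing B] (g N₁ a : ℕ) (u : Bˣ) (f₁ : B)

/-- `B₁ = B[W]/(W^g - u)`. -/
abbrev B1 : Type u := AdjoinRoot (X ^ g - C (u : B) : B[X])

/-- the class of `W` in `B₁`. -/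
noncomputable def W1 : B1 g u := AdjoinRoot.root _

/-- the element `s = W^a f₁` of `B₁`. -/
noncomputable def sEl : B1 g u := (W1 g u) ^ a * AdjoinRoot.of _ f₁

/-- `C = B₁[Z]/(Z^{N₁} - W^a f₁)`. -/
abbrev CC : Type u := AdjoinRoot (X ^ N₁ - C (sEl g a u f₁) : (B1 g u)[X])

theorem W1_pow : (W1 g u) ^ g = AdjoinRoot.of _ (u : B) := root_pow (u : B) g

theorem isUnit_W1 (hg : g ≠ 0) : IsUnit (W1 g u) := by
  rw [← isUnit_pow_iff hg, W1_pow]
  exact u.isUnit.map _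

theorem monic1 (hg : g ≠ 0) : (X ^ g - C (u : B) : B[X]).Monic := monic_X_pow_sub_C _ hg

theorem monic2 (hN₁ : N₁ ≠ 0) : (X ^ N₁ - C (sEl g a u f₁) : (B1 g u)[X]).Monic :=
  monic_X_pow_sub_C _ hN₁

theorem free_B1 (hg : g ≠ 0) : Module.Free B (B1 g u) := (monic1 g u hg).free_adjoinRoot

theorem finite_B1 (hg : g ≠ 0) : Module.Finite B (B1 g u) := (monic1 g u hg).finite_adjoinRoot

theorem free_CC (hg : g ≠ 0) (hN₁ : N₁ ≠ 0) : Module.Free B (CC g N₁ a u f₁) := by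
  have := free_B1 g u hg
  have : Module.Free (B1 g u) (CC g N₁ a u f₁) := (monic2 g N₁ a u f₁ hN₁).free_adjoinRoot
  exact Module.Free.trans (R := B) (S := B1 g u)

theorem finite_CC (hg : g ≠ 0) (hN₁ : N₁ ≠ 0) : Module.Finite B (CC g N₁ a u f₁) := by
  have := finite_B1 g u hg
  have : Module.Finite (B1 g u) (CC g N₁ a u f₁) := (monic2 g N₁ a u f₁ hN₁).finite_adjoinRoot
  exact Module.Finite.trans (B1 g u) _

theorem isRegularRing_B1 [IsRegularRing B] (hg : g ≠ 0) (hgu : IsUnit (g : B)) :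
    IsRegularRing (B1 g u) := by
  have hss : Subsingleton (B ⧸ Ideal.span {(u : B)}) := by
    rw [Ideal.Quotient.subsingleton_iff, Ideal.span_singleton_eq_top]
    exact u.isUnit
  exact isRegularRing_adjoinRoot (u : B) g (IsUnit.mem_nonZeroDivisors u.isUnit)
    (isRegularRing_of_subsingleton _) hg hgu

theorem of_mem_nonZeroDivisors_B1 [IsDomain B] (hg : g ≠ 0) (hf₁ : f₁ ≠ 0) :
    AdjoinRoot.of (X ^ g - C (u : B) : B[X]) f₁ ∈ nonZeroDivisors (B1 g u) := by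
  have := free_B1 g u hg
  rw [mem_nonZeroDivisors_iff_right]
  intro x hx
  have hreg : IsRegular f₁ := IsRegular.of_ne_zero hf₁
  have h2 : f₁ • x = f₁ • (0 : B1 g u) := by
    rw [smul_zero, Algebra.smul_def, mul_comm]
    exact hx
  exact (hreg.isSMulRegular (M := B1 g u)) h2

theorem sEl_mem_nonZeroDivisors [IsDomain B] (hg : g ≠ 0) (hf₁ : f₁ ≠ 0) :
    sEl g a u f₁ ∈ nonZeroDivisors (B1 g u) :=
  mul_mem (IsUnit.mem_nonZeroDivisors ((isUnit_W1 g u hg).pow a))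
    (of_mem_nonZeroDivisors_B1 g u f₁ hg hf₁)

theorem algebraMap_mem_nonZeroDivisors_CC [IsDomain B] (hg : g ≠ 0) (hN₁ : N₁ ≠ 0)
    (hf₁ : f₁ ≠ 0) :
    algebraMap B (CC g N₁ a u f₁) f₁ ∈ nonZeroDivisors (CC g N₁ a u f₁) := by
  have := free_CC g N₁ a u f₁ hg hN₁
  rw [mem_nonZeroDivisors_iff_right]
  intro x hx
  have hreg : IsRegular f₁ := IsRegular.of_ne_zero hf₁
  have h2 : f₁ • x = f₁ • (0 : CC g N₁ a u f₁) := by
    rw [smul_zero, Algebra.smul_def, mul_comm]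
    exact hx
  exact (hreg.isSMulRegular (M := CC g N₁ a u f₁)) h2

theorem span_sEl (hg : g ≠ 0) :
    Ideal.span {sEl g a u f₁} =
      (Ideal.span {f₁}).map (AdjoinRoot.of (X ^ g - C (u : B) : B[X])) := by
  rw [sEl, Ideal.span_singleton_mul_left_unit ((isUnit_W1 g u hg).pow a), Ideal.map_span,
    Set.image_singleton]

theorem isRegularRing_quot_sEl [IsRegularRing B] (hg : g ≠ 0) (hgu : IsUnit (g : B))
    (hD : IsRegularRing (B ⧸ Ideal.span {f₁})) :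
    IsRegularRing (B1 g u ⧸ Ideal.span {sEl g a u f₁}) := by
  set I : Ideal B := Ideal.span {f₁} with hI
  -- the Kummer extension of `B/I`
  let ū : (B ⧸ I)ˣ := Units.map (Ideal.Quotient.mk I).toMonoidHom u
  have hss : Subsingleton ((B ⧸ I) ⧸ Ideal.span {(ū : B ⧸ I)}) := by
    rw [Ideal.Quotient.subsingleton_iff, Ideal.span_singleton_eq_top]
    exact ū.isUnit
  have hgu' : IsUnit ((g : ℕ) : B ⧸ I) := by
    have := hgu.map (Ideal.Quotient.mk I)
    rwa [map_natCast] at this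
  have h1 : IsRegularRing (AdjoinRoot (X ^ g - C (ū : B ⧸ I) : (B ⧸ I)[X])) :=
    isRegularRing_adjoinRoot (ū : B ⧸ I) g (IsUnit.mem_nonZeroDivisors ū.isUnit)
      (isRegularRing_of_subsingleton _) hg hgu'
  have hmap : (X ^ g - C (u : B) : B[X]).map (Ideal.Quotient.mk I) = X ^ g - C (ū : B ⧸ I) := by
    rw [Polynomial.map_sub, Polynomial.map_pow, Polynomial.map_X, Polynomial.map_C]
    rfl
  let e1 := AdjoinRoot.quotAdjoinRootEquivQuotPolynomialQuot I (X ^ g - C (u : B) : B[X])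
  rw [hmap] at e1
  let e2 : (B1 g u ⧸ Ideal.span {sEl g a u f₁}) ≃+*
      (B1 g u ⧸ I.map (AdjoinRoot.of (X ^ g - C (u : B) : B[X]))) :=
    Ideal.quotEquivOfEq (span_sEl g a u f₁ hg)
  exact IsRegularRing.of_ringEquiv (R := AdjoinRoot (X ^ g - C (ū : B ⧸ I) : (B ⧸ I)[X]))
    (e2.trans e1).symm

theorem isRegularRing_CC [IsDomain B] [IsRegularRing B] (hg : g ≠ 0) (hN₁ : N₁ ≠ 0)
    (hgu : IsUnit (g : B)) (hNu : IsUnit (N₁ : B)) (hf₁ : f₁ ≠ 0)
    (hD : IsRegularRing (B ⧸ Ideal.span {f₁})) :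
    IsRegularRing (CC g N₁ a u f₁) := by
  have := isRegularRing_B1 g u hg hgu
  have hNu' : IsUnit ((N₁ : ℕ) : B1 g u) := by
    have := hNu.map (algebraMap B (B1 g u))
    rwa [map_natCast] at this
  exact isRegularRing_adjoinRoot (sEl g a u f₁) N₁ (sEl_mem_nonZeroDivisors g a u f₁ hg hf₁)
    (isRegularRing_quot_sEl g a u f₁ hg hgu hD) hN₁ hNu'

end Tower

end Groth.Agent.Lib.Helper84.Cyc
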