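import Mathlib
import Groth.Agent.Lib.Helper84.Cyc3

/-!
# The comparison maps `Φ : C → K` and `Ψ₀ : A' → L`
-/

set_option autoImplicit false
universe u

namespace Groth.Agent.Lib.Helper84.Cyc

open Polynomial

section Ext

variable {B : Type u} [CommRing B] (g N₁ a : ℕ) (u : Bˣ) (f₁ : B)
variable {S : Type*} [CommRing S]

/-- the class of `W` in `C`. -/
noncomputable def WC : CC g N₁ a u f₁ := AdjoinRoot.of _ (W1 g u)

/-- the class of `Z` in `C`. -/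
noncomputable def ZC : CC g N₁ a u f₁ := AdjoinRoot.root _

theorem CC_ringHom_ext (F G : CC g N₁ a u f₁ →+* S)
    (hB : ∀ r : B, F (algebraMap B _ r) = G (algebraMap B _ r))
    (hW : F (WC g N₁ a u f₁) = G (WC g N₁ a u f₁))
    (hZ : F (ZC g N₁ a u f₁) = G (ZC g N₁ a u f₁)) : F = G := by
  have h1 : ∀ c : B1 g u, F (AdjoinRoot.of _ c) = G (AdjoinRoot.of _ c) := by
    intro c
    induction c using AdjoinRoot.induction_on with
    | ih p =>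
      induction p using Polynomial.induction_on' with
      | add p q hp hq => rw [map_add, map_add, map_add, hp, map_add, hq]
      | monomial n r =>
        rw [← C_mul_X_pow_eq_monomial, map_mul, map_pow, AdjoinRoot.mk_X, AdjoinRoot.mk_C,
          map_mul, map_pow, map_mul, map_mul, map_pow, map_pow]
        congr 1
        · exact hB r
        · congr 1
  apply RingHom.ext
  intro c
  induction c using AdjoinRoot.induction_on with
  | ih p =>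
    induction p using Polynomial.induction_on' with
    | add p q hp hq => rw [map_add, map_add, hp, map_add, hq]
    | monomial n r =>
      rw [← C_mul_X_pow_eq_monomial, map_mul, map_pow, AdjoinRoot.mk_X, AdjoinRoot.mk_C,
        map_mul, map_mul, map_pow, map_pow]
      congr 1
      · exact h1 r
      · congr 1

theorem WC_pow : (WC g N₁ a u f₁) ^ g = algebraMap B _ (u : B) := by
  rw [WC, ← map_pow, W1_pow]
  rfl

theorem isUnit_WC (hg : g ≠ 0) : IsUnit (WC g N₁ a u f₁) := (isUnit_W1 g u hg).map _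

theorem ZC_pow : (ZC g N₁ a u f₁) ^ N₁ = (WC g N₁ a u f₁) ^ a * algebraMap B _ f₁ := by
  have h1 := root_pow (sEl g a u f₁) N₁
  rw [ZC, h1]
  show AdjoinRoot.of _ ((W1 g u) ^ a * AdjoinRoot.of _ f₁) = _
  rw [map_mul, map_pow]
  rfl

end Ext

section Phi

variable {B : Type u} [CommRing B] {K : Type u} [CommRing K] [Algebra B K]
variable (g N₁ α₁ a : ℕ) (b : ℤ) (u : Bˣ) (f₁ : B) (τ φ : Kˣ)

/-- `w = τ^{N₁} φ^{-α₁}`. -/
def wU : Kˣ := M τ φ N₁ (-α₁)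

/-- `z = τ^a φ^{-b}`. -/
def zU : Kˣ := M τ φ a (-b)

variable (hφ : (φ : K) = algebraMap B K f₁)
  (hrel : τ ^ (g * N₁) = Units.map (algebraMap B K).toMonoidHom u * φ ^ (g * α₁))
  (h : (a : ℤ) * α₁ - b * N₁ = 1)

include hrel in
theorem wU_pow_val : ((wU N₁ α₁ τ φ : Kˣ) : K) ^ g = algebraMap B K (u : B) := by
  have := w_pow τ φ g N₁ α₁ _ hrel
  have h2 := congrArg (fun x : Kˣ => (x : K)) this
  simpa [wU] using h2

include hφ h in
theorem zU_pow_val : ((zU a b τ φ : Kˣ) : K) ^ N₁ =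
    ((wU N₁ α₁ τ φ : Kˣ) : K) ^ a * algebraMap B K f₁ := by
  have := z_pow τ φ N₁ α₁ a b h
  have h2 := congrArg (fun x : Kˣ => (x : K)) this
  rw [← hφ]
  simpa [wU, zU] using h2

/-- `Φ₁ : B₁ → K`, `W ↦ w`. -/
noncomputable def Phi1 : B1 g u →ₐ[B] K :=
  AdjoinRoot.liftAlgHom _ (Algebra.ofId B K) ((wU N₁ α₁ τ φ : Kˣ) : K) (by
    rw [eval₂_sub, eval₂_pow, eval₂_X, eval₂_C, sub_eq_zero, wU_pow_val g N₁ α₁ u τ φ hrel]
    rfl)

theorem Phi1_W1 : Phi1 g N₁ α₁ u τ φ hrel (W1 g u) = ((wU N₁ α₁ τ φ : Kˣ) : K) :=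
  AdjoinRoot.liftAlgHom_root _ _ _ _

/-- `Φ : C → K`, `W ↦ w`, `Z ↦ z`. -/
noncomputable def Phi : CC g N₁ a u f₁ →ₐ[B] K :=
  AdjoinRoot.liftAlgHom _ (Phi1 g N₁ α₁ u τ φ hrel) ((zU a b τ φ : Kˣ) : K) (by
    rw [eval₂_sub, eval₂_pow, eval₂_X, eval₂_C, sub_eq_zero,
      zU_pow_val N₁ α₁ a b f₁ τ φ hφ h]
    show _ = (Phi1 g N₁ α₁ u τ φ hrel) ((W1 g u) ^ a * AdjoinRoot.of _ f₁)
    rw [map_mul, map_pow, Phi1_W1]
    congr 1
    exact ((Phi1 g N₁ α₁ u τ φ hrel).commutes f₁).symm)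

theorem Phi_ZC : Phi g N₁ α₁ a b u f₁ τ φ hφ hrel h (ZC g N₁ a u f₁) = ((zU a b τ φ : Kˣ) : K) :=
  AdjoinRoot.liftAlgHom_root _ _ _ _

theorem Phi_WC : Phi g N₁ α₁ a b u f₁ τ φ hφ hrel h (WC g N₁ a u f₁) =
    ((wU N₁ α₁ τ φ : Kˣ) : K) := by
  rw [WC, Phi, AdjoinRoot.liftAlgHom_of, Phi1_W1]

theorem Phi1_mem (A : Subalgebra B K) (hw : ((wU N₁ α₁ τ φ : Kˣ) : K) ∈ A) (c : B1 g u) :
    Phi1 g N₁ α₁ u τ φ hrel c ∈ A := by
  induction c using AdjoinRoot.induction_on with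
  | ih p =>
    rw [Phi1, AdjoinRoot.liftAlgHom_mk, eval₂_eq_sum_range]
    refine Subalgebra.sum_mem _ fun i _ => ?_
    exact mul_mem (A.algebraMap_mem _) (pow_mem hw _)

theorem Phi_mem (A : Subalgebra B K) (hw : ((wU N₁ α₁ τ φ : Kˣ) : K) ∈ A)
    (hz : ((zU a b τ φ : Kˣ) : K) ∈ A) (c : CC g N₁ a u f₁) :
    Phi g N₁ α₁ a b u f₁ τ φ hφ hrel h c ∈ A := by
  induction c using AdjoinRoot.induction_on with
  | ih p =>
    rw [Phi, AdjoinRoot.liftAlgHom_mk, eval₂_eq_sum_range]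
    refine Subalgebra.sum_mem _ fun i _ => ?_
    exact mul_mem (Phi1_mem g N₁ α₁ u τ φ hrel A hw _) (pow_mem hz _)

/-- the monomials `τ^i φ^{-q}` with `q = ⌊iα₁/N₁⌋` lie in the range of `Φ`. -/
theorem M_mem_range (hg : g ≠ 0) (i q r : ℕ) (hqr : i * α₁ = q * N₁ + r) :
    ((M τ φ i (-(q : ℤ)) : Kˣ) : K) ∈ (Phi g N₁ α₁ a b u f₁ τ φ hφ hrel h).range := by
  have hqr' : (i : ℤ) * α₁ = (q : ℤ) * N₁ + (r : ℤ) := by exact_mod_cast hqr
  rw [e_eq τ φ N₁ α₁ a b h i q r hqr']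
  set WU : (CC g N₁ a u f₁)ˣ := (isUnit_WC g N₁ a u f₁ hg).unit with hWU
  have h1 : Units.map (Phi g N₁ α₁ a b u f₁ τ φ hφ hrel h).toRingHom.toMonoidHom WU =
      wU N₁ α₁ τ φ := by
    ext
    exact Phi_WC g N₁ α₁ a b u f₁ τ φ hφ hrel h
  refine ⟨(ZC g N₁ a u f₁) ^ r * ((WU ^ ((a : ℤ) * q - i * b) : (CC g N₁ a u f₁)ˣ) :
    CC g N₁ a u f₁), ?_⟩
  rw [Units.val_mul, zpow_natCast, Units.val_pow_eq_pow_val]
  change (Phi g N₁ α₁ a b u f₁ τ φ hφ hrel h) _ = _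
  rw [map_mul, map_pow, Phi_ZC]
  congr 1
  have h2 := congrArg (fun x : Kˣ => ((x ^ ((a : ℤ) * q - i * b) : Kˣ) : K)) h1
  simp only [← map_zpow] at h2
  exact h2

end Phi

section Psi

variable {B : Type u} [CommRing B] {L : Type u} [CommRing L] [Algebra B L]
variable (g N₁ α₁ a : ℕ) (b : ℤ) (u : Bˣ) (f₁ : B) (Z W f : Lˣ)
variable (hW : (W : L) ^ g = algebraMap B L (u : B)) (hf : (f : L) = algebraMap B L f₁)
  (hrel' : Z ^ N₁ = W ^ a * f) (h : (a : ℤ) * α₁ - b * N₁ = 1)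

/-- `T = Z^{α₁} W^{-b}`. -/
def TU : Lˣ := M Z W α₁ (-b)

include hW hf hrel' h in
theorem TU_pow_val : ((TU α₁ b Z W : Lˣ) : L) ^ (g * N₁) =
    algebraMap B L ((u : B) * f₁ ^ (g * α₁)) := by
  have := T_pow g N₁ α₁ a b h Z W f hrel'
  have h2 := congrArg (fun x : Lˣ => (x : L)) this
  rw [map_mul, map_pow, ← hW, ← hf]
  simpa [TU] using h2

/-- `Ψ₀ : A' → L`, `t ↦ T`. -/
noncomputable def Psi0 :
    AdjoinRoot (X ^ (g * N₁) - C ((u : B) * f₁ ^ (g * α₁)) : B[X]) →ₐ[B] L :=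
  AdjoinRoot.liftAlgHom _ (Algebra.ofId B L) ((TU α₁ b Z W : Lˣ) : L) (by
    rw [eval₂_sub, eval₂_pow, eval₂_X, eval₂_C, sub_eq_zero,
      TU_pow_val g N₁ α₁ a b u f₁ Z W f hW hf hrel' h]
    rfl)

theorem Psi0_root : Psi0 g N₁ α₁ a b u f₁ Z W f hW hf hrel' h (AdjoinRoot.root _) =
    ((TU α₁ b Z W : Lˣ) : L) :=
  AdjoinRoot.liftAlgHom_root _ _ _ _

end Psi

end Groth.Agent.Lib.Helper84.Cyc
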