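import Mathlib
import Groth.Agent.Lib.Helper84.Cyc4

/-!
# The cyclic cover: concrete `K = A'[1/f₁]`
-/

set_option autoImplicit false
universe u

namespace Groth.Agent.Lib.Helper84.Cyc

open Polynomial

section Concrete

variable {B : Type u} [CommRing B] (g N₁ α₁ : ℕ) (u : Bˣ) (f₁ : B)

/-- `A' = B[t]/(t^N - u f₁^α)` with `N = g N₁`, `α = g α₁`. -/
abbrev AP : Type u := AdjoinRoot (X ^ (g * N₁) - C ((u : B) * f₁ ^ (g * α₁)) : B[X])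

/-- the image of `f₁` in `A'`. -/
noncomputable abbrev xP : AP g N₁ α₁ u f₁ := algebraMap B (AP g N₁ α₁ u f₁) f₁

/-- `K = A'[1/f₁]`. -/
abbrev KK : Type u := Localization.Away (xP g N₁ α₁ u f₁)

/-- `φ = f₁` as a unit of `K`. -/
noncomputable def phiK : (KK g N₁ α₁ u f₁)ˣ :=
  ⟨algebraMap (AP g N₁ α₁ u f₁) (KK g N₁ α₁ u f₁) (xP g N₁ α₁ u f₁),
    IsLocalization.Away.invSelf (xP g N₁ α₁ u f₁),
    IsLocalization.Away.mul_invSelf _,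
    by rw [mul_comm]; exact IsLocalization.Away.mul_invSelf _⟩

theorem phiK_val : ((phiK g N₁ α₁ u f₁ : (KK g N₁ α₁ u f₁)ˣ) : KK g N₁ α₁ u f₁) =
    algebraMap B (KK g N₁ α₁ u f₁) f₁ := by
  rw [IsScalarTower.algebraMap_apply B (AP g N₁ α₁ u f₁) (KK g N₁ α₁ u f₁)]
  rfl

theorem phiK_inv_val : ((phiK g N₁ α₁ u f₁)⁻¹ : (KK g N₁ α₁ u f₁)ˣ).1 =
    IsLocalization.Away.invSelf (xP g N₁ α₁ u f₁) := rfl

theorem tau_pow_eq :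
    (algebraMap (AP g N₁ α₁ u f₁) (KK g N₁ α₁ u f₁) (AdjoinRoot.root _)) ^ (g * N₁) =
      algebraMap B (KK g N₁ α₁ u f₁) (u : B) *
        ((phiK g N₁ α₁ u f₁ : (KK g N₁ α₁ u f₁)ˣ) : KK g N₁ α₁ u f₁) ^ (g * α₁) := by
  rw [← map_pow, root_pow, phiK_val, ← map_pow, ← map_mul,
    IsScalarTower.algebraMap_apply B (AP g N₁ α₁ u f₁) (KK g N₁ α₁ u f₁)]
  rfl

theorem isUnit_tau (hg : g ≠ 0) (hN₁ : N₁ ≠ 0) :
    IsUnit (algebraMap (AP g N₁ α₁ u f₁) (KK g N₁ α₁ u f₁) (AdjoinRoot.root _)) := by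
  rw [← isUnit_pow_iff (Nat.mul_ne_zero hg hN₁), tau_pow_eq]
  exact (u.isUnit.map _).mul ((phiK g N₁ α₁ u f₁).isUnit.pow _)

/-- `τ = t` as a unit of `K`. -/
noncomputable def tauK (hg : g ≠ 0) (hN₁ : N₁ ≠ 0) : (KK g N₁ α₁ u f₁)ˣ :=
  (isUnit_tau g N₁ α₁ u f₁ hg hN₁).unit

theorem tauK_val (hg : g ≠ 0) (hN₁ : N₁ ≠ 0) :
    ((tauK g N₁ α₁ u f₁ hg hN₁ : (KK g N₁ α₁ u f₁)ˣ) : KK g N₁ α₁ u f₁) =
      algebraMap (AP g N₁ α₁ u f₁) (KK g N₁ α₁ u f₁) (AdjoinRoot.root _) :=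
  IsUnit.unit_spec _

theorem hrelK (hg : g ≠ 0) (hN₁ : N₁ ≠ 0) :
    (tauK g N₁ α₁ u f₁ hg hN₁) ^ (g * N₁) =
      Units.map (algebraMap B (KK g N₁ α₁ u f₁)).toMonoidHom u *
        (phiK g N₁ α₁ u f₁) ^ (g * α₁) := by
  ext
  rw [Units.val_pow_eq_pow_val, tauK_val, tau_pow_eq, Units.val_mul, Units.val_pow_eq_pow_val]
  rfl

/-- the generators `e_i = t^i f₁^{-⌊iα/N⌋}`. -/
noncomputable def eGen (i : ℕ) : KK g N₁ α₁ u f₁ :=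
  algebraMap (AP g N₁ α₁ u f₁) (KK g N₁ α₁ u f₁) (AdjoinRoot.root _ ^ i) *
    IsLocalization.Away.invSelf (xP g N₁ α₁ u f₁) ^ (i * (g * α₁) / (g * N₁))

theorem eGen_eq (hg : g ≠ 0) (hN₁ : N₁ ≠ 0) (i : ℕ) :
    eGen g N₁ α₁ u f₁ i =
      ((M (tauK g N₁ α₁ u f₁ hg hN₁) (phiK g N₁ α₁ u f₁) i (-((i * α₁ / N₁ : ℕ) : ℤ)) :
        (KK g N₁ α₁ u f₁)ˣ) : KK g N₁ α₁ u f₁) := by
  have hq : i * (g * α₁) / (g * N₁) = i * α₁ / N₁ := by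
    rw [mul_left_comm, Nat.mul_div_mul_left _ _ (Nat.pos_of_ne_zero hg)]
  rw [eGen, hq, M, Units.val_mul, zpow_natCast, zpow_neg, zpow_natCast, ← inv_pow,
    Units.val_pow_eq_pow_val, Units.val_pow_eq_pow_val, tauK_val, phiK_inv_val, map_pow]

end Concrete

end Groth.Agent.Lib.Helper84.Cyc
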