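import Mathlib
import Groth.Agent.Lib.Helper84.Cyc5

/-!
# The cyclic cover: `Φ : C → K` has range `A`
-/

set_option autoImplicit false
universe u

namespace Groth.Agent.Lib.Helper84.Cyc

open Polynomial

section Main

variable {B : Type u} [CommRing B] (g N₁ α₁ a : ℕ) (b : ℤ) (u : Bˣ) (f₁ : B)
  (h : (a : ℤ) * α₁ - b * N₁ = 1) (hg : g ≠ 0) (hN₁ : N₁ ≠ 0)

/-- the comparison map `Φ : C → K`. -/
noncomputable def PhiK : CC g N₁ a u f₁ →ₐ[B] KK g N₁ α₁ u f₁ :=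
  Phi g N₁ α₁ a b u f₁ (tauK g N₁ α₁ u f₁ hg hN₁) (phiK g N₁ α₁ u f₁) (phiK_val g N₁ α₁ u f₁)
    (hrelK g N₁ α₁ u f₁ hg hN₁) h

/-- the algebra `A ⊆ K` generated by the `e_i`. -/
noncomputable def AA : Subalgebra B (KK g N₁ α₁ u f₁) :=
  Algebra.adjoin B (Set.range fun i : Fin (g * N₁) => eGen g N₁ α₁ u f₁ i)

include hg hN₁ in
theorem M_mem_AA : ∀ (i : ℕ) (c : ℤ), c * N₁ ≤ i * α₁ →
    ((M (tauK g N₁ α₁ u f₁ hg hN₁) (phiK g N₁ α₁ u f₁) i (-c) : (KK g N₁ α₁ u f₁)ˣ) :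
      KK g N₁ α₁ u f₁) ∈ AA g N₁ α₁ u f₁ := by
  intro i
  induction i using Nat.strong_induction_on with
  | _ i ih =>
    intro c hc
    set τ := tauK g N₁ α₁ u f₁ hg hN₁ with hτ
    set φ := phiK g N₁ α₁ u f₁ with hφ
    by_cases hi : i < g * N₁
    · set q := i * α₁ / N₁ with hq
      have hcq : c ≤ q := by
        have h1 : i * α₁ < N₁ * (q + 1) := Nat.lt_mul_div_succ (i * α₁) (Nat.pos_of_ne_zero hN₁)
        have h1' : ((i : ℤ) * α₁) < N₁ * (q + 1) := by exact_mod_cast h1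
        by_contra hlt
        push Not at hlt
        have h3 : (q : ℤ) + 1 ≤ c := hlt
        have hN0 : (0 : ℤ) ≤ N₁ := Int.natCast_nonneg _
        nlinarith
      obtain ⟨d, hd⟩ : ∃ d : ℕ, (q : ℤ) - c = d :=
        ⟨((q : ℤ) - c).toNat, (Int.toNat_of_nonneg (by omega)).symm⟩
      have hM : M τ φ i (-c) = M τ φ i (-(q : ℤ)) * φ ^ d := by
        have : φ ^ d = M τ φ 0 d := by simp [M]
        rw [this, M_mul]
        apply M_congr
        · ring
        · omega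
      rw [hM, Units.val_mul, hτ, hφ, ← eGen_eq g N₁ α₁ u f₁ hg hN₁ i, Units.val_pow_eq_pow_val,
        phiK_val, ← map_pow]
      exact mul_mem (Algebra.subset_adjoin ⟨⟨i, hi⟩, rfl⟩) (Subalgebra.algebraMap_mem _ _)
    · push Not at hi
      obtain ⟨j, rfl⟩ := Nat.exists_eq_add_of_le hi
      have hM : M τ φ ((g * N₁ + j : ℕ) : ℤ) (-c) =
          Units.map (algebraMap B (KK g N₁ α₁ u f₁)).toMonoidHom u *
            M τ φ j (-(c - (g * α₁ : ℕ))) := by
        have h1 : M τ φ ((g * N₁ + j : ℕ) : ℤ) (-c) = τ ^ (g * N₁) * M τ φ j (-c) := by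
          have : τ ^ (g * N₁) = M τ φ ((g * N₁ : ℕ) : ℤ) 0 := by
            rw [M, zpow_natCast, zpow_zero, mul_one]
          rw [this, M_mul]
          apply M_congr
          · push_cast; ring
          · ring
        have h2 : φ ^ (g * α₁) = M τ φ 0 ((g * α₁ : ℕ) : ℤ) := by
          rw [M, zpow_zero, one_mul, zpow_natCast]
        rw [h1, hτ, hrelK g N₁ α₁ u f₁ hg hN₁, ← hτ, ← hφ, h2, mul_assoc, M_mul]
        congr 1
        apply M_congr
        · ring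
        · ring
      rw [hM, Units.val_mul]
      refine mul_mem (Subalgebra.algebraMap_mem _ _) (ih j ?_ _ ?_)
      · have : 0 < g * N₁ := Nat.pos_of_ne_zero (Nat.mul_ne_zero hg hN₁)
        omega
      · push_cast at hc ⊢
        nlinarith

include h in
theorem range_PhiK : (PhiK g N₁ α₁ a b u f₁ h hg hN₁).range = AA g N₁ α₁ u f₁ := by
  apply le_antisymm
  · rintro _ ⟨c, rfl⟩
    refine Phi_mem g N₁ α₁ a b u f₁ _ _ _ _ h (AA g N₁ α₁ u f₁) ?_ ?_ c
    · have := M_mem_AA g N₁ α₁ u f₁ hg hN₁ N₁ α₁ (by rw [mul_comm])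
      exact this
    · have := M_mem_AA g N₁ α₁ u f₁ hg hN₁ a b (by linarith)
      exact this
  · apply Algebra.adjoin_le
    rintro _ ⟨i, rfl⟩
    show eGen g N₁ α₁ u f₁ i ∈ _
    rw [eGen_eq g N₁ α₁ u f₁ hg hN₁ i]
    refine M_mem_range g N₁ α₁ a b u f₁ _ _ _ _ h hg i _ ((i : ℕ) * α₁ % N₁) ?_
    exact (Nat.div_add_mod' _ _).symm

end Main

end Groth.Agent.Lib.Helper84.Cyc
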