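import Mathlib
import Groth.Agent.Lib.Helper84.Cyc6

/-!
# The cyclic cover: `Φ : C → K` is injective
-/

set_option autoImplicit false
universe u

namespace Groth.Agent.Lib.Helper84.Cyc

open Polynomial

theorem map_M {G H : Type*} [CommGroup G] [CommGroup H] (F : G →* H) (τ φ : G) (i j : ℤ) :
    F (M τ φ i j) = M (F τ) (F φ) i j := by
  simp [M, map_mul, map_zpow]

section Inj

variable {B : Type u} [CommRing B] (g N₁ α₁ a : ℕ) (b : ℤ) (u : Bˣ) (f₁ : B)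
  (h : (a : ℤ) * α₁ - b * N₁ = 1) (hg : g ≠ 0) (hN₁ : N₁ ≠ 0)

/-- the image of `f₁` in `C`. -/
noncomputable abbrev yC : CC g N₁ a u f₁ := algebraMap B (CC g N₁ a u f₁) f₁

/-- `L = C[1/f₁]`. -/
abbrev LL : Type u := Localization.Away (yC g N₁ a u f₁)

/-- `f₁` as a unit of `L`. -/
noncomputable def fL : (LL g N₁ a u f₁)ˣ :=
  ⟨algebraMap (CC g N₁ a u f₁) (LL g N₁ a u f₁) (yC g N₁ a u f₁),
    IsLocalization.Away.invSelf (yC g N₁ a u f₁),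
    IsLocalization.Away.mul_invSelf _,
    by rw [mul_comm]; exact IsLocalization.Away.mul_invSelf _⟩

theorem fL_val : ((fL g N₁ a u f₁ : (LL g N₁ a u f₁)ˣ) : LL g N₁ a u f₁) =
    algebraMap B (LL g N₁ a u f₁) f₁ := by
  rw [IsScalarTower.algebraMap_apply B (CC g N₁ a u f₁) (LL g N₁ a u f₁)]
  rfl

/-- `W` as a unit of `L`. -/
noncomputable def WL : (LL g N₁ a u f₁)ˣ :=
  Units.map (algebraMap (CC g N₁ a u f₁) (LL g N₁ a u f₁)).toMonoidHom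
    (isUnit_WC g N₁ a u f₁ hg).unit

theorem WL_val : ((WL g N₁ a u f₁ hg : (LL g N₁ a u f₁)ˣ) : LL g N₁ a u f₁) =
    algebraMap (CC g N₁ a u f₁) (LL g N₁ a u f₁) (WC g N₁ a u f₁) := by
  rw [WL, Units.coe_map]
  simp

theorem ZL_pow_eq :
    (algebraMap (CC g N₁ a u f₁) (LL g N₁ a u f₁) (ZC g N₁ a u f₁)) ^ N₁ =
      ((WL g N₁ a u f₁ hg : (LL g N₁ a u f₁)ˣ) : LL g N₁ a u f₁) ^ a *
        ((fL g N₁ a u f₁ : (LL g N₁ a u f₁)ˣ) : LL g N₁ a u f₁) := by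
  rw [← map_pow, ZC_pow, map_mul, map_pow, WL_val]
  rfl

include hg hN₁ in
theorem isUnit_ZL :
    IsUnit (algebraMap (CC g N₁ a u f₁) (LL g N₁ a u f₁) (ZC g N₁ a u f₁)) := by
  rw [← isUnit_pow_iff hN₁, ZL_pow_eq g N₁ a u f₁ hg]
  exact ((WL g N₁ a u f₁ hg).isUnit.pow _).mul (fL g N₁ a u f₁).isUnit

/-- `Z` as a unit of `L`. -/
noncomputable def ZL : (LL g N₁ a u f₁)ˣ := (isUnit_ZL g N₁ a u f₁ hg hN₁).unit

theorem ZL_val : ((ZL g N₁ a u f₁ hg hN₁ : (LL g N₁ a u f₁)ˣ) : LL g N₁ a u f₁) =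
    algebraMap (CC g N₁ a u f₁) (LL g N₁ a u f₁) (ZC g N₁ a u f₁) :=
  IsUnit.unit_spec _

theorem hWL : ((WL g N₁ a u f₁ hg : (LL g N₁ a u f₁)ˣ) : LL g N₁ a u f₁) ^ g =
    algebraMap B (LL g N₁ a u f₁) (u : B) := by
  rw [WL_val, ← map_pow, WC_pow,
    ← IsScalarTower.algebraMap_apply B (CC g N₁ a u f₁) (LL g N₁ a u f₁)]

theorem hrelL : (ZL g N₁ a u f₁ hg hN₁) ^ N₁ = (WL g N₁ a u f₁ hg) ^ a * fL g N₁ a u f₁ := by
  ext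
  rw [Units.val_pow_eq_pow_val, ZL_val, ZL_pow_eq g N₁ a u f₁ hg, Units.val_mul,
    Units.val_pow_eq_pow_val]

/-- `Ψ₀ : A' → L`. -/
noncomputable def PsiL0 : AP g N₁ α₁ u f₁ →ₐ[B] LL g N₁ a u f₁ :=
  Psi0 g N₁ α₁ a b u f₁ (ZL g N₁ a u f₁ hg hN₁) (WL g N₁ a u f₁ hg) (fL g N₁ a u f₁)
    (hWL g N₁ a u f₁ hg) (fL_val g N₁ a u f₁) (hrelL g N₁ a u f₁ hg hN₁) h

theorem PsiL0_xP : PsiL0 g N₁ α₁ a b u f₁ h hg hN₁ (xP g N₁ α₁ u f₁) =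
    ((fL g N₁ a u f₁ : (LL g N₁ a u f₁)ˣ) : LL g N₁ a u f₁) := by
  rw [fL_val]
  exact (PsiL0 g N₁ α₁ a b u f₁ h hg hN₁).commutes f₁

/-- `Ψ : K → L`. -/
noncomputable def PsiL : KK g N₁ α₁ u f₁ →+* LL g N₁ a u f₁ :=
  IsLocalization.Away.lift (xP g N₁ α₁ u f₁)
    (g := (PsiL0 g N₁ α₁ a b u f₁ h hg hN₁).toRingHom) (by
      show IsUnit (PsiL0 g N₁ α₁ a b u f₁ h hg hN₁ (xP g N₁ α₁ u f₁))
      rw [PsiL0_xP]
      exact (fL g N₁ a u f₁).isUnit)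

theorem PsiL_algebraMap (y : AP g N₁ α₁ u f₁) :
    PsiL g N₁ α₁ a b u f₁ h hg hN₁ (algebraMap _ (KK g N₁ α₁ u f₁) y) =
      PsiL0 g N₁ α₁ a b u f₁ h hg hN₁ y :=
  IsLocalization.Away.lift_eq _ _ _

theorem PsiL_tau :
    Units.map (PsiL g N₁ α₁ a b u f₁ h hg hN₁).toMonoidHom (tauK g N₁ α₁ u f₁ hg hN₁) =
      TU α₁ b (ZL g N₁ a u f₁ hg hN₁) (WL g N₁ a u f₁ hg) := by
  ext
  rw [Units.coe_map]
  show PsiL g N₁ α₁ a b u f₁ h hg hN₁ _ = _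
  rw [tauK_val, PsiL_algebraMap]
  exact Psi0_root _ _ _ _ _ _ _ _ _ _ _ _ _ _

theorem PsiL_phi :
    Units.map (PsiL g N₁ α₁ a b u f₁ h hg hN₁).toMonoidHom (phiK g N₁ α₁ u f₁) =
      fL g N₁ a u f₁ := by
  ext
  rw [Units.coe_map]
  show PsiL g N₁ α₁ a b u f₁ h hg hN₁ (algebraMap _ _ (xP g N₁ α₁ u f₁)) = _
  rw [PsiL_algebraMap, PsiL0_xP]

theorem PsiL_PhiK (c : CC g N₁ a u f₁) :
    PsiL g N₁ α₁ a b u f₁ h hg hN₁ (PhiK g N₁ α₁ a b u f₁ h hg hN₁ c) =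
      algebraMap _ (LL g N₁ a u f₁) c := by
  have key : (PsiL g N₁ α₁ a b u f₁ h hg hN₁).comp
      (PhiK g N₁ α₁ a b u f₁ h hg hN₁).toRingHom =
        algebraMap (CC g N₁ a u f₁) (LL g N₁ a u f₁) := by
    apply CC_ringHom_ext
    · intro r
      show PsiL g N₁ α₁ a b u f₁ h hg hN₁ (PhiK g N₁ α₁ a b u f₁ h hg hN₁ (algebraMap B _ r)) = _
      rw [AlgHom.commutes,
        IsScalarTower.algebraMap_apply B (AP g N₁ α₁ u f₁) (KK g N₁ α₁ u f₁), PsiL_algebraMap,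
        AlgHom.commutes,
        ← IsScalarTower.algebraMap_apply B (CC g N₁ a u f₁) (LL g N₁ a u f₁)]
    · show PsiL g N₁ α₁ a b u f₁ h hg hN₁ (PhiK g N₁ α₁ a b u f₁ h hg hN₁ (WC g N₁ a u f₁)) = _
      rw [PhiK, Phi_WC, ← WL_val g N₁ a u f₁ hg]
      have h1 := map_M (Units.map (PsiL g N₁ α₁ a b u f₁ h hg hN₁).toMonoidHom)
        (tauK g N₁ α₁ u f₁ hg hN₁) (phiK g N₁ α₁ u f₁) N₁ (-(α₁ : ℤ))
      rw [PsiL_tau, PsiL_phi] at h1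
      have h2 := T_w N₁ α₁ a b h (ZL g N₁ a u f₁ hg hN₁) (WL g N₁ a u f₁ hg) (fL g N₁ a u f₁)
        (hrelL g N₁ a u f₁ hg hN₁)
      have h3 : M (TU α₁ b (ZL g N₁ a u f₁ hg hN₁) (WL g N₁ a u f₁ hg)) (fL g N₁ a u f₁) N₁
          (-(α₁ : ℤ)) = WL g N₁ a u f₁ hg := by
        rw [M, zpow_natCast, TU]
        exact h2
      rw [h3] at h1
      exact congrArg (fun x : (LL g N₁ a u f₁)ˣ => (x : LL g N₁ a u f₁)) h1
    · show PsiL g N₁ α₁ a b u f₁ h hg hN₁ (PhiK g N₁ α₁ a b u f₁ h hg hN₁ (ZC g N₁ a u f₁)) = _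
      rw [PhiK, Phi_ZC, ← ZL_val g N₁ a u f₁ hg hN₁]
      have h1 := map_M (Units.map (PsiL g N₁ α₁ a b u f₁ h hg hN₁).toMonoidHom)
        (tauK g N₁ α₁ u f₁ hg hN₁) (phiK g N₁ α₁ u f₁) a (-b)
      rw [PsiL_tau, PsiL_phi] at h1
      have h2 := T_z N₁ α₁ a b h (ZL g N₁ a u f₁ hg hN₁) (WL g N₁ a u f₁ hg) (fL g N₁ a u f₁)
        (hrelL g N₁ a u f₁ hg hN₁)
      have h3 : M (TU α₁ b (ZL g N₁ a u f₁ hg hN₁) (WL g N₁ a u f₁ hg)) (fL g N₁ a u f₁) a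
          (-b) = ZL g N₁ a u f₁ hg hN₁ := by
        rw [M, zpow_natCast, TU]
        exact h2
      rw [h3] at h1
      exact congrArg (fun x : (LL g N₁ a u f₁)ˣ => (x : LL g N₁ a u f₁)) h1
  exact RingHom.congr_fun key c

theorem PhiK_injective [IsDomain B] (hf₁ : f₁ ≠ 0) :
    Function.Injective (PhiK g N₁ α₁ a b u f₁ h hg hN₁) := by
  rw [injective_iff_map_eq_zero]
  intro c hc
  have h1 := PsiL_PhiK g N₁ α₁ a b u f₁ h hg hN₁ c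
  rw [hc, map_zero] at h1
  have hinj : Function.Injective (algebraMap (CC g N₁ a u f₁) (LL g N₁ a u f₁)) :=
    IsLocalization.injective (LL g N₁ a u f₁) (M := Submonoid.powers (yC g N₁ a u f₁))
      (Submonoid.powers_le.mpr (algebraMap_mem_nonZeroDivisors_CC g N₁ a u f₁ hg hN₁ hf₁))
  exact hinj (by rw [← h1, map_zero])

end Inj

end Groth.Agent.Lib.Helper84.Cyc
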