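import Mathlib
import Groth.Agent.Lib.Helper84.Cyc7

/-!
# The cyclic cover: main theorem
-/

set_option autoImplicit false
universe u

namespace Groth.Agent.Lib.Helper84.Cyc

open Polynomial

section Main

variable {B : Type u} [CommRing B] (g N₁ α₁ a : ℕ) (b : ℤ) (u : Bˣ) (f₁ : B)
  (h : (a : ℤ) * α₁ - b * N₁ = 1) (hg : g ≠ 0) (hN₁ : N₁ ≠ 0)

include hg hN₁ in
theorem algebraMap_AP_mem_AA (y : AP g N₁ α₁ u f₁) :
    algebraMap (AP g N₁ α₁ u f₁) (KK g N₁ α₁ u f₁) y ∈ AA g N₁ α₁ u f₁ := by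
  have hτ : algebraMap (AP g N₁ α₁ u f₁) (KK g N₁ α₁ u f₁) (AdjoinRoot.root _) ∈
      AA g N₁ α₁ u f₁ := by
    have := M_mem_AA g N₁ α₁ u f₁ hg hN₁ 1 0 (by simp)
    rw [Nat.cast_one, neg_zero, M_one_zero, tauK_val] at this
    exact this
  induction y using AdjoinRoot.induction_on with
  | ih p =>
    induction p using Polynomial.induction_on' with
    | add p q hp hq => rw [map_add, map_add]; exact add_mem hp hq
    | monomial n r =>
      have hmono : (AdjoinRoot.mk (X ^ (g * N₁) - C ((u : B) * f₁ ^ (g * α₁)) : B[X]))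
          (monomial n r) = AdjoinRoot.of _ r * (AdjoinRoot.root _) ^ n := by
        rw [← C_mul_X_pow_eq_monomial, ← AdjoinRoot.mk_C, ← AdjoinRoot.mk_X, ← map_pow, ← map_mul]
      rw [hmono, map_mul (algebraMap (AP g N₁ α₁ u f₁) (KK g N₁ α₁ u f₁)),
        map_pow (algebraMap (AP g N₁ α₁ u f₁) (KK g N₁ α₁ u f₁))]
      refine mul_mem ?_ (pow_mem hτ _)
      have : algebraMap (AP g N₁ α₁ u f₁) (KK g N₁ α₁ u f₁) (AdjoinRoot.of _ r) =
          algebraMap B (KK g N₁ α₁ u f₁) r := by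
        rw [IsScalarTower.algebraMap_apply B (AP g N₁ α₁ u f₁) (KK g N₁ α₁ u f₁)]
        rfl
      rw [this]
      exact Subalgebra.algebraMap_mem _ _

include hg hN₁ in
theorem dvd_of_dvd_pow [IsRegularRing B] (hgu : IsUnit (g : B))
    (hD : IsRegularRing (B ⧸ Ideal.span {f₁})) (y : CC g N₁ a u f₁) (m : ℕ)
    (hy : ZC g N₁ a u f₁ ∣ y ^ m) : ZC g N₁ a u f₁ ∣ y := by
  have hreg := isRegularRing_quot_sEl g a u f₁ hg hgu hD
  have hred : IsReduced (B1 g u ⧸ Ideal.span {sEl g a u f₁}) := isReduced_of_isRegularRing _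
  obtain ⟨d, hd⟩ := hy
  have h1 : (toQuot (sEl g a u f₁) N₁ hN₁ y) ^ m = 0 := by
    rw [← map_pow, hd, map_mul, ZC, toQuot_root, zero_mul]
  have h2 : toQuot (sEl g a u f₁) N₁ hN₁ y = 0 := IsNilpotent.eq_zero ⟨m, h1⟩
  have h3 : y ∈ RingHom.ker (toQuot (sEl g a u f₁) N₁ hN₁) := h2
  rw [ker_toQuot, Ideal.mem_span_singleton] at h3
  exact h3

include h hg hN₁ in
theorem main [IsDomain B] [IsRegularRing B] (hgu : IsUnit (g : B)) (hNu : IsUnit (N₁ : B))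
    (hf₁ : f₁ ≠ 0) (hD : IsRegularRing (B ⧸ Ideal.span {f₁})) :
    Module.Finite B (AA g N₁ α₁ u f₁) ∧
      IsIntegralClosure (AA g N₁ α₁ u f₁) (AP g N₁ α₁ u f₁) (KK g N₁ α₁ u f₁) ∧
      IsRegularRing (AA g N₁ α₁ u f₁) := by
  set Φ := PhiK g N₁ α₁ a b u f₁ h hg hN₁ with hΦ
  have hrange : Φ.range = AA g N₁ α₁ u f₁ := range_PhiK g N₁ α₁ a b u f₁ h hg hN₁
  have hinj : Function.Injective Φ := PhiK_injective g N₁ α₁ a b u f₁ h hg hN₁ hf₁
  have hfin : Module.Finite B (CC g N₁ a u f₁) := finite_CC g N₁ a u f₁ hg hN₁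
  have hregC : IsRegularRing (CC g N₁ a u f₁) :=
    isRegularRing_CC g N₁ a u f₁ hg hN₁ hgu hNu hf₁ hD
  rw [← hrange]
  have hbij : Function.Bijective Φ.rangeRestrict :=
    ⟨fun x y hxy => hinj (congrArg Subtype.val hxy), Φ.rangeRestrict_surjective⟩
  let e : CC g N₁ a u f₁ ≃+* Φ.range := RingEquiv.ofBijective Φ.rangeRestrict hbij
  refine ⟨?_, ?_, ?_⟩
  · exact Module.Finite.of_surjective Φ.rangeRestrict.toLinearMap Φ.rangeRestrict_surjective
  · have hfinAP : Module.Finite B (AP g N₁ α₁ u f₁) :=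
      (monic_X_pow_sub_C _ (Nat.mul_ne_zero hg hN₁)).finite_adjoinRoot
    have hintAP : Algebra.IsIntegral B (AP g N₁ α₁ u f₁) := Algebra.IsIntegral.of_finite B _
    have hintC : Algebra.IsIntegral B (CC g N₁ a u f₁) := Algebra.IsIntegral.of_finite B _
    have hZ : IsUnit (Φ.toRingHom (ZC g N₁ a u f₁)) := by
      show IsUnit (Φ (ZC g N₁ a u f₁))
      rw [hΦ, PhiK, Phi_ZC]
      exact Units.isUnit _
    have hAPmem : ∀ y : AP g N₁ α₁ u f₁,
        algebraMap (AP g N₁ α₁ u f₁) (KK g N₁ α₁ u f₁) y ∈ Φ.range := by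
      intro y
      rw [hrange]
      exact algebraMap_AP_mem_AA g N₁ α₁ u f₁ hg hN₁ y
    have hgen : ∀ x : KK g N₁ α₁ u f₁, ∃ n : ℕ,
        Φ.toRingHom (ZC g N₁ a u f₁) ^ n * x ∈ Φ.toRingHom.range := by
      intro x
      obtain ⟨n, y, hy⟩ := IsLocalization.Away.surj (xP g N₁ α₁ u f₁) x
      refine ⟨N₁ * n, ?_⟩
      obtain ⟨c, hc⟩ := hAPmem y
      replace hc : Φ c = algebraMap (AP g N₁ α₁ u f₁) (KK g N₁ α₁ u f₁) y := hc
      have hφ : algebraMap (AP g N₁ α₁ u f₁) (KK g N₁ α₁ u f₁) (xP g N₁ α₁ u f₁) =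
          algebraMap B (KK g N₁ α₁ u f₁) f₁ :=
        (IsScalarTower.algebraMap_apply B (AP g N₁ α₁ u f₁) (KK g N₁ α₁ u f₁) f₁).symm
      have hz : Φ (ZC g N₁ a u f₁) ^ N₁ =
          Φ (WC g N₁ a u f₁) ^ a * algebraMap B (KK g N₁ α₁ u f₁) f₁ := by
        rw [← map_pow, ZC_pow, map_mul, map_pow, AlgHom.commutes]
      refine ⟨(WC g N₁ a u f₁) ^ (a * n) * c, ?_⟩
      show Φ _ = Φ (ZC g N₁ a u f₁) ^ (N₁ * n) * x
      rw [map_mul, map_pow, hc, ← hy, hφ, pow_mul (Φ (ZC g N₁ a u f₁)) N₁ n, hz, mul_pow,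
        pow_mul (Φ (WC g N₁ a u f₁)) a n]
      ring
    refine ⟨Subtype.val_injective, fun {x} => ⟨fun hx => ?_, ?_⟩⟩
    · have hxB : IsIntegral B x := isIntegral_trans x hx
      have hxΦ : Φ.toRingHom.IsIntegralElem x := by
        apply RingHom.IsIntegralElem.of_comp (f := algebraMap B (CC g N₁ a u f₁))
        have : Φ.toRingHom.comp (algebraMap B (CC g N₁ a u f₁)) =
            algebraMap B (KK g N₁ α₁ u f₁) := Φ.comp_algebraMap
        rw [this]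
        exact hxB
      obtain ⟨c, hc⟩ := mem_range_of_isIntegral Φ.toRingHom hinj (ZC g N₁ a u f₁) hZ hgen
        (dvd_of_dvd_pow g N₁ a u f₁ hg hN₁ hgu hD) x hxΦ
      exact ⟨⟨x, c, hc⟩, rfl⟩
    · rintro ⟨⟨_, c, rfl⟩, rfl⟩
      have h1 : IsIntegral B c := Algebra.IsIntegral.isIntegral c
      have h2 : IsIntegral B (Φ c) := h1.map Φ
      exact h2.tower_top
  · exact IsRegularRing.of_ringEquiv e

end Main

end Groth.Agent.Lib.Helper84.Cyc
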