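import Mathlib

/-!
# A commutative algebra over a field with a separability idempotent is finite-dimensional (helper84)
-/

set_option autoImplicit false
universe u

open TensorProduct

namespace Groth.Agent.Lib.Helper84.DiagLfp

/-- If the kernel of the multiplication map `S ⊗[k] S → S` is generated by an idempotent (`k` a field),
then `S` is a finite-dimensional `k`-vector space. (The field is given as a commutative ring with
`IsField`, to avoid instance clashes for bundled rings.) -/
theorem finite_of_ker_lmul'_eq_span (k S : Type u) [CommRing k] (hk : IsField k) [CommRing S]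
    [Algebra k S] (e : S ⊗[k] S) (he : IsIdempotentElem e)
    (he' : RingHom.ker (Algebra.TensorProduct.lmul' k (S := S)).toRingHom = Ideal.span {e}) :
    Module.Finite k S := by
  classical
  let _ : Field k := hk.toField
  set μ := Algebra.TensorProduct.lmul' k (S := S) with hμ
  set ε : S ⊗[k] S := 1 - e with hε
  have hμe : μ e = 0 := by
    have : e ∈ RingHom.ker μ.toRingHom := by rw [he']; exact Ideal.mem_span_singleton_self e
    exact this
  have hμε : μ ε = 1 := by rw [hε, map_sub, map_one, hμe, sub_zero]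
  have hεe : e * ε = 0 := by rw [hε, mul_sub, mul_one, he.eq, sub_self]
  have hkill : ∀ a : S, (a ⊗ₜ[k] (1 : S)) * ε = ((1 : S) ⊗ₜ[k] a) * ε := by
    intro a
    have hmem : (a ⊗ₜ[k] (1 : S) - (1 : S) ⊗ₜ[k] a) ∈ RingHom.ker μ.toRingHom := by
      rw [RingHom.mem_ker]
      simp [μ]
    rw [he', Ideal.mem_span_singleton'] at hmem
    obtain ⟨c, hc⟩ := hmem
    have : (a ⊗ₜ[k] (1 : S) - (1 : S) ⊗ₜ[k] a) * ε = 0 := by
      rw [← hc, mul_assoc, hεe, mul_zero]
    rwa [sub_mul, sub_eq_zero] at this
  let ℬ := Module.Basis.ofVectorSpace k S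
  obtain ⟨b, hb⟩ := TensorProduct.eq_repr_basis_right ℬ ε
  let ψ : (Module.Basis.ofVectorSpaceIndex k S) → (S ⊗[k] S →ₗ[k] S) := fun j =>
    (TensorProduct.rid k S).toLinearMap ∘ₗ (LinearMap.lTensor S (ℬ.coord j))
  have hψ : ∀ j (s t : S), ψ j (s ⊗ₜ t) = (ℬ.coord j t) • s := by
    intro j s t
    simp [ψ]
  let V : Submodule k S := Submodule.span k ((fun i => b i) '' (b.support : Set _))
  have hVfg : V.FG := Submodule.fg_span ((Finset.finite_toSet _).image _)
  have hbV : ∀ i, b i ∈ V := by
    intro i
    by_cases hi : i ∈ b.support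
    · exact Submodule.subset_span ⟨i, hi, rfl⟩
    · rw [Finsupp.notMem_support_iff.mp hi]; exact V.zero_mem
  -- the two expansions
  have hL : ∀ a : S, (a ⊗ₜ[k] (1 : S)) * ε = b.sum (fun i m => (a * m) ⊗ₜ[k] ℬ i) := by
    intro a
    rw [← hb, Finsupp.sum, Finset.mul_sum]
    simp only [Finsupp.sum, Algebra.TensorProduct.tmul_mul_tmul, one_mul]
  have hR : ∀ a : S, ((1 : S) ⊗ₜ[k] a) * ε = b.sum (fun i m => m ⊗ₜ[k] (a * ℬ i)) := by
    intro a
    rw [← hb, Finsupp.sum, Finset.mul_sum]
    simp only [Finsupp.sum, Algebra.TensorProduct.tmul_mul_tmul, one_mul]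
  have h1 : ∀ (a : S) j, a * b j ∈ V := by
    intro a j
    have hleft : ψ j ((a ⊗ₜ[k] (1 : S)) * ε) = a * b j := by
      rw [hL, Finsupp.sum, map_sum]
      simp only [hψ]
      rw [Finset.sum_eq_single j]
      · rw [Module.Basis.coord_apply, Module.Basis.repr_self, Finsupp.single_eq_same, one_smul]
      · intro i _ hij
        rw [Module.Basis.coord_apply, Module.Basis.repr_self, Finsupp.single_eq_of_ne hij.symm,
          zero_smul]
      · intro hj
        rw [Finsupp.notMem_support_iff.mp hj, mul_zero, smul_zero]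
    have hright : ψ j (((1 : S) ⊗ₜ[k] a) * ε) ∈ V := by
      rw [hR, Finsupp.sum, map_sum]
      simp only [hψ]
      exact V.sum_mem fun i _ => V.smul_mem _ (hbV i)
    rw [← hleft, hkill]
    exact hright
  have hone : (1 : S) = b.sum (fun i m => m * ℬ i) := by
    rw [← hμε, ← hb, Finsupp.sum, map_sum]
    simp [μ, Finsupp.sum]
  have htop : (⊤ : Submodule k S) ≤ V := by
    intro a _
    have : a = b.sum (fun i m => (a * ℬ i) * m) := by
      conv_lhs => rw [← mul_one a, hone]
      rw [Finsupp.sum, Finset.mul_sum]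
      simp only [Finsupp.sum]
      exact Finset.sum_congr rfl fun i _ => by ring
    rw [this]
    exact V.sum_mem fun i _ => h1 _ _
  have : V = ⊤ := top_le_iff.mp htop
  exact ⟨this ▸ hVfg⟩

end Groth.Agent.Lib.Helper84.DiagLfp
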