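import Mathlib
import Groth.Agent.Lib.Helper84.DiagLfp1

/-!
# A scheme over a field whose diagonal is an open immersion is locally of finite presentation (helper84)
-/

set_option autoImplicit false
universe u

open CategoryTheory CategoryTheory.Limits AlgebraicGeometry

namespace Groth.Agent.Lib.Helper84.DiagLfp

set_option backward.isDefEq.respectTransparency.types false in
/-- a scheme over a field whose diagonal is an open immersion is locally of finite presentation -/
theorem lfp_of_isOpenImmersion_diagonal {X : Scheme.{u}} (R : CommRingCat.{u}) (hR : IsField R)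
    (f : X ⟶ Spec R) [IsOpenImmersion (pullback.diagonal f)] : LocallyOfFinitePresentation f := by
  wlog hX : ∃ S, X = Spec S generalizing X
  · rw [IsZariskiLocalAtSource.iff_of_openCover (P := @LocallyOfFinitePresentation) X.affineCover]
    intro i
    have inst : IsOpenImmersion (pullback.diagonal (X.affineCover.f i ≫ f)) :=
      MorphismProperty.comp_mem (.diagonal @IsOpenImmersion) _ _
        (inferInstanceAs (IsOpenImmersion _)) ‹_›
    exact this (_ ≫ _) ⟨_, rfl⟩
  obtain ⟨S, rfl⟩ := hX
  obtain ⟨φ, rfl : Spec.map φ = f⟩ := Spec.homEquiv.symm.surjective f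
  rw [HasRingHomProperty.Spec_iff (P := @LocallyOfFinitePresentation)]
  algebraize [φ.hom]
  let F := (Algebra.TensorProduct.lmul' R (S := S)).toRingHom
  have hF : Function.Surjective F := fun x ↦ ⟨.mk _ _ _ x 1, by simp [F]⟩
  have : IsOpenImmersion (Spec.map (CommRingCat.ofHom F)) := by
    rwa [← MorphismProperty.cancel_right_of_respectsIso (P := @IsOpenImmersion) _
      (pullbackSpecIso R S S).inv, ← AlgebraicGeometry.diagonal_SpecMap R S]
  obtain ⟨e, he, he'⟩ := (isOpenImmersion_SpecMap_iff_of_surjective _ hF).mp this
  have hfin : Module.Finite R S := finite_of_ker_lmul'_eq_span R S hR e he he'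
  have hft : Algebra.FiniteType R S := inferInstance
  have hnoeth : IsNoetherianRing R := by
    let _ : Field R := hR.toField
    infer_instance
  have hfp : Algebra.FinitePresentation R S := Algebra.FinitePresentation.of_finiteType.mp hft
  exact hfp

end Groth.Agent.Lib.Helper84.DiagLfp
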