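import Mathlib

/-!
# A linear map of finite flat modules over a Noetherian ring which is bijective on the fibres at
all primes of height `≤ 1` is bijective (helper84)

Determinant + Krull's Hauptidealsatz.
-/

set_option autoImplicit false

namespace Groth.Agent.Lib.Helper84.FibIso

open TensorProduct

universe u

/-- Free case: a linear map between finite free modules over a Noetherian ring which becomes
bijective after base change to some field "at" every prime of height `≤ 1` is bijective. -/
theorem bijective_free {L : Type u} [CommRing L] [IsNoetherianRing L]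
    {M N : Type u} [AddCommGroup M] [Module L M] [AddCommGroup N] [Module L N]
    [Module.Finite L M] [Module.Free L M] [Module.Finite L N] [Module.Free L N]
    (ψ : M →ₗ[L] N)
    (H : ∀ (𝔭 : Ideal L) [𝔭.IsPrime], 𝔭.height ≤ 1 →
      ∃ (K : Type u) (_ : Field K) (_ : Algebra L K),
        𝔭 ≤ RingHom.ker (algebraMap L K) ∧ Function.Bijective (ψ.baseChange K)) :
    Function.Bijective ψ := by
  rcases subsingleton_or_nontrivial L with hL | hL
  · have : Subsingleton M := Module.subsingleton L M
    have : Subsingleton N := Module.subsingleton L N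
    exact ⟨fun _ _ _ => Subsingleton.elim _ _, fun y => ⟨0, Subsingleton.elim _ _⟩⟩
  -- equality of ranks, from a minimal prime
  obtain ⟨m, hm⟩ := Ideal.exists_maximal L
  obtain ⟨𝔭₀, h𝔭₀, -⟩ := Ideal.exists_minimalPrimes_le (I := ⊥) (J := m) bot_le
  have : 𝔭₀.IsPrime := h𝔭₀.1.1
  obtain ⟨K₀, _, _, -, hK₀⟩ := H 𝔭₀
    (Ideal.height_le_one_of_isPrincipal_of_mem_minimalPrimes ⊥ 𝔭₀ h𝔭₀)
  have hrank : Module.finrank L N = Module.finrank L M := by
    have h1 := (LinearEquiv.ofBijective (ψ.baseChange K₀) hK₀).finrank_eq
    rw [Module.finrank_baseChange, Module.finrank_baseChange] at h1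
    exact h1.symm
  let e : N ≃ₗ[L] M := LinearEquiv.ofFinrankEq N M hrank
  set θ : M →ₗ[L] M := e.toLinearMap ∘ₗ ψ with hθ
  -- the determinant of θ avoids all primes of height ≤ 1
  have hdet : ∀ (𝔭 : Ideal L) [𝔭.IsPrime], 𝔭.height ≤ 1 → LinearMap.det θ ∉ 𝔭 := by
    intro 𝔭 _ h𝔭 hmem
    obtain ⟨K, _, _, hle, hK⟩ := H 𝔭 h𝔭
    have hbij : Function.Bijective (θ.baseChange K) := by
      rw [hθ, LinearMap.baseChange_comp]
      exact (show Function.Bijective (e.toLinearMap.baseChange K) from
        (e.baseChange L K _ _).bijective).comp hK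
    have hunit : IsUnit (LinearMap.det (θ.baseChange K)) :=
      LinearMap.isUnit_det _ ((Module.End.isUnit_iff _).mpr hbij)
    rw [LinearMap.det_baseChange] at hunit
    have : algebraMap L K (LinearMap.det θ) = 0 := hle hmem
    rw [this] at hunit
    exact not_isUnit_zero hunit
  have hunit : IsUnit (LinearMap.det θ) := by
    by_contra hnu
    have hne : Ideal.span {LinearMap.det θ} ≠ ⊤ := by
      rwa [Ne, Ideal.span_singleton_eq_top]
    obtain ⟨m', hm', hle⟩ := Ideal.exists_le_maximal _ hne
    obtain ⟨𝔭, h𝔭, -⟩ := Ideal.exists_minimalPrimes_le (J := m') hle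
    have : 𝔭.IsPrime := h𝔭.1.1
    exact hdet 𝔭 (Ideal.height_le_one_of_isPrincipal_of_mem_minimalPrimes _ 𝔭 h𝔭)
      (h𝔭.1.2 (Ideal.mem_span_singleton_self _))
  have hθbij : Function.Bijective θ :=
    (Module.End.isUnit_iff _).mp ((LinearMap.isUnit_iff_isUnit_det θ).mpr hunit)
  have : (ψ : M → N) = e.symm ∘ θ := by
    ext x; simp [hθ]
  rw [this]
  exact e.symm.bijective.comp hθbij


/-- Compatibility of `cancelBaseChange` with base change of linear maps. -/
theorem cancelBaseChange_baseChange {R : Type u} [CommRing R] (L : Type u) [CommRing L] [Algebra R L]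
    (K : Type u) [CommRing K] [Algebra R K] [Algebra L K] [IsScalarTower R L K]
    {A B : Type u} [AddCommGroup A] [Module R A] [AddCommGroup B] [Module R B]
    (φ : B →ₗ[R] A) (x : K ⊗[L] (L ⊗[R] B)) :
    AlgebraTensorModule.cancelBaseChange R L K K A (((φ.baseChange L).baseChange K) x) =
      (φ.baseChange K) (AlgebraTensorModule.cancelBaseChange R L K K B x) := by
  induction x using TensorProduct.induction_on with
  | zero => simp
  | add x y hx hy => simp only [map_add, hx, hy]
  | tmul k y =>
    induction y using TensorProduct.induction_on with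
    | zero => simp
    | add x y hx hy => simp only [TensorProduct.tmul_add, map_add, hx, hy]
    | tmul l b => simp

/-- A linear map of finite flat modules over a Noetherian ring which is bijective on the fibre at
every prime of height `≤ 1` (read off over any field with the prescribed kernel) is bijective. -/
theorem bijective_of_fibres {R : Type u} [CommRing R] [IsNoetherianRing R]
    {A B : Type u} [AddCommGroup A] [Module R A] [AddCommGroup B] [Module R B]
    [Module.Finite R A] [Module.Flat R A] [Module.Finite R B] [Module.Flat R B]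
    (φ : B →ₗ[R] A)
    (H : ∀ (𝔭 : Ideal R) [𝔭.IsPrime], 𝔭.height ≤ 1 →
      ∃ (K : Type u) (_ : Field K) (_ : Algebra R K),
        RingHom.ker (algebraMap R K) = 𝔭 ∧ Function.Bijective (φ.baseChange K)) :
    Function.Bijective φ := by
  refine bijective_of_isLocalized_maximal
    (fun P _ => Localization.AtPrime P ⊗[R] B)
    (fun P _ => TensorProduct.mk R (Localization.AtPrime P) B 1)
    (fun P _ => Localization.AtPrime P ⊗[R] A)
    (fun P _ => TensorProduct.mk R (Localization.AtPrime P) A 1) φ ?_
  intro m hm
  set L := Localization.AtPrime m with hL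
  have hmap : IsLocalizedModule.map m.primeCompl (TensorProduct.mk R L B 1)
      (TensorProduct.mk R L A 1) φ = (φ.baseChange L).restrictScalars R := by
    refine IsLocalizedModule.linearMap_ext m.primeCompl (TensorProduct.mk R L B 1)
      (TensorProduct.mk R L A 1) ?_
    ext b
    exact IsLocalizedModule.map_apply m.primeCompl (TensorProduct.mk R L B 1)
      (TensorProduct.mk R L A 1) φ b
  rw [hmap]
  change Function.Bijective (φ.baseChange L)
  have : Module.Free L (L ⊗[R] B) := Module.free_of_flat_of_isLocalRing
  have : Module.Free L (L ⊗[R] A) := Module.free_of_flat_of_isLocalRing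
  refine bijective_free (φ.baseChange L) ?_
  intro 𝔭' _ h𝔭'
  have h𝔭 : (𝔭'.under R).height ≤ 1 := by
    rw [IsLocalization.height_under m.primeCompl]; exact h𝔭'
  obtain ⟨K, _, _, hker, hK⟩ := H (𝔭'.under R) h𝔭
  have hg : ∀ y : m.primeCompl, IsUnit (algebraMap R K y) := by
    intro y
    rw [isUnit_iff_ne_zero]
    intro h0
    have hy : (y : R) ∈ 𝔭'.under R := by rw [← hker]; exact h0
    have hle : 𝔭'.under R ≤ m := by
      have h1 : 𝔭' ≤ IsLocalRing.maximalIdeal L := IsLocalRing.le_maximalIdeal (Ideal.IsPrime.ne_top')
      have h2 : 𝔭'.under R ≤ (IsLocalRing.maximalIdeal L).under R := Ideal.comap_mono h1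
      rwa [Localization.AtPrime.under_maximalIdeal] at h2
    exact y.2 (hle hy)
  let _ : Algebra L K := (IsLocalization.lift hg).toAlgebra
  have : IsScalarTower R L K := .of_algebraMap_eq (fun x => (IsLocalization.lift_eq hg x).symm)
  refine ⟨K, inferInstance, inferInstance, ?_, ?_⟩
  · rw [← IsLocalization.map_under m.primeCompl L 𝔭', Ideal.map_le_iff_le_comap]
    intro x hx
    have hx' : x ∈ RingHom.ker (algebraMap R K) := by rw [hker]; exact hx
    rw [Ideal.mem_comap, RingHom.mem_ker, ← IsScalarTower.algebraMap_apply]
    exact hx'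
  · have hfun : ((φ.baseChange L).baseChange K : _ → _) =
        (AlgebraTensorModule.cancelBaseChange R L K K A).symm ∘ (φ.baseChange K) ∘
          (AlgebraTensorModule.cancelBaseChange R L K K B) := by
      funext x
      simp only [Function.comp_apply]
      rw [← cancelBaseChange_baseChange, LinearEquiv.symm_apply_apply]
    rw [hfun]
    exact (LinearEquiv.bijective _).comp (hK.comp (LinearEquiv.bijective _))

end Groth.Agent.Lib.Helper84.FibIso
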