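import Mathlib
import Groth.Agent.Lib.Helper84.FibIso1
import Groth.Agent.Lib.Helper24.FibreChart

/-!
# A morphism of finite flat schemes over a Noetherian base which is an isomorphism on the fibres at
all points of codimension `≤ 1` is an isomorphism (helper84)
-/

set_option autoImplicit false

namespace Groth.Agent.Lib.Helper84.FibIso

open CategoryTheory CategoryTheory.Limits AlgebraicGeometry TensorProduct CommRingCat

universe u

/-- Spec-level: if the base change of `Spec φ` along `Spec κ → Spec R` is an isomorphism then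
`φ ⊗ κ` is bijective. -/
theorem bijective_of_isIso_pullbackMap (R A B κ : Type u) [CommRing R] [CommRing A] [CommRing B]
    [CommRing κ] [Algebra R A] [Algebra R B] [Algebra R κ] (φ : B →ₐ[R] A)
    (h1 : Spec.map (ofHom (algebraMap R A)) ≫ 𝟙 _ =
      Spec.map (ofHom φ.toRingHom) ≫ Spec.map (ofHom (algebraMap R B)))
    (h2 : Spec.map (ofHom (algebraMap R κ)) ≫ 𝟙 _ = 𝟙 _ ≫ Spec.map (ofHom (algebraMap R κ)))
    (h : IsIso (pullback.map (Spec.map (ofHom (algebraMap R A))) (Spec.map (ofHom (algebraMap R κ)))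
      (Spec.map (ofHom (algebraMap R B))) (Spec.map (ofHom (algebraMap R κ)))
      (Spec.map (ofHom φ.toRingHom)) (𝟙 _) (𝟙 _) h1 h2)) :
    Function.Bijective (φ.toLinearMap.baseChange κ) := by
  set γ := pullback.map (Spec.map (ofHom (algebraMap R A))) (Spec.map (ofHom (algebraMap R κ)))
      (Spec.map (ofHom (algebraMap R B))) (Spec.map (ofHom (algebraMap R κ)))
      (Spec.map (ofHom φ.toRingHom)) (𝟙 _) (𝟙 _) h1 h2 with hγ
  let ψ : B ⊗[R] κ →ₐ[R] A ⊗[R] κ := Algebra.TensorProduct.map φ (AlgHom.id R κ)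
  have key : γ = (pullbackSpecIso R A κ).hom ≫ Spec.map (ofHom ψ.toRingHom) ≫
      (pullbackSpecIso R B κ).inv := by
    apply pullback.hom_ext
    · rw [hγ, pullback.lift_fst, Category.assoc, Category.assoc, pullbackSpecIso_inv_fst,
        ← Spec.map_comp, ← pullbackSpecIso_hom_fst R A κ, Category.assoc, ← Spec.map_comp]
      congr 2
    · rw [hγ, pullback.lift_snd, Category.assoc, Category.assoc, pullbackSpecIso_inv_snd,
        ← Spec.map_comp, Category.comp_id, ← pullbackSpecIso_hom_snd R A κ]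
      congr 2
      ext b
      simp [ψ]
  have hiso : IsIso (Spec.map (ofHom ψ.toRingHom)) := by
    have : Spec.map (ofHom ψ.toRingHom) = (pullbackSpecIso R A κ).inv ≫ γ ≫
        (pullbackSpecIso R B κ).hom := by
      rw [key]; simp
    rw [this]
    infer_instance
  have hbij : Function.Bijective ψ := by
    have := (isIso_SpecMap_iff (f := ofHom ψ.toRingHom)).mp hiso
    exact this
  -- pass from `B ⊗ κ → A ⊗ κ` to `κ ⊗ B → κ ⊗ A`
  have hfun : ((φ.toLinearMap.baseChange κ : κ ⊗[R] B →ₗ[κ] κ ⊗[R] A) : _ → _) =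
      (TensorProduct.comm R A κ) ∘ ψ ∘ (TensorProduct.comm R κ B) := by
    funext x
    induction x using TensorProduct.induction_on with
    | zero => simp
    | add x y hx hy => simp only [map_add, hx, hy, Function.comp_apply]
    | tmul k b => simp [ψ]
  rw [hfun]
  exact (LinearEquiv.bijective _).comp (hbij.comp (LinearEquiv.bijective _))


lemma isIso_pullbackMap_congr {C : Type*} [Category C] [HasPullbacks C] {W X Y Z S T : C}
    {f₁ f₁' : W ⟶ S} {f₂ f₂' : X ⟶ S} {g₁ g₁' : Y ⟶ T} {g₂ g₂' : Z ⟶ T} {i₁ i₁' : W ⟶ Y}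
    {i₂ i₂' : X ⟶ Z} {i₃ i₃' : S ⟶ T}
    (hf₁ : f₁ = f₁') (hf₂ : f₂ = f₂') (hg₁ : g₁ = g₁') (hg₂ : g₂ = g₂') (hi₁ : i₁ = i₁')
    (hi₂ : i₂ = i₂') (hi₃ : i₃ = i₃')
    (e₁ : f₁ ≫ i₃ = i₁ ≫ g₁) (e₂ : f₂ ≫ i₃ = i₂ ≫ g₂) (e₁' : f₁' ≫ i₃' = i₁' ≫ g₁')
    (e₂' : f₂' ≫ i₃' = i₂' ≫ g₂')
    (h : IsIso (pullback.map f₁ f₂ g₁ g₂ i₁ i₂ i₃ e₁ e₂)) :
    IsIso (pullback.map f₁' f₂' g₁' g₂' i₁' i₂' i₃' e₁' e₂') := by
  subst hf₁ hf₂ hg₁ hg₂ hi₁ hi₂ hi₃; exact h

open Groth.Agent.Lib.Helper24 in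
/-- The chart of the fibre of an affine morphism over an affine open of the base is an iso. -/
lemma isIso_chart {P S : Scheme.{u}} (p : P ⟶ S) [IsAffineHom p] {U : S.Opens}
    (hU : IsAffineOpen U) (s : S) (hs : s ∈ U) :
    IsIso (FibreChart.chart p hU (hU.preimage p) le_rfl s hs) := by
  rw [isIso_iff_isOpenImmersion_and_surjective]
  refine ⟨inferInstance, ⟨?_⟩⟩
  rw [← Set.range_eq_univ, FibreChart.range_chart, Set.eq_univ_iff_forall]
  intro x
  have hx : p.fiberι s x ∈ p ⁻¹' {s} := by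
    rw [← Scheme.Hom.range_fiberι]; exact ⟨x, rfl⟩
  change p (p.fiberι s x) ∈ U
  rw [Set.mem_preimage, Set.mem_singleton_iff] at hx
  rw [hx]; exact hs

open Groth.Agent.Lib.Helper24 in
/-- Ring-level consequence of an iso on the fibre over `s`. -/
theorem bijective_baseChange_of_isIso_fibre {S P Q : Scheme.{u}} (f : P ⟶ Q) (q : Q ⟶ S)
    [IsAffineHom q] [IsAffineHom (f ≫ q)] {U : S.Opens} (hU : IsAffineOpen U) (s : S) (hs : s ∈ U)
    (h1 : (f ≫ q) ≫ 𝟙 S = f ≫ q)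
    (h2 : S.fromSpecResidueField s ≫ 𝟙 S = 𝟙 _ ≫ S.fromSpecResidueField s)
    (H : IsIso (pullback.map (f ≫ q) (S.fromSpecResidueField s) q (S.fromSpecResidueField s) f
      (𝟙 _) (𝟙 S) h1 h2)) :
    letI := (q.app U).hom.toAlgebra
    letI := ((f ≫ q).app U).hom.toAlgebra
    letI := (S.evaluation U s hs).hom.toAlgebra
    ∃ φ : Γ(Q, q ⁻¹ᵁ U) →ₐ[Γ(S, U)] Γ(P, (f ≫ q) ⁻¹ᵁ U),
      (φ : Γ(Q, q ⁻¹ᵁ U) → Γ(P, (f ≫ q) ⁻¹ᵁ U)) = (f.app (q ⁻¹ᵁ U)).hom ∧
      Function.Bijective (φ.toLinearMap.baseChange (S.residueField s)) := by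
  let _ := (q.app U).hom.toAlgebra
  let _ := ((f ≫ q).app U).hom.toAlgebra
  let _ := (S.evaluation U s hs).hom.toAlgebra
  let φ : Γ(Q, q ⁻¹ᵁ U) →ₐ[Γ(S, U)] Γ(P, (f ≫ q) ⁻¹ᵁ U) :=
    { (f.app (q ⁻¹ᵁ U)).hom with
      commutes' := fun r => by
        change (f.app (q ⁻¹ᵁ U)).hom ((q.app U).hom r) = ((f ≫ q).app U).hom r
        rw [Scheme.Hom.comp_app]; rfl }
  refine ⟨φ, rfl, ?_⟩
  have hWQ : IsAffineOpen (q ⁻¹ᵁ U) := hU.preimage q
  have hWP : IsAffineOpen ((f ≫ q) ⁻¹ᵁ U) := hU.preimage (f ≫ q)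
  have hcP := isIso_chart (f ≫ q) hU s hs
  have hcQ := isIso_chart q hU s hs
  have e1 : Spec.map ((f ≫ q).appLE U ((f ≫ q) ⁻¹ᵁ U) le_rfl) ≫ 𝟙 _ =
      Spec.map (f.appLE (q ⁻¹ᵁ U) ((f ≫ q) ⁻¹ᵁ U) le_rfl) ≫
        Spec.map (q.appLE U (q ⁻¹ᵁ U) le_rfl) := by
    rw [Category.comp_id, ← Spec.map_comp, Scheme.Hom.appLE_comp_appLE]
  have e2 : Spec.map (S.evaluation U s hs) ≫ 𝟙 _ = 𝟙 _ ≫ Spec.map (S.evaluation U s hs) := by simp
  set γ := pullback.map (Spec.map ((f ≫ q).appLE U ((f ≫ q) ⁻¹ᵁ U) le_rfl))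
    (Spec.map (S.evaluation U s hs)) (Spec.map (q.appLE U (q ⁻¹ᵁ U) le_rfl))
    (Spec.map (S.evaluation U s hs)) (Spec.map (f.appLE (q ⁻¹ᵁ U) ((f ≫ q) ⁻¹ᵁ U) le_rfl))
    (𝟙 _) (𝟙 _) e1 e2 with hγ
  set fs : (f ≫ q).fiber s ⟶ q.fiber s := pullback.map (f ≫ q) (S.fromSpecResidueField s) q
    (S.fromSpecResidueField s) f (𝟙 _) (𝟙 S) h1 h2 with hfs
  have hfs1 : fs ≫ q.fiberι s = (f ≫ q).fiberι s ≫ f := pullback.lift_fst _ _ _
  have hfs2 : fs ≫ q.fiberToSpecResidueField s = (f ≫ q).fiberToSpecResidueField s :=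
    (pullback.lift_snd _ _ _).trans (Category.comp_id _)
  have hsq : FibreChart.chart (f ≫ q) hU hWP le_rfl s hs ≫ fs =
      γ ≫ FibreChart.chart q hU hWQ le_rfl s hs := by
    apply pullback.hom_ext
    · change (FibreChart.chart (f ≫ q) hU hWP le_rfl s hs ≫ fs) ≫ q.fiberι s =
        (γ ≫ FibreChart.chart q hU hWQ le_rfl s hs) ≫ q.fiberι s
      rw [Category.assoc, hfs1, FibreChart.chart_fiberι_assoc, Category.assoc,
        FibreChart.chart_fiberι, hγ, pullback.lift_fst_assoc, Category.assoc,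
        IsAffineOpen.SpecMap_appLE_fromSpec f hWQ hWP le_rfl]
    · change (FibreChart.chart (f ≫ q) hU hWP le_rfl s hs ≫ fs) ≫ q.fiberToSpecResidueField s =
        (γ ≫ FibreChart.chart q hU hWQ le_rfl s hs) ≫ q.fiberToSpecResidueField s
      rw [Category.assoc, hfs2, FibreChart.chart_fiberToSpecResidueField, Category.assoc,
        FibreChart.chart_fiberToSpecResidueField, hγ, pullback.lift_snd, Category.comp_id]
  have hγiso : IsIso γ := by
    have hfsiso : IsIso fs := H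
    have : γ = (FibreChart.chart (f ≫ q) hU hWP le_rfl s hs ≫ fs) ≫
        inv (FibreChart.chart q hU hWQ le_rfl s hs) := by
      rw [hsq]; simp
    rw [this]; infer_instance
  have hA : (f ≫ q).appLE U ((f ≫ q) ⁻¹ᵁ U) le_rfl =
      ofHom (algebraMap Γ(S, U) Γ(P, (f ≫ q) ⁻¹ᵁ U)) := by
    rw [← Scheme.Hom.app_eq_appLE]; rfl
  have hB : q.appLE U (q ⁻¹ᵁ U) le_rfl = ofHom (algebraMap Γ(S, U) Γ(Q, q ⁻¹ᵁ U)) := by
    rw [← Scheme.Hom.app_eq_appLE]; rfl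
  have hφ : f.appLE (q ⁻¹ᵁ U) ((f ≫ q) ⁻¹ᵁ U) le_rfl = ofHom φ.toRingHom :=
    (Scheme.Hom.app_eq_appLE (f := f) (U := q ⁻¹ᵁ U)).symm
  have hκ : S.evaluation U s hs = ofHom (algebraMap Γ(S, U) (S.residueField s)) := rfl
  have e1' : Spec.map (ofHom (algebraMap Γ(S, U) Γ(P, (f ≫ q) ⁻¹ᵁ U))) ≫ 𝟙 _ =
      Spec.map (ofHom φ.toRingHom) ≫ Spec.map (ofHom (algebraMap Γ(S, U) Γ(Q, q ⁻¹ᵁ U))) := by
    rw [← hA, ← hB, ← hφ]; exact e1
  have e2' : Spec.map (ofHom (algebraMap Γ(S, U) (S.residueField s))) ≫ 𝟙 _ =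
      𝟙 _ ≫ Spec.map (ofHom (algebraMap Γ(S, U) (S.residueField s))) := by simp
  exact bijective_of_isIso_pullbackMap Γ(S, U) Γ(P, (f ≫ q) ⁻¹ᵁ U) Γ(Q, q ⁻¹ᵁ U)
    (S.residueField s) φ e1' e2'
    (isIso_pullbackMap_congr (congrArg Spec.map hA) (congrArg Spec.map hκ) (congrArg Spec.map hB)
      (congrArg Spec.map hκ) (congrArg Spec.map hφ) rfl rfl e1 e2 e1' e2' hγiso)


/-- Points of an affine open attached to primes: dimension of the stalk and kernel of the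
evaluation. -/
lemma affine_point_facts {S : Scheme.{u}} {U : S.Opens} (hU : IsAffineOpen U)
    (y : PrimeSpectrum Γ(S, U)) :
    ∃ hs : hU.fromSpec y ∈ U,
      ringKrullDim (S.presheaf.stalk (hU.fromSpec y)) = y.asIdeal.height ∧
      RingHom.ker (S.evaluation U (hU.fromSpec y) hs).hom = y.asIdeal := by
  have hs : hU.fromSpec y ∈ U := by
    rw [← SetLike.mem_coe, ← hU.range_fromSpec]; exact ⟨y, rfl⟩
  refine ⟨hs, ?_, ?_⟩
  · exact @IsLocalization.AtPrime.ringKrullDim_eq_height _ _ y.asIdeal _ _ _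
      (TopCat.Presheaf.algebra_section_stalk S.presheaf ⟨_, hs⟩) (hU.isLocalization_stalk' y hs)
  · ext r
    rw [RingHom.mem_ker]
    change S.evaluation U (hU.fromSpec y) hs r = 0 ↔ _
    rw [Scheme.evaluation_eq_zero_iff_notMem_basicOpen]
    have h1 : hU.fromSpec y ∈ S.basicOpen r ↔ y ∈ hU.fromSpec ⁻¹ᵁ S.basicOpen r := Iff.rfl
    rw [h1, hU.fromSpec_preimage_basicOpen]
    exact not_not

/-- **Main lemma.** Let `S` be a Noetherian scheme and `f : P ⟶ Q` a morphism of finite flat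
`S`-schemes. If `f` induces an isomorphism on the fibres over all points of `S` of codimension
`≤ 1`, then `f` is an isomorphism. -/
theorem isIso_of_fibres {S P Q : Scheme.{u}} [IsNoetherian S] (f : P ⟶ Q) (q : Q ⟶ S)
    [IsFinite q] [Flat q] [IsFinite (f ≫ q)] [Flat (f ≫ q)]
    (H : ∀ s : S, ringKrullDim (S.presheaf.stalk s) ≤ 1 →
      ∀ (h1 : (f ≫ q) ≫ 𝟙 S = f ≫ q)
        (h2 : S.fromSpecResidueField s ≫ 𝟙 S = 𝟙 _ ≫ S.fromSpecResidueField s),
      IsIso (pullback.map (f ≫ q) (S.fromSpecResidueField s) q (S.fromSpecResidueField s) f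
        (𝟙 _) (𝟙 S) h1 h2)) :
    IsIso f := by
  have : IsFinite f := IsFinite.of_comp f q
  have hsup : ⨆ i : S.affineOpens, q ⁻¹ᵁ i.1 = ⊤ := by
    rw [← Scheme.Hom.preimage_iSup, iSup_affineOpens_eq_top]; rfl
  refine (IsZariskiLocalAtTarget.iff_of_iSup_eq_top (P := MorphismProperty.isomorphisms Scheme)
    (fun i : S.affineOpens => q ⁻¹ᵁ i.1) hsup).mpr ?_
  rintro ⟨U, hU⟩
  suffices hbij : Function.Bijective (f.app (q ⁻¹ᵁ U)).hom by
    have hiso : IsIso (f.app (q ⁻¹ᵁ U)) := by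
      have : f.app (q ⁻¹ᵁ U) = (RingEquiv.ofBijective (f.app (q ⁻¹ᵁ U)).hom hbij).toCommRingCatIso.hom := by
        ext x; rfl
      rw [this]; infer_instance
    exact (isIso_morphismRestrict_iff_isIso_app f (hU.preimage q)).mpr hiso
  have hN : IsNoetherianRing Γ(S, U) := IsLocallyNoetherian.component_noetherian ⟨U, hU⟩
  let _ := (q.app U).hom.toAlgebra
  let _ := ((f ≫ q).app U).hom.toAlgebra
  have hfinB : Module.Finite Γ(S, U) Γ(Q, q ⁻¹ᵁ U) := IsFinite.finite_app q U hU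
  have hfinA : Module.Finite Γ(S, U) Γ(P, (f ≫ q) ⁻¹ᵁ U) := IsFinite.finite_app (f ≫ q) U hU
  have hflatB : Module.Flat Γ(S, U) Γ(Q, q ⁻¹ᵁ U) := by
    have := HasRingHomProperty.appLE (P := @Flat) q inferInstance ⟨U, hU⟩
      ⟨q ⁻¹ᵁ U, hU.preimage q⟩ le_rfl
    rw [← Scheme.Hom.app_eq_appLE] at this
    exact this
  have hflatA : Module.Flat Γ(S, U) Γ(P, (f ≫ q) ⁻¹ᵁ U) := by
    have := HasRingHomProperty.appLE (P := @Flat) (f ≫ q) inferInstance ⟨U, hU⟩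
      ⟨(f ≫ q) ⁻¹ᵁ U, hU.preimage (f ≫ q)⟩ le_rfl
    rw [← Scheme.Hom.app_eq_appLE] at this
    exact this
  let φ₀ : Γ(Q, q ⁻¹ᵁ U) →ₐ[Γ(S, U)] Γ(P, (f ≫ q) ⁻¹ᵁ U) :=
    { (f.app (q ⁻¹ᵁ U)).hom with
      commutes' := fun r => by
        change (f.app (q ⁻¹ᵁ U)).hom ((q.app U).hom r) = ((f ≫ q).app U).hom r
        rw [Scheme.Hom.comp_app]; rfl }
  change Function.Bijective φ₀.toLinearMap
  refine bijective_of_fibres φ₀.toLinearMap ?_
  intro 𝔭 _ h𝔭
  obtain ⟨hs, hdim, hker⟩ := affine_point_facts hU ⟨𝔭, inferInstance⟩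
  set s := hU.fromSpec ⟨𝔭, inferInstance⟩ with hsdef
  have hdim' : ringKrullDim (S.presheaf.stalk s) ≤ 1 := by
    rw [hdim]; exact_mod_cast h𝔭
  obtain ⟨φ, hφ, hbij⟩ := bijective_baseChange_of_isIso_fibre f q hU s hs (by simp) (by simp)
    (H s hdim' _ _)
  let _ := (S.evaluation U s hs).hom.toAlgebra
  refine ⟨S.residueField s, inferInstance, inferInstance, hker, ?_⟩
  have : φ = φ₀ := by
    apply AlgHom.ext; intro x; exact congrFun hφ x
  rw [← this]; exact hbij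


/-- Variant of `isIso_of_fibres` with an arbitrary structure morphism of the source. -/
theorem isIso_of_fibres' {S P Q : Scheme.{u}} [IsNoetherian S] (f : P ⟶ Q) (p : P ⟶ S) (q : Q ⟶ S)
    (hf : f ≫ q = p) [IsFinite q] [Flat q] [IsFinite p] [Flat p]
    (H : ∀ s : S, ringKrullDim (S.presheaf.stalk s) ≤ 1 →
      ∀ (h1 : p ≫ 𝟙 S = f ≫ q)
        (h2 : S.fromSpecResidueField s ≫ 𝟙 S = 𝟙 _ ≫ S.fromSpecResidueField s),
      IsIso (pullback.map p (S.fromSpecResidueField s) q (S.fromSpecResidueField s) f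
        (𝟙 _) (𝟙 S) h1 h2)) :
    IsIso f := by
  subst hf
  exact isIso_of_fibres f q H

/-- Every point of a scheme is a specialization of a point whose local ring has dimension `≤ 1`
(in fact `0`), so a closed subset containing all points of codimension `≤ 1` is everything. -/
theorem eq_univ_of_isClosed_of_codim_le_one {S : Scheme.{u}} [IsNoetherian S] (F : Set S)
    (hF : IsClosed F) (H : ∀ s : S, ringKrullDim (S.presheaf.stalk s) ≤ 1 → s ∈ F) :
    F = Set.univ := by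
  rw [Set.eq_univ_iff_forall]
  intro s
  obtain ⟨_, ⟨U, hU : IsAffineOpen U, rfl⟩, hsU, -⟩ :=
    S.isBasis_affineOpens.exists_subset_of_mem_open (Set.mem_univ s) isOpen_univ
  have hN : IsNoetherianRing Γ(S, U) := IsLocallyNoetherian.component_noetherian ⟨U, hU⟩
  set y := hU.primeIdealOf ⟨s, hsU⟩ with hy
  obtain ⟨𝔭₀, h𝔭₀, hle⟩ := Ideal.exists_minimalPrimes_le (I := ⊥) (J := y.asIdeal) bot_le
  have : 𝔭₀.IsPrime := h𝔭₀.1.1
  obtain ⟨hs, hdim, -⟩ := affine_point_facts hU ⟨𝔭₀, inferInstance⟩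
  have hη : hU.fromSpec ⟨𝔭₀, inferInstance⟩ ∈ F := by
    apply H
    rw [hdim]
    exact_mod_cast Ideal.height_le_one_of_isPrincipal_of_mem_minimalPrimes ⊥ 𝔭₀ h𝔭₀
  have hspec : (⟨𝔭₀, inferInstance⟩ : PrimeSpectrum Γ(S, U)) ⤳ y :=
    (PrimeSpectrum.le_iff_specializes _ _).mp hle
  have hspec' := hspec.map hU.fromSpec.continuous
  rw [hU.fromSpec_primeIdealOf ⟨s, hsU⟩] at hspec'
  exact hspec'.mem_closed hF hη

end Groth.Agent.Lib.Helper84.FibIso
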