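import Mathlib
import Groth.Agent.Lib.Helper84.WQ7

/-!
# Free actions of finite groups give étale quotient maps (helper84)

For a finite group `G` acting on a commutative ring `A`, finite over its ring of invariants
`B = A^G`, and a prime `Q` of `A` at which `G` acts freely
(`∀ g ≠ 1, ∃ a, g • a - a ∉ Q`), the ring `A` is étale over `B` at `Q`.
-/

set_option autoImplicit false

universe u w

namespace Groth.Agent.Lib.Helper84.FreeEtale

open Groth.Agent.Lib.Helper84.WQ7 TensorProduct

open scoped BigOperators Pointwise

section Key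

variable {G : Type w} [Group G] [Fintype G] {A : Type u} [CommRing A] [MulSemiringAction G A]

/-- twisted multiplication `a ⊗ b ↦ a * g • b` -/
noncomputable def mu (g : G) :
    A ⊗[FixedPoints.subring A G] A →ₐ[FixedPoints.subring A G] A :=
  Algebra.TensorProduct.lift (AlgHom.id _ A)
    (MulSemiringAction.toAlgHom (FixedPoints.subring A G) A g) (fun _ _ => Commute.all _ _)

omit [Fintype G] in
theorem mu_tmul (g : G) (a b : A) :
    mu g (a ⊗ₜ[FixedPoints.subring A G] b) = a * g • b := by
  simp [mu]

theorem sum_tmul_eq {ι : Type} [Fintype ι] (x y : ι → A) (s : A)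
    (h : ∀ g : G, ∑ i, x i * g • y i = open Classical in if g = 1 then s else 0)
    (z : A ⊗[FixedPoints.subring A G] A) :
    ∑ i, ∑ g : G, (g • y i * mu g z) ⊗ₜ[FixedPoints.subring A G] x i = z * (1 ⊗ₜ s) := by
  induction z using TensorProduct.induction_on with
  | zero => simp
  | add z w hz hw =>
    simp only [map_add, mul_add, add_tmul, Finset.sum_add_distrib, hz, hw, add_mul]
  | tmul a b =>
    simp only [mu_tmul]
    have h1 : ∀ i, ∑ g : G, (g • y i * (a * g • b)) ⊗ₜ[FixedPoints.subring A G] x i
        = a ⊗ₜ (tr (G := G) (y i * b) * x i) := by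
      intro i
      rw [← TensorProduct.sum_tmul]
      have : ∑ g : G, g • y i * (a * g • b) = (trL (G := G) (y i) b) • a := by
        rw [Subring.smul_def, coe_trL, tr, smul_eq_mul, Finset.sum_mul]
        refine Finset.sum_congr rfl fun g _ => ?_
        rw [smul_mul']
        ring
      rw [this, TensorProduct.smul_tmul, Subring.smul_def, coe_trL, smul_eq_mul]
    simp only [h1]
    rw [← TensorProduct.tmul_sum, Algebra.TensorProduct.tmul_mul_tmul, mul_one]
    congr 1
    rw [mul_comm b s, ← sum_mul_tr x y s h b]
    exact Finset.sum_congr rfl fun i _ => mul_comm _ _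

theorem mul_witness_eq_zero {ι : Type} [Fintype ι] (x y : ι → A) (s : A)
    (h : ∀ g : G, ∑ i, x i * g • y i = open Classical in if g = 1 then s else 0) (a : A) :
    ((1 : A) ⊗ₜ[FixedPoints.subring A G] a - a ⊗ₜ 1) * (∑ i, x i ⊗ₜ y i) * (1 ⊗ₜ s) = 0 := by
  rw [← sum_tmul_eq x y s h]
  refine Finset.sum_eq_zero fun i _ => Finset.sum_eq_zero fun g _ => ?_
  have : mu g (((1 : A) ⊗ₜ[FixedPoints.subring A G] a - a ⊗ₜ 1) * ∑ i, x i ⊗ₜ y i) = 0 := by
    rw [map_mul, map_sub, map_sum]
    simp only [mu_tmul]
    rw [h g]
    split_ifs with hg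
    · subst hg
      simp
    · simp
  rw [this, mul_zero, zero_tmul]

/-- every derivation over the invariants is killed by the square of a witness -/
theorem sq_smul_derivation_eq_zero {M : Type*} [AddCommGroup M] [Module A M]
    [Module (FixedPoints.subring A G) M] [IsScalarTower (FixedPoints.subring A G) A M]
    (D : Derivation (FixedPoints.subring A G) A M) (s : A) (hs : W G A s) (a : A) :
    (s * s) • D a = 0 := by
  obtain ⟨ι, _, x, y, h⟩ := hs
  have h0 := congrArg D.tensorProductTo (mul_witness_eq_zero x y s h a)
  rw [map_zero, mul_assoc, Derivation.tensorProductTo_mul] at h0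
  have h1 : Algebra.TensorProduct.lmul' (S := A) (FixedPoints.subring A G)
      ((1 : A) ⊗ₜ[FixedPoints.subring A G] a - a ⊗ₜ 1) = 0 := by simp
  have h2 : Algebra.TensorProduct.lmul' (S := A) (FixedPoints.subring A G)
      ((∑ i, x i ⊗ₜ[FixedPoints.subring A G] y i) * (1 ⊗ₜ s)) = s * s := by
    rw [map_mul, map_sum]
    simp only [Algebra.TensorProduct.lmul'_apply_tmul, one_mul]
    have := h 1
    simp only [one_smul, if_true] at this
    rw [this]
  have h3 : D.tensorProductTo ((1 : A) ⊗ₜ[FixedPoints.subring A G] a - a ⊗ₜ 1) = D a := by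
    rw [map_sub, Derivation.tensorProductTo_tmul, Derivation.tensorProductTo_tmul, one_smul,
      D.map_one_eq_zero, smul_zero, sub_zero]
  rw [h1, h2, h3, zero_smul, zero_add] at h0
  exact h0

/-- a localization of `A` in which a witness becomes invertible is formally unramified over the
invariants -/
theorem formallyUnramified_of_witness (A' : Type*) [CommRing A'] [Algebra A A']
    [Algebra (FixedPoints.subring A G) A'] [IsScalarTower (FixedPoints.subring A G) A A']
    (M : Submonoid A) [IsLocalization M A'] (s : A) (hs : W G A s) (hsM : s ∈ M) :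
    Algebra.FormallyUnramified (FixedPoints.subring A G) A' := by
  constructor
  let D' := KaehlerDifferential.D (FixedPoints.subring A G) A'
  let D : Derivation (FixedPoints.subring A G) A Ω[A'⁄FixedPoints.subring A G] :=
    D'.compAlgebraMap A
  have hD : ∀ a : A, D' (algebraMap A A' a) = 0 := by
    intro a
    have h : (s * s) • D a = 0 := sq_smul_derivation_eq_zero D s hs a
    have hu : IsUnit (algebraMap A A' (s * s)) :=
      IsLocalization.map_units A' (⟨s * s, M.mul_mem hsM hsM⟩ : M)
    rw [← algebraMap_smul A' (s * s) (D a)] at h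
    exact hu.smul_eq_zero.mp h
  have hD' : ∀ a' : A', D' a' = 0 := by
    intro a'
    obtain ⟨a, t, rfl⟩ := IsLocalization.exists_mk'_eq M a'
    have h2 := congrArg D' (IsLocalization.mk'_spec A' a t)
    rw [D'.leibniz, hD, hD, smul_zero, zero_add] at h2
    have hu : IsUnit (algebraMap A A' t) := IsLocalization.map_units A' t
    exact hu.smul_eq_zero.mp h2
  have hspan := KaehlerDifferential.span_range_derivation (FixedPoints.subring A G) A'
  refine subsingleton_of_forall_eq 0 fun ω => ?_
  have hω : ω ∈ Submodule.span A' (Set.range D') := by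
    rw [hspan]; exact Submodule.mem_top
  have hle : Submodule.span A' (Set.range D') ≤ ⊥ := by
    rw [Submodule.span_le]
    rintro _ ⟨a', rfl⟩
    exact hD' a'
  exact (Submodule.mem_bot A').mp (hle hω)

end Key

section Main

variable (A : Type u) [CommRing A] (G : Type w) [Group G] [Finite G] [MulSemiringAction G A]

/-- **Free action ⇒ étale.** If the finite group `G` acts freely at the prime `Q` of `A`, and `A`
is finite over the invariants, then `A` is étale over the invariants at `Q`. -/
theorem isEtaleAt_of_free [Module.Finite (FixedPoints.subring A G) A]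
    (Q : Ideal A) [Q.IsPrime] (hfree : ∀ g : G, g ≠ 1 → ∃ a : A, g • a - a ∉ Q) :
    Algebra.IsEtaleAt (FixedPoints.subring A G) Q := by
  classical
  cases nonempty_fintype G
  let B := FixedPoints.subring A G
  have hint : Algebra.IsIntegral B A := isIntegral_fixed G A
  let P : Ideal B := Q.comap (algebraMap B A)
  -- Step 1: an invariant witness outside `Q`
  obtain ⟨s, hsW, hsQ⟩ : ∃ s : B, W G A (s : A) ∧ (s : A) ∉ Q := by
    by_contra hcon
    push Not at hcon
    have hle : (WIdeal G A).comap (algebraMap B A) ≤ P := fun s hs => hcon s hs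
    obtain ⟨Q', hQI, hQp, hQP⟩ :=
      Ideal.exists_ideal_over_prime_of_isIntegral P (WIdeal G A) hle
    have := hQp
    obtain ⟨g, hg⟩ := Algebra.IsInvariant.exists_smul_of_under_eq B A G Q Q' hQP.symm
    refine not_WIdeal_le Q' ?_ hQI
    intro h hh
    have hne : g⁻¹ * h * g ≠ 1 := by
      intro he
      apply hh
      have : h = g * (g⁻¹ * h * g) * g⁻¹ := by group
      rw [this, he]
      group
    obtain ⟨a, ha⟩ := hfree _ hne
    refine ⟨g • a, fun hmem => ha ?_⟩
    rw [hg, Ideal.mem_pointwise_smul_iff_inv_smul_mem] at hmem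
    rw [smul_sub, inv_smul_smul, ← mul_smul, ← mul_smul] at hmem
    exact hmem
  -- Step 2: the localization at `s`
  let S : Submonoid B := Submonoid.powers s
  let B' := Localization S
  let A' := Localization (Algebra.algebraMapSubmonoid A S)
  have hsS : s ∈ S := Submonoid.mem_powers s
  have hproj : Module.Projective B' A' := projective_localization S s hsS hsW
  have hfin : Module.Finite B' A' :=
    Module.Finite.of_isLocalizedModule S (Rₚ := B') (IsScalarTower.toAlgHom B A A').toLinearMap
  have hfp : Module.FinitePresentation B' A' := Module.finitePresentation_of_projective B' A'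
  have hU0 : Algebra.FormallyUnramified B A' :=
    formallyUnramified_of_witness A' (Algebra.algebraMapSubmonoid A S) (s : A) hsW ⟨s, hsS, rfl⟩
  have hU : Algebra.FormallyUnramified B' A' :=
    Algebra.FormallyUnramified.of_restrictScalars B B' A'
  have hE : Algebra.Etale B' A' := Algebra.Etale.of_formallyUnramified_of_flat
  have hB' : Algebra.FormallyEtale B B' := Algebra.FormallyEtale.of_isLocalization S
  have hA' : Algebra.FormallyEtale B A' := Algebra.FormallyEtale.comp B B' A'
  -- Step 3: pass to the local ring at `Q`
  let AQ := Localization.AtPrime Q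
  have hMle : Algebra.algebraMapSubmonoid A S ≤ Q.primeCompl := by
    rintro _ ⟨t, ⟨n, rfl⟩, rfl⟩
    change algebraMap B A (s ^ n) ∉ Q
    rw [map_pow]
    exact fun hmem => hsQ (Ideal.IsPrime.mem_of_pow_mem inferInstance n hmem)
  let _ : Algebra A' AQ :=
    (IsLocalization.lift (M := Algebra.algebraMapSubmonoid A S) (g := algebraMap A AQ)
      (fun y => IsLocalization.map_units AQ (⟨y, hMle y.2⟩ : Q.primeCompl))).toAlgebra
  have hT1 : IsScalarTower A A' AQ :=
    IsScalarTower.of_algebraMap_eq fun a => (IsLocalization.lift_eq _ a).symm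
  have hloc : IsLocalization (Q.primeCompl.map (algebraMap A A')) AQ :=
    IsLocalization.isLocalization_of_submonoid_le A' AQ (Algebra.algebraMapSubmonoid A S)
      Q.primeCompl hMle
  have hT2 : IsScalarTower B A' AQ := by
    refine IsScalarTower.of_algebraMap_eq fun b => ?_
    rw [IsScalarTower.algebraMap_apply B A AQ, IsScalarTower.algebraMap_apply B A A',
      ← IsScalarTower.algebraMap_apply A A' AQ]
  have hAQ : Algebra.FormallyEtale A' AQ :=
    Algebra.FormallyEtale.of_isLocalization (Q.primeCompl.map (algebraMap A A'))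
  exact Algebra.FormallyEtale.comp B A' AQ

end Main

end Groth.Agent.Lib.Helper84.FreeEtale
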