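import Mathlib
import Groth.Agent.Lib.Helper84.WQ7
import Groth.Agent.Lib.Helper84.FreeEtale

/-!
# Free actions give finite étale quotients, principal-open form; étale towers (helper84)
-/

set_option autoImplicit false

universe u w

namespace Groth.Agent.Lib.Helper84.FreeEtale2

open Groth.Agent.Lib.Helper84.WQ7 Groth.Agent.Lib.Helper84.FreeEtale

section Tower

/-- **Étale towers on principal opens.** If `(C₁)_f` is étale over `B` and `(C₂)_s` is étale over
`C₁` (`f, s ∈ C₁`), then `(C₂)_{fs}` is étale over `B`. -/
theorem etale_tower (B C₁ C₂ : Type*) [CommRing B] [CommRing C₁] [CommRing C₂]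
    [Algebra B C₁] [Algebra C₁ C₂] [Algebra B C₂] [IsScalarTower B C₁ C₂] (f s : C₁)
    [Algebra.Etale B (Localization.Away f)]
    [Algebra.Etale C₁ (Localization.Away (algebraMap C₁ C₂ s))]
    (L₄ : Type*) [CommRing L₄] [Algebra C₂ L₄]
    [IsLocalization.Away (algebraMap C₁ C₂ f * algebraMap C₁ C₂ s) L₄]
    [Algebra B L₄] [IsScalarTower B C₂ L₄] : Algebra.Etale B L₄ := by
  let L₁ := Localization.Away f
  let L₂ := Localization.Away (algebraMap C₁ C₂ s)
  let f₃ : L₂ := algebraMap C₂ L₂ (algebraMap C₁ C₂ f)
  let L₃ := Localization.Away f₃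
  have hL₃ : IsLocalization.Away (algebraMap C₁ C₂ f * algebraMap C₁ C₂ s) L₃ := inferInstance
  have h23 : Algebra.Etale L₂ L₃ := Algebra.Etale.of_isLocalizationAway f₃
  have h13 : Algebra.Etale C₁ L₃ := Algebra.Etale.comp C₁ L₂ L₃
  have hunit : IsUnit (algebraMap C₁ L₃ f) := by
    have : algebraMap C₁ L₃ f = algebraMap L₂ L₃ f₃ := by
      rw [IsScalarTower.algebraMap_apply C₁ C₂ L₃, IsScalarTower.algebraMap_apply C₂ L₂ L₃]
    rw [this]
    exact IsLocalization.Away.algebraMap_isUnit f₃
  let _ : Algebra L₁ L₃ := (IsLocalization.Away.lift f (g := algebraMap C₁ L₃) hunit).toAlgebra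
  have hT1 : IsScalarTower C₁ L₁ L₃ := by
    refine IsScalarTower.of_algebraMap_eq fun a => ?_
    change _ = (IsLocalization.Away.lift f (g := algebraMap C₁ L₃) hunit) (algebraMap C₁ L₁ a)
    rw [IsLocalization.Away.lift_eq]
  have hFE : Algebra.FormallyEtale L₁ L₃ :=
    Algebra.FormallyEtale.localization_base (Submonoid.powers f)
  have hFP : Algebra.FinitePresentation L₁ L₃ :=
    Algebra.FinitePresentation.of_restrict_scalars_finitePresentation C₁ L₁ L₃
  have hE13 : Algebra.Etale L₁ L₃ := ⟨hFE, hFP⟩
  have hT2 : IsScalarTower B C₁ L₃ := by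
    refine IsScalarTower.of_algebraMap_eq (R := B) (S := C₁) (A := L₃) fun b => ?_
    rw [IsScalarTower.algebraMap_apply B C₂ L₃, IsScalarTower.algebraMap_apply B C₁ C₂,
      ← IsScalarTower.algebraMap_apply C₁ C₂ L₃]
  have hT3 : IsScalarTower B L₁ L₃ := by
    refine IsScalarTower.of_algebraMap_eq (R := B) (S := L₁) (A := L₃) fun b => ?_
    rw [IsScalarTower.algebraMap_apply B C₁ L₁, ← IsScalarTower.algebraMap_apply C₁ L₁ L₃,
      ← IsScalarTower.algebraMap_apply B C₁ L₃]
  have hB3 : Algebra.Etale B L₃ := Algebra.Etale.comp B L₁ L₃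
  let e : L₃ ≃ₐ[C₂] L₄ := IsLocalization.algEquiv
    (Submonoid.powers (algebraMap C₁ C₂ f * algebraMap C₁ C₂ s)) L₃ L₄
  exact Algebra.Etale.of_equiv (e.restrictScalars B)

end Tower

section Free

/-- **Local finiteness and projectivity**: if the invariant `s` is a witness and lies in `S`, then
the localization of `A` is finite projective over the localization of the invariants. -/
theorem finite_projective_localization {G : Type w} [Group G] [Fintype G] {A : Type u} [CommRing A]
    [MulSemiringAction G A] (S : Submonoid (FixedPoints.subring A G))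
    (s : FixedPoints.subring A G) (hsS : s ∈ S) (hs : W G A (s : A)) :
    Module.Finite (Localization S) (Localization (Algebra.algebraMapSubmonoid A S)) ∧
    Module.Projective (Localization S)
      (Localization (Algebra.algebraMapSubmonoid A S)) := by
  classical
  obtain ⟨ι, _, x, y, h⟩ := hs
  let B := FixedPoints.subring A G
  let B' := Localization S
  let A' := Localization (Algebra.algebraMapSubmonoid A S)
  let fA : A →ₗ[B] A' := (IsScalarTower.toAlgHom B A A').toLinearMap
  let fB : B →ₗ[B] B' := Algebra.linearMap B B'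
  let τ' : ι → (A' →ₗ[B'] B') := fun i =>
    IsLocalizedModule.mapExtendScalars S fA fB B' (trL (G := G) (y i))
  have hmem : (s : A) ∈ Algebra.algebraMapSubmonoid A S := ⟨s, hsS, rfl⟩
  let u : A' := IsLocalization.mk' A' (1 : A) ⟨(s : A), hmem⟩
  have hu : u * algebraMap A A' (s : A) = 1 := by
    have := IsLocalization.mk'_spec A' (1 : A) ⟨(s : A), hmem⟩
    rw [map_one] at this
    exact this
  let x' : ι → A' := fun i => algebraMap A A' (x i) * u
  let imap : A' →ₗ[B'] (ι → B') := LinearMap.pi τ'
  let rmap : (ι → B') →ₗ[B'] A' := Fintype.linearCombination B' x'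
  have hsplit : rmap ∘ₗ imap = LinearMap.id := by
    apply LinearMap.restrictScalars_injective B
    apply IsLocalizedModule.linearMap_ext S fA fA
    ext a
    simp only [LinearMap.coe_comp, LinearMap.coe_restrictScalars, Function.comp_apply,
      LinearMap.id_coe, id_eq]
    change rmap (imap (fA a)) = fA a
    simp only [rmap, imap, Fintype.linearCombination_apply, LinearMap.pi_apply, τ',
      IsLocalizedModule.mapExtendScalars_apply_apply, IsLocalizedModule.map_apply]
    have key : ∀ i, fB (trL (G := G) (y i) a) • x' i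
        = algebraMap A A' (x i * tr (G := G) (y i * a)) * u := by
      intro i
      simp only [fB, x', Algebra.linearMap_apply, Algebra.smul_def]
      rw [← IsScalarTower.algebraMap_apply B B' A', IsScalarTower.algebraMap_apply B A A',
        map_mul]
      change algebraMap A A' (tr (G := G) (y i * a)) * _ = _
      ring
    simp only [key]
    rw [← Finset.sum_mul, ← map_sum, sum_mul_tr x y (s : A) h a, map_mul]
    change _ = algebraMap A A' a
    calc algebraMap A A' (s : A) * algebraMap A A' a * u
        = (u * algebraMap A A' (s : A)) * algebraMap A A' a := by ring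
      _ = algebraMap A A' a := by rw [hu, one_mul]
  refine ⟨?_, Module.Projective.of_split imap rmap hsplit⟩
  refine Module.Finite.of_surjective rmap fun a => ⟨imap a, ?_⟩
  exact LinearMap.congr_fun hsplit a

/-- **Free action ⇒ finite étale on a principal open**, invariants as a subring. -/
theorem exists_etale_away_fixed (A : Type u) [CommRing A] (G : Type w) [Group G] [Finite G]
    [MulSemiringAction G A] (Q : Ideal A) [Q.IsPrime]
    (hfree : ∀ g : G, g ≠ 1 → ∃ a : A, g • a - a ∉ Q) :
    ∃ s : FixedPoints.subring A G, (s : A) ∉ Q ∧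
      Algebra.Etale (FixedPoints.subring A G) (Localization.Away (s : A)) := by
  classical
  cases nonempty_fintype G
  let B := FixedPoints.subring A G
  have hint : Algebra.IsIntegral B A := isIntegral_fixed G A
  let P : Ideal B := Q.comap (algebraMap B A)
  obtain ⟨s, hsW, hsQ⟩ : ∃ s : B, W G A (s : A) ∧ (s : A) ∉ Q := by
    by_contra hcon
    push Not at hcon
    have hle : (WIdeal G A).comap (algebraMap B A) ≤ P := fun s hs => hcon s hs
    obtain ⟨Q', hQI, hQp, hQP⟩ :=
      Ideal.exists_ideal_over_prime_of_isIntegral P (WIdeal G A) hle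
    have := hQp
    obtain ⟨g, hg⟩ := Algebra.IsInvariant.exists_smul_of_under_eq B A G Q Q' hQP.symm
    refine not_WIdeal_le Q' ?_ hQI
    intro h hh
    have hne : g⁻¹ * h * g ≠ 1 := by
      intro he
      apply hh
      have : h = g * (g⁻¹ * h * g) * g⁻¹ := by group
      rw [this, he]
      group
    obtain ⟨a, ha⟩ := hfree _ hne
    refine ⟨g • a, fun hmem => ha ?_⟩
    rw [hg, Ideal.mem_pointwise_smul_iff_inv_smul_mem] at hmem
    rw [smul_sub, inv_smul_smul, ← mul_smul, ← mul_smul] at hmem
    exact hmem
  refine ⟨s, hsQ, ?_⟩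
  let S : Submonoid B := Submonoid.powers s
  let B' := Localization S
  let A' := Localization (Algebra.algebraMapSubmonoid A S)
  have hsS : s ∈ S := Submonoid.mem_powers s
  obtain ⟨hfin, hproj⟩ := finite_projective_localization S s hsS hsW
  have hfp : Module.FinitePresentation B' A' := Module.finitePresentation_of_projective B' A'
  have hU0 : Algebra.FormallyUnramified B A' :=
    formallyUnramified_of_witness A' (Algebra.algebraMapSubmonoid A S) (s : A) hsW ⟨s, hsS, rfl⟩
  have hU : Algebra.FormallyUnramified B' A' :=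
    Algebra.FormallyUnramified.of_restrictScalars B B' A'
  have hE : Algebra.Etale B' A' := Algebra.Etale.of_formallyUnramified_of_flat
  have hB' : Algebra.Etale B B' := Algebra.Etale.of_isLocalizationAway s
  have hA' : Algebra.Etale B A' := Algebra.Etale.comp B B' A'
  have key : ∀ (M : Submonoid A), M = Submonoid.powers (s : A) →
      IsLocalization (Submonoid.powers (s : A)) (Localization M) := by
    rintro _ rfl
    infer_instance
  have hM : Algebra.algebraMapSubmonoid A S = Submonoid.powers (s : A) := by
    change Submonoid.map (algebraMap B A) (Submonoid.powers s) = _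
    rw [Submonoid.map_powers]
    rfl
  have hloc : IsLocalization (Submonoid.powers (s : A)) A' := key _ hM
  let e : A' ≃ₐ[A] Localization.Away (s : A) :=
    IsLocalization.algEquiv (Submonoid.powers (s : A)) A' (Localization.Away (s : A))
  exact Algebra.Etale.of_equiv (e.restrictScalars B)

/-- **Free action ⇒ finite étale on a principal open**, invariants given abstractly. -/
theorem exists_etale_away_of_free (A : Type u) [CommRing A] (G : Type w) [Group G] [Finite G]
    [MulSemiringAction G A] (B₀ : Type u) [CommRing B₀] [Algebra B₀ A] [SMulCommClass G B₀ A]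
    [Algebra.IsInvariant B₀ A G] [FaithfulSMul B₀ A] (Q : Ideal A) [Q.IsPrime]
    (hfree : ∀ g : G, g ≠ 1 → ∃ a : A, g • a - a ∉ Q) :
    ∃ s : B₀, algebraMap B₀ A s ∉ Q ∧
      Algebra.Etale B₀ (Localization.Away (algebraMap B₀ A s)) := by
  obtain ⟨s, hsQ, hE⟩ := exists_etale_away_fixed A G Q hfree
  obtain ⟨s₀, hs₀⟩ := Algebra.IsInvariant.isInvariant (A := B₀) (G := G) (s : A) s.2
  have hinj : Function.Injective (algebraMap B₀ A) := FaithfulSMul.algebraMap_injective B₀ A
  let e₀ : B₀ →+* FixedPoints.subring A G :=
    (algebraMap B₀ A).codRestrict (FixedPoints.subring A G) (fun b g => smul_algebraMap g b)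
  have hbij : Function.Bijective e₀ := by
    refine ⟨fun a b hab => hinj (congrArg Subtype.val hab), ?_⟩
    rintro ⟨r, hr⟩
    obtain ⟨b, hb⟩ := Algebra.IsInvariant.isInvariant (A := B₀) (G := G) r hr
    exact ⟨b, Subtype.ext hb⟩
  let _ : Algebra B₀ (FixedPoints.subring A G) := e₀.toAlgebra
  have hT : IsScalarTower B₀ (FixedPoints.subring A G) A :=
    IsScalarTower.of_algebraMap_eq fun b => rfl
  have hB₀ : Algebra.Etale B₀ (FixedPoints.subring A G) :=
    Algebra.Etale.of_equiv
      (AlgEquiv.ofBijective (Algebra.ofId B₀ (FixedPoints.subring A G)) hbij)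
  refine ⟨s₀, by rw [hs₀]; exact hsQ, ?_⟩
  rw [hs₀]
  have hT2 : IsScalarTower B₀ (FixedPoints.subring A G) (Localization.Away (s : A)) := by
    refine IsScalarTower.of_algebraMap_eq (R := B₀) (S := FixedPoints.subring A G)
      (A := Localization.Away (s : A)) fun b => ?_
    rw [IsScalarTower.algebraMap_apply B₀ A (Localization.Away (s : A)),
      IsScalarTower.algebraMap_apply (FixedPoints.subring A G) A (Localization.Away (s : A))]
    rfl
  exact Algebra.Etale.comp B₀ (FixedPoints.subring A G) (Localization.Away (s : A))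

end Free

end Groth.Agent.Lib.Helper84.FreeEtale2
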