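import Mathlib.RingTheory.HopfAlgebra.Basic
import Groth.Prelude.Def_HopfRep
import Groth.Prelude.Def_Hoch

/-!
# The generic point of a comodule (helper84)

For a comodule `X` over a commutative bialgebra `A` and a `k`-linear map `f : A → A`, the
right-`A`-linear endomorphism `gact c f` of `X ⊗ A`, `x ⊗ a ↦ Σ x₀ ⊗ f(x₁) a`.  We have
`gact f ∘ gact g = gact (f * g)` for the convolution product and `gact (η ∘ ε) = id`; for a Hopf
algebra `gact id` and `gact S` are mutually inverse.  A linear map `h` is a comodule map iff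
`gact id ∘ (h ⊗ id) ∘ gact S` sends `x ⊗ 1` to `h x ⊗ 1`.
-/

set_option autoImplicit false
universe u v w w'

open TensorProduct

namespace Groth.Agent.Lib.Helper84

section Rmul

variable {k : Type u} [CommRing k] {A : Type v} [CommRing A] [Algebra k A]
  {X : Type w} [AddCommGroup X] [Module k X] {Y : Type w'} [AddCommGroup Y] [Module k Y]

variable (k A X) in
/-- right multiplication `(x ⊗ a) ⊗ b ↦ x ⊗ ab` -/
noncomputable def rmul : (X ⊗[k] A) ⊗[k] A →ₗ[k] X ⊗[k] A :=
  (LinearMap.mul' k A).lTensor X ∘ₗ (TensorProduct.assoc k X A A).toLinearMap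

@[simp] theorem rmul_tmul (x : X) (a b : A) :
    rmul k A X ((x ⊗ₜ[k] a) ⊗ₜ[k] b) = x ⊗ₜ[k] (a * b) := by
  simp [rmul]

theorem rmul_one (w : X ⊗[k] A) : rmul k A X (w ⊗ₜ[k] (1 : A)) = w := by
  induction w using TensorProduct.induction_on with
  | zero => simp
  | add x y hx hy => simp only [TensorProduct.add_tmul, map_add, hx, hy]
  | tmul x a => simp

theorem rmul_rmul (z : X ⊗[k] A) (b a : A) :
    rmul k A X (rmul k A X (z ⊗ₜ[k] b) ⊗ₜ[k] a) = rmul k A X (z ⊗ₜ[k] (b * a)) := by
  induction z using TensorProduct.induction_on with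
  | zero => simp
  | add x y hx hy => simp only [TensorProduct.add_tmul, map_add, hx, hy]
  | tmul x c => simp [mul_assoc]

theorem rTensor_rmul (h : X →ₗ[k] Y) (w : X ⊗[k] A) (a : A) :
    h.rTensor A (rmul k A X (w ⊗ₜ[k] a)) = rmul k A Y (h.rTensor A w ⊗ₜ[k] a) := by
  induction w using TensorProduct.induction_on with
  | zero => simp
  | add x y hx hy => simp only [TensorProduct.add_tmul, map_add, hx, hy]
  | tmul x c => simp

theorem tmul_eq_rmul (x : X) (a : A) : x ⊗ₜ[k] a = rmul k A X ((x ⊗ₜ[k] (1 : A)) ⊗ₜ[k] a) := by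
  simp

/-- two additive maps out of `X ⊗ A` that are right-`A`-linear and agree on `x ⊗ 1` are equal -/
theorem ext_of_rmul {F G : X ⊗[k] A →ₗ[k] Y ⊗[k] A}
    (hF : ∀ w a, F (rmul k A X (w ⊗ₜ[k] a)) = rmul k A Y (F w ⊗ₜ[k] a))
    (hG : ∀ w a, G (rmul k A X (w ⊗ₜ[k] a)) = rmul k A Y (G w ⊗ₜ[k] a))
    (h : ∀ x, F (x ⊗ₜ[k] (1 : A)) = G (x ⊗ₜ[k] (1 : A))) (w : X ⊗[k] A) : F w = G w := by
  induction w using TensorProduct.induction_on with
  | zero => simp
  | add x y hx hy => simp only [map_add, hx, hy]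
  | tmul x a => rw [tmul_eq_rmul, hF, hG, h]

end Rmul

section Gact

variable {k : Type u} [CommRing k] {A : Type v} [CommRing A] [Bialgebra k A]
  {X : Type w} [AddCommGroup X] [Module k X] {Y : Type w'} [AddCommGroup Y] [Module k Y]

local notation "Δ" => CoalgebraStruct.comul (R := k) (A := A)
local notation "ε" => CoalgebraStruct.counit (R := k) (A := A)

variable (k A) in
/-- convolution product of linear endomorphisms of `A` -/
noncomputable def conv (f g : A →ₗ[k] A) : A →ₗ[k] A :=
  LinearMap.mul' k A ∘ₗ TensorProduct.map f g ∘ₗ Δ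

/-- the generic action: `x ⊗ a ↦ Σ x₀ ⊗ f(x₁) a` -/
noncomputable def gact (c : HopfRep.Comod k A X) (f : A →ₗ[k] A) : X ⊗[k] A →ₗ[k] X ⊗[k] A :=
  rmul k A X ∘ₗ (f.lTensor X ∘ₗ c.coact).rTensor A

theorem gact_tmul (c : HopfRep.Comod k A X) (f : A →ₗ[k] A) (x : X) (a : A) :
    gact c f (x ⊗ₜ[k] a) = rmul k A X (f.lTensor X (c.coact x) ⊗ₜ[k] a) := by
  simp [gact]

theorem gact_tmul_one (c : HopfRep.Comod k A X) (f : A →ₗ[k] A) (x : X) :
    gact c f (x ⊗ₜ[k] (1 : A)) = f.lTensor X (c.coact x) := by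
  rw [gact_tmul, rmul_one]

theorem gact_id_tmul (c : HopfRep.Comod k A X) (x : X) (a : A) :
    gact c LinearMap.id (x ⊗ₜ[k] a) = rmul k A X (c.coact x ⊗ₜ[k] a) := by
  rw [gact_tmul, LinearMap.lTensor_id, LinearMap.id_apply]

theorem gact_rmul (c : HopfRep.Comod k A X) (f : A →ₗ[k] A) (w : X ⊗[k] A) (a : A) :
    gact c f (rmul k A X (w ⊗ₜ[k] a)) = rmul k A X (gact c f w ⊗ₜ[k] a) := by
  induction w using TensorProduct.induction_on with
  | zero => simp
  | add x y hx hy => simp only [TensorProduct.add_tmul, map_add, hx, hy]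
  | tmul x b => rw [rmul_tmul, gact_tmul, gact_tmul, rmul_rmul]

theorem rmul_lTensor_tmul (f g : A →ₗ[k] A) (z : X ⊗[k] A) (c' : A) :
    rmul k A X (f.lTensor X z ⊗ₜ[k] g c') =
      (LinearMap.mul' k A ∘ₗ TensorProduct.map f g).lTensor X
        (TensorProduct.assoc k X A A (z ⊗ₜ[k] c')) := by
  induction z using TensorProduct.induction_on with
  | zero => simp
  | add x y hx hy => simp only [TensorProduct.add_tmul, map_add, hx, hy]
  | tmul x b => simp

theorem gact_lTensor (c : HopfRep.Comod k A X) (f g : A →ₗ[k] A) (w : X ⊗[k] A) :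
    gact c f (g.lTensor X w) =
      (LinearMap.mul' k A ∘ₗ TensorProduct.map f g).lTensor X
        (TensorProduct.assoc k X A A (c.coact.rTensor A w)) := by
  induction w using TensorProduct.induction_on with
  | zero => simp
  | add x y hx hy => simp only [map_add, hx, hy]
  | tmul y c' =>
    rw [LinearMap.lTensor_tmul, gact_tmul, LinearMap.rTensor_tmul, rmul_lTensor_tmul]

theorem gact_gact (c : HopfRep.Comod k A X) (f g : A →ₗ[k] A) (w : X ⊗[k] A) :
    gact c f (gact c g w) = gact c (conv k A f g) w := by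
  induction w using TensorProduct.induction_on with
  | zero => simp
  | add x y hx hy => simp only [map_add, hx, hy]
  | tmul x a =>
    have hco := LinearMap.congr_fun c.coassoc x
    simp only [LinearMap.coe_comp, Function.comp_apply, LinearEquiv.coe_coe] at hco
    rw [gact_tmul, gact_rmul, gact_lTensor, hco, gact_tmul, ← LinearMap.comp_apply,
      ← LinearMap.lTensor_comp]
    rfl

theorem gact_unit_counit (c : HopfRep.Comod k A X) (w : X ⊗[k] A) :
    gact c (Algebra.linearMap k A ∘ₗ ε) w = w := by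
  induction w using TensorProduct.induction_on with
  | zero => simp
  | add x y hx hy => simp only [map_add, hx, hy]
  | tmul x a =>
    have hco := LinearMap.congr_fun c.counit_comp x
    simp only [LinearMap.coe_comp, Function.comp_apply, LinearMap.flip_apply,
      TensorProduct.mk_apply] at hco
    rw [gact_tmul, LinearMap.lTensor_comp, LinearMap.comp_apply, hco]
    simp

/-- `h` is a comodule map iff `h ⊗ id` commutes with the generic points -/
theorem comodHom_iff_gact (c : HopfRep.Comod k A X) (d : HopfRep.Comod k A Y) (h : X →ₗ[k] Y) :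
    d.coact ∘ₗ h = h.rTensor A ∘ₗ c.coact ↔
      ∀ w, gact d LinearMap.id (h.rTensor A w) = h.rTensor A (gact c LinearMap.id w) := by
  constructor
  · intro hh w
    induction w using TensorProduct.induction_on with
    | zero => simp
    | add x y hx hy => simp only [map_add, hx, hy]
    | tmul x a =>
      have h1 : d.coact (h x) = h.rTensor A (c.coact x) := LinearMap.congr_fun hh x
      rw [LinearMap.rTensor_tmul, gact_id_tmul, gact_id_tmul, h1, rTensor_rmul]
  · intro hh
    apply LinearMap.ext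
    intro x
    have := hh (x ⊗ₜ[k] (1 : A))
    rw [LinearMap.rTensor_tmul, gact_tmul_one, gact_tmul_one, LinearMap.lTensor_id,
      LinearMap.lTensor_id] at this
    exact this

end Gact

section Hopf

variable {k : Type u} [CommRing k] {A : Type v} [CommRing A] [HopfAlgebra k A]
  {X : Type w} [AddCommGroup X] [Module k X] {Y : Type w'} [AddCommGroup Y] [Module k Y]

local notation "𝑺" => HopfAlgebraStruct.antipode (R := k) (A := A)
local notation "ε" => CoalgebraStruct.counit (R := k) (A := A)

theorem conv_antipode_id : conv k A 𝑺 LinearMap.id = Algebra.linearMap k A ∘ₗ ε :=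
  HopfAlgebra.mul_antipode_rTensor_comul

theorem conv_id_antipode : conv k A LinearMap.id 𝑺 = Algebra.linearMap k A ∘ₗ ε :=
  HopfAlgebra.mul_antipode_lTensor_comul

theorem gact_antipode_gact_id (c : HopfRep.Comod k A X) (w : X ⊗[k] A) :
    gact c 𝑺 (gact c LinearMap.id w) = w := by
  rw [gact_gact, conv_antipode_id, gact_unit_counit]

theorem gact_id_gact_antipode (c : HopfRep.Comod k A X) (w : X ⊗[k] A) :
    gact c LinearMap.id (gact c 𝑺 w) = w := by
  rw [gact_gact, conv_id_antipode, gact_unit_counit]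

/-- the twisted map `x ↦ Σ ρ(h(x₀)) · S(x₁)` -/
noncomputable def twistHom (c : HopfRep.Comod k A X) (d : HopfRep.Comod k A Y) (x : X) :
    (X →ₗ[k] Y) →ₗ[k] Y ⊗[k] A :=
  gact d LinearMap.id ∘ₗ LinearMap.applyₗ ((𝑺).lTensor X (c.coact x)) ∘ₗ LinearMap.rTensorHom A

theorem twistHom_apply (c : HopfRep.Comod k A X) (d : HopfRep.Comod k A Y) (x : X)
    (h : X →ₗ[k] Y) :
    twistHom c d x h = gact d LinearMap.id (h.rTensor A (gact c 𝑺 (x ⊗ₜ[k] (1 : A)))) := by
  rw [gact_tmul_one]
  rfl

/-- `h` is a comodule map iff `Σ ρ(h(x₀)) · S(x₁) = h x ⊗ 1` for all `x`. -/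
theorem comodHom_iff_twistHom (c : HopfRep.Comod k A X) (d : HopfRep.Comod k A Y)
    (h : X →ₗ[k] Y) :
    d.coact ∘ₗ h = h.rTensor A ∘ₗ c.coact ↔ ∀ x, twistHom c d x h = h x ⊗ₜ[k] (1 : A) := by
  rw [comodHom_iff_gact]
  constructor
  · intro hh x
    rw [twistHom_apply, hh, gact_id_gact_antipode, LinearMap.rTensor_tmul]
  · intro hh
    have key : ∀ w, (gact d LinearMap.id ∘ₗ h.rTensor A ∘ₗ gact c 𝑺) w = h.rTensor A w := by
      apply ext_of_rmul
      · intro w a
        simp only [LinearMap.coe_comp, Function.comp_apply]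
        rw [gact_rmul, rTensor_rmul, gact_rmul]
      · intro w a
        exact rTensor_rmul h w a
      · intro x
        have := hh x
        rw [twistHom_apply] at this
        simp only [LinearMap.coe_comp, Function.comp_apply]
        rw [this, LinearMap.rTensor_tmul]
    intro w
    have := key (gact c LinearMap.id w)
    simp only [LinearMap.coe_comp, Function.comp_apply] at this
    rw [gact_antipode_gact_id] at this
    exact this

end Hopf

end Groth.Agent.Lib.Helper84
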