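import Mathlib
import Groth.Prelude.Def_GrLC

set_option autoImplicit false
universe u

namespace Groth.Agent.Lib.Helper84.GrUnit

open IsLocalRing DirectSum

section Basic
variable {R : Type u} [CommRing R] (𝒜 : ℤ → AddSubgroup R) [GradedRing 𝒜]

/-- The inverse of a homogeneous unit is homogeneous of the opposite degree. -/
lemma inv_mem_graded {d : ℤ} (u : Rˣ) (hu : (u : R) ∈ 𝒜 d) : ((u⁻¹ : Rˣ) : R) ∈ 𝒜 (-d) := by
  classical
  set s : R := ((u⁻¹ : Rˣ) : R) with hs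
  have h1 : ((DirectSum.decompose 𝒜 ((u : R) * s)) (d + (-d)) : R) =
      (u : R) * (DirectSum.decompose 𝒜 s (-d) : R) :=
    DirectSum.coe_decompose_mul_add_of_left_mem 𝒜 hu
  rw [hs, Units.mul_inv, add_neg_cancel,
    DirectSum.decompose_of_mem_same 𝒜 (SetLike.GradedOne.one_mem)] at h1
  have h2 : s = (DirectSum.decompose 𝒜 s (-d) : R) := by
    calc s = s * 1 := (mul_one s).symm
    _ = s * ((u : R) * (DirectSum.decompose 𝒜 s (-d) : R)) := by rw [← h1]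
    _ = _ := by rw [← mul_assoc, hs, Units.inv_mul, one_mul]
  rw [h2]; exact SetLike.coe_mem _

lemma zpow_mem_graded {d : ℤ} (u : Rˣ) (hu : (u : R) ∈ 𝒜 d) (q : ℤ) :
    ((u ^ q : Rˣ) : R) ∈ 𝒜 (q * d) := by
  obtain ⟨n, rfl | rfl⟩ := q.eq_nat_or_neg
  · rw [zpow_natCast, Units.val_pow_eq_pow_val]
    have := SetLike.pow_mem_graded n hu
    simpa using this
  · rw [zpow_neg, zpow_natCast, ← inv_pow, Units.val_pow_eq_pow_val]
    have := SetLike.pow_mem_graded n (inv_mem_graded 𝒜 u hu)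
    simpa using this

end Basic

section Setup
variable {R : Type u} [CommRing R] (𝒜 : ℤ → AddSubgroup R) [GradedRing 𝒜]
variable (N : ℕ) (hN : 0 < N) (u : Rˣ) (hu : (u : R) ∈ 𝒜 (N : ℤ))
variable (hmin : ∀ (n : ℤ), 0 < n → n < (N : ℤ) → ∀ s ∈ 𝒜 n, ¬ IsUnit s)

include hN hu hmin in
/-- Homogeneous elements of degree not divisible by `N` are not units. -/
lemma not_isUnit_of_not_dvd {i : ℤ} (hi : ¬ (N : ℤ) ∣ i) {x : R} (hx : x ∈ 𝒜 i) : ¬ IsUnit x := by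
  intro hxu
  have hNpos : (0 : ℤ) < N := by exact_mod_cast hN
  have h1 : 0 < i % N := (Int.emod_pos_of_not_dvd hi).resolve_left hNpos.ne'
  have h2 : i % N < N := Int.emod_lt_of_pos i hNpos
  have hy : ((u ^ (-(i / N)) : Rˣ) : R) * x ∈ 𝒜 (i % N) := by
    have := SetLike.GradedMul.mul_mem (zpow_mem_graded 𝒜 u hu (-(i / N))) hx
    have e : -(i / (N : ℤ)) * N + i = i % N := by
      have := Int.emod_add_mul_ediv i N
      linarith [mul_comm (i / (N:ℤ)) N]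
    rwa [e] at this
  exact hmin _ h1 h2 _ hy ((Units.isUnit _).mul hxu)

end Setup

section Rho
variable {R : Type u} [CommRing R] (𝒜 : ℤ → AddSubgroup R) [GradedRing 𝒜]
variable [IsLocalRing (GrLC.deg0 𝒜)]

/-- The residue field of the degree-zero subring. -/
abbrev K := ResidueField (GrLC.deg0 𝒜)

/-- residue of the degree-zero component -/
noncomputable def rho : R →+ K 𝒜 where
  toFun r := residue (GrLC.deg0 𝒜)
    (⟨(DirectSum.decompose 𝒜 r 0 : R), (DirectSum.decompose 𝒜 r 0).2⟩ : GrLC.deg0 𝒜)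
  map_zero' := by
    rw [← map_zero (residue (GrLC.deg0 𝒜))]
    congr 1
    ext
    simp
  map_add' a b := by
    rw [← map_add]
    congr 1
    ext
    rw [DirectSum.decompose_add, DirectSum.add_apply]
    rfl

lemma rho_of_mem_zero {x : R} (hx : x ∈ 𝒜 0) :
    rho 𝒜 x = residue (GrLC.deg0 𝒜) (⟨x, hx⟩ : GrLC.deg0 𝒜) := by
  show residue (GrLC.deg0 𝒜) _ = _
  congr 1
  ext
  exact DirectSum.decompose_of_mem_same 𝒜 hx

lemma rho_of_mem_ne {i : ℤ} (hi : i ≠ 0) {x : R} (hx : x ∈ 𝒜 i) : rho 𝒜 x = 0 := by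
  show residue (GrLC.deg0 𝒜) _ = _
  rw [← map_zero (residue (GrLC.deg0 𝒜))]
  congr 1
  ext
  exact DirectSum.decompose_of_mem_ne 𝒜 hx hi

lemma rho_mul {x y : R} (hx : x ∈ 𝒜 0) (hy : y ∈ 𝒜 0) :
    rho 𝒜 (x * y) = rho 𝒜 x * rho 𝒜 y := by
  have hxy : x * y ∈ 𝒜 0 := by
    have := SetLike.GradedMul.mul_mem hx hy
    simpa using this
  rw [rho_of_mem_zero 𝒜 hx, rho_of_mem_zero 𝒜 hy, rho_of_mem_zero 𝒜 hxy, ← map_mul]
  rfl

lemma rho_one : rho 𝒜 (1 : R) = 1 := by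
  rw [rho_of_mem_zero 𝒜 SetLike.GradedOne.one_mem, ← map_one (residue (GrLC.deg0 𝒜))]
  rfl

/-- if `rho x ≠ 0` for `x` of degree zero then `x` is a unit of `R` -/
lemma isUnit_of_rho_ne_zero {x : R} (hx : x ∈ 𝒜 0) (h : rho 𝒜 x ≠ 0) : IsUnit x := by
  rw [rho_of_mem_zero 𝒜 hx] at h
  have h1 : IsUnit (⟨x, hx⟩ : GrLC.deg0 𝒜) := by
    by_contra hnu
    exact h ((residue_eq_zero_iff _).2 ((mem_maximalIdeal _).2 hnu))
  exact h1.map (GrLC.deg0 𝒜).subtype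

end Rho

section Psi
variable {R : Type u} [CommRing R] (𝒜 : ℤ → AddSubgroup R) [GradedRing 𝒜]
variable [IsLocalRing (GrLC.deg0 𝒜)]
variable (N : ℕ) (u : Rˣ)

/-- the dual-number coefficient attached to degree `i` -/
noncomputable def cc (i : ℤ) : TrivSqZeroExt (K 𝒜) (K 𝒜) :=
  if (N : ℤ) ∣ i then TrivSqZeroExt.inl 1 + TrivSqZeroExt.inr (((i / N : ℤ) : K 𝒜)) else 0

lemma cc_of_dvd {i : ℤ} (h : (N : ℤ) ∣ i) :
    cc 𝒜 N i = TrivSqZeroExt.inl 1 + TrivSqZeroExt.inr (((i / N : ℤ) : K 𝒜)) := if_pos h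

lemma cc_of_not_dvd {i : ℤ} (h : ¬ (N : ℤ) ∣ i) : cc 𝒜 N i = 0 := if_neg h

lemma cc_mul {i j : ℤ} (hi : (N : ℤ) ∣ i) (hj : (N : ℤ) ∣ j) :
    cc 𝒜 N (i + j) = cc 𝒜 N i * cc 𝒜 N j := by
  rw [cc_of_dvd 𝒜 N hi, cc_of_dvd 𝒜 N hj, cc_of_dvd 𝒜 N (dvd_add hi hj),
    Int.add_ediv_of_dvd_left hi]
  ext <;> simp [add_comm]

/-- the degree-`i` piece of the ring homomorphism to dual numbers -/
noncomputable def ff (i : ℤ) : 𝒜 i →+ TrivSqZeroExt (K 𝒜) (K 𝒜) where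
  toFun x := rho 𝒜 (((u ^ (-(i / N)) : Rˣ) : R) * x) • cc 𝒜 N i
  map_zero' := by simp
  map_add' a b := by simp [mul_add, add_smul]

end Psi

section Psi2
variable {R : Type u} [CommRing R] (𝒜 : ℤ → AddSubgroup R) [GradedRing 𝒜]
variable [IsLocalRing (GrLC.deg0 𝒜)]
variable (N : ℕ) (hN : 0 < N) (u : Rˣ) (hu : (u : R) ∈ 𝒜 (N : ℤ))
variable (hmin : ∀ (n : ℤ), 0 < n → n < (N : ℤ) → ∀ s ∈ 𝒜 n, ¬ IsUnit s)

lemma ff_one : ff 𝒜 N u 0 (GradedMonoid.GOne.one (A := fun i => 𝒜 i)) = 1 := by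
  show rho 𝒜 (((u ^ (-((0 : ℤ) / N)) : Rˣ) : R) * ((GradedMonoid.GOne.one (A := fun i => 𝒜 i) : 𝒜 0) : R)) • cc 𝒜 N 0 = 1
  rw [SetLike.coe_gOne, Int.zero_ediv, neg_zero, zpow_zero, Units.val_one, one_mul, rho_one,
    one_smul, cc_of_dvd 𝒜 N (dvd_zero _)]
  ext <;> simp

include hu in
lemma zpow_mul_mem_zero {i : ℤ} (hi : (N : ℤ) ∣ i) {x : R} (hx : x ∈ 𝒜 i) :
    ((u ^ (-(i / N)) : Rˣ) : R) * x ∈ 𝒜 0 := by
  have := SetLike.GradedMul.mul_mem (zpow_mem_graded 𝒜 u hu (-(i / N))) hx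
  have e : -(i / (N : ℤ)) * N + i = 0 := by
    rw [neg_mul, Int.ediv_mul_cancel hi]; ring
  rwa [e] at this

include hN hu hmin in
lemma ff_mul {i j : ℤ} (ai : 𝒜 i) (aj : 𝒜 j) :
    ff 𝒜 N u (i + j) (GradedMonoid.GMul.mul (A := fun i => 𝒜 i) ai aj) =
      ff 𝒜 N u i ai * ff 𝒜 N u j aj := by
  show rho 𝒜 (((u ^ (-((i + j) / N)) : Rˣ) : R) * ((GradedMonoid.GMul.mul (A := fun i => 𝒜 i) ai aj : 𝒜 (i + j)) : R)) •
      cc 𝒜 N (i + j) =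
    (rho 𝒜 (((u ^ (-(i / N)) : Rˣ) : R) * (ai : R)) • cc 𝒜 N i) *
      (rho 𝒜 (((u ^ (-(j / N)) : Rˣ) : R) * (aj : R)) • cc 𝒜 N j)
  rw [SetLike.coe_gMul]
  by_cases hij : (N : ℤ) ∣ i + j
  · by_cases hi : (N : ℤ) ∣ i
    · have hj : (N : ℤ) ∣ j := (dvd_add_right hi).1 hij
      rw [cc_mul 𝒜 N hi hj, smul_mul_smul_comm, ← rho_mul 𝒜 (zpow_mul_mem_zero 𝒜 N u hu hi ai.2)
        (zpow_mul_mem_zero 𝒜 N u hu hj aj.2)]
      congr 2
      rw [Int.add_ediv_of_dvd_left hi, neg_add, zpow_add, Units.val_mul]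
      ring
    · -- both sides zero
      rw [cc_of_not_dvd 𝒜 N hi, smul_zero, zero_mul]
      have hmem : ((u ^ (-((i + j) / N)) : Rˣ) : R) * ((ai : R) * (aj : R)) ∈ 𝒜 0 :=
        zpow_mul_mem_zero 𝒜 N u hu hij (SetLike.GradedMul.mul_mem ai.2 aj.2)
      have h0 : rho 𝒜 (((u ^ (-((i + j) / N)) : Rˣ) : R) * ((ai : R) * (aj : R))) = 0 := by
        by_contra hne
        have hunit := isUnit_of_rho_ne_zero 𝒜 hmem hne
        have h1 : IsUnit ((ai : R) * (aj : R)) := by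
          rwa [Units.isUnit_units_mul] at hunit
        exact not_isUnit_of_not_dvd 𝒜 N hN u hu hmin hi ai.2 (isUnit_of_mul_isUnit_left h1)
      rw [h0, zero_smul]
  · rw [cc_of_not_dvd 𝒜 N hij, smul_zero]
    by_cases hi : (N : ℤ) ∣ i
    · have hj : ¬ (N : ℤ) ∣ j := fun hj => hij (dvd_add hi hj)
      rw [cc_of_not_dvd 𝒜 N hj, smul_zero, mul_zero]
    · rw [cc_of_not_dvd 𝒜 N hi, smul_zero, zero_mul]

/-- The ring homomorphism `R → K[ε]`. -/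
noncomputable def Psi : R →+* TrivSqZeroExt (K 𝒜) (K 𝒜) :=
  (DirectSum.toSemiring (ff 𝒜 N u) (ff_one 𝒜 N u)
    (fun ai aj => ff_mul 𝒜 N hN u hu hmin ai aj)).comp
    (DirectSum.decomposeRingEquiv 𝒜).toRingHom

lemma Psi_of_mem {i : ℤ} {x : R} (hx : x ∈ 𝒜 i) :
    Psi 𝒜 N hN u hu hmin x = rho 𝒜 (((u ^ (-(i / N)) : Rˣ) : R) * x) • cc 𝒜 N i := by
  show DirectSum.toSemiring (ff 𝒜 N u) (ff_one 𝒜 N u)
    (fun ai aj => ff_mul 𝒜 N hN u hu hmin ai aj) (DirectSum.decompose 𝒜 x) = _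
  rw [DirectSum.decompose_of_mem 𝒜 hx, DirectSum.toSemiring_of]
  rfl

end Psi2

section Phi
variable {R : Type u} [CommRing R] (𝒜 : ℤ → AddSubgroup R) [GradedRing 𝒜]
variable [IsLocalRing (GrLC.deg0 𝒜)]
variable (N : ℕ) (hN : 0 < N) (u : Rˣ) (hu : (u : R) ∈ 𝒜 (N : ℤ))
variable (hmin : ∀ (n : ℤ), 0 < n → n < (N : ℤ) → ∀ s ∈ 𝒜 n, ¬ IsUnit s)

/-- The residue homomorphism `R → K` (kernel = the maximal ideal `n`). -/
noncomputable def phi : R →+* K 𝒜 :=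
  (TrivSqZeroExt.fstHom (K 𝒜) (K 𝒜) (K 𝒜)).toRingHom.comp (Psi 𝒜 N hN u hu hmin)

lemma phi_apply (r : R) : phi 𝒜 N hN u hu hmin r = (Psi 𝒜 N hN u hu hmin r).fst := rfl

lemma phi_of_mem_dvd {i : ℤ} (hi : (N : ℤ) ∣ i) {x : R} (hx : x ∈ 𝒜 i) :
    phi 𝒜 N hN u hu hmin x = rho 𝒜 (((u ^ (-(i / N)) : Rˣ) : R) * x) := by
  rw [phi_apply, Psi_of_mem 𝒜 N hN u hu hmin hx, cc_of_dvd 𝒜 N hi]
  simp

lemma phi_of_mem_not_dvd {i : ℤ} (hi : ¬ (N : ℤ) ∣ i) {x : R} (hx : x ∈ 𝒜 i) :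
    phi 𝒜 N hN u hu hmin x = 0 := by
  rw [phi_apply, Psi_of_mem 𝒜 N hN u hu hmin hx, cc_of_not_dvd 𝒜 N hi]
  simp

lemma phi_of_mem_zero {x : R} (hx : x ∈ 𝒜 0) :
    phi 𝒜 N hN u hu hmin x = residue (GrLC.deg0 𝒜) (⟨x, hx⟩ : GrLC.deg0 𝒜) := by
  rw [phi_of_mem_dvd 𝒜 N hN u hu hmin (dvd_zero _) hx, Int.zero_ediv, neg_zero, zpow_zero,
    Units.val_one, one_mul, rho_of_mem_zero 𝒜 hx]

lemma phi_surjective : Function.Surjective (phi 𝒜 N hN u hu hmin) := by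
  intro y
  obtain ⟨a, rfl⟩ := residue_surjective y
  exact ⟨(a : R), phi_of_mem_zero 𝒜 N hN u hu hmin a.2⟩

lemma Psi_u_sub_one : Psi 𝒜 N hN u hu hmin ((u : R) - 1) = TrivSqZeroExt.inr 1 := by
  have hN0 : (N : ℤ) ≠ 0 := by exact_mod_cast hN.ne'
  rw [map_sub, map_one, Psi_of_mem 𝒜 N hN u hu hmin hu, cc_of_dvd 𝒜 N (dvd_refl _),
    Int.ediv_self hN0, zpow_neg, zpow_one, Units.inv_mul, rho_one, one_smul]
  simp

lemma Psi_eq_zero_of_mem_sq {z : R} (hz : z ∈ (RingHom.ker (phi 𝒜 N hN u hu hmin)) ^ 2) :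
    Psi 𝒜 N hN u hu hmin z = 0 := by
  have hle : (RingHom.ker (phi 𝒜 N hN u hu hmin)) ^ 2 ≤ RingHom.ker (Psi 𝒜 N hN u hu hmin) := by
    rw [pow_two, Ideal.mul_le]
    intro x hx y hy
    rw [RingHom.mem_ker] at hx hy ⊢
    rw [map_mul]
    have hx' : (Psi 𝒜 N hN u hu hmin x).fst = 0 := hx
    have hy' : (Psi 𝒜 N hN u hu hmin y).fst = 0 := hy
    ext <;> simp [hx', hy']
  exact hle hz

lemma Psi_mul_u_sub_one (s : R) :
    Psi 𝒜 N hN u hu hmin (s * ((u : R) - 1)) = TrivSqZeroExt.inr (phi 𝒜 N hN u hu hmin s) := by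
  rw [map_mul, Psi_u_sub_one, phi_apply]
  ext <;> simp

lemma u_sub_one_mem_ker : (u : R) - 1 ∈ RingHom.ker (phi 𝒜 N hN u hu hmin) := by
  rw [RingHom.mem_ker, phi_apply, Psi_u_sub_one]
  simp

end Phi

end Groth.Agent.Lib.Helper84.GrUnit
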