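import Mathlib
import Groth.Agent.Lib.Helper84.GrUnit
import Groth.Agent.Lib.Helper84.DerReg2

set_option autoImplicit false
universe u

namespace Groth.Agent.Lib.Helper84.GrUnit

open IsLocalRing DirectSum

section Uniq
variable {R : Type u} [CommRing R] (𝒜 : ℤ → AddSubgroup R) [GradedRing 𝒜]
variable [IsLocalRing (GrLC.deg0 𝒜)]
variable (N : ℕ) (hN : 0 < N) (u : Rˣ) (hu : (u : R) ∈ 𝒜 (N : ℤ))
variable (hmin : ∀ (n : ℤ), 0 < n → n < (N : ℤ) → ∀ s ∈ 𝒜 n, ¬ IsUnit s)

/-- the quotient ring `C = R/(u - 1)` -/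
abbrev CC := R ⧸ Ideal.span ({(u : R) - 1} : Set R)

lemma mk_u : (Ideal.Quotient.mk (Ideal.span ({(u : R) - 1} : Set R)) (u : R)) = 1 := by
  rw [← sub_eq_zero, ← map_one (Ideal.Quotient.mk _), ← map_sub]
  exact Ideal.Quotient.eq_zero_iff_mem.2 (Ideal.subset_span rfl)

lemma mk_zpow (q : ℤ) :
    (Ideal.Quotient.mk (Ideal.span ({(u : R) - 1} : Set R)) ((u ^ q : Rˣ) : R)) = 1 := by
  have h : Units.map (Ideal.Quotient.mk (Ideal.span ({(u : R) - 1} : Set R))).toMonoidHom u = 1 := by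
    ext
    exact mk_u u
  have h2 := congrArg (fun v : (CC u)ˣ => ((v ^ q : (CC u)ˣ) : CC u)) h
  simp only [one_zpow, Units.val_one] at h2
  rw [← h2, ← map_zpow]
  rfl

include hu in
/-- `x^N ≡ a` modulo `u - 1` with `a` of degree zero. -/
lemma mk_pow_eq {i : ℤ} {x : R} (hx : x ∈ 𝒜 i) :
    ∃ a : R, ∃ ha : a ∈ 𝒜 0, a = ((u ^ (-i) : Rˣ) : R) * x ^ N ∧
      (Ideal.Quotient.mk (Ideal.span ({(u : R) - 1} : Set R)) x) ^ N =
        Ideal.Quotient.mk (Ideal.span ({(u : R) - 1} : Set R)) a := by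
  have h1 : x ^ N ∈ 𝒜 (N • i) := SetLike.pow_mem_graded N hx
  have h2 := SetLike.GradedMul.mul_mem (zpow_mem_graded 𝒜 u hu (-i)) h1
  have e : -i * (N : ℤ) + N • i = 0 := by
    simp; ring
  rw [e] at h2
  refine ⟨_, h2, rfl, ?_⟩
  rw [map_mul, mk_zpow, one_mul, map_pow]

include hN hu in
/-- `C` is integral over the degree-zero subring. -/
lemma isIntegral_CC : Algebra.IsIntegral (GrLC.deg0 𝒜) (CC u) := by
  constructor
  intro c
  obtain ⟨r, rfl⟩ := Ideal.Quotient.mk_surjective c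
  refine DirectSum.Decomposition.inductionOn 𝒜 (motive := fun r =>
    IsIntegral (GrLC.deg0 𝒜) (Ideal.Quotient.mk (Ideal.span ({(u : R) - 1} : Set R)) r))
    ?_ ?_ ?_ r
  · rw [map_zero]; exact isIntegral_zero
  · intro i x
    obtain ⟨a, ha, -, hpow⟩ := mk_pow_eq 𝒜 N u hu x.2
    apply IsIntegral.of_pow hN
    rw [hpow]
    exact isIntegral_algebraMap (x := (⟨a, ha⟩ : GrLC.deg0 𝒜))
  · intro x y hx hy
    rw [map_add]; exact hx.add hy

include hN hu in
/-- every maximal ideal of `C` contains the image of `m₀`. -/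
lemma algebraMap_mem_of_isMaximal (M : Ideal (CC u)) [M.IsMaximal] {a : R} (ha : a ∈ 𝒜 0)
    (ham : (⟨a, ha⟩ : GrLC.deg0 𝒜) ∈ maximalIdeal (GrLC.deg0 𝒜)) :
    Ideal.Quotient.mk (Ideal.span ({(u : R) - 1} : Set R)) a ∈ M := by
  have := isIntegral_CC 𝒜 N hN u hu
  have hmax : (M.comap (algebraMap (GrLC.deg0 𝒜) (CC u))).IsMaximal :=
    Ideal.isMaximal_comap_of_isIntegral_of_isMaximal M
  have heq := IsLocalRing.eq_maximalIdeal hmax
  rw [← heq] at ham
  exact ham

include hN hu hmin in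
/-- homogeneous elements of degree not divisible by `N` lie in every maximal ideal of `C`. -/
lemma mk_mem_of_not_dvd (M : Ideal (CC u)) [hM : M.IsMaximal] {i : ℤ} (hi : ¬ (N : ℤ) ∣ i) {x : R}
    (hx : x ∈ 𝒜 i) : Ideal.Quotient.mk (Ideal.span ({(u : R) - 1} : Set R)) x ∈ M := by
  obtain ⟨a, ha, hadef, hpow⟩ := mk_pow_eq 𝒜 N u hu hx
  apply hM.isPrime.mem_of_pow_mem N
  rw [hpow]
  apply algebraMap_mem_of_isMaximal 𝒜 N hN u hu M ha
  rw [mem_maximalIdeal]
  intro hunit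
  have h1 : IsUnit a := hunit.map (GrLC.deg0 𝒜).subtype
  rw [hadef, Units.isUnit_units_mul] at h1
  exact not_isUnit_of_not_dvd 𝒜 N hN u hu hmin hi hx ((isUnit_pow_iff hN.ne').1 h1)

include hN hu hmin in
/-- modulo any maximal ideal of `C`, every `r` is congruent to a degree-zero element computing
`phi r`. -/
lemma exists_deg0_congr (M : Ideal (CC u)) [hM : M.IsMaximal] (r : R) :
    ∃ a : R, ∃ ha : a ∈ 𝒜 0,
      Ideal.Quotient.mk (Ideal.span ({(u : R) - 1} : Set R)) r -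
        Ideal.Quotient.mk (Ideal.span ({(u : R) - 1} : Set R)) a ∈ M ∧
      residue (GrLC.deg0 𝒜) (⟨a, ha⟩ : GrLC.deg0 𝒜) = phi 𝒜 N hN u hu hmin r := by
  refine DirectSum.Decomposition.inductionOn 𝒜 (motive := fun r => ∃ a : R, ∃ ha : a ∈ 𝒜 0,
      Ideal.Quotient.mk (Ideal.span ({(u : R) - 1} : Set R)) r -
        Ideal.Quotient.mk (Ideal.span ({(u : R) - 1} : Set R)) a ∈ M ∧
      residue (GrLC.deg0 𝒜) (⟨a, ha⟩ : GrLC.deg0 𝒜) = phi 𝒜 N hN u hu hmin r) ?_ ?_ ?_ r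
  · exact ⟨0, zero_mem _, by simp, by
      rw [map_zero, ← map_zero (residue (GrLC.deg0 𝒜))]; rfl⟩
  · intro i x
    by_cases hi : (N : ℤ) ∣ i
    · refine ⟨((u ^ (-(i / N)) : Rˣ) : R) * x, zpow_mul_mem_zero 𝒜 N u hu hi x.2, ?_, ?_⟩
      · rw [map_mul, mk_zpow, one_mul, sub_self]; exact M.zero_mem
      · rw [phi_of_mem_dvd 𝒜 N hN u hu hmin hi x.2,
          rho_of_mem_zero 𝒜 (zpow_mul_mem_zero 𝒜 N u hu hi x.2)]
    · refine ⟨0, zero_mem _, ?_, ?_⟩
      · rw [map_zero, sub_zero]; exact mk_mem_of_not_dvd 𝒜 N hN u hu hmin M hi x.2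
      · rw [phi_of_mem_not_dvd 𝒜 N hN u hu hmin hi x.2, ← map_zero (residue (GrLC.deg0 𝒜))]; rfl
  · rintro x y ⟨a, ha, h1, h2⟩ ⟨b, hb, h3, h4⟩
    refine ⟨a + b, add_mem ha hb, ?_, ?_⟩
    · have := M.add_mem h1 h3
      rw [map_add, map_add]
      convert this using 1
      ring
    · rw [map_add, ← h2, ← h4, ← map_add]; rfl

include hN hu hmin in
/-- the kernel of `phi` is contained in the preimage of every maximal ideal of `C`. -/
lemma ker_phi_le_comap (M : Ideal (CC u)) [hM : M.IsMaximal] :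
    RingHom.ker (phi 𝒜 N hN u hu hmin) ≤
      M.comap (Ideal.Quotient.mk (Ideal.span ({(u : R) - 1} : Set R))) := by
  intro r hr
  rw [RingHom.mem_ker] at hr
  obtain ⟨a, ha, h1, h2⟩ := exists_deg0_congr 𝒜 N hN u hu hmin M r
  rw [hr, residue_eq_zero_iff] at h2
  have h3 := algebraMap_mem_of_isMaximal 𝒜 N hN u hu M ha h2
  have := M.add_mem h1 h3
  rw [sub_add_cancel] at this
  exact this

end Uniq

section Final
variable {R : Type u} [CommRing R] [IsNoetherianRing R] (𝒜 : ℤ → AddSubgroup R) [GradedRing 𝒜]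
variable [IsLocalRing (GrLC.deg0 𝒜)]
variable (hreg : ∀ (p : Ideal R) [p.IsPrime], IsRegularLocalRing (Localization.AtPrime p))
variable (N : ℕ) (hN : 0 < N) (u : Rˣ) (hu : (u : R) ∈ 𝒜 (N : ℤ))
variable (hmin : ∀ (n : ℤ), 0 < n → n < (N : ℤ) → ∀ s ∈ 𝒜 n, ¬ IsUnit s)

include hreg hN hu hmin in
theorem isRegularLocalRing_CC : IsRegularLocalRing (CC u) := by
  have hRreg : IsRegularRing R := isRegularRing_iff.2 (fun p hp => hreg p)
  set n := RingHom.ker (phi 𝒜 N hN u hu hmin) with hn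
  have hnmax : n.IsMaximal :=
    RingHom.ker_isMaximal_of_surjective _ (phi_surjective 𝒜 N hN u hu hmin)
  have hle : Ideal.span ({(u : R) - 1} : Set R) ≤ n :=
    Ideal.span_le.2 (Set.singleton_subset_iff.2 (u_sub_one_mem_ker 𝒜 N hN u hu hmin))
  have hsurj : Function.Surjective (Ideal.Quotient.mk (Ideal.span ({(u : R) - 1} : Set R))) :=
    Ideal.Quotient.mk_surjective
  have hker : RingHom.ker (Ideal.Quotient.mk (Ideal.span ({(u : R) - 1} : Set R))) ≤ n := by
    rw [Ideal.mk_ker]; exact hle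
  have hnbar : (n.map (Ideal.Quotient.mk (Ideal.span ({(u : R) - 1} : Set R)))).IsMaximal :=
    Ideal.IsMaximal.map_of_surjective_of_ker_le hsurj hker
  have hcomap : (n.map (Ideal.Quotient.mk (Ideal.span ({(u : R) - 1} : Set R)))).comap
      (Ideal.Quotient.mk (Ideal.span ({(u : R) - 1} : Set R))) = n := by
    rw [Ideal.comap_map_of_surjective _ hsurj, ← RingHom.ker_eq_comap_bot]
    exact sup_eq_left.2 hker
  have hloc : IsLocalRing (CC u) := by
    refine IsLocalRing.of_unique_max_ideal ⟨_, hnbar, ?_⟩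
    intro M hM
    have h1 := ker_phi_le_comap 𝒜 N hN u hu hmin M
    have h2 : (M.comap (Ideal.Quotient.mk (Ideal.span ({(u : R) - 1} : Set R)))).IsMaximal :=
      Ideal.comap_isMaximal_of_surjective _ hsurj
    have h3 : n = M.comap (Ideal.Quotient.mk (Ideal.span ({(u : R) - 1} : Set R))) :=
      hnmax.eq_of_le h2.ne_top h1
    rw [h3, Ideal.map_comap_of_surjective _ hsurj]
  have hmaxeq : maximalIdeal (CC u) =
      n.map (Ideal.Quotient.mk (Ideal.span ({(u : R) - 1} : Set R))) :=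
    (IsLocalRing.eq_maximalIdeal hnbar).symm
  have hnprime : n.IsPrime := hnmax.isPrime
  -- the key: `u - 1 ∉ n² R_n`
  have hnot : algebraMap R (Localization.AtPrime n) ((u : R) - 1) ∉
      maximalIdeal (Localization.AtPrime n) ^ 2 := by
    intro hmem
    obtain ⟨s, hs, hsq⟩ := Groth.Agent.Lib.Helper84.DerReg.exists_mul_mem_sq n hmem
    have h0 := Psi_eq_zero_of_mem_sq 𝒜 N hN u hu hmin hsq
    rw [Psi_mul_u_sub_one] at h0
    apply hs
    rw [hn, RingHom.mem_ker]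
    have := congrArg TrivSqZeroExt.snd h0
    simpa using this
  have hregloc : IsRegularLocalRing (Localization.AtPrime (maximalIdeal (CC u))) :=
    Groth.Agent.Lib.Helper84.DerReg.isRegularLocalRing_localization_quotient
      (Ideal.span ({(u : R) - 1} : Set R)) ((u : R) - 1) rfl (maximalIdeal (CC u)) n
      (by rw [hmaxeq, hcomap]) hnot
  let e : CC u ≃ₐ[CC u] (Localization.AtPrime (maximalIdeal (CC u))) :=
    IsLocalization.atUnits (CC u) (maximalIdeal (CC u)).primeCompl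
      (fun x => by simpa using! fun a => a)
  exact IsRegularLocalRing.of_ringEquiv e.toRingEquiv.symm

end Final

end Groth.Agent.Lib.Helper84.GrUnit
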