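import Mathlib
import Groth.Agent.Lib.Helper84.GrUnit2
import Groth.Agent.Lib.Helper96.RegularLoc
import Groth.Agent.Lib.Helper33.RegularRing

set_option autoImplicit false
universe u v

namespace Groth.Agent.Lib.Helper84.GrUnit

open IsLocalRing DirectSum

section Twist
variable {R : Type u} [CommRing R] (𝒜 : ℤ → AddSubgroup R) [GradedRing 𝒜]
variable {S : Type v} [CommRing S] (g : R →+* S) (v : Sˣ)

/-- degree-`i` piece of the twisted homomorphism -/
noncomputable def tw (i : ℤ) : 𝒜 i →+ S where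
  toFun x := g (x : R) * ((v ^ i : Sˣ) : S)
  map_zero' := by simp
  map_add' a b := by simp [add_mul]

lemma tw_one : tw 𝒜 g v 0 (GradedMonoid.GOne.one (A := fun i => 𝒜 i)) = 1 := by
  show g ((GradedMonoid.GOne.one (A := fun i => 𝒜 i) : 𝒜 0) : R) * ((v ^ (0 : ℤ) : Sˣ) : S) = 1
  rw [SetLike.coe_gOne, map_one, zpow_zero, Units.val_one, mul_one]

lemma tw_mul {i j : ℤ} (ai : 𝒜 i) (aj : 𝒜 j) :
    tw 𝒜 g v (i + j) (GradedMonoid.GMul.mul (A := fun i => 𝒜 i) ai aj) =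
      tw 𝒜 g v i ai * tw 𝒜 g v j aj := by
  show g ((GradedMonoid.GMul.mul (A := fun i => 𝒜 i) ai aj : 𝒜 (i + j)) : R) *
    ((v ^ (i + j) : Sˣ) : S) = (g (ai : R) * ((v ^ i : Sˣ) : S)) * (g (aj : R) * ((v ^ j : Sˣ) : S))
  rw [SetLike.coe_gMul, map_mul, zpow_add, Units.val_mul]
  ring

/-- The twisted homomorphism `x ∈ R_i ↦ g x * v^i`. -/
noncomputable def twist : R →+* S :=
  (DirectSum.toSemiring (tw 𝒜 g v) (tw_one 𝒜 g v) (fun ai aj => tw_mul 𝒜 g v ai aj)).comp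
    (DirectSum.decomposeRingEquiv 𝒜).toRingHom

lemma twist_of_mem {i : ℤ} {x : R} (hx : x ∈ 𝒜 i) :
    twist 𝒜 g v x = g x * ((v ^ i : Sˣ) : S) := by
  show DirectSum.toSemiring (tw 𝒜 g v) (tw_one 𝒜 g v) (fun ai aj => tw_mul 𝒜 g v ai aj)
    (DirectSum.decompose 𝒜 x) = _
  rw [DirectSum.decompose_of_mem 𝒜 hx, DirectSum.toSemiring_of]
  rfl

/-- ring homs agreeing on homogeneous elements are equal -/
lemma ringHom_ext_homogeneous {f₁ f₂ : R →+* S} (h : ∀ (i : ℤ) (x : R), x ∈ 𝒜 i → f₁ x = f₂ x) :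
    f₁ = f₂ := by
  ext r
  refine DirectSum.Decomposition.inductionOn 𝒜 (motive := fun r => f₁ r = f₂ r) ?_ ?_ ?_ r
  · simp
  · intro i x; exact h i x x.2
  · intro x y hx hy; rw [map_add, map_add, hx, hy]

end Twist

section Iso
open Polynomial
variable {R : Type u} [CommRing R] (𝒜 : ℤ → AddSubgroup R) [GradedRing 𝒜]
variable (N : ℕ) (hN : 0 < N) (u : Rˣ) (hu : (u : R) ∈ 𝒜 (N : ℤ))

/-- the ring `S = R[U]/(U^N - u)` -/
abbrev SS := AdjoinRoot ((X : R[X]) ^ N - C (u : R))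

/-- `T` as a unit of the Laurent polynomial ring -/
noncomputable def Tunit (A : Type u) [CommRing A] : (LaurentPolynomial A)ˣ :=
  Units.mkOfMulEqOne (LaurentPolynomial.T 1) (LaurentPolynomial.T (-1))
    (by rw [← LaurentPolynomial.T_add]; simp)

lemma Tunit_zpow (A : Type u) [CommRing A] (i : ℤ) :
    ((Tunit A ^ i : (LaurentPolynomial A)ˣ) : LaurentPolynomial A) = LaurentPolynomial.T i := by
  have hinv : ((Tunit A)⁻¹ : (LaurentPolynomial A)ˣ).val = LaurentPolynomial.T (-1) := rfl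
  obtain ⟨n, rfl | rfl⟩ := i.eq_nat_or_neg
  · rw [zpow_natCast, Units.val_pow_eq_pow_val]
    show (LaurentPolynomial.T 1) ^ n = _
    rw [LaurentPolynomial.T_pow, mul_one]
  · rw [zpow_neg, zpow_natCast, ← inv_pow, Units.val_pow_eq_pow_val, hinv,
      LaurentPolynomial.T_pow, mul_neg, mul_one]

include hN in
lemma root_mul_eq_one : (AdjoinRoot.root ((X : R[X]) ^ N - C (u : R))) *
    ((AdjoinRoot.root ((X : R[X]) ^ N - C (u : R))) ^ (N - 1) *
      AdjoinRoot.of ((X : R[X]) ^ N - C (u : R)) ((u⁻¹ : Rˣ) : R)) = 1 := by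
  have h1 : (AdjoinRoot.root ((X : R[X]) ^ N - C (u : R))) ^ N =
      AdjoinRoot.of ((X : R[X]) ^ N - C (u : R)) (u : R) := by
    have := AdjoinRoot.eval₂_root ((X : R[X]) ^ N - C (u : R))
    rw [eval₂_sub, eval₂_X_pow, eval₂_C, sub_eq_zero] at this
    exact this
  rw [← mul_assoc, ← pow_succ', Nat.sub_add_cancel hN, h1, ← map_mul, Units.mul_inv, map_one]

/-- the root as a unit of `S` -/
noncomputable def rootU : (SS N u)ˣ :=
  Units.mkOfMulEqOne _ _ (root_mul_eq_one N hN u)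

lemma rootU_val : ((rootU N hN u : (SS N u)ˣ) : SS N u) =
    AdjoinRoot.root ((X : R[X]) ^ N - C (u : R)) := rfl

lemma rootU_pow_N : ((rootU N hN u ^ (N : ℤ) : (SS N u)ˣ) : SS N u) =
    AdjoinRoot.of ((X : R[X]) ^ N - C (u : R)) (u : R) := by
  rw [zpow_natCast, Units.val_pow_eq_pow_val, rootU_val]
  have := AdjoinRoot.eval₂_root ((X : R[X]) ^ N - C (u : R))
  rw [eval₂_sub, eval₂_X_pow, eval₂_C, sub_eq_zero] at this
  exact this

/-- `α₀ : R → C[T;T⁻¹]`, `x ∈ R_i ↦ [x] T^i`. -/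
noncomputable def alpha0 : R →+* LaurentPolynomial (CC u) :=
  twist 𝒜 (LaurentPolynomial.C.comp (Ideal.Quotient.mk (Ideal.span ({(u : R) - 1} : Set R))))
    (Tunit (CC u))

lemma alpha0_of_mem {i : ℤ} {x : R} (hx : x ∈ 𝒜 i) :
    alpha0 𝒜 u x = LaurentPolynomial.C (Ideal.Quotient.mk (Ideal.span ({(u : R) - 1} : Set R)) x) *
      LaurentPolynomial.T i := by
  rw [alpha0, twist_of_mem 𝒜 _ _ hx, Tunit_zpow]
  rfl

include hu in
lemma alpha0_eval : eval₂ (alpha0 𝒜 u) (LaurentPolynomial.T 1) ((X : R[X]) ^ N - C (u : R)) = 0 := by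
  rw [eval₂_sub, eval₂_X_pow, eval₂_C, alpha0_of_mem 𝒜 u hu, mk_u, map_one, one_mul,
    LaurentPolynomial.T_pow, mul_one, sub_self]

/-- `α : S → C[T;T⁻¹]`. -/
noncomputable def alpha : SS N u →+* LaurentPolynomial (CC u) :=
  AdjoinRoot.lift (alpha0 𝒜 u) (LaurentPolynomial.T 1) (alpha0_eval 𝒜 N u hu)

/-- `β₀ : R → S`, `x ∈ R_i ↦ x root^{-i}`. -/
noncomputable def beta0 : R →+* SS N u :=
  twist 𝒜 (AdjoinRoot.of ((X : R[X]) ^ N - C (u : R))) (rootU N hN u)⁻¹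

lemma beta0_of_mem {i : ℤ} {x : R} (hx : x ∈ 𝒜 i) :
    beta0 𝒜 N hN u x = AdjoinRoot.of ((X : R[X]) ^ N - C (u : R)) x *
      (((rootU N hN u)⁻¹ ^ i : (SS N u)ˣ) : SS N u) := by
  rw [beta0, twist_of_mem 𝒜 _ _ hx]

include hu in
lemma beta0_u : beta0 𝒜 N hN u (u : R) = 1 := by
  rw [beta0_of_mem 𝒜 N hN u hu, ← rootU_pow_N N hN u, ← Units.val_mul, inv_zpow, mul_inv_cancel,
    Units.val_one]

/-- `β₁ : C → S`. -/
noncomputable def beta1 : CC u →+* SS N u :=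
  Ideal.Quotient.lift _ (beta0 𝒜 N hN u) (by
    intro a ha
    have hle : Ideal.span ({(u : R) - 1} : Set R) ≤ RingHom.ker (beta0 𝒜 N hN u) := by
      rw [Ideal.span_le, Set.singleton_subset_iff]
      show beta0 𝒜 N hN u ((u : R) - 1) = 0
      rw [map_sub, beta0_u 𝒜 N hN u hu, map_one, sub_self]
    exact hle ha)

lemma beta1_mk (r : R) : beta1 𝒜 N hN u hu (Ideal.Quotient.mk _ r) = beta0 𝒜 N hN u r := rfl

/-- `β : C[T;T⁻¹] → S`. -/
noncomputable def beta : LaurentPolynomial (CC u) →+* SS N u :=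
  LaurentPolynomial.eval₂ (beta1 𝒜 N hN u hu) (rootU N hN u)

end Iso

section Iso2
open Polynomial
variable {R : Type u} [CommRing R] (𝒜 : ℤ → AddSubgroup R) [GradedRing 𝒜]
variable (N : ℕ) (hN : 0 < N) (u : Rˣ) (hu : (u : R) ∈ 𝒜 (N : ℤ))

lemma alpha_of (r : R) : alpha 𝒜 N u hu (AdjoinRoot.of _ r) = alpha0 𝒜 u r := by
  rw [alpha, AdjoinRoot.lift_of]

lemma alpha_root : alpha 𝒜 N u hu (AdjoinRoot.root _) = LaurentPolynomial.T 1 := by
  rw [alpha, AdjoinRoot.lift_root]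

lemma alpha_rootU_zpow (j : ℤ) :
    alpha 𝒜 N u hu (((rootU N hN u) ^ j : (SS N u)ˣ) : SS N u) = LaurentPolynomial.T j := by
  have h : Units.map (alpha 𝒜 N u hu).toMonoidHom (rootU N hN u) = Tunit (CC u) := by
    ext1
    show alpha 𝒜 N u hu (AdjoinRoot.root _) = LaurentPolynomial.T 1
    exact alpha_root 𝒜 N u hu
  rw [← Tunit_zpow, ← h, ← map_zpow]
  rfl

lemma beta_comp_alpha : (beta 𝒜 N hN u hu).comp (alpha 𝒜 N u hu) = RingHom.id _ := by
  apply Ideal.Quotient.ringHom_ext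
  apply Polynomial.ringHom_ext'
  · apply ringHom_ext_homogeneous 𝒜
    intro i x hx
    show beta 𝒜 N hN u hu (alpha 𝒜 N u hu (AdjoinRoot.of _ x)) = AdjoinRoot.of _ x
    rw [alpha_of, alpha0_of_mem 𝒜 u hx, beta, LaurentPolynomial.eval₂_C_mul_T, beta1_mk,
      beta0_of_mem 𝒜 N hN u hx, mul_assoc, ← Units.val_mul, inv_zpow, inv_mul_cancel,
      Units.val_one, mul_one]
  · show beta 𝒜 N hN u hu (alpha 𝒜 N u hu (AdjoinRoot.root _)) = AdjoinRoot.root _
    rw [alpha_root, beta, LaurentPolynomial.eval₂_T, zpow_one]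
    rfl

lemma alpha_comp_beta : (alpha 𝒜 N u hu).comp (beta 𝒜 N hN u hu) = RingHom.id _ := by
  apply AddMonoidAlgebra.ringHom_ext
  · intro c
    obtain ⟨r, rfl⟩ := Ideal.Quotient.mk_surjective c
    have key : ((alpha 𝒜 N u hu).comp (beta 𝒜 N hN u hu)).comp
        (LaurentPolynomial.C.comp (Ideal.Quotient.mk (Ideal.span ({(u : R) - 1} : Set R)))) =
        LaurentPolynomial.C.comp (Ideal.Quotient.mk (Ideal.span ({(u : R) - 1} : Set R))) := by
      apply ringHom_ext_homogeneous 𝒜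
      intro i x hx
      show alpha 𝒜 N u hu (beta 𝒜 N hN u hu (LaurentPolynomial.C (Ideal.Quotient.mk _ x))) =
        LaurentPolynomial.C (Ideal.Quotient.mk _ x)
      rw [beta, LaurentPolynomial.eval₂_C, beta1_mk, beta0_of_mem 𝒜 N hN u hx, map_mul, alpha_of,
        alpha0_of_mem 𝒜 u hx, inv_zpow, ← zpow_neg, alpha_rootU_zpow, mul_assoc,
        ← LaurentPolynomial.T_add, add_neg_cancel, LaurentPolynomial.T_zero, mul_one]
    exact RingHom.congr_fun key r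
  · intro a
    show alpha 𝒜 N u hu (beta 𝒜 N hN u hu (LaurentPolynomial.T a)) = LaurentPolynomial.T a
    rw [beta, LaurentPolynomial.eval₂_T, alpha_rootU_zpow]

/-- `S ≃ C[T;T⁻¹]`. -/
noncomputable def isoLaurent : SS N u ≃+* LaurentPolynomial (CC u) :=
  RingEquiv.ofRingHom (alpha 𝒜 N u hu) (beta 𝒜 N hN u hu) (alpha_comp_beta 𝒜 N hN u hu)
    (beta_comp_alpha 𝒜 N hN u hu)

end Iso2

section Final2
open Polynomial
variable {R : Type u} [CommRing R] [IsNoetherianRing R] (𝒜 : ℤ → AddSubgroup R) [GradedRing 𝒜]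
variable [IsLocalRing (GrLC.deg0 𝒜)]
variable (hreg : ∀ (p : Ideal R) [p.IsPrime], IsRegularLocalRing (Localization.AtPrime p))
variable (N : ℕ) (hN : 0 < N) (u : Rˣ) (hu : (u : R) ∈ 𝒜 (N : ℤ))
variable (hm : ∀ (i j : ℤ), 0 < i → 0 < j → i + j = (N : ℤ) → ∀ a ∈ 𝒜 i, ∀ b ∈ 𝒜 j,
      ∃ c : GrLC.deg0 𝒜, c ∈ IsLocalRing.maximalIdeal (GrLC.deg0 𝒜) ∧ a * b = (c : R) * (u : R))

include hu hm in
lemma hmin_of_hm : ∀ (n : ℤ), 0 < n → n < (N : ℤ) → ∀ s ∈ 𝒜 n, ¬ IsUnit s := by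
  intro n hn0 hnN s hs hsu
  obtain ⟨w, rfl⟩ := hsu
  have hw : ((w⁻¹ : Rˣ) : R) ∈ 𝒜 (-n) := inv_mem_graded 𝒜 w hs
  have hb : (u : R) * ((w⁻¹ : Rˣ) : R) ∈ 𝒜 ((N : ℤ) - n) := by
    have := SetLike.GradedMul.mul_mem hu hw
    rwa [← sub_eq_add_neg] at this
  obtain ⟨c, hc, hceq⟩ := hm n ((N : ℤ) - n) hn0 (by linarith) (by ring) _ hs _ hb
  have h1 : (w : R) * ((u : R) * ((w⁻¹ : Rˣ) : R)) = (u : R) := by
    rw [mul_comm (u : R), ← mul_assoc, Units.mul_inv, one_mul]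
  rw [h1] at hceq
  have h2 : (c : R) = 1 := by
    have : (c : R) * (u : R) = 1 * (u : R) := by rw [← hceq, one_mul]
    exact (Units.mul_left_inj u).1 this
  have h3 : c = 1 := Subtype.ext h2
  rw [h3] at hc
  exact (IsLocalRing.maximalIdeal.isMaximal _).ne_top ((Ideal.eq_top_iff_one _).2 hc)

include hreg hN hu hm in
theorem isRegularRing_SS : IsRegularRing (SS N u) := by
  have hmin := hmin_of_hm 𝒜 N u hu hm
  have h1 : IsRegularLocalRing (CC u) := isRegularLocalRing_CC 𝒜 hreg N hN u hu hmin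
  have h2 : IsRegularRing (CC u) := Groth.Agent.Lib.Helper33.isRegularRing_of_isRegularLocalRing _
  have h3 : IsRegularRing (LaurentPolynomial (CC u)) :=
    Groth.Agent.Lib.Helper96.isRegularRing_of_isLocalization
      (Submonoid.powers (X : (CC u)[X])) (LaurentPolynomial (CC u))
  exact IsRegularRing.of_ringEquiv (isoLaurent 𝒜 N hN u hu).symm

end Final2

end Groth.Agent.Lib.Helper84.GrUnit
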