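import Mathlib

/-!
# Gluing localizations at idempotents over `D(I)` (helper84, for S9303)

`main`: if `A_f → C_f` is the localization at an idempotent for all `f ∈ I` (`I` f.g.), there is an ideal `K`
with `A_f ≅ (C × A/K)_f` for all `f ∈ I`.
-/

set_option autoImplicit false
universe u

namespace Groth.Agent.Lib.Helper84.IdemGlue

section general

variable {A : Type u} [CommRing A] {B : Type u} [CommRing B] [Algebra A B]

/-- Criterion for `A_f → B_f` to be bijective. -/
theorem bijective_of (f : A)
    (hinj : ∀ a : A, (∃ n : ℕ, f ^ n • algebraMap A B a = 0) → ∃ m : ℕ, f ^ m * a = 0)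
    (hsurj : ∀ y : B, ∃ (m : ℕ) (a : A) (n : ℕ), f ^ n • (f ^ m • y - algebraMap A B a) = 0) :
    Function.Bijective (algebraMap (Localization.Away f)
      (Localization (Algebra.algebraMapSubmonoid B (Submonoid.powers f)))) := by
  constructor
  · rw [injective_iff_map_eq_zero]
    intro x hx
    obtain ⟨a, s, rfl⟩ := IsLocalization.exists_mk'_eq (Submonoid.powers f) x
    rw [IsLocalization.algebraMap_mk' B, IsLocalization.mk'_eq_zero_iff] at hx
    obtain ⟨⟨t, ht⟩, hn⟩ := hx
    obtain ⟨t', ⟨n, rfl⟩, rfl⟩ := ht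
    have : ∃ m : ℕ, f ^ m * a = 0 := hinj a ⟨n, by
      rw [Algebra.smul_def]; simpa using hn⟩
    obtain ⟨m, hm⟩ := this
    rw [IsLocalization.mk'_eq_zero_iff]
    exact ⟨⟨f ^ m, m, rfl⟩, hm⟩
  · intro z
    obtain ⟨y, ⟨t, ht⟩, rfl⟩ :=
      IsLocalization.exists_mk'_eq (Algebra.algebraMapSubmonoid B (Submonoid.powers f)) z
    obtain ⟨t', ⟨k, rfl⟩, rfl⟩ := ht
    obtain ⟨m, a, n, hn⟩ := hsurj y
    refine ⟨IsLocalization.mk' _ a (⟨f ^ (m + k), m + k, rfl⟩ : Submonoid.powers f), ?_⟩
    rw [IsLocalization.algebraMap_mk' B, IsLocalization.mk'_eq_iff_eq]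
    simp only
    rw [IsLocalization.eq_iff_exists (Algebra.algebraMapSubmonoid B (Submonoid.powers f))]
    refine ⟨⟨algebraMap A B (f ^ n), Algebra.mem_algebraMapSubmonoid_of_mem
      (⟨f ^ n, n, rfl⟩ : Submonoid.powers f)⟩, ?_⟩
    simp only
    rw [smul_sub, sub_eq_zero] at hn
    simp only [Algebra.smul_def, map_pow] at hn ⊢
    rw [pow_add]
    linear_combination (-(algebraMap A B f) ^ k) * hn

end general

section loc

variable {A : Type u} [CommRing A] {C : Type u} [CommRing C] [Algebra A C]
variable (f : A) (e : Localization.Away f) (he : IsIdempotentElem e)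
  [hloc : IsLocalization.Away e
    (Localization (Algebra.algebraMapSubmonoid C (Submonoid.powers f)))]

include he hloc

theorem map_e : algebraMap (Localization.Away f)
    (Localization (Algebra.algebraMapSubmonoid C (Submonoid.powers f))) e = 1 := by
  have hu : IsUnit (algebraMap (Localization.Away f)
      (Localization (Algebra.algebraMapSubmonoid C (Submonoid.powers f))) e) :=
    IsLocalization.Away.algebraMap_isUnit e
  have hid : algebraMap (Localization.Away f)
      (Localization (Algebra.algebraMapSubmonoid C (Submonoid.powers f))) e *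
      algebraMap (Localization.Away f)
      (Localization (Algebra.algebraMapSubmonoid C (Submonoid.powers f))) e =
      algebraMap (Localization.Away f)
      (Localization (Algebra.algebraMapSubmonoid C (Submonoid.powers f))) e := by
    rw [← map_mul, he.eq]
  exact hu.mul_left_cancel (by rw [hid, mul_one])

theorem map_eq_zero_iff' (x : Localization.Away f) :
    algebraMap (Localization.Away f)
      (Localization (Algebra.algebraMapSubmonoid C (Submonoid.powers f))) x = 0 ↔ e * x = 0 := by
  constructor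
  · intro hx
    rw [IsLocalization.map_eq_zero_iff (Submonoid.powers e)] at hx
    obtain ⟨⟨m, k, rfl⟩, hm⟩ := hx
    simp only at hm
    cases k with
    | zero => rw [pow_zero, one_mul] at hm; rw [hm, mul_zero]
    | succ k => rwa [he.pow_succ_eq] at hm
  · intro hx
    have := congrArg (algebraMap (Localization.Away f)
      (Localization (Algebra.algebraMapSubmonoid C (Submonoid.powers f)))) hx
    rwa [map_mul, map_e f e he, one_mul, map_zero] at this

theorem H1 (a : A) :
    (∃ n : ℕ, f ^ n • algebraMap A C a = 0) ↔ e * algebraMap A (Localization.Away f) a = 0 := by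
  rw [← map_eq_zero_iff' (C := C) f e he, ← IsScalarTower.algebraMap_apply,
    IsScalarTower.algebraMap_apply A C
      (Localization (Algebra.algebraMapSubmonoid C (Submonoid.powers f))),
    IsLocalization.map_eq_zero_iff (Algebra.algebraMapSubmonoid C (Submonoid.powers f))]
  constructor
  · rintro ⟨n, hn⟩
    refine ⟨⟨algebraMap A C (f ^ n), Algebra.mem_algebraMapSubmonoid_of_mem
      (⟨f ^ n, n, rfl⟩ : Submonoid.powers f)⟩, ?_⟩
    rw [Algebra.smul_def] at hn
    exact hn
  · rintro ⟨⟨m, hm⟩, h⟩
    obtain ⟨t, ⟨n, rfl⟩, rfl⟩ := hm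
    exact ⟨n, by rw [Algebra.smul_def]; exact h⟩

theorem H2 (c : C) : ∃ x : Localization.Away f,
    algebraMap (Localization.Away f)
      (Localization (Algebra.algebraMapSubmonoid C (Submonoid.powers f))) x =
    algebraMap C (Localization (Algebra.algebraMapSubmonoid C (Submonoid.powers f))) c := by
  obtain ⟨x, ⟨m, k, rfl⟩, hx⟩ := IsLocalization.exists_mk'_eq (Submonoid.powers e)
    (algebraMap C (Localization (Algebra.algebraMapSubmonoid C (Submonoid.powers f))) c)
  refine ⟨x, ?_⟩
  have := IsLocalization.mk'_spec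
    (Localization (Algebra.algebraMapSubmonoid C (Submonoid.powers f))) x
    (⟨e ^ k, k, rfl⟩ : Submonoid.powers e)
  simp only [map_pow, map_e f e he, one_pow, mul_one] at this
  rw [← this]
  exact hx

/-- The predicate "`a` kills `ker (A → C)` up to `f`-power torsion". -/
def P (C : Type u) [CommRing C] [Algebra A C] (f a : A) : Prop :=
  ∀ j ∈ RingHom.ker (algebraMap A C), ∃ m : ℕ, f ^ m * a * j = 0

omit he hloc in
theorem unit_f : IsUnit (algebraMap A (Localization.Away f) f) :=
  IsLocalization.Away.algebraMap_isUnit f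

theorem A_core : ∃ j ∈ RingHom.ker (algebraMap A C), ∀ a' : A,
    (∃ m : ℕ, f ^ m * a' * j = 0) → algebraMap A (Localization.Away f) a' * (1 - e) = 0 := by
  obtain ⟨j₀, ⟨_, k, rfl⟩, hj⟩ := IsLocalization.exists_mk'_eq (Submonoid.powers f) (1 - e)
  have hspec : (1 - e) * algebraMap A (Localization.Away f) (f ^ k) =
      algebraMap A (Localization.Away f) j₀ := by
    rw [← hj]
    exact IsLocalization.mk'_spec (Localization.Away f) j₀ (⟨f ^ k, k, rfl⟩ : Submonoid.powers f)
  have he0 : e * algebraMap A (Localization.Away f) j₀ = 0 := by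
    rw [← hspec, ← mul_assoc, mul_sub, mul_one, he.eq, sub_self, zero_mul]
  obtain ⟨n, hn⟩ := (H1 (C := C) f e he j₀).2 he0
  refine ⟨f ^ n * j₀, ?_, ?_⟩
  · rw [RingHom.mem_ker, map_mul, ← Algebra.smul_def]; exact hn
  · rintro a' ⟨m, hm⟩
    have h1 := congrArg (algebraMap A (Localization.Away f)) hm
    simp only [map_mul, map_pow, map_zero] at h1
    have hu := unit_f f
    have h2 : algebraMap A (Localization.Away f) a' * algebraMap A (Localization.Away f) j₀ = 0 := by
      have : (algebraMap A (Localization.Away f) f) ^ (m + n) *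
          (algebraMap A (Localization.Away f) a' * algebraMap A (Localization.Away f) j₀) = 0 := by
        rw [← h1, pow_add]; ring
      exact (hu.pow (m + n)).mul_left_cancel (by rw [this, mul_zero])
    rw [← hspec, map_pow] at h2
    have h3 : (algebraMap A (Localization.Away f) f) ^ k *
        (algebraMap A (Localization.Away f) a' * (1 - e)) = 0 := by
      rw [← h2]; ring
    exact (hu.pow k).mul_left_cancel (by rw [h3, mul_zero])

theorem lemmaA (a : A) :
    P C f a ↔ algebraMap A (Localization.Away f) a * (1 - e) = 0 := by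
  constructor
  · intro hP
    obtain ⟨j, hj, hcore⟩ := A_core (C := C) f e he
    exact hcore a (hP j hj)
  · intro hz j hj
    have he0 : e * algebraMap A (Localization.Away f) j = 0 :=
      (H1 (C := C) f e he j).1 ⟨0, by rw [pow_zero, one_smul]; exact hj⟩
    have h0 : algebraMap A (Localization.Away f) (a * j) = 0 := by
      rw [map_mul]
      calc algebraMap A (Localization.Away f) a * algebraMap A (Localization.Away f) j
          = (algebraMap A (Localization.Away f) a * (1 - e)) *
              algebraMap A (Localization.Away f) j +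
            algebraMap A (Localization.Away f) a *
              (e * algebraMap A (Localization.Away f) j) := by ring
        _ = 0 := by rw [hz, he0, zero_mul, mul_zero, add_zero]
    rw [IsLocalization.map_eq_zero_iff (Submonoid.powers f)] at h0
    obtain ⟨⟨_, m, rfl⟩, hm⟩ := h0
    exact ⟨m, by rw [mul_assoc]; exact hm⟩

theorem lemmaA2 : ∃ j ∈ RingHom.ker (algebraMap A C), ∀ a' : A,
    (∃ m : ℕ, f ^ m * a' * j = 0) → P C f a' := by
  obtain ⟨j, hj, hcore⟩ := A_core (C := C) f e he
  exact ⟨j, hj, fun a' h => (lemmaA (C := C) f e he a').2 (hcore a' h)⟩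

end loc

section glob

variable {A : Type u} [CommRing A] {C : Type u} [CommRing C] [Algebra A C]

theorem P_zero (f : A) : P C f 0 := fun j _ => ⟨0, by simp⟩

theorem P_add (f a b : A) (ha : P C f a) (hb : P C f b) : P C f (a + b) := by
  intro j hj
  obtain ⟨m, hm⟩ := ha j hj
  obtain ⟨n, hn⟩ := hb j hj
  refine ⟨m + n, ?_⟩
  have : f ^ (m + n) * (a + b) * j = f ^ n * (f ^ m * a * j) + f ^ m * (f ^ n * b * j) := by
    rw [pow_add]; ring
  rw [this, hm, hn, mul_zero, mul_zero, add_zero]

theorem P_smul (f c a : A) (ha : P C f a) : P C f (c * a) := by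
  intro j hj
  obtain ⟨m, hm⟩ := ha j hj
  refine ⟨m, ?_⟩
  have : f ^ m * (c * a) * j = c * (f ^ m * a * j) := by ring
  rw [this, hm, mul_zero]

/-- The ideal `K`. -/
def K (C : Type u) [CommRing C] [Algebra A C] (s : Finset A) : Ideal A where
  carrier := {a | ∀ g ∈ s, P C g a}
  zero_mem' := fun g _ => P_zero g
  add_mem' := fun ha hb g hg => P_add g _ _ (ha g hg) (hb g hg)
  smul_mem' := fun c _ ha g hg => P_smul g c _ (ha g hg)

theorem mem_K (s : Finset A) (a : A) : a ∈ K C s ↔ ∀ g ∈ s, P C g a := Iff.rfl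

theorem lemmaB (s : Finset A) (a : A) (ha : a ∈ K C s) (f : A) (hf : f ∈ Ideal.span (s : Set A)) :
    P C f a := by
  intro j hj
  let 𝔟 : Ideal A := LinearMap.ker (LinearMap.toSpanSingleton A A (a * j))
  have hmem : ∀ x : A, x ∈ 𝔟 ↔ x * (a * j) = 0 := by
    intro x
    simp [𝔟, LinearMap.mem_ker, LinearMap.toSpanSingleton_apply]
  have hle : Ideal.span (s : Set A) ≤ 𝔟.radical := by
    rw [Ideal.span_le]
    intro g hg
    obtain ⟨m, hm⟩ := ha g hg j hj
    exact ⟨m, (hmem _).2 (by rw [← mul_assoc]; exact hm)⟩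
  obtain ⟨m, hm⟩ := hle hf
  exact ⟨m, by rw [mul_assoc]; exact (hmem _).1 hm⟩

theorem lemmaC (s : Finset A)
    (hdata : ∀ g ∈ s, ∃ j ∈ RingHom.ker (algebraMap A C), ∀ a' : A,
      (∃ m : ℕ, g ^ m * a' * j = 0) → P C g a')
    (f a : A) (hP : P C f a) : ∃ N : ℕ, f ^ N * a ∈ K C s := by
  classical
  choose! j hj hjP using hdata
  have hm : ∀ g ∈ s, ∃ m : ℕ, f ^ m * a * j g = 0 := fun g hg => hP (j g) (hj g hg)
  choose! m hm using hm
  refine ⟨∑ g ∈ s, m g, fun g hg => hjP g hg _ ⟨0, ?_⟩⟩
  have hle : m g ≤ ∑ g ∈ s, m g := Finset.single_le_sum (fun _ _ => Nat.zero_le _) hg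
  have : f ^ (∑ g ∈ s, m g) = f ^ ((∑ g ∈ s, m g) - m g) * f ^ m g := by
    rw [← pow_add, Nat.sub_add_cancel hle]
  rw [pow_zero, one_mul, this]
  have h2 : f ^ ((∑ g ∈ s, m g) - m g) * f ^ m g * a * j g =
      f ^ ((∑ g ∈ s, m g) - m g) * (f ^ m g * a * j g) := by ring
  rw [h2, hm g hg, mul_zero]

theorem main (A : Type u) [CommRing A]
    (I : Ideal A) (hI : I.FG) (C : Type u) [CommRing C] [Algebra A C]
    (h : ∀ f ∈ I, ∃ e : Localization.Away f, IsIdempotentElem e ∧
      IsLocalization.Away e (Localization (Algebra.algebraMapSubmonoid C (Submonoid.powers f)))) :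
    ∃ K : Ideal A, ∀ f ∈ I, Function.Bijective
      (algebraMap (Localization.Away f)
        (Localization (Algebra.algebraMapSubmonoid (C × (A ⧸ K)) (Submonoid.powers f)))) := by
  classical
  obtain ⟨s, rfl⟩ := hI
  have hs : ∀ g ∈ s, g ∈ Ideal.span (s : Set A) := fun g hg => Ideal.subset_span hg
  have hdata : ∀ g ∈ s, ∃ j ∈ RingHom.ker (algebraMap A C), ∀ a' : A,
      (∃ m : ℕ, g ^ m * a' * j = 0) → P C g a' := by
    intro g hg
    obtain ⟨e, he, hloc⟩ := h g (hs g hg)
    exact lemmaA2 g e he
  refine ⟨K C s, fun f hf => ?_⟩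
  obtain ⟨e, he, hloc⟩ := h f hf
  have hee : e * (1 - e) = 0 := by rw [mul_sub, mul_one, he.eq, sub_self]
  apply bijective_of f
  · rintro a ⟨n, hn⟩
    have h1 : algebraMap A C (f ^ n * a) = 0 := by
      have := congrArg Prod.fst hn
      simpa [Algebra.smul_def] using this
    have h2 : f ^ n * a ∈ K C s := by
      have := congrArg Prod.snd hn
      rw [← Ideal.Quotient.eq_zero_iff_mem]
      simpa [Algebra.smul_def] using this
    have e1 : e * algebraMap A (Localization.Away f) (f ^ n * a) = 0 :=
      (H1 (C := C) f e he (f ^ n * a)).1 ⟨0, by rw [pow_zero, one_smul]; exact h1⟩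
    have e2 : algebraMap A (Localization.Away f) (f ^ n * a) * (1 - e) = 0 :=
      (lemmaA (C := C) f e he _).1 (lemmaB s _ h2 f hf)
    have e3 : algebraMap A (Localization.Away f) (f ^ n * a) = 0 := by
      linear_combination e1 + e2
    rw [IsLocalization.map_eq_zero_iff (Submonoid.powers f)] at e3
    obtain ⟨⟨_, m, rfl⟩, hm⟩ := e3
    exact ⟨m + n, by rw [pow_add, mul_assoc]; exact hm⟩
  · rintro ⟨c, abar⟩
    obtain ⟨a, rfl⟩ := Ideal.Quotient.mk_surjective abar
    obtain ⟨x₁, hx₁⟩ := H2 (C := C) f e he c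
    obtain ⟨b, ⟨_, l, rfl⟩, hb⟩ := IsLocalization.exists_mk'_eq (Submonoid.powers f)
      (x₁ * e + algebraMap A (Localization.Away f) a * (1 - e))
    have hspec : (x₁ * e + algebraMap A (Localization.Away f) a * (1 - e)) *
        algebraMap A (Localization.Away f) (f ^ l) = algebraMap A (Localization.Away f) b := by
      rw [← hb]
      exact IsLocalization.mk'_spec (Localization.Away f) b (⟨f ^ l, l, rfl⟩ : Submonoid.powers f)
    -- first component
    have hi : algebraMap C (Localization (Algebra.algebraMapSubmonoid C (Submonoid.powers f)))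
        (algebraMap A C b) =
        algebraMap C (Localization (Algebra.algebraMapSubmonoid C (Submonoid.powers f)))
          (f ^ l • c) := by
      rw [← IsScalarTower.algebraMap_apply,
        IsScalarTower.algebraMap_apply A (Localization.Away f)
          (Localization (Algebra.algebraMapSubmonoid C (Submonoid.powers f))), ← hspec,
        map_mul, map_add, map_mul, map_mul, map_sub, map_one, map_e f e he, hx₁, sub_self,
        mul_zero, add_zero, mul_one, ← IsScalarTower.algebraMap_apply,
        IsScalarTower.algebraMap_apply A C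
          (Localization (Algebra.algebraMapSubmonoid C (Submonoid.powers f))), ← map_mul,
        Algebra.smul_def, mul_comm]
    rw [IsLocalization.eq_iff_exists (Algebra.algebraMapSubmonoid C (Submonoid.powers f))] at hi
    obtain ⟨⟨t, ht⟩, hn₁⟩ := hi
    obtain ⟨t', ⟨n₁, rfl⟩, rfl⟩ := ht
    simp only at hn₁
    -- second component
    have hii : algebraMap A (Localization.Away f) (b - f ^ l * a) * (1 - e) = 0 := by
      rw [map_sub, map_mul, ← hspec]
      linear_combination (algebraMap A (Localization.Away f) (f ^ l) *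
        (x₁ - algebraMap A (Localization.Away f) a)) * hee
    obtain ⟨N, hN⟩ := lemmaC s hdata f _ ((lemmaA (C := C) f e he _).2 hii)
    refine ⟨l, b, n₁ + N, ?_⟩
    refine Prod.ext ?_ ?_
    · show f ^ (n₁ + N) • (f ^ l • c - algebraMap A C b) = 0
      simp only [Algebra.smul_def, map_pow] at hn₁ ⊢
      rw [pow_add]
      linear_combination (-(algebraMap A C f) ^ N) * hn₁
    · simp only [Prod.smul_snd, Prod.snd_sub, Prod.algebraMap_apply, Prod.snd_zero]
      rw [Ideal.Quotient.algebraMap_eq, Algebra.smul_def, Algebra.smul_def,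
        Ideal.Quotient.algebraMap_eq, ← map_mul, ← map_sub, ← map_mul,
        Ideal.Quotient.eq_zero_iff_mem]
      have : f ^ (n₁ + N) * (f ^ l * a - b) = -(f ^ n₁ * (f ^ N * (b - f ^ l * a))) := by
        rw [pow_add]; ring
      rw [this]
      exact neg_mem (Ideal.mul_mem_left _ _ hN)

end glob

end Groth.Agent.Lib.Helper84.IdemGlue
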