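import Mathlib
import Groth.Agent.S0271

/-!
# Ind-étaleness of inertia invariants, part 1 (helper84)

A variant of `S0271` (the ring of inertia invariants is étale over the full invariants near `Q`)
with a prescribed extra denominator.
-/

set_option autoImplicit false
set_option linter.unusedSectionVars false

universe u

namespace Groth.Agent.Lib.Helper84.IndInertia

open Pi1

/-- For a finite group `Γ` acting on `R`, a prime `Q` and an inertia-invariant element `t`,
some localization `(R^I)[1/(h t)]` with `h ∉ Q` is étale over `R^Γ`. -/
theorem exists_etale_away_mul (Γ R : Type u) [Group Γ] [Finite Γ] [CommRing R]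
    [MulSemiringAction Γ R] (Q : Ideal R) [Q.IsPrime]
    (t : FixedPoints.subring R (Q.inertia Γ)) :
    ∃ (h : FixedPoints.subring R (Q.inertia Γ)) (E : Type u) (_ : CommRing E)
      (_ : Algebra (FixedPoints.subring R (Q.inertia Γ)) E)
      (_ : Algebra (FixedPoints.subring R Γ) E)
      (_ : IsScalarTower (FixedPoints.subring R Γ) (FixedPoints.subring R (Q.inertia Γ)) E),
      (h : R) ∉ Q ∧ Algebra.Etale (FixedPoints.subring R Γ) E ∧ IsLocalization.Away (h * t) E := by
  obtain ⟨g, hg, hE⟩ := Groth.Agent.S0271.result Γ R Q
  refine ⟨g, Localization.Away (algebraMap (FixedPoints.subring R (Q.inertia Γ))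
    (Localization.Away g) t), inferInstance, inferInstance, inferInstance, inferInstance,
    hg, ?_, inferInstance⟩
  have : Algebra.Etale (Localization.Away g) (Localization.Away (algebraMap
      (FixedPoints.subring R (Q.inertia Γ)) (Localization.Away g) t)) :=
    Algebra.Etale.of_isLocalizationAway (algebraMap
      (FixedPoints.subring R (Q.inertia Γ)) (Localization.Away g) t)
  exact Algebra.Etale.comp (FixedPoints.subring R Γ) (Localization.Away g) _

end Groth.Agent.Lib.Helper84.IndInertia
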