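import Mathlib
import Groth.Agent.Lib.Helper84.IndInertia1

/-!
# Ind-étaleness of inertia invariants, part 2 (helper84)

Galois set-up: `A` integrally closed with fraction field `K`, `L/K` Galois (possibly infinite),
`B` the integral closure of `A` in `L`, acted on by `Gal(L/K)`; the finite levels `B^N` for normal
subgroups `N`, acted on by `Gal(L/K) ⧸ N`.
-/

set_option autoImplicit false
set_option linter.unusedSectionVars false

universe u

namespace Groth.Agent.Lib.Helper84.IndInertia

open Pi1

section Setup

variable {A K L : Type u} [CommRing A] [IsDomain A] [IsIntegrallyClosed A] [Field K] [Field L]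
  [Algebra A K] [IsFractionRing A K] [Algebra K L] [Algebra A L] [IsScalarTower A K L]
  [IsGalois K L]

/-- the Galois group commutes with scalars from `A` -/
theorem smulCommClassGal : SMulCommClass (L ≃ₐ[K] L) A L := ⟨fun σ a x => by
  rw [AlgEquiv.smul_def, AlgEquiv.smul_def, Algebra.smul_def, Algebra.smul_def, map_mul,
    IsScalarTower.algebraMap_apply A K L, AlgEquiv.commutes]⟩

attribute [local instance] smulCommClassGal

theorem coe_smul_L (σ : L ≃ₐ[K] L) (b : integralClosure A L) :
    ((σ • b : integralClosure A L) : L) = σ (b : L) := rfl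

include K in
theorem algebraMap_injective_L : Function.Injective (algebraMap A L) := by
  rw [IsScalarTower.algebraMap_eq A K L]
  exact (algebraMap K L).injective.comp (IsFractionRing.injective A K)

variable (N : Subgroup (L ≃ₐ[K] L)) [N.Normal] (q : Ideal (integralClosure A L)) [q.IsPrime]

/-- the prime of the level-`N` ring `B^N` below `q` -/
abbrev QN : Ideal (FixedPoints.subring (integralClosure A L) N) :=
  q.comap (FixedPoints.subring (integralClosure A L) N).subtype

theorem coe_mk_smul (σ : L ≃ₐ[K] L) (r : FixedPoints.subring (integralClosure A L) N) :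
    (((QuotientGroup.mk σ : (L ≃ₐ[K] L) ⧸ N) • r :
      FixedPoints.subring (integralClosure A L) N) : integralClosure A L) =
      σ • (r : integralClosure A L) := rfl

variable (I : Subgroup (L ≃ₐ[K] L))
  (hI : ∀ σ : L ≃ₐ[K] L, σ ∈ I ↔ ∀ b : integralClosure A L, ∃ c ∈ q, (c : L) = σ b - b)

include hI in
theorem smul_sub_mem_of_mem {σ : L ≃ₐ[K] L} (hσ : σ ∈ I) (b : integralClosure A L) :
    σ • b - b ∈ q := by
  obtain ⟨c, hc, hcL⟩ := (hI σ).1 hσ b
  have : σ • b - b = c := Subtype.ext hcL.symm
  rw [this]; exact hc

include hI in
theorem mem_of_forall_smul_sub_mem {σ : L ≃ₐ[K] L} (h : ∀ b : integralClosure A L, σ • b - b ∈ q) :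
    σ ∈ I :=
  (hI σ).2 fun b => ⟨σ • b - b, h b, rfl⟩

include hI in
theorem mk_mem_inertia {σ : L ≃ₐ[K] L} (hσ : σ ∈ I) :
    (QuotientGroup.mk σ : (L ≃ₐ[K] L) ⧸ N) ∈ (QN N q).inertia ((L ≃ₐ[K] L) ⧸ N) := by
  intro r
  exact smul_sub_mem_of_mem q I hI hσ (r : integralClosure A L)

/-- the ring of inertia invariants at level `N` -/
abbrev TN : Subring (FixedPoints.subring (integralClosure A L) N) :=
  FixedPoints.subring (FixedPoints.subring (integralClosure A L) N)
    ((QN N q).inertia ((L ≃ₐ[K] L) ⧸ N))

/-- the inclusion of the level-`N` inertia invariants into `L` -/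
def toL : TN N q →+* L :=
  (algebraMap (integralClosure A L) L).comp
    ((FixedPoints.subring (integralClosure A L) N).subtype.comp (TN N q).subtype)

theorem toL_apply (x : TN N q) : toL N q x = (((x : FixedPoints.subring (integralClosure A L) N) :
    integralClosure A L) : L) := rfl

theorem toL_injective : Function.Injective (toL N q) := by
  intro x y h
  exact Subtype.ext (Subtype.ext (Subtype.ext h))

include hI in
theorem toL_fixed (x : TN N q) {σ : L ≃ₐ[K] L} (hσ : σ ∈ I) : σ (toL N q x) = toL N q x := by
  have h := x.2 ⟨QuotientGroup.mk σ, mk_mem_inertia N q I hI hσ⟩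
  have h2 := congrArg (fun r : FixedPoints.subring (integralClosure A L) N =>
    ((r : integralClosure A L) : L)) h
  exact h2

/-- `A` maps into the `Γ`-invariants of the level-`N` ring -/
def toRN : A →+* FixedPoints.subring (integralClosure A L) N :=
  (algebraMap A (integralClosure A L)).codRestrict (FixedPoints.subring (integralClosure A L) N)
    (fun a n => smul_algebraMap n a)

def toFixed : A →+* FixedPoints.subring (FixedPoints.subring (integralClosure A L) N)
    ((L ≃ₐ[K] L) ⧸ N) :=
  (toRN (A := A) N).codRestrict _ (fun a γ => by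
    induction γ using QuotientGroup.induction_on with
    | H σ =>
      apply Subtype.ext
      rw [coe_mk_smul]
      exact smul_algebraMap σ a)

theorem coe_toFixed (a : A) :
    ((((toFixed (A := A) N a : FixedPoints.subring (FixedPoints.subring (integralClosure A L) N)
      ((L ≃ₐ[K] L) ⧸ N)) : FixedPoints.subring (integralClosure A L) N) :
      integralClosure A L) : L) = algebraMap A L a := rfl

theorem toFixed_bijective : Function.Bijective (toFixed (A := A) N) := by
  constructor
  · intro a a' h
    apply algebraMap_injective_L (A := A) (K := K) (L := L)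
    rw [← coe_toFixed N a, ← coe_toFixed N a', h]
  · intro r
    have hfix : ∀ σ : L ≃ₐ[K] L, σ (((r : FixedPoints.subring (integralClosure A L) N) :
        integralClosure A L) : L) = (((r : FixedPoints.subring (integralClosure A L) N) :
        integralClosure A L) : L) := by
      intro σ
      have h := r.2 (QuotientGroup.mk σ)
      exact congrArg (fun r : FixedPoints.subring (integralClosure A L) N =>
        ((r : integralClosure A L) : L)) h
    obtain ⟨k, hk⟩ := (InfiniteGalois.mem_range_algebraMap_iff_fixed _).2 hfix
    have hint : IsIntegral A (algebraMap K L k) := by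
      rw [hk]; exact (r : FixedPoints.subring (integralClosure A L) N).1.2
    rw [isIntegral_algebraMap_iff (algebraMap K L).injective] at hint
    obtain ⟨a, ha⟩ := IsIntegrallyClosed.algebraMap_eq_of_integral hint
    refine ⟨a, Subtype.ext (Subtype.ext (Subtype.ext ?_))⟩
    rw [coe_toFixed, IsScalarTower.algebraMap_apply A K L, ha, hk]

end Setup

end Groth.Agent.Lib.Helper84.IndInertia
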