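import Mathlib
import Groth.Agent.Lib.Helper84.IndInertia2

/-!
# Ind-étaleness of inertia invariants, part 3 (helper84)

Compactness (an element fixed by the inertia group of `q` is fixed by every automorphism acting
trivially modulo `q` on a suitable finite set), choice of an open normal subgroup, and the
étale subalgebras of the localized ring of inertia invariants.
-/

set_option autoImplicit false
set_option linter.unusedSectionVars false

universe u

namespace Groth.Agent.Lib.Helper84.IndInertia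

open Pi1

section Compact

variable {A K L : Type u} [CommRing A] [IsDomain A] [IsIntegrallyClosed A] [Field K] [Field L]
  [Algebra A K] [IsFractionRing A K] [Algebra K L] [Algebra A L] [IsScalarTower A K L]
  [IsGalois K L]

attribute [local instance] smulCommClassGal

theorem isClopen_eval (x : L) (p : L → Prop) : IsClopen {σ : L ≃ₐ[K] L | p (σ x)} := by
  let _ : TopologicalSpace L := ⊥
  have : DiscreteTopology L := ⟨rfl⟩
  have : ContinuousSMul (L ≃ₐ[K] L) L :=
    continuousSMul_iff_stabilizer_isOpen.mpr (fun y => stabilizer_isOpen_of_isIntegral y)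
  have hc : Continuous (fun σ : L ≃ₐ[K] L => σ • x) := continuous_id.smul continuous_const
  exact (isClopen_discrete {z | p z}).preimage hc

theorem exists_finset_forall_fixed (q : Ideal (integralClosure A L)) [q.IsPrime]
    (I : Subgroup (L ≃ₐ[K] L))
    (hI : ∀ σ : L ≃ₐ[K] L, σ ∈ I ↔ ∀ b : integralClosure A L, ∃ c ∈ q, (c : L) = σ b - b)
    (x : L) (hx : ∀ σ ∈ I, σ x = x) :
    ∃ Y : Finset (integralClosure A L), ∀ σ : L ≃ₐ[K] L,
      (∀ y ∈ Y, σ • y - y ∈ q) → σ x = x := by
  classical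
  let U : integralClosure A L → Set (L ≃ₐ[K] L) :=
    fun y => {σ | σ • y - y ∈ q} ∩ {σ | σ x ≠ x}
  have hU : ∀ y, IsClosed (U y) := by
    intro y
    refine IsClosed.inter ?_ ?_
    · have : {σ : L ≃ₐ[K] L | σ • y - y ∈ q} =
          {σ | ∃ c ∈ q, (c : L) = σ (y : L) - y} := by
        ext σ; constructor
        · intro h; exact ⟨_, h, rfl⟩
        · rintro ⟨c, hc, hcL⟩
          have : σ • y - y = c := Subtype.ext hcL.symm
          show σ • y - y ∈ q
          rw [this]; exact hc
      rw [this]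
      exact (isClopen_eval (y : L) (fun z => ∃ c ∈ q, (c : L) = z - y)).1
    · exact (isClopen_eval x (fun z => z ≠ x)).1
  have hemp : (Set.univ : Set (L ≃ₐ[K] L)) ∩ ⋂ y, U y = ∅ := by
    rw [Set.eq_empty_iff_forall_notMem]
    rintro σ ⟨-, hσ⟩
    rw [Set.mem_iInter] at hσ
    have hσI : σ ∈ I := mem_of_forall_smul_sub_mem q I hI (fun b => (hσ b).1)
    exact (hσ 0).2 (hx σ hσI)
  obtain ⟨Y, hY⟩ := isCompact_univ.elim_finite_subfamily_closed U hU hemp
  refine ⟨Y, fun σ hσ => ?_⟩
  by_contra hne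
  have : σ ∈ (Set.univ : Set (L ≃ₐ[K] L)) ∩ ⋂ y ∈ Y, U y := by
    refine ⟨trivial, ?_⟩
    simp only [Set.mem_iInter]
    exact fun y hy => ⟨hσ y hy, hne⟩
  rw [hY] at this
  exact this

theorem exists_normal_fixing (Y : Finset L) :
    ∃ N : Subgroup (L ≃ₐ[K] L), N.Normal ∧ Finite ((L ≃ₐ[K] L) ⧸ N) ∧
      ∀ n ∈ N, ∀ y ∈ Y, n y = y := by
  classical
  have hopen : IsOpen (⋂ y ∈ Y, (MulAction.stabilizer (L ≃ₐ[K] L) y : Set (L ≃ₐ[K] L))) :=
    isOpen_biInter_finset (fun y _ => stabilizer_isOpen_of_isIntegral y)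
  have h1 : (1 : L ≃ₐ[K] L) ∈
      ⋂ y ∈ Y, (MulAction.stabilizer (L ≃ₐ[K] L) y : Set (L ≃ₐ[K] L)) := by
    simp only [Set.mem_iInter]; intro y _; exact one_mem _
  obtain ⟨H, hH⟩ := ProfiniteGrp.exist_openNormalSubgroup_sub_open_nhds_of_one hopen h1
  refine ⟨(H : Subgroup (L ≃ₐ[K] L)), inferInstance,
    Subgroup.quotient_finite_of_isOpen _ H.isOpen', fun n hn y hy => ?_⟩
  have := hH hn
  simp only [Set.mem_iInter] at this
  exact this y hy

end Compact

end Groth.Agent.Lib.Helper84.IndInertia
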