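import Mathlib
import Groth.Agent.Lib.Helper84.IndInertia3

/-!
# Ind-étaleness of inertia invariants, part 4 (helper84)

Étale subalgebras of the localized ring of inertia invariants containing any given finite set.
-/

set_option autoImplicit false
set_option linter.unusedSectionVars false

universe u

namespace Groth.Agent.Lib.Helper84.IndInertia

open Pi1

section Main

variable (A : Type u) {K L : Type u} [CommRing A] [IsDomain A] [IsIntegrallyClosed A] [Field K]
  [Field L] [Algebra A K] [IsFractionRing A K] [Algebra K L] [Algebra A L] [IsScalarTower A K L]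
  [IsGalois K L]

attribute [local instance] smulCommClassGal

/-- the ring of inertia invariants `B ∩ L^I` -/
abbrev C0 (I : Subgroup (L ≃ₐ[K] L)) : Subalgebra A L :=
  integralClosure A L ⊓ (IntermediateField.fixedField I).toSubalgebra.restrictScalars A

variable {A}

theorem mem_C0 {I : Subgroup (L ≃ₐ[K] L)} {x : L} :
    x ∈ C0 A I ↔ IsIntegral A x ∧ ∀ σ ∈ I, σ x = x := by
  rw [Algebra.mem_inf, Subalgebra.mem_restrictScalars, IntermediateField.mem_toSubalgebra,
    IntermediateField.mem_fixedField_iff]
  rfl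

variable (q : Ideal (integralClosure A L)) [q.IsPrime] (I : Subgroup (L ≃ₐ[K] L))
  (hI : ∀ σ : L ≃ₐ[K] L, σ ∈ I ↔ ∀ b : integralClosure A L, ∃ c ∈ q, (c : L) = σ b - b)

/-- the prime of the ring of inertia invariants below `q` -/
abbrev q0 : Ideal (C0 A I) :=
  q.comap (Subalgebra.inclusion (inf_le_left : C0 A I ≤ integralClosure A L))

theorem mem_q0 (x : C0 A I) : x ∈ q0 q I ↔ (⟨x, (mem_C0.1 x.2).1⟩ : integralClosure A L) ∈ q :=
  Iff.rfl

variable (N : Subgroup (L ≃ₐ[K] L)) [N.Normal]

include hI in
theorem toL_mem_C0 (x : TN N q) : toL N q x ∈ C0 A I :=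
  mem_C0.2 ⟨(x : FixedPoints.subring (integralClosure A L) N).1.2,
    fun _ hσ => toL_fixed N q I hI x hσ⟩

/-- the level-`N` inertia invariants inside the ring of inertia invariants -/
def toC0 : TN N q →+* C0 A I :=
  (toL N q).codRestrict (C0 A I) (toL_mem_C0 q I hI N)

theorem coe_toC0 (x : TN N q) : (toC0 q I hI N x : L) = toL N q x := rfl

theorem toC0_injective : Function.Injective (toC0 q I hI N) := by
  intro x y h
  exact toL_injective N q (congrArg (fun z : C0 A I => (z : L)) h)

theorem toC0_mem_q0 (x : TN N q) :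
    toC0 q I hI N x ∈ q0 q I ↔
      ((x : FixedPoints.subring (integralClosure A L) N) : integralClosure A L) ∈ q :=
  Iff.rfl

omit [N.Normal] in
include hI in
/-- étale subalgebras of the localized ring of inertia invariants -/
theorem exists_etale_sub (S0 : Finset (C0 A I)) :
    ∃ (E : Type u) (_ : CommRing E) (_ : Algebra A E), Algebra.Etale A E ∧
      ∃ β : E →ₐ[A] Localization.AtPrime (q0 q I), Function.Injective β ∧
        (∀ x ∈ S0, algebraMap (C0 A I) (Localization.AtPrime (q0 q I)) x ∈ β.range) ∧
        (∀ x ∈ S0, x ∉ q0 q I →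
          ∃ e : E, β e * algebraMap (C0 A I) (Localization.AtPrime (q0 q I)) x = 1) := by
  classical
  -- Step 1: finite sets controlling the inertia group
  have h1 : ∀ x : C0 A I, ∃ Y : Finset (integralClosure A L), ∀ σ : L ≃ₐ[K] L,
      (∀ y ∈ Y, σ • y - y ∈ q) → σ (x : L) = x := fun x =>
    exists_finset_forall_fixed q I hI x (fun σ hσ => (mem_C0.1 x.2).2 σ hσ)
  choose Yf hYf using h1
  let Yall : Finset L := S0.image (fun x : C0 A I => (x : L)) ∪
    S0.biUnion (fun x : C0 A I => (Yf x).image (fun y : integralClosure A L => (y : L)))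
  obtain ⟨N, hNn, hNf, hN⟩ := exists_normal_fixing (K := K) Yall
  have := hNn
  have := hNf
  -- lifts to level `N`
  have hlift : ∀ x ∈ S0, ∃ xT : TN N q, toL N q xT = (x : L) := by
    intro x hx
    have hxN : ∀ n : N, n • (⟨x, (mem_C0.1 x.2).1⟩ : integralClosure A L) =
        ⟨x, (mem_C0.1 x.2).1⟩ := fun n => Subtype.ext (hN n n.2 x (by
          simp only [Yall, Finset.mem_union, Finset.mem_image]
          exact Or.inl ⟨x, hx, rfl⟩))
    refine ⟨⟨⟨⟨x, (mem_C0.1 x.2).1⟩, hxN⟩, ?_⟩, rfl⟩
    rintro ⟨γ, hγ⟩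
    induction γ using QuotientGroup.induction_on with
    | H σ =>
      apply Subtype.ext
      apply Subtype.ext
      show σ (x : L) = x
      apply hYf x σ
      intro y hy
      have hyN : ∀ n : N, n • y = y := fun n => Subtype.ext (hN n n.2 y (by
        simp only [Yall, Finset.mem_union, Finset.mem_biUnion, Finset.mem_image]
        exact Or.inr ⟨x, hx, y, hy, rfl⟩))
      exact hγ ⟨y, hyN⟩
  choose! ℓ hℓ using hlift
  -- the denominator
  let qT : Ideal (TN N q) := (QN N q).comap (TN N q).subtype
  have : qT.IsPrime := Ideal.comap_isPrime _ _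
  let t : TN N q := ∏ x ∈ S0.filter (fun x => x ∉ q0 q I), ℓ x
  have hℓmem : ∀ x ∈ S0, (ℓ x ∈ qT ↔ x ∈ q0 q I) := by
    intro x hx
    have : ((ℓ x : FixedPoints.subring (integralClosure A L) N) : integralClosure A L) =
        ⟨x, (mem_C0.1 x.2).1⟩ := Subtype.ext (hℓ x hx)
    show ((ℓ x : FixedPoints.subring (integralClosure A L) N) : integralClosure A L) ∈ q ↔ _
    rw [this]
    exact (mem_q0 q I x).symm
  have ht : t ∉ qT := by
    intro h
    obtain ⟨x, hx, hxq⟩ := (Ideal.IsPrime.prod_mem_iff).1 h
    rw [Finset.mem_filter] at hx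
    exact hx.2 ((hℓmem x hx.1).1 hxq)
  obtain ⟨h, E, _, _, _, _, hh, hE, hloc⟩ :=
    exists_etale_away_mul ((L ≃ₐ[K] L) ⧸ N) (FixedPoints.subring (integralClosure A L) N)
      (QN N q) t
  have hhT : h ∉ qT := hh
  have hht : h * t ∉ qT := fun hm => (Ideal.IsPrime.mem_or_mem inferInstance hm).elim hhT ht
  -- the `A`-algebra structure on `E`
  let algA' : Algebra A (FixedPoints.subring (FixedPoints.subring (integralClosure A L) N)
      ((L ≃ₐ[K] L) ⧸ N)) := (toFixed (A := A) N).toAlgebra
  let algE : Algebra A E := ((algebraMap (FixedPoints.subring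
    (FixedPoints.subring (integralClosure A L) N) ((L ≃ₐ[K] L) ⧸ N)) E).comp
      (toFixed (A := A) N)).toAlgebra
  have : IsScalarTower A (FixedPoints.subring (FixedPoints.subring (integralClosure A L) N)
      ((L ≃ₐ[K] L) ⧸ N)) E := IsScalarTower.of_algebraMap_eq fun _ => rfl
  have : Algebra.Etale A (FixedPoints.subring (FixedPoints.subring (integralClosure A L) N)
      ((L ≃ₐ[K] L) ⧸ N)) :=
    Algebra.Etale.of_equiv (AlgEquiv.ofBijective (Algebra.ofId A _) (toFixed_bijective N))
  have hEA : Algebra.Etale A E := Algebra.Etale.comp A (FixedPoints.subring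
    (FixedPoints.subring (integralClosure A L) N) ((L ≃ₐ[K] L) ⧸ N)) E
  refine ⟨E, inferInstance, algE, hEA, ?_⟩
  -- the map to the localization
  let g0 : TN N q →+* Localization.AtPrime (q0 q I) :=
    (algebraMap (C0 A I) (Localization.AtPrime (q0 q I))).comp (toC0 q I hI N)
  have hinjC : Function.Injective (algebraMap (C0 A I) (Localization.AtPrime (q0 q I))) :=
    IsLocalization.injective _ (q0 q I).primeCompl_le_nonZeroDivisors
  have hg0inj : Function.Injective g0 := hinjC.comp (toC0_injective q I hI N)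
  have hunit : IsUnit (g0 (h * t)) :=
    IsLocalization.map_units (Localization.AtPrime (q0 q I))
      (⟨toC0 q I hI N (h * t), hht⟩ : (q0 q I).primeCompl)
  let β0 : E →+* Localization.AtPrime (q0 q I) := IsLocalization.Away.lift (h * t) hunit
  have hβ0 : ∀ a : TN N q, β0 (algebraMap (TN N q) E a) = g0 a :=
    fun a => IsLocalization.Away.lift_eq (h * t) hunit a
  let β : E →ₐ[A] Localization.AtPrime (q0 q I) :=
    { β0 with
      commutes' := fun a => by
        show β0 (algebraMap (FixedPoints.subring (FixedPoints.subring (integralClosure A L) N)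
          ((L ≃ₐ[K] L) ⧸ N)) E (toFixed (A := A) N a)) = _
        rw [IsScalarTower.algebraMap_apply (FixedPoints.subring
          (FixedPoints.subring (integralClosure A L) N) ((L ≃ₐ[K] L) ⧸ N)) (TN N q) E, hβ0,
          IsScalarTower.algebraMap_apply A (C0 A I) (Localization.AtPrime (q0 q I))]
        show algebraMap (C0 A I) (Localization.AtPrime (q0 q I)) (toC0 q I hI N
          (algebraMap _ (TN N q) (toFixed (A := A) N a))) = _
        congr 1 }
  have hβ : ∀ e, β e = β0 e := fun _ => rfl
  refine ⟨β, ?_, ?_, ?_⟩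
  · -- injectivity
    have : Function.Injective β0 :=
      (IsLocalization.lift_injective_iff (M := Submonoid.powers (h * t)) _).2 (fun a b => by
        constructor
        · intro hab
          have := congrArg β0 hab
          rwa [hβ0, hβ0] at this
        · intro hab
          rw [hg0inj hab])
    exact this
  · intro x hx
    refine ⟨algebraMap (TN N q) E (ℓ x), ?_⟩
    show β0 _ = _
    rw [hβ0]
    show algebraMap (C0 A I) _ (toC0 q I hI N (ℓ x)) = _
    congr 1
    exact Subtype.ext (hℓ x hx)
  · intro x hx hxq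
    have hdvd : ℓ x ∣ h * t := Dvd.dvd.mul_left
      (Finset.dvd_prod_of_mem _ (Finset.mem_filter.2 ⟨hx, hxq⟩)) h
    have hu : IsUnit (algebraMap (TN N q) E (ℓ x)) :=
      isUnit_of_dvd_unit (map_dvd (algebraMap (TN N q) E) hdvd)
        (IsLocalization.Away.algebraMap_isUnit (h * t))
    obtain ⟨e, he⟩ := hu.exists_left_inv
    refine ⟨e, ?_⟩
    have h2 : β (algebraMap (TN N q) E (ℓ x)) =
        algebraMap (C0 A I) (Localization.AtPrime (q0 q I)) x := by
      show β0 _ = _
      rw [hβ0]
      show algebraMap (C0 A I) _ (toC0 q I hI N (ℓ x)) = _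
      congr 1
      exact Subtype.ext (hℓ x hx)
    rw [← h2, ← map_mul, he, map_one]

end Main

end Groth.Agent.Lib.Helper84.IndInertia
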