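import Mathlib
import Groth.Agent.Lib.Helper84.CplInv1
import Groth.Agent.Lib.Helper2.LocalFlat2

/-!
# Étale local homomorphisms modulo powers of the maximal ideal (helper84)

`B → A` a flat local homomorphism of local rings with `m_B A = m_A`, and a finite family `v` of
elements of `A` whose residues form a basis of `κ(A)` over `κ(B)`.  Then for every `N`

* `flf_gen`: every element of `A` is a `B`-combination of the `v i` modulo `m_A ^ N`;
* `flf_ind`: a `B`-combination of the `v i` lying in `m_A ^ N` has coefficients in `m_B ^ N`.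
-/

set_option autoImplicit false
set_option linter.unusedSectionVars false

namespace Groth.Agent.Lib.Helper84.InvEt

open IsLocalRing TensorProduct Function

universe u

section FLF

variable {B A : Type u} [CommRing B] [CommRing A] [IsLocalRing B] [IsLocalRing A] [Algebra B A]
  {ι : Type} [Fintype ι] (v : ι → A)

theorem flf_gen (hm : (maximalIdeal B).map (algebraMap B A) = maximalIdeal A)
    (hspan : ∀ a : A, ∃ b : ι → B, a - ∑ i, b i • v i ∈ maximalIdeal A) (N : ℕ) :
    ∀ a : A, ∃ b : ι → B, a - ∑ i, b i • v i ∈ maximalIdeal A ^ N := by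
  induction N with
  | zero => intro a; exact ⟨0, by simp⟩
  | succ N ih =>
    intro a
    obtain ⟨b, hb⟩ := ih a
    have hpow : maximalIdeal A ^ N = (maximalIdeal B ^ N).map (algebraMap B A) := by
      rw [Ideal.map_pow, hm]
    have key : ∀ r (hr : r ∈ (maximalIdeal B ^ N).map (algebraMap B A)), ∀ a' : A,
        ∃ b' : ι → B, a' * r - ∑ i, b' i • v i ∈ maximalIdeal A ^ (N + 1) := by
      intro r hr
      induction hr using Submodule.span_induction with
      | mem r h =>
        obtain ⟨μ, hμ, rfl⟩ := h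
        intro a'
        obtain ⟨b', hb'⟩ := hspan a'
        refine ⟨fun i => μ * b' i, ?_⟩
        have e1 : a' * algebraMap B A μ - ∑ i, (μ * b' i) • v i =
            algebraMap B A μ * (a' - ∑ i, b' i • v i) := by
          rw [mul_sub, Finset.mul_sum, mul_comm a']
          congr 1
          refine Finset.sum_congr rfl fun i _ => ?_
          rw [mul_smul, Algebra.smul_def μ]
        rw [e1, pow_succ]
        refine Ideal.mul_mem_mul ?_ hb'
        rw [hpow]
        exact Ideal.mem_map_of_mem _ hμ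
      | zero => intro a'; exact ⟨0, by simp⟩
      | add r1 r2 _ _ h1 h2 =>
        intro a'
        obtain ⟨b1, hb1⟩ := h1 a'
        obtain ⟨b2, hb2⟩ := h2 a'
        refine ⟨b1 + b2, ?_⟩
        have e1 : a' * (r1 + r2) - ∑ i, (b1 + b2) i • v i =
            (a' * r1 - ∑ i, b1 i • v i) + (a' * r2 - ∑ i, b2 i • v i) := by
          simp only [Pi.add_apply, add_smul, Finset.sum_add_distrib]; ring
        rw [e1]; exact Ideal.add_mem _ hb1 hb2
      | smul c r _ h =>
        intro a'
        obtain ⟨b', hb'⟩ := h (a' * c)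
        exact ⟨b', by rwa [smul_eq_mul, ← mul_assoc]⟩
    rw [hpow] at hb
    obtain ⟨b', hb'⟩ := key _ hb 1
    refine ⟨b + b', ?_⟩
    have e1 : a - ∑ i, (b + b') i • v i = 1 * (a - ∑ i, b i • v i) - ∑ i, b' i • v i := by
      simp only [Pi.add_apply, add_smul, Finset.sum_add_distrib]; ring
    rw [e1]; exact hb'

theorem pi_mem_smul_top' (I : Ideal B) (y : ι → B) (hy : ∀ i, y i ∈ I) :
    y ∈ (I • ⊤ : Submodule B (ι → B)) := by
  classical
  have : y = ∑ i, LinearMap.single B (fun _ => B) i (y i) := by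
    ext j
    simp [Finset.sum_apply, Pi.single_apply]
  rw [this]
  refine Submodule.sum_mem _ fun i _ => ?_
  have h1 : y i ∈ (I • ⊤ : Submodule B B) := by simpa using hy i
  have h := Submodule.mem_map_of_mem (f := LinearMap.single B (fun _ => B) i) h1
  rw [Submodule.map_smul''] at h
  exact Submodule.smul_mono le_rfl le_top h

theorem mem_of_pi_mem_smul_top (I : Ideal B) (b : ι → B)
    (hb : b ∈ (I • ⊤ : Submodule B (ι → B))) (i : ι) : b i ∈ I := by
  refine Submodule.smul_induction_on hb ?_ ?_
  · intro r hr n _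
    simp only [Pi.smul_apply, smul_eq_mul]
    exact Ideal.mul_mem_right _ _ hr
  · intro x y hx hy
    simp only [Pi.add_apply]
    exact Ideal.add_mem _ hx hy

theorem tmul_one_eq_zero_of_mem {M : Type*} [AddCommGroup M] [Module B M] (I : Ideal B) (a : M)
    (ha : a ∈ (I • ⊤ : Submodule B M)) : a ⊗ₜ[B] (1 : B ⧸ I) = 0 := by
  refine Submodule.smul_induction_on ha ?_ ?_
  · intro r hr n _
    rw [TensorProduct.smul_tmul]
    have : r • (1 : B ⧸ I) = 0 := by
      rw [Algebra.smul_def, mul_one, Ideal.Quotient.algebraMap_eq, Ideal.Quotient.eq_zero_iff_mem]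
      exact hr
    rw [this, TensorProduct.tmul_zero]
  · intro x y hx hy
    rw [TensorProduct.add_tmul, hx, hy, add_zero]

theorem flf_ind [Module.Flat B A] (hm : (maximalIdeal B).map (algebraMap B A) = maximalIdeal A)
    (hind : ∀ b : ι → B, ∑ i, b i • v i ∈ maximalIdeal A → ∀ i, b i ∈ maximalIdeal B)
    (N : ℕ) (b : ι → B) (hb : ∑ i, b i • v i ∈ maximalIdeal A ^ N) (i : ι) :
    b i ∈ maximalIdeal B ^ N := by
  classical
  let Θ : (ι → B) →ₗ[B] A := Fintype.linearCombination B v
  have hΘ : ∀ n : ι → B, Θ n = ∑ i, n i • v i := fun n => Fintype.linearCombination_apply B v n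
  have h1 : ∀ n : ι → B, Θ n ∈ (maximalIdeal B • ⊤ : Submodule B A) →
      n ∈ (maximalIdeal B • ⊤ : Submodule B (ι → B)) := by
    intro n hn
    rw [Ideal.smul_top_eq_map, Submodule.restrictScalars_mem, hm, hΘ] at hn
    exact pi_mem_smul_top' _ n (hind n hn)
  have hres := Groth.Agent.Lib.Helper2.lTensor_residueField_injective_of_forall Θ h1
  have hpow := Groth.Agent.Lib.Helper2.rTensor_injective_of_pow_torsion.{u, u} Θ (maximalIdeal B)
    (fun T _ _ hT => Groth.Agent.Lib.Helper2.rTensor_injective_of_residue Θ hres T hT) N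
    (B ⧸ maximalIdeal B ^ N) (by
      intro a ha t
      obtain ⟨t, rfl⟩ := Ideal.Quotient.mk_surjective t
      rw [Algebra.smul_def, Ideal.Quotient.algebraMap_eq, ← map_mul,
        Ideal.Quotient.eq_zero_iff_mem]
      exact Ideal.mul_mem_right _ _ ha)
  have hb' : Θ b ∈ (maximalIdeal B ^ N • ⊤ : Submodule B A) := by
    rw [Ideal.smul_top_eq_map, Submodule.restrictScalars_mem, Ideal.map_pow, hm, hΘ]
    exact hb
  have h0 : (Θ.rTensor (B ⧸ maximalIdeal B ^ N)) (b ⊗ₜ[B] (1 : B ⧸ maximalIdeal B ^ N)) = 0 := by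
    rw [LinearMap.rTensor_tmul]
    exact tmul_one_eq_zero_of_mem _ _ hb'
  have h2 : b ⊗ₜ[B] (1 : B ⧸ maximalIdeal B ^ N) = 0 := hpow (by rw [h0, map_zero])
  have h3 := congrArg (fun z => TensorProduct.lid B (B ⧸ maximalIdeal B ^ N)
    ((LinearMap.proj (R := B) (φ := fun _ : ι => B) i).rTensor (B ⧸ maximalIdeal B ^ N) z)) h2
  simp only [LinearMap.rTensor_tmul, LinearMap.proj_apply, TensorProduct.lid_tmul, map_zero] at h3
  rw [Algebra.smul_def, mul_one, Ideal.Quotient.algebraMap_eq, Ideal.Quotient.eq_zero_iff_mem] at h3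
  exact h3

end FLF

end Groth.Agent.Lib.Helper84.InvEt
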