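import Mathlib


/-!
# Field-theoretic preliminaries for invariants of étale maps (helper84)

* `exists_sep_primitive`: fields `kC ⊆ kB ⊆ kA`, `kC ⊆ kE ⊆ kA` with `kA / kB` finite separable,
  `kA / kE` purely inseparable and `kA / kC` algebraic: there is an element of `kE`, separable over
  `kC`, generating `kA` over `kB`.
* `isPurelyInseparable_residue`: a finite group acting on a local ring `A` trivially on the residue
  field, with ring of invariants `E`: the residue field of `A` is purely inseparable over that of `E`.
-/

set_option autoImplicit false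
set_option linter.unusedSectionVars false

namespace Groth.Agent.Lib.Helper84.InvEt

open IsLocalRing Polynomial IntermediateField

theorem exists_sep_primitive (kC kB kE kA : Type*) [Field kC] [Field kB] [Field kE] [Field kA]
    [Algebra kC kB] [Algebra kC kE] [Algebra kB kA] [Algebra kE kA] [Algebra kC kA]
    [IsScalarTower kC kB kA] [IsScalarTower kC kE kA]
    [FiniteDimensional kB kA] [Algebra.IsSeparable kB kA] [IsPurelyInseparable kE kA]
    [Algebra.IsAlgebraic kC kA] :
    ∃ t : kE, IsSeparable kC t ∧ kB⟮algebraMap kE kA t⟯ = ⊤ := by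
  obtain ⟨q, hq⟩ := ExpChar.exists kC
  have : ExpChar kB q := expChar_of_injective_algebraMap (algebraMap kC kB).injective q
  have : ExpChar kE q := expChar_of_injective_algebraMap (algebraMap kC kE).injective q
  have : ExpChar kA q := expChar_of_injective_algebraMap (algebraMap kC kA).injective q
  have : ExpChar (separableClosure kC kA) q :=
    expChar_of_injective_algebraMap (algebraMap kC (separableClosure kC kA)).injective q
  obtain ⟨α, hα⟩ := Field.exists_primitive_element kB kA
  obtain ⟨m₁, hm₁⟩ := IsPurelyInseparable.pow_mem kE q α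
  obtain ⟨m₂, hm₂⟩ := IsPurelyInseparable.pow_mem (separableClosure kC kA) q α
  have e1 : α ^ q ^ (m₁ + m₂) = (α ^ q ^ m₁) ^ q ^ m₂ := by rw [pow_add, pow_mul]
  have e2 : α ^ q ^ (m₁ + m₂) = (α ^ q ^ m₂) ^ q ^ m₁ := by rw [add_comm, pow_add, pow_mul]
  have h1 : α ^ q ^ (m₁ + m₂) ∈ (algebraMap kE kA).range := by rw [e1]; exact pow_mem hm₁ _
  obtain ⟨t, ht⟩ := h1
  refine ⟨t, ?_, ?_⟩
  · have h2 : α ^ q ^ (m₁ + m₂) ∈ separableClosure kC kA := by
      rw [e2]
      obtain ⟨s, hs⟩ := hm₂
      rw [← hs]
      exact pow_mem s.2 _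
    have h3 : IsSeparable kC (algebraMap kE kA t) := by
      rw [ht]; exact mem_separableClosure_iff.mp h2
    rw [IsSeparable, minpoly.algebraMap_eq (algebraMap kE kA).injective] at h3
    exact h3
  · rw [ht, ← adjoin_simple_eq_adjoin_pow_expChar_pow_of_isSeparable kB kA
      (Algebra.IsSeparable.isSeparable kB α) q (m₁ + m₂)]
    exact hα

section PI

variable {E A : Type*} [CommRing E] [CommRing A] [IsLocalRing E] [IsLocalRing A] [Algebra E A]
  [IsLocalHom (algebraMap E A)]
  {H : Type*} [Group H] [Finite H] (τ : H → A →+* A)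
  (hτmul : ∀ g h a, τ (g * h) a = τ g (τ h a))
  (hτinv : ∀ a, (∀ g, τ g a = a) → ∃ e, algebraMap E A e = a)
  (htriv : ∀ g a, τ g a - a ∈ maximalIdeal A)

include hτmul hτinv htriv in
theorem isPurelyInseparable_residue :
    IsPurelyInseparable (ResidueField E) (ResidueField A) := by
  classical
  cases nonempty_fintype H
  rw [isPurelyInseparable_iff_natSepDegree_eq_one]
  intro x
  obtain ⟨a, rfl⟩ := residue_surjective x
  let P : A[X] := ∏ g : H, (X - C (τ g a))
  have hPmap : ∀ h : H, P.map (τ h) = P := by
    intro h
    simp only [P, Polynomial.map_prod, Polynomial.map_sub, Polynomial.map_X, Polynomial.map_C]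
    refine Fintype.prod_equiv (Equiv.mulLeft h) _ _ fun g => ?_
    simp only [Equiv.coe_mulLeft, hτmul]
  have hcoeff : ∀ k, ∃ e : E, algebraMap E A e = P.coeff k := by
    intro k
    apply hτinv
    intro h
    rw [← Polynomial.coeff_map, hPmap]
  choose e he using hcoeff
  let PE : E[X] := ∑ k ∈ Finset.range (P.natDegree + 1), C (e k) * X ^ k
  have hPE : PE.map (algebraMap E A) = P := by
    simp only [PE, Polynomial.map_sum, Polynomial.map_mul, Polynomial.map_C, Polynomial.map_pow,
      Polynomial.map_X, he]
    exact (Polynomial.as_sum_range_C_mul_X_pow P).symm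
  let Pb : (ResidueField E)[X] := PE.map (residue E)
  have hcomp : (algebraMap (ResidueField E) (ResidueField A)).comp (residue E) =
      (residue A).comp (algebraMap E A) := by
    ext r; rfl
  have hres : ∀ g, residue A (τ g a) = residue A a := by
    intro g
    have := (residue_eq_zero_iff _).mpr (htriv g a)
    rwa [map_sub, sub_eq_zero] at this
  have hPb : Pb.map (algebraMap (ResidueField E) (ResidueField A)) =
      (X - C (residue A a)) ^ Fintype.card H := by
    simp only [Pb]
    rw [Polynomial.map_map, hcomp, ← Polynomial.map_map, hPE]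
    simp only [P, Polynomial.map_prod, Polynomial.map_sub, Polynomial.map_X, Polynomial.map_C, hres,
      Finset.prod_const, Finset.card_univ]
  have hcard : Fintype.card H ≠ 0 := Fintype.card_ne_zero
  have hPb0 : Pb ≠ 0 := by
    intro h0
    rw [h0, Polynomial.map_zero] at hPb
    exact pow_ne_zero _ (X_sub_C_ne_zero _) hPb.symm
  have haeval : aeval (residue A a) Pb = 0 := by
    rw [aeval_def, ← eval_map, hPb, eval_pow, eval_sub, eval_X, eval_C, sub_self,
      zero_pow hcard]
  have hint : IsIntegral (ResidueField E) (residue A a) :=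
    IsAlgebraic.isIntegral ⟨Pb, hPb0, haeval⟩
  have hdvd : minpoly (ResidueField E) (residue A a) ∣ Pb := minpoly.dvd _ _ haeval
  have h1 : (minpoly (ResidueField E) (residue A a)).natSepDegree ≤ 1 := by
    calc (minpoly (ResidueField E) (residue A a)).natSepDegree ≤ Pb.natSepDegree :=
          natSepDegree_le_of_dvd _ _ hdvd hPb0
      _ = (Pb.map (algebraMap (ResidueField E) (ResidueField A))).natSepDegree :=
          (natSepDegree_map _ _ _).symm
      _ = 1 := by rw [hPb, natSepDegree_pow_of_ne_zero _ hcard, natSepDegree_X_sub_C]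
  have h2 : (minpoly (ResidueField E) (residue A a)).natSepDegree ≠ 0 :=
    natSepDegree_ne_zero _ (minpoly.natDegree_pos hint).ne'
  omega

end PI

end Groth.Agent.Lib.Helper84.InvEt
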