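import Mathlib
import Groth.Agent.Lib.Helper84.InvEt1
import Groth.Agent.Lib.Helper84.InvEt2
import Groth.Agent.Lib.Helper84.CplInv1
import Groth.Agent.S12045

/-!
# Invariants of an equivariant étale local homomorphism with trivial residue action (helper84)

Local rings `C ⊆ B`, `E ⊆ A` (finite, injective, local), a commutative square `C → E`, `B → A`,
a finite group `H` acting on `B` and `A` (through ring endomorphisms `σ g`, `τ g`) with invariants
`C` and `E`, equivariantly, trivially on the residue field of `A`.  If `B → A` is flat with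
`m_B A = m_A` and finite separable residue field extension, then `C → E` is flat with
`m_C E = m_E` and separable residue field extension (`core`).
-/

set_option autoImplicit false
set_option linter.unusedSectionVars false

namespace Groth.Agent.Lib.Helper84.InvEt

open IsLocalRing Function

universe u

section Core

variable {C B E A : Type u} [CommRing C] [CommRing B] [CommRing E] [CommRing A]
  [IsLocalRing C] [IsLocalRing B] [IsLocalRing E] [IsLocalRing A]
  [IsNoetherianRing C] [IsNoetherianRing E]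
  [Algebra C B] [Algebra E A] [Algebra C E] [Algebra B A] [Algebra C A]
  [IsScalarTower C B A] [IsScalarTower C E A]
  [Module.Finite C B] [Module.Finite E A]
  [IsLocalHom (algebraMap C B)] [IsLocalHom (algebraMap E A)] [IsLocalHom (algebraMap B A)]
  [IsLocalHom (algebraMap C E)] [IsLocalHom (algebraMap C A)]
  (hCB : Injective (algebraMap C B)) (hEA : Injective (algebraMap E A))
  {H : Type*} [Group H] [Finite H] (σ : H → B →+* B) (τ : H → A →+* A)
  (hτmul : ∀ g h a, τ (g * h) a = τ g (τ h a))
  (hσC : ∀ g c, σ g (algebraMap C B c) = algebraMap C B c)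
  (hτE : ∀ g e, τ g (algebraMap E A e) = algebraMap E A e)
  (hσinv : ∀ b, (∀ g, σ g b = b) → ∃ c, algebraMap C B c = b)
  (hτinv : ∀ a, (∀ g, τ g a = a) → ∃ e, algebraMap E A e = a)
  (heq : ∀ g b, τ g (algebraMap B A b) = algebraMap B A (σ g b))
  (htriv : ∀ g a, τ g a - a ∈ maximalIdeal A)
  [Module.Flat B A] (hm : (maximalIdeal B).map (algebraMap B A) = maximalIdeal A)
  [Algebra.IsSeparable (ResidueField B) (ResidueField A)]
  [Module.Finite (ResidueField B) (ResidueField A)]

include hτmul hτinv htriv in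
theorem exists_theta : ∃ (n : ℕ) (θ : E),
    (∀ a : A, ∃ b : Fin n → B,
      a - ∑ i, b i • (algebraMap E A θ) ^ (i : ℕ) ∈ maximalIdeal A) ∧
    (∀ b : Fin n → B, ∑ i, b i • (algebraMap E A θ) ^ (i : ℕ) ∈ maximalIdeal A →
      ∀ i, b i ∈ maximalIdeal B) ∧
    IsSeparable (ResidueField C) (residue E θ) := by
  have hPI : IsPurelyInseparable (ResidueField E) (ResidueField A) :=
    isPurelyInseparable_residue τ hτmul hτinv htriv
  have : Algebra.IsAlgebraic (ResidueField C) (ResidueField B) := Algebra.IsAlgebraic.of_finite _ _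
  have : Algebra.IsAlgebraic (ResidueField B) (ResidueField A) := Algebra.IsAlgebraic.of_finite _ _
  have : Algebra.IsAlgebraic (ResidueField C) (ResidueField A) :=
    Algebra.IsAlgebraic.trans (ResidueField C) (ResidueField B) (ResidueField A)
  obtain ⟨t, hsep, hprim⟩ := exists_sep_primitive (ResidueField C) (ResidueField B)
    (ResidueField E) (ResidueField A)
  obtain ⟨θ, rfl⟩ := residue_surjective t
  have ht : algebraMap (ResidueField E) (ResidueField A) (residue E θ) =
      residue A (algebraMap E A θ) := rfl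
  rw [ht] at hprim
  have hint : IsIntegral (ResidueField B) (residue A (algebraMap E A θ)) :=
    Algebra.IsIntegral.isIntegral _
  let pb0 := IntermediateField.adjoin.powerBasis hint
  let e : (IntermediateField.adjoin (ResidueField B) {residue A (algebraMap E A θ)}) ≃ₐ[ResidueField B]
      ResidueField A := (IntermediateField.equivOfEq hprim).trans IntermediateField.topEquiv
  let pb := pb0.map e
  have hgen : pb.gen = residue A (algebraMap E A θ) := by
    simp [pb, pb0, e]
  have hterm : ∀ (b : B) (i : Fin pb.dim),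
      residue A (b • (algebraMap E A θ) ^ (i : ℕ)) = residue B b • pb.basis i := by
    intro b i
    rw [pb.basis_eq_pow, hgen, Algebra.smul_def, map_mul, map_pow, Algebra.smul_def]
    rfl
  refine ⟨pb.dim, θ, ?_, ?_, hsep⟩
  · intro a
    choose b hb using fun i => residue_surjective (pb.basis.repr (residue A a) i)
    refine ⟨b, ?_⟩
    rw [← residue_eq_zero_iff, map_sub, map_sum, sub_eq_zero]
    conv_lhs => rw [← pb.basis.sum_repr (residue A a)]
    refine Finset.sum_congr rfl fun i _ => ?_
    rw [hterm, hb]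
  · intro b hb i
    rw [← residue_eq_zero_iff] at hb ⊢
    have hli := pb.basis.linearIndependent
    rw [Fintype.linearIndependent_iff] at hli
    apply hli (fun i => residue B (b i))
    rw [← hb, map_sum]
    refine Finset.sum_congr rfl fun i _ => ?_
    rw [hterm]

variable {n : ℕ} (θ : E)
  (hspan : ∀ a : A, ∃ b : Fin n → B,
    a - ∑ i, b i • (algebraMap E A θ) ^ (i : ℕ) ∈ maximalIdeal A)
  (hind : ∀ b : Fin n → B, ∑ i, b i • (algebraMap E A θ) ^ (i : ℕ) ∈ maximalIdeal A →
    ∀ i, b i ∈ maximalIdeal B)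

theorem map_Phi (c : Fin n → C) : algebraMap E A (∑ i, c i • θ ^ (i : ℕ)) =
    ∑ i, algebraMap C B (c i) • (algebraMap E A θ) ^ (i : ℕ) := by
  rw [map_sum]
  refine Finset.sum_congr rfl fun i _ => ?_
  rw [Algebra.smul_def, map_mul, map_pow, Algebra.smul_def, ← IsScalarTower.algebraMap_apply,
    ← IsScalarTower.algebraMap_apply]

include htriv in
theorem tau_pow_mem (g : H) (N : ℕ) {a : A} (ha : a ∈ maximalIdeal A ^ N) :
    τ g a ∈ maximalIdeal A ^ N := by
  have h1 : maximalIdeal A ≤ (maximalIdeal A).comap (τ g) := by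
    intro a ha
    rw [Ideal.mem_comap]
    have := Ideal.add_mem _ (htriv g a) ha
    simpa using this
  exact ((Ideal.pow_right_mono h1 N).trans (Ideal.le_comap_pow _ _)) ha

theorem map_pow_le (N : ℕ) {e : E} (he : e ∈ maximalIdeal E ^ N) :
    algebraMap E A e ∈ maximalIdeal A ^ N := by
  have h1 : maximalIdeal E ≤ (maximalIdeal A).comap (algebraMap E A) := by
    intro a ha
    rw [Ideal.mem_comap]
    exact map_nonunit _ _ ha
  exact ((Ideal.pow_right_mono h1 N).trans (Ideal.le_comap_pow _ _)) he

include hEA hσC hτE hσinv heq htriv hm hspan hind in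
theorem approx (k : ℕ) (e : E) :
    ∃ c : Fin n → C, e - ∑ i, c i • θ ^ (i : ℕ) ∈ maximalIdeal E ^ k := by
  classical
  obtain ⟨K₂, hK₂⟩ := Groth.Agent.Lib.Helper84.CplInv.core_AR2 (A' := E) (B := A) hEA k
  let actB : H → (B →ₗ[C] B) := fun g =>
    { toFun := σ g
      map_add' := map_add _
      map_smul' := fun c b => by
        simp only [RingHom.id_apply, Algebra.smul_def, map_mul, hσC] }
  obtain ⟨N₁, hN₁⟩ := Groth.Agent.Lib.Helper84.CplInv.core_AR (A' := C) (B := B) actB
    (fun b hb => hσinv b hb) K₂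
  set v : Fin n → A := fun i => (algebraMap E A θ) ^ (i : ℕ) with hv
  obtain ⟨b, hb⟩ := flf_gen v hm hspan (max N₁ K₂) (algebraMap E A e)
  set r : A := algebraMap E A e - ∑ i, b i • v i with hr
  have hτv : ∀ g i, τ g (v i) = v i := by
    intro g i
    simp only [hv, ← map_pow, hτE]
  have hdiff : ∀ g, ∑ i, (σ g (b i) - b i) • v i = r - τ g r := by
    intro g
    have h1 : τ g r = algebraMap E A e - ∑ i, σ g (b i) • v i := by
      rw [hr, map_sub, hτE, map_sum]
      congr 1
      refine Finset.sum_congr rfl fun i _ => ?_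
      rw [Algebra.smul_def, map_mul, heq, hτv, Algebra.smul_def]
    rw [h1, hr]
    simp only [sub_smul, Finset.sum_sub_distrib]
    ring
  have hfix : ∀ i g, σ g (b i) - b i ∈ maximalIdeal B ^ N₁ := by
    intro i g
    have h2 : ∑ i, (σ g (b i) - b i) • v i ∈ maximalIdeal A ^ (max N₁ K₂) := by
      rw [hdiff]
      exact Ideal.sub_mem _ hb (tau_pow_mem τ htriv g _ hb)
    exact Ideal.pow_le_pow_right (le_max_left _ _)
      (flf_ind v hm hind _ (fun i => σ g (b i) - b i) h2 i)
  have hc : ∀ i, ∃ c : C, b i - algebraMap C B c ∈ maximalIdeal B ^ K₂ := fun i =>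
    hN₁ (b i) (fun g => hfix i g)
  choose c hc using hc
  refine ⟨c, hK₂ _ ?_⟩
  rw [map_sub, map_Phi (B := B) θ c]
  have h3 : algebraMap E A e - ∑ i, algebraMap C B (c i) • (algebraMap E A θ) ^ (i : ℕ) =
      ∑ i, (b i - algebraMap C B (c i)) • v i + r := by
    rw [hr]
    simp only [sub_smul, Finset.sum_sub_distrib, hv]
    ring
  rw [h3]
  refine Ideal.add_mem _ (Ideal.sum_mem _ fun i _ => ?_) (Ideal.pow_le_pow_right (le_max_right _ _) hb)
  rw [Algebra.smul_def]
  refine Ideal.mul_mem_right _ _ ?_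
  have : maximalIdeal A ^ K₂ = (maximalIdeal B ^ K₂).map (algebraMap B A) := by
    rw [Ideal.map_pow, hm]
  rw [this]
  exact Ideal.mem_map_of_mem _ (hc i)

include hEA hσC hτE hσinv heq htriv hm hspan hind in
theorem map_maximalIdeal_eq : (maximalIdeal C).map (algebraMap C E) = maximalIdeal E := by
  apply le_antisymm
  · rw [Ideal.map_le_iff_le_comap]
    intro c hc
    rw [Ideal.mem_comap]
    exact map_nonunit _ _ hc
  · have hfg : (maximalIdeal E).FG := (isNoetherianRing_iff_ideal_fg E).mp inferInstance _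
    refine Submodule.le_of_le_smul_of_le_jacobson_bot (I := maximalIdeal E) hfg
      (IsLocalRing.jacobson_eq_maximalIdeal ⊥ bot_ne_top).ge ?_
    intro e he
    obtain ⟨c, hc⟩ := approx hEA σ τ hσC hτE hσinv heq htriv hm θ hspan hind 2 e
    have h2 : ∑ i, c i • θ ^ (i : ℕ) ∈ maximalIdeal E := by
      have := Ideal.sub_mem _ he (Ideal.pow_le_self two_ne_zero hc)
      simpa using this
    have hcm : ∀ i, c i ∈ maximalIdeal C := by
      have h1 : ∑ i, algebraMap C B (c i) • (algebraMap E A θ) ^ (i : ℕ) ∈ maximalIdeal A := by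
        rw [← map_Phi (B := B) θ c]
        exact map_nonunit _ _ h2
      intro i
      have h3 := hind _ h1 i
      by_contra hci
      have hu : IsUnit (c i) := by
        rwa [mem_maximalIdeal, mem_nonunits_iff, not_not] at hci
      exact (mem_maximalIdeal _).mp h3 (hu.map _)
    rw [Submodule.mem_sup]
    refine ⟨∑ i, c i • θ ^ (i : ℕ), ?_, e - ∑ i, c i • θ ^ (i : ℕ), ?_, by ring⟩
    · refine Ideal.sum_mem _ fun i _ => ?_
      rw [Algebra.smul_def]
      exact Ideal.mul_mem_right _ _ (Ideal.mem_map_of_mem _ (hcm i))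
    · rw [smul_eq_mul, ← pow_two]
      exact hc

include hCB hEA hσC hτE hσinv heq htriv hm hspan hind in
theorem inj_mod (N : ℕ) (c : Fin n → C)
    (hc : ∑ i, c i • θ ^ (i : ℕ) ∈ (maximalIdeal C ^ N).map (algebraMap C E)) (i : Fin n) :
    c i ∈ maximalIdeal C ^ N := by
  classical
  obtain ⟨K, hK⟩ := Groth.Agent.Lib.Helper84.CplInv.core_AR2 (A' := C) (B := B) hCB N
  have claim1 : ∀ c' : Fin n → C, ∑ i, c' i • θ ^ (i : ℕ) ∈ maximalIdeal E ^ K →
      ∀ i, c' i ∈ maximalIdeal C ^ N := by
    intro c' hc' i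
    have h1 := map_pow_le (A := A) K hc'
    rw [map_Phi (B := B) θ c'] at h1
    exact hK _ (flf_ind (fun i : Fin n => (algebraMap E A θ) ^ (i : ℕ)) hm hind K
      (fun i => algebraMap C B (c' i)) h1 i)
  have claim2 : ∀ z ∈ (maximalIdeal C ^ N • ⊤ : Submodule C E), ∃ d : Fin n → C,
      (∀ i, d i ∈ maximalIdeal C ^ N) ∧ z - ∑ i, d i • θ ^ (i : ℕ) ∈ maximalIdeal E ^ K := by
    intro z hz
    refine Submodule.smul_induction_on hz ?_ ?_
    · intro μ hμ e _
      obtain ⟨d', hd'⟩ := approx hEA σ τ hσC hτE hσinv heq htriv hm θ hspan hind K e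
      refine ⟨fun i => μ * d' i, fun i => Ideal.mul_mem_right _ _ hμ, ?_⟩
      have e1 : μ • e - ∑ i, (μ * d' i) • θ ^ (i : ℕ) = μ • (e - ∑ i, d' i • θ ^ (i : ℕ)) := by
        rw [smul_sub, Finset.smul_sum]
        congr 1
        refine Finset.sum_congr rfl fun i _ => ?_
        rw [mul_smul]
      rw [e1, Algebra.smul_def]
      exact Ideal.mul_mem_left _ _ hd'
    · rintro x y ⟨d1, hd1, h1⟩ ⟨d2, hd2, h2⟩
      refine ⟨d1 + d2, fun i => Ideal.add_mem _ (hd1 i) (hd2 i), ?_⟩
      have e1 : x + y - ∑ i, (d1 + d2) i • θ ^ (i : ℕ) =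
          (x - ∑ i, d1 i • θ ^ (i : ℕ)) + (y - ∑ i, d2 i • θ ^ (i : ℕ)) := by
        simp only [Pi.add_apply, add_smul, Finset.sum_add_distrib]; ring
      rw [e1]
      exact Ideal.add_mem _ h1 h2
  have hc' : ∑ i, c i • θ ^ (i : ℕ) ∈ (maximalIdeal C ^ N • ⊤ : Submodule C E) := by
    rw [Ideal.smul_top_eq_map, Submodule.restrictScalars_mem]
    exact hc
  obtain ⟨d, hd, hd'⟩ := claim2 _ hc'
  have h4 := claim1 (fun i => c i - d i) (by
    have e1 : ∑ i, (c i - d i) • θ ^ (i : ℕ) =
        ∑ i, c i • θ ^ (i : ℕ) - ∑ i, d i • θ ^ (i : ℕ) := by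
      simp only [sub_smul, Finset.sum_sub_distrib]
    rw [e1]
    exact hd') i
  have := Ideal.add_mem _ h4 (hd i)
  simpa using this

include hCB hEA hσC hτE hσinv heq htriv hm hspan hind in
theorem flat_CE : Module.Flat C E := by
  classical
  have hmE := map_maximalIdeal_eq hEA σ τ hσC hτE hσinv heq htriv hm θ hspan hind
  apply Groth.Agent.S12045.flat_of_forall_flat_quotient (maximalIdeal C)
  · rw [hmE]
    exact (IsLocalRing.jacobson_eq_maximalIdeal ⊥ bot_ne_top).ge
  · intro N
    set J : Ideal E := (maximalIdeal C ^ N).map (algebraMap C E) with hJ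
    let w : Fin n → E ⧸ J := fun i => Ideal.Quotient.mk J (θ ^ (i : ℕ))
    have hsmul : ∀ (c : C) (e : E), (Ideal.Quotient.mk (maximalIdeal C ^ N) c) •
        (Ideal.Quotient.mk J e) = Ideal.Quotient.mk J (c • e) := by
      intro c e
      rw [Algebra.smul_def, Algebra.smul_def, map_mul]
      rfl
    have hsum : ∀ c : Fin n → C, ∑ i, (Ideal.Quotient.mk (maximalIdeal C ^ N) (c i)) • w i =
        Ideal.Quotient.mk J (∑ i, c i • θ ^ (i : ℕ)) := by
      intro c
      rw [map_sum]
      exact Finset.sum_congr rfl fun i _ => hsmul _ _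
    have hli : LinearIndependent (C ⧸ maximalIdeal C ^ N) w := by
      rw [Fintype.linearIndependent_iff]
      intro g hg i
      choose c hc using fun i => Ideal.Quotient.mk_surjective (g i)
      have h1 : ∑ i, g i • w i = ∑ i, (Ideal.Quotient.mk (maximalIdeal C ^ N) (c i)) • w i :=
        Finset.sum_congr rfl fun i _ => by rw [hc]
      rw [h1, hsum, Ideal.Quotient.eq_zero_iff_mem] at hg
      rw [← hc i, Ideal.Quotient.eq_zero_iff_mem]
      exact inj_mod hCB hEA σ τ hσC hτE hσinv heq htriv hm θ hspan hind N c hg i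
    have hsp : ⊤ ≤ Submodule.span (C ⧸ maximalIdeal C ^ N) (Set.range w) := by
      intro z _
      obtain ⟨e, rfl⟩ := Ideal.Quotient.mk_surjective z
      obtain ⟨c, hc⟩ := approx hEA σ τ hσC hτE hσinv heq htriv hm θ hspan hind N e
      have h2 : Ideal.Quotient.mk J e = Ideal.Quotient.mk J (∑ i, c i • θ ^ (i : ℕ)) := by
        rw [Ideal.Quotient.eq, hJ, Ideal.map_pow, hmE]
        exact hc
      rw [h2, ← hsum]
      exact Submodule.sum_mem _ fun i _ =>
        Submodule.smul_mem _ _ (Submodule.subset_span (Set.mem_range_self i))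
    have : Module.Free (C ⧸ maximalIdeal C ^ N) (E ⧸ J) :=
      Module.Free.of_basis (Module.Basis.mk hli hsp)
    infer_instance

include hEA hσC hτE hσinv heq htriv hm hspan hind in
theorem isSeparable_CE (hsep : IsSeparable (ResidueField C) (residue E θ)) :
    Algebra.IsSeparable (ResidueField C) (ResidueField E) := by
  rw [Algebra.isSeparable_def]
  intro x
  obtain ⟨e, rfl⟩ := residue_surjective x
  obtain ⟨c, hc⟩ := approx hEA σ τ hσC hτE hσinv heq htriv hm θ hspan hind 1 e
  rw [pow_one, ← residue_eq_zero_iff, map_sub, sub_eq_zero] at hc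
  rw [hc, ← mem_separableClosure_iff, map_sum]
  refine sum_mem fun i _ => ?_
  rw [Algebra.smul_def, map_mul, map_pow]
  refine mul_mem ?_ (pow_mem (mem_separableClosure_iff.mpr hsep) _)
  have : residue E (algebraMap C E (c i)) = algebraMap (ResidueField C) (ResidueField E)
      (residue C (c i)) := rfl
  rw [this]
  exact IntermediateField.algebraMap_mem _ _

include hCB hEA hτmul hσC hτE hσinv hτinv heq htriv hm in
/-- **Core**: the invariants of an equivariant étale local homomorphism with trivial residue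
action form an étale local homomorphism. -/
theorem core : Module.Flat C E ∧ (maximalIdeal C).map (algebraMap C E) = maximalIdeal E ∧
    Algebra.IsSeparable (ResidueField C) (ResidueField E) := by
  obtain ⟨n, θ, hspan, hind, hsep⟩ := exists_theta (C := C) (B := B) τ hτmul hτinv htriv
  exact ⟨flat_CE hCB hEA σ τ hσC hτE hσinv heq htriv hm θ hspan hind,
    map_maximalIdeal_eq hEA σ τ hσC hτE hσinv heq htriv hm θ hspan hind,
    isSeparable_CE hEA σ τ hσC hτE hσinv heq htriv hm θ hspan hind hsep⟩

end Core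

end Groth.Agent.Lib.Helper84.InvEt
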