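import Mathlib

/-!
# Localizing a ring with a finite group action at a stable prime (helper84)

`S1 → S` injective with image the invariants of a finite group `H` acting on `S`, `Q` an
`H`-stable prime of `S`, `Q1 = Q ∩ S1`.  The action extends to `S_Q` (`act`), with invariants
`(S1)_{Q1}`; the map `(S1)_{Q1} → S_Q` is injective, finite if `S1 → S` is, and the action is trivial
on the residue field if it is trivial on `S / Q`.
-/

set_option autoImplicit false
set_option linter.unusedSectionVars false

namespace Groth.Agent.Lib.Helper84.InvEt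

open IsLocalRing

universe u

section Loc

variable {S : Type u} [CommRing S] {H : Type*} [Group H] [MulSemiringAction H S]
  (Q : Ideal S) [Q.IsPrime] (hQ : ∀ (g : H) (s : S), s ∈ Q → g • s ∈ Q)

include hQ in
theorem smul_mem_iff' (g : H) (s : S) : g • s ∈ Q ↔ s ∈ Q := by
  refine ⟨fun h => ?_, hQ g s⟩
  have := hQ g⁻¹ _ h
  rwa [inv_smul_smul] at this

include hQ in
theorem comap_toRingHom' (g : H) : Q = Q.comap (MulSemiringAction.toRingHom H S g) := by
  ext s
  rw [Ideal.mem_comap, MulSemiringAction.toRingHom_apply, smul_mem_iff' Q hQ]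

/-- the action on the localization -/
noncomputable def lact (g : H) : Localization.AtPrime Q →+* Localization.AtPrime Q :=
  Localization.localRingHom Q Q (MulSemiringAction.toRingHom H S g) (comap_toRingHom' Q hQ g)

theorem lact_algebraMap (g : H) (s : S) :
    lact Q hQ g (algebraMap S (Localization.AtPrime Q) s) =
      algebraMap S (Localization.AtPrime Q) (g • s) := by
  rw [lact, Localization.localRingHom_to_map, MulSemiringAction.toRingHom_apply]

theorem lact_mul (g h : H) (z : Localization.AtPrime Q) :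
    lact Q hQ (g * h) z = lact Q hQ g (lact Q hQ h z) := by
  have : lact Q hQ (g * h) = (lact Q hQ g).comp (lact Q hQ h) := by
    apply IsLocalization.ringHom_ext Q.primeCompl
    ext s
    simp only [RingHom.comp_apply, lact_algebraMap, mul_smul]
  rw [this, RingHom.comp_apply]

theorem lact_triv (htriv : ∀ (g : H) (s : S), g • s - s ∈ Q) (g : H) (z : Localization.AtPrime Q) :
    lact Q hQ g z - z ∈ maximalIdeal (Localization.AtPrime Q) := by
  obtain ⟨s, t, rfl⟩ := IsLocalization.exists_mk'_eq Q.primeCompl z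
  set β := IsLocalization.mk' (Localization.AtPrime Q) s t with hβ
  have h1 : β * algebraMap S _ (t : S) = algebraMap S _ s := IsLocalization.mk'_spec _ s t
  have h2 : lact Q hQ g β * algebraMap S _ (g • (t : S)) = algebraMap S _ (g • s) := by
    rw [← lact_algebraMap Q hQ, ← map_mul, h1, lact_algebraMap]
  have ht : IsUnit (algebraMap S (Localization.AtPrime Q) (t : S)) :=
    IsLocalization.map_units _ t
  have hgt : IsUnit (algebraMap S (Localization.AtPrime Q) (g • (t : S))) :=
    IsLocalization.map_units _ (⟨g • (t : S), fun h => t.2 ((smul_mem_iff' Q hQ g _).mp h)⟩ :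
      Q.primeCompl)
  have h3 : (lact Q hQ g β - β) * (algebraMap S _ (g • (t : S)) * algebraMap S _ (t : S)) =
      algebraMap S (Localization.AtPrime Q) ((g • s - s) * t - s * (g • (t : S) - t)) := by
    have e1 : (lact Q hQ g β - β) * (algebraMap S _ (g • (t : S)) * algebraMap S _ (t : S)) =
        (lact Q hQ g β * algebraMap S _ (g • (t : S))) * algebraMap S _ (t : S) -
          (β * algebraMap S _ (t : S)) * algebraMap S _ (g • (t : S)) := by ring
    rw [e1, h1, h2, ← map_mul, ← map_mul, ← map_sub]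
    congr 1
    ring
  have h4 : algebraMap S (Localization.AtPrime Q) ((g • s - s) * t - s * (g • (t : S) - t)) ∈
      maximalIdeal (Localization.AtPrime Q) := by
    rw [← Localization.AtPrime.map_eq_maximalIdeal]
    apply Ideal.mem_map_of_mem
    exact Ideal.sub_mem _ (Ideal.mul_mem_right _ _ (htriv g s)) (Ideal.mul_mem_left _ _ (htriv g t))
  rw [← h3] at h4
  rcases (Ideal.IsPrime.mem_or_mem (maximalIdeal.isMaximal _).isPrime h4) with h5 | h5
  · exact h5
  · exact absurd (hgt.mul ht) ((mem_maximalIdeal _).mp h5)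

variable {S1 : Type u} [CommRing S1] [Algebra S1 S]
  (hfix : ∀ (g : H) (s1 : S1), g • algebraMap S1 S s1 = algebraMap S1 S s1)
  (hinv : ∀ s : S, (∀ g : H, g • s = s) → ∃ s1 : S1, algebraMap S1 S s1 = s)
  (hinj : Function.Injective (algebraMap S1 S))

variable [Finite H]

include hQ hinv in
/-- every element outside `Q` divides an element of `S1` outside `Q` -/
theorem exists_dvd_norm' (s : S) (hs : s ∉ Q) :
    ∃ s1 : S1, s1 ∉ Q.under S1 ∧ s ∣ algebraMap S1 S s1 := by
  classical
  cases nonempty_fintype H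
  have hfix' : ∀ g : H, g • (∏ h : H, h • s) = ∏ h : H, h • s := by
    intro g
    rw [Finset.smul_prod']
    simp only [smul_smul]
    exact Fintype.prod_equiv (Equiv.mulLeft g) _ _ (fun h => rfl)
  obtain ⟨s1, hs1⟩ := hinv _ hfix'
  refine ⟨s1, ?_, ?_⟩
  · rw [Ideal.under_def, Ideal.mem_comap, hs1]
    intro hmem
    obtain ⟨h, -, hh⟩ := (Ideal.IsPrime.prod_mem_iff).mp hmem
    exact hs ((smul_mem_iff' Q hQ h s).mp hh)
  · rw [hs1]
    have := Finset.dvd_prod_of_mem (fun h : H => h • s) (Finset.mem_univ (1 : H))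
    simpa using this

include hQ hinv in
theorem isLocalization_top :
    IsLocalization (Algebra.algebraMapSubmonoid S (Q.under S1).primeCompl)
      (Localization.AtPrime Q) := by
  have hle : Algebra.algebraMapSubmonoid S (Q.under S1).primeCompl ≤ Q.primeCompl := by
    rintro _ ⟨s1, hs1, rfl⟩
    exact hs1
  refine ⟨fun m => ?_, fun z => ?_, fun {x y} hxy => ?_⟩
  · exact IsLocalization.map_units (M := Q.primeCompl) _ ⟨m.1, hle m.2⟩
  · obtain ⟨⟨x, n⟩, hxn⟩ := IsLocalization.surj Q.primeCompl z
    obtain ⟨s1, hs1, n', hn'⟩ := exists_dvd_norm' Q hQ hinv n.1 n.2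
    refine ⟨⟨x * n', ⟨algebraMap S1 S s1, ⟨s1, hs1, rfl⟩⟩⟩, ?_⟩
    simp only at hxn ⊢
    rw [hn', map_mul, ← mul_assoc, hxn, map_mul]
  · obtain ⟨n, hn⟩ := (IsLocalization.eq_iff_exists Q.primeCompl _).mp hxy
    obtain ⟨s1, hs1, n', hn'⟩ := exists_dvd_norm' Q hQ hinv n.1 n.2
    refine ⟨⟨algebraMap S1 S s1, ⟨s1, hs1, rfl⟩⟩, ?_⟩
    simp only
    rw [hn', mul_comm (n : S) n', mul_assoc, mul_assoc, hn]

section WithAlg

variable [Algebra (Localization.AtPrime (Q.under S1)) (Localization.AtPrime Q)]
  [Localization.AtPrime.IsLiesOverAlgebra (Q.under S1) Q]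

theorem algebraMap_loc (s1 : S1) :
    algebraMap (Localization.AtPrime (Q.under S1)) (Localization.AtPrime Q)
      (algebraMap S1 _ s1) = algebraMap S (Localization.AtPrime Q) (algebraMap S1 S s1) := by
  rw [Localization.AtPrime.IsLiesOverAlgebra.algebraMap_eq, Localization.localRingHom_to_map]

include hfix in
theorem lact_fix (g : H) (z : Localization.AtPrime (Q.under S1)) :
    lact Q hQ g (algebraMap _ (Localization.AtPrime Q) z) =
      algebraMap _ (Localization.AtPrime Q) z := by
  have : (lact Q hQ g).comp (algebraMap (Localization.AtPrime (Q.under S1))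
      (Localization.AtPrime Q)) = algebraMap _ _ := by
    apply IsLocalization.ringHom_ext (Q.under S1).primeCompl
    ext s1
    simp only [RingHom.comp_apply]
    rw [algebraMap_loc, lact_algebraMap, hfix]
  exact RingHom.congr_fun this z

include hQ hinv hinj in
theorem algebraMap_loc_injective :
    Function.Injective (algebraMap (Localization.AtPrime (Q.under S1))
      (Localization.AtPrime Q)) := by
  rw [injective_iff_map_eq_zero]
  intro z hz
  obtain ⟨a, t, rfl⟩ := IsLocalization.exists_mk'_eq (Q.under S1).primeCompl z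
  have h1 : algebraMap (Localization.AtPrime (Q.under S1)) (Localization.AtPrime Q)
      (algebraMap S1 _ a) = 0 := by
    rw [← IsLocalization.mk'_spec (M := (Q.under S1).primeCompl) _ a t, map_mul, hz, zero_mul]
  rw [algebraMap_loc, IsLocalization.map_eq_zero_iff Q.primeCompl] at h1
  obtain ⟨u, hu⟩ := h1
  obtain ⟨n1, hn1, u', hu'⟩ := exists_dvd_norm' Q hQ hinv u.1 u.2
  have h2 : algebraMap S1 S (n1 * a) = 0 := by
    rw [map_mul, hu', mul_comm (u : S) u', mul_assoc, hu, mul_zero]
  have h3 : n1 * a = 0 := hinj (by rw [h2, map_zero])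
  rw [IsLocalization.mk'_eq_zero_iff]
  exact ⟨⟨n1, hn1⟩, h3⟩

include hQ hfix hinv in
theorem lact_inv (β : Localization.AtPrime Q) (hβ : ∀ g : H, lact Q hQ g β = β) :
    ∃ z : Localization.AtPrime (Q.under S1), algebraMap _ (Localization.AtPrime Q) z = β := by
  classical
  cases nonempty_fintype H
  obtain ⟨b, s, rfl⟩ := IsLocalization.exists_mk'_eq Q.primeCompl β
  set β := IsLocalization.mk' (Localization.AtPrime Q) b s with hβdef
  obtain ⟨n1, hn1, s', hs'⟩ := exists_dvd_norm' Q hQ hinv s.1 s.2
  -- β * N = b * s'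
  obtain ⟨b', hb'⟩ : ∃ b' : S, b' = b * s' := ⟨_, rfl⟩
  have h1 : β * algebraMap S _ (algebraMap S1 S n1) = algebraMap S _ b' := by
    rw [hb', hs', map_mul, ← mul_assoc, IsLocalization.mk'_spec, map_mul]
  have h2 : ∀ g : H, algebraMap S (Localization.AtPrime Q) (g • b') = algebraMap S _ b' := by
    intro g
    rw [← lact_algebraMap Q hQ, ← h1, map_mul, hβ, lact_algebraMap, hfix]
  have h3 : ∀ g : H, ∃ t : Q.primeCompl, (t : S) * (g • b') = t * b' := fun g =>
    (IsLocalization.eq_iff_exists Q.primeCompl _).mp (h2 g)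
  choose t ht using h3
  have htprod : ∏ g : H, (t g : S) ∉ Q := by
    intro hmem
    obtain ⟨g, -, hg⟩ := (Ideal.IsPrime.prod_mem_iff).mp hmem
    exact (t g).2 hg
  obtain ⟨m1, hm1, t', ht'⟩ := exists_dvd_norm' Q hQ hinv _ htprod
  have h4 : ∀ g : H, algebraMap S1 S m1 * (g • b') = algebraMap S1 S m1 * b' := by
    intro g
    obtain ⟨r, hr⟩ := Finset.dvd_prod_of_mem (fun g : H => (t g : S)) (Finset.mem_univ g)
    rw [ht', hr]
    calc (t g : S) * r * t' * (g • b') = r * t' * ((t g : S) * (g • b')) := by ring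
      _ = r * t' * ((t g : S) * b') := by rw [ht]
      _ = (t g : S) * r * t' * b' := by ring
  have h5 : ∀ g : H, g • (algebraMap S1 S m1 * b') = algebraMap S1 S m1 * b' := by
    intro g
    rw [smul_mul', hfix, h4]
  obtain ⟨c1, hc1⟩ := hinv _ h5
  have hmn : m1 * n1 ∈ (Q.under S1).primeCompl := Submonoid.mul_mem _ hm1 hn1
  refine ⟨IsLocalization.mk' _ c1 ⟨m1 * n1, hmn⟩, ?_⟩
  have hu : IsUnit (algebraMap S (Localization.AtPrime Q) (algebraMap S1 S (m1 * n1))) :=
    IsLocalization.map_units (M := Q.primeCompl) _ (⟨algebraMap S1 S (m1 * n1), hmn⟩ : Q.primeCompl)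
  apply hu.mul_right_cancel
  have e1 : IsLocalization.mk' (Localization.AtPrime (Q.under S1)) c1 ⟨m1 * n1, hmn⟩ *
      algebraMap S1 _ (m1 * n1) = algebraMap S1 _ c1 := IsLocalization.mk'_spec _ c1 ⟨m1 * n1, hmn⟩
  rw [← algebraMap_loc, ← map_mul, e1, algebraMap_loc, hc1, algebraMap_loc]
  have e2 : algebraMap S (Localization.AtPrime Q) (algebraMap S1 S m1 * b') =
      algebraMap S _ (algebraMap S1 S m1) * (β * algebraMap S _ (algebraMap S1 S n1)) := by
    rw [h1, map_mul]
  have e3 : algebraMap S (Localization.AtPrime Q) (algebraMap S1 S (m1 * n1)) =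
      algebraMap S _ (algebraMap S1 S m1) * algebraMap S _ (algebraMap S1 S n1) := by
    rw [map_mul, map_mul]
  rw [e2, e3]
  ring

include hQ hinv in
theorem finite_loc [Module.Finite S1 S] :
    Module.Finite (Localization.AtPrime (Q.under S1)) (Localization.AtPrime Q) := by
  have := isLocalization_top Q hQ hinv
  exact Module.Finite.of_isLocalization S1 S (Q.under S1).primeCompl

end WithAlg

end Loc

section Equivariant

variable {S S' : Type u} [CommRing S] [CommRing S'] [Algebra S S'] {H : Type*} [Group H]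
  [MulSemiringAction H S] [MulSemiringAction H S']
  (heq : ∀ (g : H) (s : S), algebraMap S S' (g • s) = g • algebraMap S S' s)
  (Q : Ideal S) [Q.IsPrime] (hQ : ∀ (g : H) (s : S), s ∈ Q → g • s ∈ Q)
  (Q' : Ideal S') [Q'.IsPrime] (hQ' : ∀ (g : H) (s : S'), s ∈ Q' → g • s ∈ Q') [Q'.LiesOver Q]
  [Algebra (Localization.AtPrime Q) (Localization.AtPrime Q')]
  [Localization.AtPrime.IsLiesOverAlgebra Q Q']

include heq in
theorem lact_equivariant (g : H) (z : Localization.AtPrime Q) :
    lact Q' hQ' g (algebraMap _ (Localization.AtPrime Q') z) =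
      algebraMap _ (Localization.AtPrime Q') (lact Q hQ g z) := by
  have : (lact Q' hQ' g).comp (algebraMap (Localization.AtPrime Q) (Localization.AtPrime Q')) =
      (algebraMap (Localization.AtPrime Q) (Localization.AtPrime Q')).comp (lact Q hQ g) := by
    apply IsLocalization.ringHom_ext Q.primeCompl
    ext s
    simp only [RingHom.comp_apply]
    rw [Localization.AtPrime.IsLiesOverAlgebra.algebraMap_eq, Localization.localRingHom_to_map,
      lact_algebraMap, ← heq, lact_algebraMap, Localization.localRingHom_to_map]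
  exact RingHom.congr_fun this z

end Equivariant

end Groth.Agent.Lib.Helper84.InvEt
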