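import Mathlib
import Groth.Agent.Lib.Helper2.LocalFlat3

/-!
# Étaleness at a prime in terms of the local homomorphism (helper84)

For a finitely presented `R`-algebra `S`, a prime `q` of `S` over `p`:
`S` is étale over `R` at `q` iff `R_p → S_q` is flat, `p S_q = q S_q` and `κ(q) / κ(p)` is
separable (`local_of_isEtaleAt`, `isEtaleAt_of_local`).  Descent of these local data along a flat
local homomorphism (`descent_local`), and the resulting descent of étaleness at a prime along an
étale map (`isEtaleAt_descent`).  Transfer of étaleness at a prime along isomorphisms (`isEtaleAt_transfer`).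
-/

set_option autoImplicit false
set_option linter.unusedSectionVars false

namespace Groth.Agent.Lib.Helper84.InvEt

open IsLocalRing TensorProduct

universe u

section Crit

variable {R S : Type u} [CommRing R] [CommRing S] [Algebra R S]
  (p : Ideal R) [p.IsPrime] (q : Ideal S) [q.IsPrime] [q.LiesOver p]
  [Algebra (Localization.AtPrime p) (Localization.AtPrime q)]
  [Localization.AtPrime.IsLiesOverAlgebra p q]

theorem local_of_isEtaleAt [Algebra.FinitePresentation R S] [Algebra.IsEtaleAt R q] :
    Module.Flat (Localization.AtPrime p) (Localization.AtPrime q) ∧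
    (maximalIdeal (Localization.AtPrime p)).map (algebraMap _ (Localization.AtPrime q)) =
      maximalIdeal _ ∧
    Algebra.IsSeparable (ResidueField (Localization.AtPrime p))
      (ResidueField (Localization.AtPrime q)) ∧
    Module.Finite (ResidueField (Localization.AtPrime p))
      (ResidueField (Localization.AtPrime q)) := by
  have hfe : Algebra.FormallyEtale R (Localization.AtPrime q) := ‹Algebra.IsEtaleAt R q›
  have : Algebra.FormallyEtale (Localization.AtPrime p) (Localization.AtPrime q) :=
    .localization_base p.primeCompl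
  have : Algebra.EssFiniteType (Localization.AtPrime p) (Localization.AtPrime q) :=
    .of_comp R _ _
  refine ⟨?_, Algebra.FormallyUnramified.map_maximalIdeal, inferInstance, inferInstance⟩
  obtain ⟨f, hf, hE⟩ := Algebra.exists_etale_of_isEtaleAt (R := R) q
  have hfu : IsUnit (algebraMap S (Localization.AtPrime q) f) :=
    IsLocalization.map_units (M := q.primeCompl) _ ⟨f, hf⟩
  let ψ : Localization.Away f →+* Localization.AtPrime q := IsLocalization.Away.lift f hfu
  let _ : Algebra (Localization.Away f) (Localization.AtPrime q) := ψ.toAlgebra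
  have : IsScalarTower S (Localization.Away f) (Localization.AtPrime q) :=
    .of_algebraMap_eq' (IsLocalization.Away.lift_comp f hfu).symm
  have : IsScalarTower R (Localization.Away f) (Localization.AtPrime q) :=
    .to₁₃₄ R S (Localization.Away f) (Localization.AtPrime q)
  have hle : Submonoid.powers f ≤ q.primeCompl := by
    rw [Submonoid.powers_le]; exact hf
  have : IsLocalization ((q.primeCompl).map (algebraMap S (Localization.Away f)))
      (Localization.AtPrime q) :=
    IsLocalization.isLocalization_of_submonoid_le (Localization.Away f) (Localization.AtPrime q)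
      (Submonoid.powers f) q.primeCompl hle
  have : Module.Flat (Localization.Away f) (Localization.AtPrime q) :=
    IsLocalization.flat _ ((q.primeCompl).map (algebraMap S (Localization.Away f)))
  have : Module.Flat R (Localization.Away f) := inferInstance
  have : Module.Flat R (Localization.AtPrime q) := Module.Flat.trans R (Localization.Away f) _
  exact (Module.flat_iff_of_isLocalization (Localization.AtPrime p) p.primeCompl _).mpr this

theorem isEtaleAt_of_local [Algebra.FinitePresentation R S]
    [Module.Flat (Localization.AtPrime p) (Localization.AtPrime q)]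
    (hm : (maximalIdeal (Localization.AtPrime p)).map (algebraMap _ (Localization.AtPrime q)) =
      maximalIdeal _)
    [Algebra.IsSeparable (ResidueField (Localization.AtPrime p))
      (ResidueField (Localization.AtPrime q))] :
    Algebra.IsEtaleAt R q := by
  let Rp := Localization.AtPrime p
  let Sp := Localization (Algebra.algebraMapSubmonoid S p.primeCompl)
  let Sq := Localization.AtPrime q
  let f : Sp →ₐ[S] Sq := IsLocalization.liftAlgHom (M := Algebra.algebraMapSubmonoid S p.primeCompl)
        (f := Algebra.ofId _ _) (by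
      rintro ⟨_, x, hx, rfl⟩
      simpa using! IsLocalization.map_units (M := q.primeCompl) Sq ⟨algebraMap _ _ x,
        by simp_all [q.over_def p]⟩)
  algebraize [f.toRingHom]
  have : IsScalarTower R Sp Sq := .to₁₃₄ _ S _ _
  have : IsScalarTower Rp Sp Sq := .of_algebraMap_eq' <| by
    apply IsLocalization.ringHom_ext p.primeCompl
    simp only [RingHom.comp_assoc, ← IsScalarTower.algebraMap_eq]
  have : IsLocalization (Algebra.algebraMapSubmonoid Sp q.primeCompl) Sq :=
    .isLocalization_of_submonoid_le _ _ (Algebra.algebraMapSubmonoid S p.primeCompl) _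
    (by rintro _ ⟨x, hx, rfl⟩; simp_all [q.over_def p])
  have : Algebra.FinitePresentation Rp Sp := by
    have : Algebra.IsPushout R Rp S Sp :=
      .symm <| Algebra.isPushout_of_isLocalization p.primeCompl _ _ _
    exact .equiv (Algebra.IsPushout.equiv R Rp S Sp)
  have : Algebra.EssFiniteType Rp Sq := .of_comp R _ _
  have : Algebra.FormallyUnramified Rp Sq := Algebra.FormallyUnramified.of_map_maximalIdeal hm
  have : Algebra.FormallyEtale (ResidueField Rp) (ResidueField Rp ⊗[Rp] Sq) :=
    .of_formallyUnramified_of_field _ _
  have : Algebra.FormallySmooth Rp Sq :=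
    Algebra.FormallySmooth.of_formallySmooth_residueField_tensor
      (R := Rp) (S := Sq) (P := Sp) (Algebra.algebraMapSubmonoid _ q.primeCompl)
  have : Algebra.FormallyEtale Rp Sq :=
    Algebra.FormallyEtale.iff_formallyUnramified_and_formallySmooth.mpr ⟨‹_›, ‹_›⟩
  exact Algebra.FormallyEtale.comp R Rp Sq

end Crit

section Descent

variable {R S T : Type*} [CommRing R] [CommRing S] [CommRing T]
  [IsLocalRing R] [IsLocalRing S] [IsLocalRing T]
  [Algebra R S] [Algebra S T] [Algebra R T] [IsScalarTower R S T]
  [IsLocalHom (algebraMap R S)] [IsLocalHom (algebraMap S T)] [IsLocalHom (algebraMap R T)]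

theorem descent_local [Module.Flat R T] [Module.Flat S T]
    (hRT : (maximalIdeal R).map (algebraMap R T) = maximalIdeal T)
    (hST : (maximalIdeal S).map (algebraMap S T) = maximalIdeal T)
    [Algebra.IsSeparable (ResidueField R) (ResidueField T)] :
    Module.Flat R S ∧ (maximalIdeal R).map (algebraMap R S) = maximalIdeal S ∧
      Algebra.IsSeparable (ResidueField R) (ResidueField S) := by
  have : Module.FaithfullyFlat S T := Module.FaithfullyFlat.of_flat_of_isLocalHom
  refine ⟨Groth.Agent.Lib.Helper2.flat_of_flat_of_faithfullyFlat (R := R) (S := S) (M := T), ?_, ?_⟩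
  · apply Ideal.map_injective_of_faithfullyFlat (A := S) (B := T)
    rw [Ideal.map_map, ← IsScalarTower.algebraMap_eq, hRT, hST]
  · exact Algebra.isSeparable_tower_bot_of_isSeparable (ResidueField R) (ResidueField S)
      (ResidueField T)

end Descent

section DL

variable {R S T : Type u} [CommRing R] [CommRing S] [CommRing T] [Algebra R S] [Algebra S T]
  [Algebra R T] [IsScalarTower R S T]
  [Algebra.FinitePresentation R S] [Algebra.FinitePresentation R T] [Algebra.FinitePresentation S T]

/-- If `T` is étale at `Q` both over `R` and over the intermediate `R`-algebra `S`, then `S` is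
étale over `R` at `Q ∩ S`. -/
theorem isEtaleAt_descent (Q : Ideal T) [Q.IsPrime] [Algebra.IsEtaleAt R Q] [Algebra.IsEtaleAt S Q] :
    Algebra.IsEtaleAt R (Q.under S) := by
  have : (Q.under S).LiesOver (Q.under R) := ⟨by rw [Ideal.under_under]⟩
  let _ := Localization.AtPrime.algebraOfLiesOver (Q.under R) (Q.under S)
  let _ := Localization.AtPrime.algebraOfLiesOver (Q.under S) Q
  let _ := Localization.AtPrime.algebraOfLiesOver (Q.under R) Q
  obtain ⟨hf1, hm1, hs1, -⟩ := local_of_isEtaleAt (R := R) (Q.under R) Q
  obtain ⟨hf2, hm2, hs2, -⟩ := local_of_isEtaleAt (R := S) (Q.under S) Q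
  obtain ⟨hf, hm, hs⟩ := descent_local (R := Localization.AtPrime (Q.under R))
    (S := Localization.AtPrime (Q.under S)) (T := Localization.AtPrime Q) hm1 hm2
  exact isEtaleAt_of_local (Q.under R) (Q.under S) hm

end DL

section Transfer

variable {R₁ S₁ R₂ S₂ : Type u} [CommRing R₁] [CommRing S₁] [CommRing R₂] [CommRing S₂]
  [Algebra R₁ S₁] [Algebra R₂ S₂] (eR : R₁ ≃+* R₂) (eS : S₁ ≃+* S₂)
  (hcomm : ∀ r, eS (algebraMap R₁ S₁ r) = algebraMap R₂ S₂ (eR r))
  (q₁ : Ideal S₁) [q₁.IsPrime] (q₂ : Ideal S₂) [q₂.IsPrime] (hq : q₁ = q₂.comap eS)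

include hcomm hq in
theorem isEtaleAt_transfer [Algebra.IsEtaleAt R₁ q₁] : Algebra.IsEtaleAt R₂ q₂ := by
  have hfe : Algebra.FormallyEtale R₁ (Localization.AtPrime q₁) := ‹Algebra.IsEtaleAt R₁ q₁›
  have hH : q₁.primeCompl.map eS.toMonoidHom = q₂.primeCompl := by
    ext s
    constructor
    · rintro ⟨s₁, hs₁, rfl⟩
      intro h
      apply hs₁
      rw [hq]
      exact h
    · intro hs
      refine ⟨eS.symm s, ?_, by simp⟩
      intro h
      rw [hq] at h
      have h' : eS (eS.symm s) ∈ q₂ := h
      rw [RingEquiv.apply_symm_apply] at h'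
      exact hs h'
  let eL : Localization.AtPrime q₁ ≃+* Localization.AtPrime q₂ :=
    IsLocalization.ringEquivOfRingEquiv _ _ eS hH
  have heL : ∀ s, eL (algebraMap S₁ _ s) = algebraMap S₂ _ (eS s) := fun s =>
    IsLocalization.ringEquivOfRingEquiv_eq _ s
  let _ : Algebra R₁ R₂ := eR.toRingHom.toAlgebra
  let _ : Algebra R₁ (Localization.AtPrime q₂) :=
    ((algebraMap R₂ (Localization.AtPrime q₂)).comp eR.toRingHom).toAlgebra
  have : IsScalarTower R₁ R₂ (Localization.AtPrime q₂) := .of_algebraMap_eq fun r => rfl
  have h1 : Algebra.FormallyEtale R₁ R₂ :=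
    Algebra.FormallyEtale.of_equiv (AlgEquiv.ofRingEquiv (f := eR) (fun r => rfl) : R₁ ≃ₐ[R₁] R₂)
  let eL' : Localization.AtPrime q₁ ≃ₐ[R₁] Localization.AtPrime q₂ :=
    AlgEquiv.ofRingEquiv (f := eL) (fun r => by
      rw [IsScalarTower.algebraMap_apply R₁ S₁ (Localization.AtPrime q₁), heL, hcomm]
      change _ = algebraMap R₂ (Localization.AtPrime q₂) (eR r)
      rw [IsScalarTower.algebraMap_apply R₂ S₂ (Localization.AtPrime q₂)])
  have h2 : Algebra.FormallyEtale R₁ (Localization.AtPrime q₂) :=
    Algebra.FormallyEtale.of_equiv eL'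
  exact (Algebra.FormallyEtale.iff_restrictScalars (R := R₁) (A := R₂)
    (B := Localization.AtPrime q₂)).mp h2

end Transfer

end Groth.Agent.Lib.Helper84.InvEt
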