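import Mathlib
import Groth.Agent.Lib.Helper84.InvEt3
import Groth.Agent.Lib.Helper84.InvEt4
import Groth.Agent.Lib.Helper84.InvEt5

/-!
# Invariants of an equivariant map étale at a point with trivial residue action (helper84)

`B → A` equivariant for a finite group `H` acting trivially modulo a prime `x` of `A` and modulo
`x ∩ B`; `C`, `E` models of the rings of invariants (Noetherian, with `B`, `A` finite over them).
If `A` is étale over `B` at `x` then `E` is étale over `C` at `x ∩ E`.
-/

set_option autoImplicit false
set_option linter.unusedSectionVars false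

namespace Groth.Agent.Lib.Helper84.InvEt

open IsLocalRing

universe u

theorem isEtaleAt_invariants_of_trivial
    {B A : Type u} [CommRing B] [CommRing A] [Algebra B A]
    {H : Type*} [Group H] [Finite H] [MulSemiringAction H B] [MulSemiringAction H A]
    (heq : ∀ (h : H) (b : B), algebraMap B A (h • b) = h • algebraMap B A b)
    {C E : Type u} [CommRing C] [CommRing E] [Algebra C B] [Algebra E A] [Algebra C E]
    [Algebra C A] [IsScalarTower C B A] [IsScalarTower C E A]
    (hCfix : ∀ (g : H) (c : C), g • algebraMap C B c = algebraMap C B c)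
    (hCinv : ∀ b : B, (∀ g : H, g • b = b) → ∃ c : C, algebraMap C B c = b)
    (hCinj : Function.Injective (algebraMap C B))
    (hEfix : ∀ (g : H) (e : E), g • algebraMap E A e = algebraMap E A e)
    (hEinv : ∀ a : A, (∀ g : H, g • a = a) → ∃ e : E, algebraMap E A e = a)
    (hEinj : Function.Injective (algebraMap E A))
    [IsNoetherianRing C] [IsNoetherianRing E] [Module.Finite C B] [Module.Finite E A]
    [Algebra.FinitePresentation C E] [Algebra.FinitePresentation B A]
    (x : Ideal A) [x.IsPrime] (htrivA : ∀ (h : H) (a : A), h • a - a ∈ x)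
    (htrivB : ∀ (h : H) (b : B), h • b - b ∈ x.under B)
    [Algebra.IsEtaleAt B x] :
    Algebra.IsEtaleAt C (x.under E) := by
  have hQx : ∀ (g : H) (a : A), a ∈ x → g • a ∈ x := by
    intro g a ha
    have := Ideal.add_mem _ (htrivA g a) ha
    simpa using this
  have hQy : ∀ (g : H) (b : B), b ∈ x.under B → g • b ∈ x.under B := by
    intro g b hb
    have := Ideal.add_mem _ (htrivB g b) hb
    simpa using this
  have h1 : (x.under E).LiesOver ((x.under B).under C) :=
    ⟨by rw [Ideal.under_under, Ideal.under_under]⟩
  have h2 : x.LiesOver ((x.under B).under C) := ⟨by rw [Ideal.under_under]⟩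
  let _ := Localization.AtPrime.algebraOfLiesOver ((x.under B).under C) (x.under B)
  let _ := Localization.AtPrime.algebraOfLiesOver (x.under E) x
  let _ := Localization.AtPrime.algebraOfLiesOver (x.under B) x
  let _ := Localization.AtPrime.algebraOfLiesOver ((x.under B).under C) (x.under E)
  let _ := Localization.AtPrime.algebraOfLiesOver ((x.under B).under C) x
  obtain ⟨hflat, hm, hsep, hfin⟩ := local_of_isEtaleAt (R := B) (x.under B) x
  have hfinB := finite_loc (S1 := C) (x.under B) hQy hCinv
  have hfinA := finite_loc (S1 := E) x hQx hEinv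
  obtain ⟨hf, hmE, hs⟩ := core (C := Localization.AtPrime ((x.under B).under C))
    (B := Localization.AtPrime (x.under B)) (E := Localization.AtPrime (x.under E))
    (A := Localization.AtPrime x)
    (algebraMap_loc_injective (x.under B) hQy hCinv hCinj)
    (algebraMap_loc_injective x hQx hEinv hEinj)
    (lact (x.under B) hQy) (lact x hQx)
    (lact_mul x hQx)
    (lact_fix (x.under B) hQy hCfix)
    (lact_fix x hQx hEfix)
    (lact_inv (x.under B) hQy hCfix hCinv)
    (lact_inv x hQx hEfix hEinv)
    (fun g b => lact_equivariant heq (x.under B) hQy x hQx g b)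
    (lact_triv x hQx htrivA)
    hm
  exact isEtaleAt_of_local ((x.under B).under C) (x.under E) hmE

end Groth.Agent.Lib.Helper84.InvEt
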