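import Mathlib
import Groth.Agent.S0271
import Groth.Agent.Lib.Helper84.InvEt6

/-!
# Étaleness of invariants at points with equal inertia (helper84)

`main`: `R` Noetherian, `A`, `B` finite type `R`-algebras with an action of a finite group `G`,
`B → A` equivariant, `x` a prime of `A` at which `A` is étale over `B` and with the same inertia
group as `x ∩ B`.  Then `A^G` is étale over `B^G` at `x ∩ A^G`.
-/

set_option autoImplicit false
set_option linter.unusedSectionVars false

namespace Groth.Agent.Lib.Helper84.InvEt

universe u

section Facts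

variable (R : Type u) [CommRing R] [IsNoetherianRing R] (S : Type u) [CommRing S] [Algebra R S]
  [Algebra.FiniteType R S]
  (H : Type*) [Group H] [Finite H] [MulSemiringAction H S] [SMulCommClass H R S]

theorem isInvariant_fixed : Algebra.IsInvariant (FixedPoints.subalgebra R S H) S H :=
  ⟨fun b hb => ⟨⟨b, hb⟩, rfl⟩⟩

theorem finite_over_fixed : Module.Finite (FixedPoints.subalgebra R S H) S := by
  have := isInvariant_fixed R S H
  have : Algebra.IsIntegral (FixedPoints.subalgebra R S H) S :=
    Algebra.IsInvariant.isIntegral _ S H
  have : Algebra.FiniteType (FixedPoints.subalgebra R S H) S :=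
    Algebra.FiniteType.of_restrictScalars_finiteType R _ S
  exact Algebra.IsIntegral.finite

theorem finiteType_fixed : Algebra.FiniteType R (FixedPoints.subalgebra R S H) := by
  have := finite_over_fixed R S H
  constructor
  exact fg_of_fg_of_fg R (FixedPoints.subalgebra R S H) S Algebra.FiniteType.out
    Module.Finite.fg_top Subtype.val_injective

theorem noeth_fixed : IsNoetherianRing (FixedPoints.subalgebra R S H) := by
  have := finiteType_fixed R S H
  exact Algebra.FiniteType.isNoetherianRing R _

end Facts

section Incl

variable (R : Type u) [CommRing R] (S : Type u) [CommRing S] [Algebra R S]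
  (G : Type u) [Group G] [MulSemiringAction G S] [SMulCommClass G R S] (I : Subgroup G)

theorem fixed_le : FixedPoints.subalgebra R S G ≤ FixedPoints.subalgebra R S ↥I :=
  fun _ ha g => ha (g : G)

/-- the algebra structure of `S^I` over `S^G` -/
@[reducible] noncomputable def algFixedSubgroup :
    Algebra (FixedPoints.subalgebra R S G) (FixedPoints.subalgebra R S ↥I) :=
  (Subalgebra.inclusion (fixed_le R S G I)).toRingHom.toAlgebra

variable [Finite G]

/-- `S0271` in subalgebra form. -/
theorem isEtaleAt_fixed_inertia (q : Ideal S) [q.IsPrime] (hI : q.inertia G = I) :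
    letI := algFixedSubgroup R S G I
    Algebra.IsEtaleAt (FixedPoints.subalgebra R S G) (q.under (FixedPoints.subalgebra R S ↥I)) := by
  subst hI
  let _ := algFixedSubgroup R S G (q.inertia G)
  obtain ⟨g, hg, hE⟩ := Groth.Agent.S0271.result G S q
  have h1 : Algebra.IsEtaleAt (FixedPoints.subring S G)
      (q.comap (FixedPoints.subring S ↥(q.inertia G)).subtype) := by
    have hfe : Algebra.FormallyEtale (FixedPoints.subring S G) (Localization.Away g) :=
      hE.formallyEtale
    have h2 := (Algebra.basicOpen_subset_etaleLocus_iff (R := FixedPoints.subring S G)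
      (f := g)).mpr hfe
    exact h2 (show (⟨q.comap (FixedPoints.subring S ↥(q.inertia G)).subtype, inferInstance⟩ :
      PrimeSpectrum _) ∈ PrimeSpectrum.basicOpen g from hg)
  let eR : FixedPoints.subring S G ≃+* FixedPoints.subalgebra R S G :=
    { toFun := fun a => ⟨a.1, a.2⟩
      invFun := fun a => ⟨a.1, a.2⟩
      left_inv := fun _ => rfl
      right_inv := fun _ => rfl
      map_mul' := fun _ _ => rfl
      map_add' := fun _ _ => rfl }
  let eS : FixedPoints.subring S ↥(q.inertia G) ≃+* FixedPoints.subalgebra R S ↥(q.inertia G) :=
    { toFun := fun a => ⟨a.1, a.2⟩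
      invFun := fun a => ⟨a.1, a.2⟩
      left_inv := fun _ => rfl
      right_inv := fun _ => rfl
      map_mul' := fun _ _ => rfl
      map_add' := fun _ _ => rfl }
  exact isEtaleAt_transfer eR eS (fun r => rfl)
    (q.comap (FixedPoints.subring S ↥(q.inertia G)).subtype)
    (q.under (FixedPoints.subalgebra R S ↥(q.inertia G))) rfl

end Incl

section Main

theorem main (R : Type u) [CommRing R] [IsNoetherianRing R] (A B : Type u) [CommRing A]
    [CommRing B] [Algebra R A] [Algebra R B] [Algebra.FiniteType R A] [Algebra.FiniteType R B]
    (G : Type u) [Group G] [Finite G] [MulSemiringAction G A] [MulSemiringAction G B]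
    [SMulCommClass G R A] [SMulCommClass G R B]
    [Algebra B A] [IsScalarTower R B A]
    (hGeq : ∀ (g : G) (b : B), algebraMap B A (g • b) = g • algebraMap B A b)
    [Algebra (FixedPoints.subalgebra R B G) (FixedPoints.subalgebra R A G)]
    [IsScalarTower (FixedPoints.subalgebra R B G) (FixedPoints.subalgebra R A G) A]
    (x : Ideal A) [x.IsPrime] (hx : Algebra.IsEtaleAt B x)
    (hin : x.inertia G = (x.comap (algebraMap B A)).inertia G) :
    Algebra.IsEtaleAt (FixedPoints.subalgebra R B G)
      (x.comap (algebraMap (FixedPoints.subalgebra R A G) A)) := by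
  -- finiteness facts
  have nBG := noeth_fixed R B G
  have nAG := noeth_fixed R A G
  have nBI := noeth_fixed R B ↥(x.inertia G)
  have nAI := noeth_fixed R A ↥(x.inertia G)
  have fBG := finite_over_fixed R B G
  have fAG := finite_over_fixed R A G
  have fBI := finite_over_fixed R B ↥(x.inertia G)
  have fAI := finite_over_fixed R A ↥(x.inertia G)
  have tBG := finiteType_fixed R B G
  have tAG := finiteType_fixed R A G
  have tBI := finiteType_fixed R B ↥(x.inertia G)
  have tAI := finiteType_fixed R A ↥(x.inertia G)
  have nB : IsNoetherianRing B := Algebra.FiniteType.isNoetherianRing R B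
  -- the map on inertia invariants
  let φI : FixedPoints.subalgebra R B ↥(x.inertia G) →+* FixedPoints.subalgebra R A ↥(x.inertia G) :=
    RingHom.codRestrict ((algebraMap B A).comp (FixedPoints.subalgebra R B ↥(x.inertia G)).val.toRingHom)
      (FixedPoints.subalgebra R A ↥(x.inertia G)) (fun b g => by
        change (g : G) • algebraMap B A (b : B) = algebraMap B A (b : B)
        rw [← hGeq]
        exact congrArg _ (b.2 g))
  let _ : Algebra (FixedPoints.subalgebra R B ↥(x.inertia G))
      (FixedPoints.subalgebra R A ↥(x.inertia G)) := φI.toAlgebra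
  let _ := algFixedSubgroup R A G (x.inertia G)
  let _ := algFixedSubgroup R B G (x.inertia G)
  let _ : Algebra (FixedPoints.subalgebra R B G) (FixedPoints.subalgebra R A ↥(x.inertia G)) :=
    ((algebraMap (FixedPoints.subalgebra R A G) (FixedPoints.subalgebra R A ↥(x.inertia G))).comp
      (algebraMap (FixedPoints.subalgebra R B G) (FixedPoints.subalgebra R A G))).toAlgebra
  have hval : ∀ b : FixedPoints.subalgebra R B G,
      ((algebraMap (FixedPoints.subalgebra R B G) (FixedPoints.subalgebra R A G) b : 
        FixedPoints.subalgebra R A G) : A) = algebraMap B A (b : B) := by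
    intro b
    have := IsScalarTower.algebraMap_apply (FixedPoints.subalgebra R B G)
      (FixedPoints.subalgebra R A G) A b
    exact this.symm
  have tw1 : IsScalarTower (FixedPoints.subalgebra R B G) (FixedPoints.subalgebra R A G)
      (FixedPoints.subalgebra R A ↥(x.inertia G)) := .of_algebraMap_eq fun _ => rfl
  have tw2 : IsScalarTower (FixedPoints.subalgebra R B G)
      (FixedPoints.subalgebra R B ↥(x.inertia G)) (FixedPoints.subalgebra R A ↥(x.inertia G)) :=
    .of_algebraMap_eq fun b => Subtype.ext (hval b)
  have tw3 : IsScalarTower (FixedPoints.subalgebra R B ↥(x.inertia G))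
      (FixedPoints.subalgebra R A ↥(x.inertia G)) A := .of_algebraMap_eq fun _ => rfl
  have tw4 : IsScalarTower (FixedPoints.subalgebra R A G)
      (FixedPoints.subalgebra R A ↥(x.inertia G)) A := .of_algebraMap_eq fun _ => rfl
  have tw5 : IsScalarTower (FixedPoints.subalgebra R B G)
      (FixedPoints.subalgebra R B ↥(x.inertia G)) B := .of_algebraMap_eq fun _ => rfl
  have tw6 : IsScalarTower R (FixedPoints.subalgebra R B G) (FixedPoints.subalgebra R A G) :=
    .of_algebraMap_eq fun r => Subtype.ext (by
      rw [hval]
      change algebraMap R A r = algebraMap B A (algebraMap R B r)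
      rw [← IsScalarTower.algebraMap_apply])
  have tw7 : IsScalarTower R (FixedPoints.subalgebra R B ↥(x.inertia G))
      (FixedPoints.subalgebra R A ↥(x.inertia G)) :=
    .of_algebraMap_eq fun r => Subtype.ext (by
      change algebraMap R A r = algebraMap B A (algebraMap R B r)
      rw [← IsScalarTower.algebraMap_apply])
  have tw8 : IsScalarTower R (FixedPoints.subalgebra R A G)
      (FixedPoints.subalgebra R A ↥(x.inertia G)) := .of_algebraMap_eq fun _ => rfl
  have tw9 : IsScalarTower R (FixedPoints.subalgebra R B G)
      (FixedPoints.subalgebra R A ↥(x.inertia G)) :=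
    .of_algebraMap_eq fun r => by
      rw [IsScalarTower.algebraMap_apply (FixedPoints.subalgebra R B G)
        (FixedPoints.subalgebra R A G) (FixedPoints.subalgebra R A ↥(x.inertia G)),
        ← IsScalarTower.algebraMap_apply R (FixedPoints.subalgebra R B G)
          (FixedPoints.subalgebra R A G),
        ← IsScalarTower.algebraMap_apply R (FixedPoints.subalgebra R A G)]
  -- finite presentation
  have p1 : Algebra.FinitePresentation (FixedPoints.subalgebra R B ↥(x.inertia G))
      (FixedPoints.subalgebra R A ↥(x.inertia G)) :=
    Algebra.FinitePresentation.of_finiteType.mp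
      (Algebra.FiniteType.of_restrictScalars_finiteType R _ _)
  have p2 : Algebra.FinitePresentation B A :=
    Algebra.FinitePresentation.of_finiteType.mp
      (Algebra.FiniteType.of_restrictScalars_finiteType R _ _)
  have p3 : Algebra.FinitePresentation (FixedPoints.subalgebra R B G)
      (FixedPoints.subalgebra R A G) :=
    Algebra.FinitePresentation.of_finiteType.mp
      (Algebra.FiniteType.of_restrictScalars_finiteType R _ _)
  have p4 : Algebra.FinitePresentation (FixedPoints.subalgebra R B G)
      (FixedPoints.subalgebra R A ↥(x.inertia G)) :=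
    Algebra.FinitePresentation.of_finiteType.mp
      (Algebra.FiniteType.of_restrictScalars_finiteType R _ _)
  have p5 : Algebra.FinitePresentation (FixedPoints.subalgebra R A G)
      (FixedPoints.subalgebra R A ↥(x.inertia G)) :=
    Algebra.FinitePresentation.of_finiteType.mp
      (Algebra.FiniteType.of_restrictScalars_finiteType R _ _)
  -- core: étale at the level of inertia invariants
  have e1 : Algebra.IsEtaleAt (FixedPoints.subalgebra R B ↥(x.inertia G))
      (x.under (FixedPoints.subalgebra R A ↥(x.inertia G))) :=
    isEtaleAt_invariants_of_trivial (B := B) (A := A) (H := ↥(x.inertia G))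
      (C := FixedPoints.subalgebra R B ↥(x.inertia G))
      (E := FixedPoints.subalgebra R A ↥(x.inertia G))
      (fun h b => hGeq (h : G) b)
      (fun g c => c.2 g) (fun b hb => ⟨⟨b, hb⟩, rfl⟩) Subtype.val_injective
      (fun g e => e.2 g) (fun a ha => ⟨⟨a, ha⟩, rfl⟩) Subtype.val_injective
      x (fun h a => h.2 a)
      (fun h b => by
        have hh : (h : G) ∈ (x.comap (algebraMap B A)).inertia G := hin ▸ h.2
        exact hh b)
  -- S0271 for B and for A
  have e2 : Algebra.IsEtaleAt (FixedPoints.subalgebra R B G)
      ((x.under B).under (FixedPoints.subalgebra R B ↥(x.inertia G))) :=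
    isEtaleAt_fixed_inertia R B G (x.inertia G) (x.under B) hin.symm
  have e3 : Algebra.IsEtaleAt (FixedPoints.subalgebra R A G)
      (x.under (FixedPoints.subalgebra R A ↥(x.inertia G))) :=
    isEtaleAt_fixed_inertia R A G (x.inertia G) x rfl
  -- composition
  have hlo : (x.under (FixedPoints.subalgebra R A ↥(x.inertia G))).LiesOver
      ((x.under B).under (FixedPoints.subalgebra R B ↥(x.inertia G))) :=
    ⟨by rw [Ideal.under_under, Ideal.under_under]⟩
  have e4 : Algebra.IsEtaleAt (FixedPoints.subalgebra R B G)
      (x.under (FixedPoints.subalgebra R A ↥(x.inertia G))) :=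
    Algebra.IsEtaleAt.comp (R := FixedPoints.subalgebra R B G)
      ((x.under B).under (FixedPoints.subalgebra R B ↥(x.inertia G)))
      (x.under (FixedPoints.subalgebra R A ↥(x.inertia G)))
  -- descent
  have e5 := isEtaleAt_descent (R := FixedPoints.subalgebra R B G)
    (S := FixedPoints.subalgebra R A G) (T := FixedPoints.subalgebra R A ↥(x.inertia G))
    (x.under (FixedPoints.subalgebra R A ↥(x.inertia G)))
  have hfin : (x.under (FixedPoints.subalgebra R A ↥(x.inertia G))).under
      (FixedPoints.subalgebra R A G) = x.comap (algebraMap (FixedPoints.subalgebra R A G) A) := by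
    rw [Ideal.under_under]
  have key : ∀ (q q' : Ideal (FixedPoints.subalgebra R A G)) [q.IsPrime] [q'.IsPrime], q = q' →
      Algebra.IsEtaleAt (FixedPoints.subalgebra R B G) q →
      Algebra.IsEtaleAt (FixedPoints.subalgebra R B G) q' := by
    intro q q' _ _ h
    subst h
    exact id
  exact key _ _ hfin e5


theorem finitePresentation_fixed (R : Type u) [CommRing R] [IsNoetherianRing R] (A B : Type u)
    [CommRing A] [CommRing B] [Algebra R A] [Algebra R B] [Algebra.FiniteType R A]
    [Algebra.FiniteType R B]
    (G : Type u) [Group G] [Finite G] [MulSemiringAction G A] [MulSemiringAction G B]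
    [SMulCommClass G R A] [SMulCommClass G R B]
    [Algebra B A] [IsScalarTower R B A]
    [Algebra (FixedPoints.subalgebra R B G) (FixedPoints.subalgebra R A G)]
    [IsScalarTower (FixedPoints.subalgebra R B G) (FixedPoints.subalgebra R A G) A] :
    Algebra.FinitePresentation (FixedPoints.subalgebra R B G) (FixedPoints.subalgebra R A G) := by
  have nBG := noeth_fixed R B G
  have tAG := finiteType_fixed R A G
  have hval : ∀ b : FixedPoints.subalgebra R B G,
      ((algebraMap (FixedPoints.subalgebra R B G) (FixedPoints.subalgebra R A G) b :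
        FixedPoints.subalgebra R A G) : A) = algebraMap B A (b : B) := by
    intro b
    have := IsScalarTower.algebraMap_apply (FixedPoints.subalgebra R B G)
      (FixedPoints.subalgebra R A G) A b
    exact this.symm
  have tw6 : IsScalarTower R (FixedPoints.subalgebra R B G) (FixedPoints.subalgebra R A G) :=
    .of_algebraMap_eq fun r => Subtype.ext (by
      rw [hval]
      change algebraMap R A r = algebraMap B A (algebraMap R B r)
      rw [← IsScalarTower.algebraMap_apply])
  exact Algebra.FinitePresentation.of_finiteType.mp
    (Algebra.FiniteType.of_restrictScalars_finiteType R _ _)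

theorem main_global (R : Type u) [CommRing R] [IsNoetherianRing R] (A B : Type u) [CommRing A]
    [CommRing B] [Algebra R A] [Algebra R B] [Algebra.FiniteType R A] [Algebra.FiniteType R B]
    (G : Type u) [Group G] [Finite G] [MulSemiringAction G A] [MulSemiringAction G B]
    [SMulCommClass G R A] [SMulCommClass G R B]
    [Algebra B A] [IsScalarTower R B A]
    (hGeq : ∀ (g : G) (b : B), algebraMap B A (g • b) = g • algebraMap B A b)
    [Algebra (FixedPoints.subalgebra R B G) (FixedPoints.subalgebra R A G)]
    [IsScalarTower (FixedPoints.subalgebra R B G) (FixedPoints.subalgebra R A G) A]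
    (h : ∀ (x : Ideal A) (_ : x.IsMaximal),
      Algebra.IsEtaleAt B x ∧ x.inertia G = (x.comap (algebraMap B A)).inertia G) :
    Algebra.Etale (FixedPoints.subalgebra R B G) (FixedPoints.subalgebra R A G) := by
  have p3 := finitePresentation_fixed R A B G
  have := isInvariant_fixed R A G
  have hint : Algebra.IsIntegral (FixedPoints.subalgebra R A G) A :=
    Algebra.IsInvariant.isIntegral _ A G
  rw [← Algebra.etaleLocus_eq_univ_iff_etale]
  have hopen := Algebra.isOpen_etaleLocus (R := FixedPoints.subalgebra R B G)
    (A := FixedPoints.subalgebra R A G)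
  have hmax : ∀ (m : Ideal (FixedPoints.subalgebra R A G)) (hm : m.IsMaximal),
      (⟨m, hm.isPrime⟩ : PrimeSpectrum _) ∈
        Algebra.etaleLocus (FixedPoints.subalgebra R B G) (FixedPoints.subalgebra R A G) := by
    intro m hm
    have hker : RingHom.ker (algebraMap (FixedPoints.subalgebra R A G) A) ≤ m := by
      intro a ha
      have : a = 0 := Subtype.ext (by simpa using ha)
      rw [this]; exact Ideal.zero_mem _
    obtain ⟨x, hxmax, hxm⟩ := Ideal.exists_ideal_over_maximal_of_isIntegral m hker
    obtain ⟨h1, h2⟩ := h x hxmax
    have := hxmax.isPrime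
    have e := main R A B G hGeq x h1 h2
    have key : ∀ (q q' : Ideal (FixedPoints.subalgebra R A G)) [q.IsPrime] [q'.IsPrime], q = q' →
        Algebra.IsEtaleAt (FixedPoints.subalgebra R B G) q →
        Algebra.IsEtaleAt (FixedPoints.subalgebra R B G) q' := by
      intro q q' _ _ h
      subst h
      exact id
    have := hm.isPrime
    exact key _ _ hxm e
  by_contra hne
  have hcl : IsClosed (Algebra.etaleLocus (FixedPoints.subalgebra R B G)
      (FixedPoints.subalgebra R A G))ᶜ := hopen.isClosed_compl
  obtain ⟨J, hJ⟩ := (PrimeSpectrum.isClosed_iff_zeroLocus_ideal _).mp hcl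
  have hJtop : J ≠ ⊤ := by
    rintro rfl
    apply hne
    have : (Algebra.etaleLocus (FixedPoints.subalgebra R B G)
        (FixedPoints.subalgebra R A G))ᶜ = ∅ := by
      rw [hJ]; simp
    simpa [Set.compl_empty_iff] using this
  obtain ⟨m, hm, hJm⟩ := Ideal.exists_le_maximal J hJtop
  have hmem : (⟨m, hm.isPrime⟩ : PrimeSpectrum _) ∈
      (Algebra.etaleLocus (FixedPoints.subalgebra R B G) (FixedPoints.subalgebra R A G))ᶜ := by
    rw [hJ, PrimeSpectrum.mem_zeroLocus]
    exact hJm
  exact hmem (hmax m hm)

end Main

end Groth.Agent.Lib.Helper84.InvEt
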