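import Mathlib
import Groth.Agent.Lib.Helper84.Kummer1

/-!
# One Kummer step over a regular local ring: regularity (helper84, for S2921)
-/

set_option autoImplicit false

universe u

namespace Groth.Agent.Lib.Helper84.Kummer

open IsLocalRing Polynomial

section Gens

variable {A : Type u} [CommRing A] [IsLocalRing A] [IsNoetherianRing A] {r : ℕ} (f : Fin r → A)
  (hm : ∀ i, f i ∈ maximalIdeal A)
  (hf : LinearIndependent (ResidueField A) (fun i => (maximalIdeal A).toCotangent ⟨f i, hm i⟩))

include hf in
/-- a linearly independent family in the cotangent space extends to a generating family of the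
maximal ideal of the right cardinality -/
theorem exists_compl_gens :
    ∃ (e : ℕ) (y : Fin e → A), (∀ j, y j ∈ maximalIdeal A) ∧
      (r + e = Module.finrank (ResidueField A) (CotangentSpace A)) ∧
      maximalIdeal A = Ideal.span (Set.range f ∪ Set.range y) := by
  classical
  set v : Fin r → CotangentSpace A := fun i => (maximalIdeal A).toCotangent ⟨f i, hm i⟩ with hv
  set U : Submodule (ResidueField A) (CotangentSpace A) :=
    Submodule.span (ResidueField A) (Set.range v) with hU
  have hUr : Module.finrank (ResidueField A) U = r := by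
    rw [hU, finrank_span_eq_card hf, Fintype.card_fin]
  have hsum := Submodule.finrank_quotient_add_finrank U
  set e := Module.finrank (ResidueField A) (CotangentSpace A ⧸ U) with he
  let bW := Module.finBasis (ResidueField A) (CotangentSpace A ⧸ U)
  have hex : ∀ j : Fin e, ∃ y : maximalIdeal A, U.mkQ ((maximalIdeal A).toCotangent y) = bW j := by
    intro j
    obtain ⟨w, hw⟩ := Submodule.mkQ_surjective U (bW j)
    obtain ⟨y, hy⟩ := (maximalIdeal A).toCotangent_surjective w
    exact ⟨y, by rw [hy, hw]⟩
  choose y' hy' using hex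
  refine ⟨e, fun j => (y' j).1, fun j => (y' j).2, by omega, ?_⟩
  set s : Set (maximalIdeal A) := Set.range (fun i => (⟨f i, hm i⟩ : maximalIdeal A)) ∪ Set.range y'
    with hs
  have hspan : Submodule.span (ResidueField A) ((maximalIdeal A).toCotangent '' s) = ⊤ := by
    rw [hs, Set.image_union, Submodule.span_union, ← Set.range_comp, ← Set.range_comp]
    have h1 : Submodule.span (ResidueField A)
        (Set.range ((maximalIdeal A).toCotangent ∘ fun i => (⟨f i, hm i⟩ : maximalIdeal A))) = U := rfl
    rw [h1, ← Submodule.map_mkQ_eq_top, Submodule.map_span, ← Set.range_comp]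
    have h2 : (U.mkQ ∘ ((maximalIdeal A).toCotangent ∘ y')) = bW := by
      funext j
      exact hy' j
    rw [h2]
    exact bW.span_eq
  have hspan' : Submodule.span A s = ⊤ := CotangentSpace.span_image_eq_top_iff.1 hspan
  have h3 := Submodule.map_span (maximalIdeal A).subtype s
  rw [hspan', Submodule.map_top, Submodule.range_subtype] at h3
  refine h3.trans ?_
  rw [hs, Set.image_union, ← Set.range_comp, ← Set.range_comp]
  rfl

end Gens

section Step

variable {A : Type u} [CommRing A] [IsRegularLocalRing A] {r : ℕ} (f : Fin (r + 1) → A)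
  (hm : ∀ i, f i ∈ maximalIdeal A)
  (hf : LinearIndependent (ResidueField A) (fun i => (maximalIdeal A).toCotangent ⟨f i, hm i⟩))
  {n : ℕ} (hn : n ≠ 0)

include hm hf hn in
theorem step :
    ∃ (_ : IsRegularLocalRing (AdjoinRoot (kp n (f 0))))
      (hm' : ∀ j : Fin r, AdjoinRoot.of (kp n (f 0)) (f j.succ) ∈
        maximalIdeal (AdjoinRoot (kp n (f 0)))),
      LinearIndependent (ResidueField (AdjoinRoot (kp n (f 0))))
        (fun j : Fin r => (maximalIdeal (AdjoinRoot (kp n (f 0)))).toCotangent
          ⟨AdjoinRoot.of (kp n (f 0)) (f j.succ), hm' j⟩) := by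
  classical
  have ha := hm 0
  set A₁ := AdjoinRoot (kp n (f 0)) with hA₁
  have hloc : IsLocalRing A₁ := isLocalRing_ext hn ha
  have hfin : Module.Finite A A₁ := finite_ext hn (f 0)
  have hint : Algebra.IsIntegral A A₁ := Algebra.IsIntegral.of_finite A _
  have hnoeth : IsNoetherianRing A₁ := Algebra.FiniteType.isNoetherianRing A A₁
  have hmax : maximalIdeal A₁ = MM n (f 0) := maximalIdeal_ext hn ha
  have hdim : ringKrullDim A₁ = ringKrullDim A :=
    ringKrullDim_eq_of_isIntegral_of_injective (of_injective hn ha)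
  obtain ⟨e, y, hy, hcard, hgen⟩ := exists_compl_gens f hm hf
  have hreg := (IsRegularLocalRing.iff_finrank_cotangentSpace A).1 inferInstance
  -- the generating family of the new maximal ideal
  let G : Unit ⊕ (Fin r ⊕ Fin e) → A₁ :=
    Sum.elim (fun _ => AdjoinRoot.root (kp n (f 0)))
      (Sum.elim (fun j => AdjoinRoot.of (kp n (f 0)) (f j.succ))
        (fun j => AdjoinRoot.of (kp n (f 0)) (y j)))
  have hGmem : ∀ i, G i ∈ maximalIdeal A₁ := by
    rw [hmax]
    rintro (_ | j | j)
    · exact Ideal.mem_sup_right (Ideal.mem_span_singleton_self _)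
    · exact Ideal.mem_sup_left (Ideal.mem_map_of_mem _ (hm j.succ))
    · exact Ideal.mem_sup_left (Ideal.mem_map_of_mem _ (hy j))
  have hGspan : maximalIdeal A₁ = Ideal.span (Set.range G) := by
    apply le_antisymm
    · rw [hmax]
      refine sup_le ?_ ?_
      · rw [hgen, Ideal.map_span, Ideal.span_le]
        rintro _ ⟨x, hx, rfl⟩
        rcases hx with ⟨i, rfl⟩ | ⟨j, rfl⟩
        · refine Fin.cases ?_ (fun j => ?_) i
          · have h0 : AdjoinRoot.of (kp n (f 0)) (f 0) = G (Sum.inl ()) ^ n := (root_pow n (f 0)).symm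
            show AdjoinRoot.of (kp n (f 0)) (f 0) ∈ _
            rw [h0]
            obtain ⟨m, rfl⟩ := Nat.exists_eq_succ_of_ne_zero hn
            rw [pow_succ]
            exact Ideal.mul_mem_left _ _ (Ideal.subset_span ⟨_, rfl⟩)
          · exact Ideal.subset_span ⟨Sum.inr (Sum.inl j), rfl⟩
        · exact Ideal.subset_span ⟨Sum.inr (Sum.inr j), rfl⟩
      · rw [Ideal.span_le]
        intro x hx
        rw [Set.mem_singleton_iff] at hx
        subst hx
        exact Ideal.subset_span ⟨Sum.inl (), rfl⟩
    · rw [Ideal.span_le]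
      rintro _ ⟨i, rfl⟩
      exact hGmem i
  have hcardG : Fintype.card (Unit ⊕ (Fin r ⊕ Fin e)) =
      Module.finrank (ResidueField A) (CotangentSpace A) := by
    simp only [Fintype.card_sum, Fintype.card_unit, Fintype.card_fin]
    omega
  have hsf : ((maximalIdeal A₁).spanFinrank : WithBot ℕ∞) ≤ ringKrullDim A₁ := by
    rw [hdim, ← hreg, ← hcardG]
    have h1 : (maximalIdeal A₁).spanFinrank ≤ (Set.range G).ncard := by
      rw [hGspan]
      exact Submodule.spanFinrank_span_le_ncard_of_finite (Set.finite_range G)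
    have h2 : (Set.range G).ncard ≤ Fintype.card (Unit ⊕ (Fin r ⊕ Fin e)) := by
      rw [← Set.image_univ, ← Finset.coe_univ, ← Finset.coe_image, Set.ncard_coe_finset]
      exact Finset.card_image_le.trans (by simp)
    exact_mod_cast h1.trans h2
  have hreg₁ : IsRegularLocalRing A₁ := IsRegularLocalRing.of_spanFinrank_maximalIdeal_le A₁ hsf
  refine ⟨hreg₁, fun j => hGmem (Sum.inr (Sum.inl j)), ?_⟩
  -- linear independence
  have hfr : Module.finrank (ResidueField A₁) (CotangentSpace A₁) =
      Fintype.card (Unit ⊕ (Fin r ⊕ Fin e)) := by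
    have h1 := (IsRegularLocalRing.iff_finrank_cotangentSpace A₁).1 hreg₁
    rw [hdim, ← hreg] at h1
    rw [hcardG]
    exact_mod_cast h1
  let G' : Unit ⊕ (Fin r ⊕ Fin e) → CotangentSpace A₁ :=
    fun i => (maximalIdeal A₁).toCotangent ⟨G i, hGmem i⟩
  have hG'span : ⊤ ≤ Submodule.span (ResidueField A₁) (Set.range G') := by
    have h1 : Submodule.span A₁ (Set.range fun i => (⟨G i, hGmem i⟩ : maximalIdeal A₁)) = ⊤ := by
      rw [eq_top_iff]
      rintro ⟨x, hx⟩ -
      have hx' : x ∈ Ideal.span (Set.range G) := hGspan ▸ hx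
      have h3 := Submodule.map_span (maximalIdeal A₁).subtype
        (Set.range fun i => (⟨G i, hGmem i⟩ : maximalIdeal A₁))
      rw [← Set.range_comp] at h3
      have h4 : ((maximalIdeal A₁).subtype ∘ fun i => (⟨G i, hGmem i⟩ : maximalIdeal A₁)) = G := rfl
      rw [h4] at h3
      have h5 : x ∈ Submodule.map (maximalIdeal A₁).subtype
          (Submodule.span A₁ (Set.range fun i => (⟨G i, hGmem i⟩ : maximalIdeal A₁))) := by
        rw [h3]; exact hx'
      obtain ⟨z, hz, hzx⟩ := h5
      have : z = ⟨x, hx⟩ := Subtype.ext hzx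
      rwa [this] at hz
    have h2 := CotangentSpace.span_image_eq_top_iff.2 h1
    rw [← Set.range_comp] at h2
    exact h2.ge
  have hli : LinearIndependent (ResidueField A₁) G' :=
    linearIndependent_of_top_le_span_of_card_eq_finrank hG'span hfr.symm
  exact hli.comp (fun j : Fin r => Sum.inr (Sum.inl j)) (fun j j' h => by simpa using h)

end Step

end Groth.Agent.Lib.Helper84.Kummer
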