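import Mathlib

/-!
# `A[X_1..X_r]/(g_1(X_1), …, g_r(X_r))` for monic one-variable polynomials `g_i` (helper84)

* `MQ g` : the quotient ring.
* `towerEquiv` : `MQ g ≃ₐ[A] MQ g'` where `g'` is the tail family over `AdjoinRoot (g 0)`.
* `free_finrank` : `MQ g` is a finite free `A`-module of rank `∏ natDegree (g i)`.
-/

set_option autoImplicit false

universe u

namespace Groth.Agent.Lib.Helper84.MonicTower

open Polynomial

section Defs

variable {A : Type u} [CommRing A]

/-- the ideal `(g_i(X_i))` -/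
noncomputable abbrev mIdeal {r : ℕ} (g : Fin r → A[X]) : Ideal (MvPolynomial (Fin r) A) :=
  Ideal.span (Set.range fun i => Polynomial.aeval (MvPolynomial.X i : MvPolynomial (Fin r) A) (g i))

/-- `A[X_1..X_r]/(g_i(X_i))` -/
abbrev MQ {r : ℕ} (g : Fin r → A[X]) : Type u := MvPolynomial (Fin r) A ⧸ mIdeal g

theorem mk_aeval_eq_zero {r : ℕ} (g : Fin r → A[X]) (i : Fin r) :
    Ideal.Quotient.mk (mIdeal g)
      (Polynomial.aeval (MvPolynomial.X i : MvPolynomial (Fin r) A) (g i)) = 0 :=
  Ideal.Quotient.eq_zero_iff_mem.2 (Ideal.subset_span ⟨i, rfl⟩)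

/-- evaluating `g i` at the class of `X i` gives zero -/
theorem eval₂_mk_X {r : ℕ} (g : Fin r → A[X]) (i : Fin r) :
    Polynomial.eval₂ ((Ideal.Quotient.mk (mIdeal g)).comp MvPolynomial.C)
      (Ideal.Quotient.mk (mIdeal g) (MvPolynomial.X i)) (g i) = 0 := by
  rw [← Polynomial.hom_eval₂]
  exact mk_aeval_eq_zero g i

variable {r : ℕ} (g : Fin (r + 1) → A[X])

/-- the tail family over `AdjoinRoot (g 0)` -/
noncomputable abbrev tailFam : Fin r → (AdjoinRoot (g 0))[X] :=
  fun j => (g j.succ).map (AdjoinRoot.of (g 0))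

/-- forward map on polynomials -/
noncomputable def fwd₁ : MvPolynomial (Fin (r + 1)) A →+* MQ (tailFam g) :=
  MvPolynomial.eval₂Hom
    (((Ideal.Quotient.mk (mIdeal (tailFam g))).comp MvPolynomial.C).comp (AdjoinRoot.of (g 0)))
    (Fin.cons (α := fun _ => MQ (tailFam g))
      (Ideal.Quotient.mk _ (MvPolynomial.C (AdjoinRoot.root (g 0))))
      (fun j => Ideal.Quotient.mk _ (MvPolynomial.X j)))

theorem fwd₁_C (a : A) : fwd₁ g (MvPolynomial.C a) =
    Ideal.Quotient.mk _ (MvPolynomial.C (AdjoinRoot.of (g 0) a)) := by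
  simp [fwd₁]

theorem fwd₁_X_zero : fwd₁ g (MvPolynomial.X 0) =
    Ideal.Quotient.mk _ (MvPolynomial.C (AdjoinRoot.root (g 0))) := by
  simp [fwd₁]

theorem fwd₁_X_succ (j : Fin r) : fwd₁ g (MvPolynomial.X j.succ) =
    Ideal.Quotient.mk _ (MvPolynomial.X j) := by
  simp [fwd₁]

theorem fwd₁_comp_C : (fwd₁ g).comp MvPolynomial.C =
    ((Ideal.Quotient.mk (mIdeal (tailFam g))).comp MvPolynomial.C).comp (AdjoinRoot.of (g 0)) := by
  ext a
  simp [fwd₁_C]

theorem fwd₁_mem (x : MvPolynomial (Fin (r + 1)) A) (hx : x ∈ mIdeal g) : fwd₁ g x = 0 := by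
  have : mIdeal g ≤ RingHom.ker (fwd₁ g) := by
    rw [Ideal.span_le]
    rintro _ ⟨i, rfl⟩
    rw [SetLike.mem_coe, RingHom.mem_ker]
    beta_reduce
    rw [Polynomial.aeval_def, Polynomial.hom_eval₂, MvPolynomial.algebraMap_eq, fwd₁_comp_C]
    refine Fin.cases ?_ (fun j => ?_) i
    · rw [fwd₁_X_zero]
      have : Ideal.Quotient.mk (mIdeal (tailFam g)) (MvPolynomial.C (AdjoinRoot.root (g 0))) =
          ((Ideal.Quotient.mk (mIdeal (tailFam g))).comp MvPolynomial.C) (AdjoinRoot.root (g 0)) :=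
        rfl
      rw [this, ← Polynomial.hom_eval₂, AdjoinRoot.eval₂_root, map_zero]
    · rw [fwd₁_X_succ, ← Polynomial.eval₂_map]
      exact eval₂_mk_X (tailFam g) j
  exact this hx

/-- forward map -/
noncomputable def fwd : MQ g →+* MQ (tailFam g) :=
  Ideal.Quotient.lift (mIdeal g) (fwd₁ g) (fwd₁_mem g)

/-- coefficient map for the backward direction -/
noncomputable def coeffHom : AdjoinRoot (g 0) →+* MQ g :=
  AdjoinRoot.lift ((Ideal.Quotient.mk (mIdeal g)).comp MvPolynomial.C)
    (Ideal.Quotient.mk _ (MvPolynomial.X 0)) (eval₂_mk_X g 0)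

theorem coeffHom_of (a : A) : coeffHom g (AdjoinRoot.of (g 0) a) =
    Ideal.Quotient.mk _ (MvPolynomial.C a) := by
  simp [coeffHom]

theorem coeffHom_root : coeffHom g (AdjoinRoot.root (g 0)) =
    Ideal.Quotient.mk _ (MvPolynomial.X 0) := by
  simp [coeffHom]

theorem coeffHom_comp_of : (coeffHom g).comp (AdjoinRoot.of (g 0)) =
    (Ideal.Quotient.mk (mIdeal g)).comp MvPolynomial.C := by
  ext a
  simp [coeffHom_of]

/-- backward map on polynomials -/
noncomputable def bwd₁ : MvPolynomial (Fin r) (AdjoinRoot (g 0)) →+* MQ g :=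
  MvPolynomial.eval₂Hom (coeffHom g) (fun j => Ideal.Quotient.mk _ (MvPolynomial.X j.succ))

theorem bwd₁_C (a : AdjoinRoot (g 0)) : bwd₁ g (MvPolynomial.C a) = coeffHom g a := by
  simp [bwd₁]

theorem bwd₁_X (j : Fin r) : bwd₁ g (MvPolynomial.X j) =
    Ideal.Quotient.mk _ (MvPolynomial.X j.succ) := by
  simp [bwd₁]

theorem bwd₁_mem (x : MvPolynomial (Fin r) (AdjoinRoot (g 0))) (hx : x ∈ mIdeal (tailFam g)) :
    bwd₁ g x = 0 := by
  have : mIdeal (tailFam g) ≤ RingHom.ker (bwd₁ g) := by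
    rw [Ideal.span_le]
    rintro _ ⟨j, rfl⟩
    rw [SetLike.mem_coe, RingHom.mem_ker]
    beta_reduce
    rw [Polynomial.aeval_def, Polynomial.hom_eval₂, MvPolynomial.algebraMap_eq, bwd₁_X]
    have h1 : (bwd₁ g).comp MvPolynomial.C = coeffHom g := by
      apply RingHom.ext
      intro a
      rw [RingHom.comp_apply, bwd₁_C]
    rw [h1, Polynomial.eval₂_map, coeffHom_comp_of]
    exact eval₂_mk_X g j.succ
  exact this hx

/-- backward map -/
noncomputable def bwd : MQ (tailFam g) →+* MQ g :=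
  Ideal.Quotient.lift (mIdeal (tailFam g)) (bwd₁ g) (bwd₁_mem g)

/-- the tower isomorphism (as rings) -/
noncomputable def towerRingEquiv : MQ g ≃+* MQ (tailFam g) :=
  RingEquiv.ofRingHom (fwd g) (bwd g)
    (by
      apply Ideal.Quotient.ringHom_ext
      apply MvPolynomial.ringHom_ext
      · intro a'
        simp only [RingHom.comp_apply, RingHom.id_apply, fwd, bwd, Ideal.Quotient.lift_mk, bwd₁_C]
        have : (Ideal.Quotient.lift (mIdeal g) (fwd₁ g) (fwd₁_mem g)).comp (coeffHom g) =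
            (Ideal.Quotient.mk (mIdeal (tailFam g))).comp MvPolynomial.C := by
          apply AdjoinRoot.ringHom_ext
          · ext a
            simp only [RingHom.comp_apply]
            rw [coeffHom_of, Ideal.Quotient.lift_mk, fwd₁_C]
          · simp only [RingHom.comp_apply]
            rw [coeffHom_root, Ideal.Quotient.lift_mk, fwd₁_X_zero]
        exact congrArg (fun φ : AdjoinRoot (g 0) →+* MQ (tailFam g) => φ a') this
      · intro j
        simp only [RingHom.comp_apply, RingHom.id_apply, fwd, bwd, Ideal.Quotient.lift_mk, bwd₁_X]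
        rw [fwd₁_X_succ])
    (by
      apply Ideal.Quotient.ringHom_ext
      apply MvPolynomial.ringHom_ext
      · intro a
        simp only [RingHom.comp_apply, RingHom.id_apply, fwd, bwd, Ideal.Quotient.lift_mk, fwd₁_C,
          bwd₁_C, coeffHom_of]
      · intro i
        simp only [RingHom.comp_apply, RingHom.id_apply, fwd, bwd, Ideal.Quotient.lift_mk]
        refine Fin.cases ?_ (fun j => ?_) i
        · rw [fwd₁_X_zero, Ideal.Quotient.lift_mk, bwd₁_C, coeffHom_root]
        · rw [fwd₁_X_succ, Ideal.Quotient.lift_mk, bwd₁_X])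

theorem towerRingEquiv_algebraMap (a : A) :
    towerRingEquiv g (algebraMap A (MQ g) a) = algebraMap A (MQ (tailFam g)) a := by
  show fwd g (Ideal.Quotient.mk _ (MvPolynomial.C a)) = _
  rw [fwd, Ideal.Quotient.lift_mk, fwd₁_C]
  rfl

/-- the tower isomorphism as an `A`-algebra isomorphism -/
noncomputable def towerEquiv : MQ g ≃ₐ[A] MQ (tailFam g) :=
  AlgEquiv.ofRingEquiv (f := towerRingEquiv g) (towerRingEquiv_algebraMap g)

end Defs

section Free

/-- the base case: no variables -/
noncomputable def zeroEquiv {A : Type u} [CommRing A] (g : Fin 0 → A[X]) : MQ g ≃ₐ[A] A :=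
  (Ideal.quotientEquivAlgOfEq A (show mIdeal g = ⊥ by
    rw [mIdeal, Set.range_eq_empty, Ideal.span_empty])).trans
    ((AlgEquiv.quotientBot A _).trans (MvPolynomial.isEmptyAlgEquiv A (Fin 0)))

/-- `A[X_1..X_r]/(g_i(X_i))` is finite free of rank `∏ deg g_i` -/
theorem free_finrank : ∀ (r : ℕ) (A : Type u) [CommRing A] [Nontrivial A] (g : Fin r → A[X]),
    (∀ i, (g i).Monic) → (∀ i, 0 < (g i).natDegree) →
    Module.Free A (MQ g) ∧ Module.Finite A (MQ g) ∧
      Module.finrank A (MQ g) = ∏ i, (g i).natDegree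
  | 0, A, _, _, g, _, _ => by
    refine ⟨Module.Free.of_equiv (zeroEquiv g).symm.toLinearEquiv,
      Module.Finite.equiv (zeroEquiv g).symm.toLinearEquiv, ?_⟩
    rw [LinearEquiv.finrank_eq (zeroEquiv g).toLinearEquiv, Module.finrank_self]
    simp
  | r + 1, A, _, _, g, hg, hd => by
    have hfree' : Module.Free A (AdjoinRoot (g 0)) :=
      Module.Free.of_basis (AdjoinRoot.powerBasis' (hg 0)).basis
    have hfin' : Module.Finite A (AdjoinRoot (g 0)) :=
      Module.Finite.of_basis (AdjoinRoot.powerBasis' (hg 0)).basis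
    have hrank' : Module.finrank A (AdjoinRoot (g 0)) = (g 0).natDegree := by
      rw [(AdjoinRoot.powerBasis' (hg 0)).finrank]
      rfl
    have hnt : Nontrivial (AdjoinRoot (g 0)) := by
      have hpos : 0 < Module.finrank A (AdjoinRoot (g 0)) := hrank' ▸ hd 0
      exact Module.nontrivial_of_finrank_pos (R := A) hpos
    have hdeg : ∀ j : Fin r, (tailFam g j).natDegree = (g j.succ).natDegree := fun j =>
      (hg j.succ).natDegree_map _
    obtain ⟨h1, h2, h3⟩ := free_finrank r (AdjoinRoot (g 0)) (tailFam g)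
      (fun j => (hg j.succ).map _) (fun j => by rw [hdeg]; exact hd j.succ)
    have h4 : Module.Free A (MQ (tailFam g)) := Module.Free.trans (S := AdjoinRoot (g 0))
    have h5 : Module.Finite A (MQ (tailFam g)) := Module.Finite.trans (AdjoinRoot (g 0)) _
    refine ⟨Module.Free.of_equiv (towerEquiv g).symm.toLinearEquiv,
      Module.Finite.equiv (towerEquiv g).symm.toLinearEquiv, ?_⟩
    rw [LinearEquiv.finrank_eq (towerEquiv g).toLinearEquiv,
      ← Module.finrank_mul_finrank A (AdjoinRoot (g 0)), hrank', h3, Fin.prod_univ_succ]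
    congr 1
    exact Finset.prod_congr rfl fun j _ => hdeg j

end Free

end Groth.Agent.Lib.Helper84.MonicTower
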