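import Mathlib
import Groth.Agent.Lib.Helper84.Kummer2
import Groth.Agent.Lib.Helper84.MonicTower

/-!
# Kummer algebras `A[T_1..T_r]/(T_i^{n_i} - f_i)`: regularity and étaleness by the tower
(helper84, for S2921)
-/

set_option autoImplicit false

universe u

namespace Groth.Agent.Lib.Helper84.Kummer

open IsLocalRing Polynomial
open Groth.Agent.Lib.Helper84.MonicTower

section Fam

variable {A : Type u} [CommRing A]

/-- the family `X^{n i} - C (f i)` -/
noncomputable abbrev gK {r : ℕ} (f : Fin r → A) (n : Fin r → ℕ) : Fin r → A[X] :=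
  fun i => kp (n i) (f i)

theorem tailFam_gK {r : ℕ} (f : Fin (r + 1) → A) (n : Fin (r + 1) → ℕ) :
    tailFam (gK f n) =
      gK (fun j => AdjoinRoot.of (kp (n 0) (f 0)) (f j.succ)) (fun j => n j.succ) := by
  funext j
  simp only [tailFam, gK, kp, Polynomial.map_sub, Polynomial.map_pow, Polynomial.map_X,
    Polynomial.map_C]

theorem mIdeal_gK {r : ℕ} (f : Fin r → A) (n : Fin r → ℕ) :
    mIdeal (gK f n) = Ideal.span (Set.range fun i =>
      (MvPolynomial.X i : MvPolynomial (Fin r) A) ^ n i - MvPolynomial.C (f i)) := by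
  have : (fun i => Polynomial.aeval (MvPolynomial.X i : MvPolynomial (Fin r) A) (gK f n i)) =
      fun i => (MvPolynomial.X i : MvPolynomial (Fin r) A) ^ n i - MvPolynomial.C (f i) := by
    funext i
    simp only [gK, kp, map_sub, map_pow, Polynomial.aeval_X, Polynomial.aeval_C,
      MvPolynomial.algebraMap_eq]
  rw [mIdeal, this]

end Fam

section Regular

theorem regular_MQ : ∀ (r : ℕ) (A : Type u) [CommRing A] [IsRegularLocalRing A] (f : Fin r → A)
    (hm : ∀ i, f i ∈ maximalIdeal A)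
    (_ : LinearIndependent (ResidueField A)
      (fun i => (maximalIdeal A).toCotangent ⟨f i, hm i⟩))
    (n : Fin r → ℕ) (_ : ∀ i, n i ≠ 0), IsRegularLocalRing (MQ (gK f n))
  | 0, A, _, _, f, _, _, n, _ =>
    IsRegularLocalRing.of_ringEquiv (zeroEquiv (gK f n)).symm.toRingEquiv
  | r + 1, A, _, _, f, hm, hf, n, hn => by
    obtain ⟨h1, hm', hf'⟩ := step f hm hf (hn 0)
    have ih := regular_MQ r (AdjoinRoot (kp (n 0) (f 0)))
      (fun j => AdjoinRoot.of (kp (n 0) (f 0)) (f j.succ)) hm' hf' (fun j => n j.succ)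
      (fun j => hn j.succ)
    rw [← tailFam_gK] at ih
    exact IsRegularLocalRing.of_ringEquiv (towerEquiv (gK f n)).symm.toRingEquiv

/-- the Kummer algebra in the form of the statement -/
theorem regular_kummer (A : Type u) [CommRing A] [IsRegularLocalRing A] (r : ℕ) (f : Fin r → A)
    (hm : ∀ i, f i ∈ maximalIdeal A)
    (hf : LinearIndependent (ResidueField A)
      (fun i => (maximalIdeal A).toCotangent ⟨f i, hm i⟩))
    (n : Fin r → ℕ) (hn : ∀ i, 1 ≤ n i) :
    IsRegularLocalRing (MvPolynomial (Fin r) A ⧸ Ideal.span (Set.range fun i =>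
      (MvPolynomial.X i : MvPolynomial (Fin r) A) ^ n i - MvPolynomial.C (f i))) := by
  have h := regular_MQ r A f hm hf n (fun i => Nat.one_le_iff_ne_zero.1 (hn i))
  exact IsRegularLocalRing.of_ringEquiv (Ideal.quotEquivOfEq (mIdeal_gK f n))

end Regular

section Etale

variable {B : Type u} [CommRing B]

/-- The standard étale pair `(X^n - b, 1)` for `n` and `b` invertible. -/
noncomputable def kummerPair (n : ℕ) (hn0 : n ≠ 0) (b : B) (hb : IsUnit b) (hn : IsUnit (n : B)) :
    StandardEtalePair B where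
  f := kp n b
  monic_f := kp_monic hn0 b
  g := 1
  cond := by
    obtain ⟨n', hn'⟩ := hn.exists_left_inv
    obtain ⟨b', hb'⟩ := hb.exists_left_inv
    refine ⟨C (n' * b') * X, - C b', 0, ?_⟩
    obtain ⟨m, rfl⟩ := Nat.exists_eq_succ_of_ne_zero hn0
    have h1 : (C (n' * b') : B[X]) * C ((m + 1 : ℕ) : B) = C b' := by
      rw [← C_mul, mul_right_comm, hn', one_mul]
    have h2 : (C b' : B[X]) * C b = 1 := by
      rw [← C_mul, hb', C_1]
    simp only [kp, derivative_sub, derivative_X_pow, derivative_C, sub_zero, Nat.succ_sub_one,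
      pow_zero, Nat.succ_eq_add_one]
    calc C ((m + 1 : ℕ) : B) * X ^ m * (C (n' * b') * X) + (X ^ (m + 1) - C b) * -C b'
        = (C (n' * b') * C ((m + 1 : ℕ) : B)) * X ^ (m + 1) - C b' * X ^ (m + 1)
          + C b' * C b := by ring
      _ = 1 := by rw [h1, h2]; ring

theorem etale_step (n : ℕ) (hn0 : n ≠ 0) (b : B) (hb : IsUnit b) (hn : IsUnit (n : B)) :
    Algebra.Etale B (AdjoinRoot (kp n b)) := by
  let P := kummerPair n hn0 b hb hn
  let e₁ : P.Ring ≃ₐ[B] Localization.Away (AdjoinRoot.mk P.f P.g) := P.equivAwayAdjoinRoot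
  have hunits : ∀ x ∈ Submonoid.powers (AdjoinRoot.mk P.f P.g), IsUnit x := by
    rintro x ⟨k, rfl⟩
    have : AdjoinRoot.mk P.f P.g = 1 := map_one _
    show IsUnit ((AdjoinRoot.mk P.f P.g) ^ k)
    rw [this, one_pow]
    exact isUnit_one
  let e₂ : AdjoinRoot P.f ≃ₐ[AdjoinRoot P.f] Localization.Away (AdjoinRoot.mk P.f P.g) :=
    IsLocalization.atUnits (AdjoinRoot P.f) (Submonoid.powers (AdjoinRoot.mk P.f P.g)) hunits
  let e₃ : Localization.Away (AdjoinRoot.mk P.f P.g) ≃ₐ[B] AdjoinRoot P.f :=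
    (e₂.restrictScalars B).symm
  exact Algebra.Etale.of_equiv (e₁.trans e₃)

theorem etale_MQ : ∀ (r : ℕ) (B : Type u) [CommRing B] (f : Fin r → B) (_ : ∀ i, IsUnit (f i))
    (n : Fin r → ℕ) (_ : ∀ i, n i ≠ 0) (_ : ∀ i, IsUnit ((n i : ℕ) : B)),
    Algebra.Etale B (MQ (gK f n))
  | 0, B, _, f, _, n, _, _ => Algebra.Etale.of_equiv (zeroEquiv (gK f n)).symm
  | r + 1, B, _, f, hfu, n, hn, hnu => by
    have h1 : Algebra.Etale B (AdjoinRoot (kp (n 0) (f 0))) :=
      etale_step (n 0) (hn 0) (f 0) (hfu 0) (hnu 0)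
    have ih := etale_MQ r (AdjoinRoot (kp (n 0) (f 0)))
      (fun j => AdjoinRoot.of (kp (n 0) (f 0)) (f j.succ)) (fun j => (hfu j.succ).map _)
      (fun j => n j.succ) (fun j => hn j.succ)
      (fun j => by
        have := (hnu j.succ).map (AdjoinRoot.of (kp (n 0) (f 0)))
        rwa [map_natCast] at this)
    rw [← tailFam_gK] at ih
    have := ih
    have h2 : Algebra.Etale B (MQ (tailFam (gK f n))) :=
      Algebra.Etale.comp B (AdjoinRoot (kp (n 0) (f 0))) (MQ (tailFam (gK f n)))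
    exact Algebra.Etale.of_equiv (towerEquiv (gK f n)).symm

end Etale

end Groth.Agent.Lib.Helper84.Kummer
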