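import Mathlib
import Groth.Agent.Lib.Helper84.Kummer3

/-!
# Kummer algebras and localization of the base (helper84, for S2921)

`(A[T]/(T_i^{n_i} - f_i))[1/F] ≅ A[1/F][T]/(T_i^{n_i} - f_i)` as `A[1/F]`-algebras.
-/

set_option autoImplicit false

universe u

namespace Groth.Agent.Lib.Helper84.Kummer

open Polynomial
open Groth.Agent.Lib.Helper84.MonicTower

section Loc

variable {A : Type u} [CommRing A] {r : ℕ} (f : Fin r → A) (n : Fin r → ℕ) (F : A)

/-- the Kummer ideal -/
noncomputable abbrev KI : Ideal (MvPolynomial (Fin r) A) :=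
  Ideal.span (Set.range fun i =>
    (MvPolynomial.X i : MvPolynomial (Fin r) A) ^ n i - MvPolynomial.C (f i))

/-- the Kummer algebra -/
abbrev KA : Type u := MvPolynomial (Fin r) A ⧸ KI f n

theorem mk_rel (i : Fin r) :
    Ideal.Quotient.mk (KI f n) ((MvPolynomial.X i : MvPolynomial (Fin r) A) ^ n i -
      MvPolynomial.C (f i)) = 0 :=
  Ideal.Quotient.eq_zero_iff_mem.2 (Ideal.subset_span ⟨i, rfl⟩)

/-- the family over the localization -/
noncomputable abbrev fB : Fin r → Localization.Away F :=
  fun i => algebraMap A (Localization.Away F) (f i)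

/-- the localized Kummer algebra -/
abbrev KF : Type u := Localization.Away (algebraMap A (KA f n) F)

/-- the structure map `A[1/F] → K'[1/F]` -/
noncomputable abbrev psi : Localization.Away F →+* KF f n F :=
  Localization.awayMap (algebraMap A (KA f n)) F

theorem psi_algebraMap (a : A) :
    psi f n F (algebraMap A (Localization.Away F) a) =
      algebraMap (KA f n) (KF f n F) (algebraMap A (KA f n) a) := by
  simp only [psi, Localization.awayMap, IsLocalization.Away.map, IsLocalization.map_eq]

/-- `K' → E` -/
noncomputable def alpha₀ : KA f n →+* KA (fB f F) n :=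
  Ideal.Quotient.lift (KI f n)
    ((Ideal.Quotient.mk (KI (fB f F) n)).comp
      (MvPolynomial.map (algebraMap A (Localization.Away F))))
    (by
      intro x hx
      have : KI f n ≤ RingHom.ker ((Ideal.Quotient.mk (KI (fB f F) n)).comp
          (MvPolynomial.map (algebraMap A (Localization.Away F)))) := by
        rw [Ideal.span_le]
        rintro _ ⟨i, rfl⟩
        show _ = _
        rw [RingHom.comp_apply, map_sub, map_pow, MvPolynomial.map_X, MvPolynomial.map_C]
        exact mk_rel (fB f F) n i
      exact this hx)

theorem alpha₀_mk (p : MvPolynomial (Fin r) A) :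
    alpha₀ f n F (Ideal.Quotient.mk _ p) =
      Ideal.Quotient.mk _ (MvPolynomial.map (algebraMap A (Localization.Away F)) p) := by
  rw [alpha₀, Ideal.Quotient.lift_mk]; rfl

theorem alpha₀_F_isUnit : IsUnit (alpha₀ f n F (algebraMap A (KA f n) F)) := by
  have h : alpha₀ f n F (algebraMap A (KA f n) F) =
      algebraMap (Localization.Away F) (KA (fB f F) n) (algebraMap A _ F) := by
    show alpha₀ f n F (Ideal.Quotient.mk _ (MvPolynomial.C F)) = _
    rw [alpha₀_mk, MvPolynomial.map_C]
    rfl
  rw [h]
  exact (IsLocalization.Away.algebraMap_isUnit F).map _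

/-- `K'[1/F] → E` -/
noncomputable def alpha : KF f n F →+* KA (fB f F) n :=
  IsLocalization.Away.lift (algebraMap A (KA f n) F) (alpha₀_F_isUnit f n F)

theorem alpha_algebraMap (x : KA f n) :
    alpha f n F (algebraMap (KA f n) (KF f n F) x) = alpha₀ f n F x := by
  rw [alpha, IsLocalization.Away.lift_eq]

/-- `E → K'[1/F]` on polynomials -/
noncomputable def beta₁ : MvPolynomial (Fin r) (Localization.Away F) →+* KF f n F :=
  MvPolynomial.eval₂Hom (psi f n F)
    (fun i => algebraMap (KA f n) (KF f n F) (Ideal.Quotient.mk _ (MvPolynomial.X i)))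

theorem beta₁_mem (x : MvPolynomial (Fin r) (Localization.Away F)) (hx : x ∈ KI (fB f F) n) :
    beta₁ f n F x = 0 := by
  have : KI (fB f F) n ≤ RingHom.ker (beta₁ f n F) := by
    rw [Ideal.span_le]
    rintro _ ⟨i, rfl⟩
    show _ = _
    rw [map_sub, map_pow, beta₁, MvPolynomial.coe_eval₂Hom, MvPolynomial.eval₂_X,
      MvPolynomial.eval₂_C, psi_algebraMap, ← map_pow, ← map_pow, ← map_sub]
    have h0 : (Ideal.Quotient.mk (KI f n)) (MvPolynomial.X i ^ n i) -
        (algebraMap A (KA f n)) (f i) = 0 := by
      rw [← mk_rel f n i, map_sub]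
      rfl
    rw [h0, map_zero]
  exact this hx

/-- `E → K'[1/F]` -/
noncomputable def beta : KA (fB f F) n →+* KF f n F :=
  Ideal.Quotient.lift _ (beta₁ f n F) (beta₁_mem f n F)

theorem beta_mk_C (b : Localization.Away F) :
    beta f n F (Ideal.Quotient.mk _ (MvPolynomial.C b)) = psi f n F b := by
  rw [beta, Ideal.Quotient.lift_mk, beta₁, MvPolynomial.coe_eval₂Hom, MvPolynomial.eval₂_C]

theorem beta_mk_X (i : Fin r) :
    beta f n F (Ideal.Quotient.mk _ (MvPolynomial.X i)) =
      algebraMap (KA f n) (KF f n F) (Ideal.Quotient.mk _ (MvPolynomial.X i)) := by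
  rw [beta, Ideal.Quotient.lift_mk, beta₁, MvPolynomial.coe_eval₂Hom, MvPolynomial.eval₂_X]

theorem alpha_psi (b : Localization.Away F) :
    alpha f n F (psi f n F b) = Ideal.Quotient.mk _ (MvPolynomial.C b) := by
  have : (alpha f n F).comp (psi f n F) =
      (Ideal.Quotient.mk (KI (fB f F) n)).comp MvPolynomial.C := by
    apply IsLocalization.ringHom_ext (Submonoid.powers F)
    ext a
    simp only [RingHom.comp_apply]
    rw [psi_algebraMap, alpha_algebraMap]
    show alpha₀ f n F (Ideal.Quotient.mk _ (MvPolynomial.C a)) = _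
    rw [alpha₀_mk, MvPolynomial.map_C]
  exact congrArg (fun φ : Localization.Away F →+* KA (fB f F) n => φ b) this

/-- the comparison isomorphism -/
noncomputable def locEquiv : KA (fB f F) n ≃+* KF f n F :=
  RingEquiv.ofRingHom (beta f n F) (alpha f n F)
    (by
      apply IsLocalization.ringHom_ext (Submonoid.powers (algebraMap A (KA f n) F))
      apply Ideal.Quotient.ringHom_ext
      apply MvPolynomial.ringHom_ext
      · intro a
        simp only [RingHom.comp_apply, RingHom.id_apply]
        rw [alpha_algebraMap, alpha₀_mk, MvPolynomial.map_C, beta_mk_C, psi_algebraMap]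
        rfl
      · intro i
        simp only [RingHom.comp_apply, RingHom.id_apply]
        rw [alpha_algebraMap, alpha₀_mk, MvPolynomial.map_X, beta_mk_X])
    (by
      apply Ideal.Quotient.ringHom_ext
      apply MvPolynomial.ringHom_ext
      · intro b
        simp only [RingHom.comp_apply, RingHom.id_apply]
        rw [beta_mk_C, alpha_psi]
      · intro i
        simp only [RingHom.comp_apply, RingHom.id_apply]
        rw [beta_mk_X, alpha_algebraMap, alpha₀_mk, MvPolynomial.map_X])

theorem etale_away
    (hE : Algebra.Etale (Localization.Away F) (KA (fB f F) n)) :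
    letI := (Localization.awayMap (algebraMap A (KA f n)) F).toAlgebra
    Algebra.Etale (Localization.Away F) (Localization.Away (algebraMap A (KA f n) F)) := by
  letI := (Localization.awayMap (algebraMap A (KA f n)) F).toAlgebra
  let e : KA (fB f F) n ≃ₐ[Localization.Away F] KF f n F :=
    AlgEquiv.ofRingEquiv (f := locEquiv f n F) (by
      intro b
      show beta f n F (Ideal.Quotient.mk _ (MvPolynomial.C b)) = psi f n F b
      exact beta_mk_C f n F b)
  exact Algebra.Etale.of_equiv e

end Loc

end Groth.Agent.Lib.Helper84.Kummer
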