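import Mathlib
import Groth.Agent.Lib.Helper84.Kummer4
import Groth.Agent.Lib.Helper84.Kummer3
import Groth.Agent.S0558

/-!
# Kummer algebras over a regular local ring: the classes `T_i` are prime elements (helper84)
-/

set_option autoImplicit false

universe u

namespace Groth.Agent.Lib.Helper84.Kummer

open IsLocalRing Polynomial
open Groth.Agent.Lib.Helper84.MonicTower

section Generic

/-- In a regular local ring, the members of a generating family of the maximal ideal of the minimal
possible cardinality do not lie in the square of the maximal ideal. -/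
theorem notMem_sq_of_span_eq {R : Type u} [CommRing R] [IsRegularLocalRing R] {ι : Type*}
    [Fintype ι] (G : ι → R) (hGmem : ∀ i, G i ∈ maximalIdeal R)
    (hGspan : maximalIdeal R = Ideal.span (Set.range G))
    (hcard : Module.finrank (ResidueField R) (CotangentSpace R) = Fintype.card ι) (i : ι) :
    G i ∉ maximalIdeal R ^ 2 := by
  classical
  let G' : ι → CotangentSpace R := fun i => (maximalIdeal R).toCotangent ⟨G i, hGmem i⟩
  have hG'span : ⊤ ≤ Submodule.span (ResidueField R) (Set.range G') := by
    have h1 : Submodule.span R (Set.range fun i => (⟨G i, hGmem i⟩ : maximalIdeal R)) = ⊤ := by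
      rw [eq_top_iff]
      rintro ⟨x, hx⟩ -
      have hx' : x ∈ Ideal.span (Set.range G) := hGspan ▸ hx
      have h3 := Submodule.map_span (maximalIdeal R).subtype
        (Set.range fun i => (⟨G i, hGmem i⟩ : maximalIdeal R))
      rw [← Set.range_comp] at h3
      have h4 : ((maximalIdeal R).subtype ∘ fun i => (⟨G i, hGmem i⟩ : maximalIdeal R)) = G := rfl
      rw [h4] at h3
      have h5 : x ∈ Submodule.map (maximalIdeal R).subtype
          (Submodule.span R (Set.range fun i => (⟨G i, hGmem i⟩ : maximalIdeal R))) := by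
        rw [h3]; exact hx'
      obtain ⟨z, hz, hzx⟩ := h5
      have : z = ⟨x, hx⟩ := Subtype.ext hzx
      rwa [this] at hz
    have h2 := CotangentSpace.span_image_eq_top_iff.2 h1
    rw [← Set.range_comp] at h2
    exact h2.ge
  have hli : LinearIndependent (ResidueField R) G' :=
    linearIndependent_of_top_le_span_of_card_eq_finrank hG'span hcard.symm
  intro hmem
  have : G' i = 0 := by
    change (maximalIdeal R).toCotangent ⟨G i, hGmem i⟩ = 0
    rw [Ideal.toCotangent_eq_zero]
    exact hmem
  exact hli.ne_zero i this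

theorem sub_C_constantCoeff_mem {R : Type*} [CommRing R] {σ : Type*} (p : MvPolynomial σ R) :
    p - MvPolynomial.C (MvPolynomial.constantCoeff p) ∈
      Ideal.span (Set.range (MvPolynomial.X : σ → MvPolynomial σ R)) := by
  induction p using MvPolynomial.induction_on with
  | C a => simp
  | add p q hp hq =>
    rw [map_add, map_add]
    have := Ideal.add_mem _ hp hq
    convert this using 1; ring
  | mul_X p i _ =>
    rw [map_mul, MvPolynomial.constantCoeff_X, mul_zero, map_zero, sub_zero]
    exact Ideal.mul_mem_left _ _ (Ideal.subset_span ⟨i, rfl⟩)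

end Generic

section K5

variable {A : Type u} [CommRing A] {r : ℕ} (f : Fin r → A) (n : Fin r → ℕ)

/-- the class of `T_i` -/
noncomputable def T (i : Fin r) : KA f n := Ideal.Quotient.mk _ (MvPolynomial.X i)

theorem T_pow (i : Fin r) : T f n i ^ n i = algebraMap A (KA f n) (f i) := by
  have h := mk_rel f n i
  rw [map_sub, map_pow, sub_eq_zero] at h
  exact h

variable [Nontrivial A] (hn : ∀ i, 1 ≤ n i)

include hn

theorem free_KA : Module.Free A (KA f n) ∧ Module.Finite A (KA f n) := by
  obtain ⟨h1, h2, -⟩ := free_finrank r A (gK f n) (fun i => kp_monic (by have := hn i; omega) (f i))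
    (fun i => by
      rw [show gK f n i = kp (n i) (f i) from rfl, kp, natDegree_X_pow_sub_C]
      exact hn i)
  let e : MQ (gK f n) ≃ₐ[A] KA f n := Ideal.quotientEquivAlgOfEq A (mIdeal_gK f n)
  exact ⟨Module.Free.of_equiv e.toLinearEquiv, Module.Finite.equiv e.toLinearEquiv⟩

end K5

section K6

variable {A : Type u} [CommRing A] [IsRegularLocalRing A] {r : ℕ} (f : Fin r → A)
  (hm : ∀ i, f i ∈ maximalIdeal A)
  (hf : LinearIndependent (ResidueField A) (fun i => (maximalIdeal A).toCotangent ⟨f i, hm i⟩))
  (n : Fin r → ℕ) (hn : ∀ i, 1 ≤ n i)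

include hm hn in
theorem KI_le_ker :
    KI f n ≤ RingHom.ker (MvPolynomial.eval₂Hom (residue A) (fun _ : Fin r => (0 : ResidueField A))) := by
  rw [Ideal.span_le]
  rintro _ ⟨i, rfl⟩
  rw [SetLike.mem_coe, RingHom.mem_ker, map_sub, map_pow, MvPolynomial.eval₂Hom_X',
    MvPolynomial.eval₂Hom_C, zero_pow (by have := hn i; omega), zero_sub, neg_eq_zero]
  exact (residue_eq_zero_iff _).mpr (hm i)

/-- the residue map of the Kummer algebra -/
noncomputable def rho : KA f n →+* ResidueField A :=
  Ideal.Quotient.lift _ (MvPolynomial.eval₂Hom (residue A) (fun _ => 0))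
    (fun _ hx => RingHom.mem_ker.mp (KI_le_ker f hm n hn hx))

theorem rho_mk (p : MvPolynomial (Fin r) A) :
    rho f hm n hn (Ideal.Quotient.mk _ p) = residue A (MvPolynomial.constantCoeff p) := by
  rw [rho, Ideal.Quotient.lift_mk, MvPolynomial.eval₂Hom_zero'_apply]

theorem rho_algebraMap (a : A) : rho f hm n hn (algebraMap A (KA f n) a) = residue A a := by
  change rho f hm n hn (Ideal.Quotient.mk _ (MvPolynomial.C a)) = _
  rw [rho_mk, MvPolynomial.constantCoeff_C]

theorem rho_T (i : Fin r) : rho f hm n hn (T f n i) = 0 := by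
  rw [T, rho_mk, MvPolynomial.constantCoeff_X, map_zero]

theorem rho_surjective : Function.Surjective (rho f hm n hn) := by
  intro x
  obtain ⟨a, rfl⟩ := residue_surjective x
  exact ⟨algebraMap A (KA f n) a, rho_algebraMap f hm n hn a⟩

theorem ker_rho_le :
    RingHom.ker (rho f hm n hn) ≤
      Ideal.span (algebraMap A (KA f n) '' (maximalIdeal A : Set A) ∪ Set.range (T f n)) := by
  intro x hx
  obtain ⟨p, rfl⟩ := Ideal.Quotient.mk_surjective x
  rw [RingHom.mem_ker, rho_mk] at hx
  have hc : MvPolynomial.constantCoeff p ∈ maximalIdeal A := (residue_eq_zero_iff _).mp hx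
  have h1 : Ideal.Quotient.mk (KI f n) p =
      algebraMap A (KA f n) (MvPolynomial.constantCoeff p) +
        Ideal.Quotient.mk (KI f n) (p - MvPolynomial.C (MvPolynomial.constantCoeff p)) := by
    change _ = Ideal.Quotient.mk (KI f n) (MvPolynomial.C (MvPolynomial.constantCoeff p)) + _
    rw [← map_add]; congr 1; ring
  rw [h1]
  refine Ideal.add_mem _ (Ideal.subset_span (Or.inl ⟨_, hc, rfl⟩)) ?_
  have h2 := Ideal.mem_map_of_mem (Ideal.Quotient.mk (KI f n)) (sub_C_constantCoeff_mem p)
  rw [Ideal.map_span, ← Set.range_comp] at h2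
  refine Ideal.span_mono ?_ h2
  rintro _ ⟨i, rfl⟩
  exact Or.inr ⟨i, rfl⟩

end K6

section K7

variable {A : Type u} [CommRing A] [IsRegularLocalRing A] {r : ℕ} (f : Fin r → A)
  (hm : ∀ i, f i ∈ maximalIdeal A)
  (hf : LinearIndependent (ResidueField A) (fun i => (maximalIdeal A).toCotangent ⟨f i, hm i⟩))
  (n : Fin r → ℕ) (hn : ∀ i, 1 ≤ n i)

include hf hn

theorem regular_KA : IsRegularLocalRing (KA f n) := regular_kummer A r f hm hf n hn

theorem maximalIdeal_KA [IsLocalRing (KA f n)] :
    maximalIdeal (KA f n) = RingHom.ker (rho f hm n hn) :=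
  (IsLocalRing.eq_maximalIdeal
    (RingHom.ker_isMaximal_of_surjective _ (rho_surjective f hm n hn))).symm

theorem algebraMap_injective_KA : Function.Injective (algebraMap A (KA f n)) := by
  obtain ⟨h1, h2⟩ := free_KA f n hn
  have := regular_KA f hm hf n hn
  have : Nontrivial (KA f n) := inferInstance
  exact FaithfulSMul.algebraMap_injective A (KA f n)

theorem T_notMem_sq (i : Fin r) :
    have := regular_KA f hm hf n hn
    T f n i ∉ maximalIdeal (KA f n) ^ 2 := by
  classical
  have := regular_KA f hm hf n hn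
  obtain ⟨hfree, hfin⟩ := free_KA f n hn
  have hint : Algebra.IsIntegral A (KA f n) := Algebra.IsIntegral.of_finite A _
  have hdim : ringKrullDim (KA f n) = ringKrullDim A :=
    ringKrullDim_eq_of_isIntegral_of_injective (algebraMap_injective_KA f hm hf n hn)
  obtain ⟨e, y, hy, hcard, hgen⟩ := exists_compl_gens f hm hf
  have hreg := (IsRegularLocalRing.iff_finrank_cotangentSpace A).1 inferInstance
  have hreg' := (IsRegularLocalRing.iff_finrank_cotangentSpace (KA f n)).1 inferInstance
  let G : Fin r ⊕ Fin e → KA f n :=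
    Sum.elim (T f n) (fun j => algebraMap A (KA f n) (y j))
  have hmax := maximalIdeal_KA f hm hf n hn
  have hGmem : ∀ j, G j ∈ maximalIdeal (KA f n) := by
    rw [hmax]
    rintro (j | j)
    · exact RingHom.mem_ker.mpr (rho_T f hm n hn j)
    · rw [RingHom.mem_ker]
      change rho f hm n hn (algebraMap A (KA f n) (y j)) = 0
      rw [rho_algebraMap]
      exact (residue_eq_zero_iff _).mpr (hy j)
  have hGspan : maximalIdeal (KA f n) = Ideal.span (Set.range G) := by
    apply le_antisymm
    · rw [hmax]
      refine (ker_rho_le f hm n hn).trans ?_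
      rw [Ideal.span_le]
      rintro x (⟨a, ha, rfl⟩ | ⟨j, rfl⟩)
      · have ha' : a ∈ Ideal.span (Set.range f ∪ Set.range y) := hgen ▸ ha
        have h1 := Ideal.mem_map_of_mem (algebraMap A (KA f n)) ha'
        rw [Ideal.map_span] at h1
        refine (Ideal.span_le.mpr ?_ : _ ≤ Ideal.span (Set.range G)) h1
        rintro _ ⟨b, (⟨j, rfl⟩ | ⟨j, rfl⟩), rfl⟩
        · rw [SetLike.mem_coe, ← T_pow]
          obtain ⟨k, hk⟩ := Nat.exists_eq_succ_of_ne_zero (show n j ≠ 0 by have := hn j; omega)
          rw [hk, pow_succ]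
          exact Ideal.mul_mem_left _ _ (Ideal.subset_span ⟨Sum.inl j, rfl⟩)
        · exact Ideal.subset_span ⟨Sum.inr j, rfl⟩
      · exact Ideal.subset_span ⟨Sum.inl j, rfl⟩
    · rw [Ideal.span_le]
      rintro _ ⟨j, rfl⟩
      exact hGmem j
  have hc : Module.finrank (ResidueField (KA f n)) (CotangentSpace (KA f n)) =
      Fintype.card (Fin r ⊕ Fin e) := by
    rw [hdim, ← hreg] at hreg'
    simp only [Fintype.card_sum, Fintype.card_fin]
    rw [hcard]
    exact_mod_cast hreg'
  exact notMem_sq_of_span_eq G hGmem hGspan hc (Sum.inl i)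

theorem T_prime (i : Fin r) : (Ideal.span {T f n i}).IsPrime := by
  have := regular_KA f hm hf n hn
  have hmem : T f n i ∈ maximalIdeal (KA f n) := by
    rw [maximalIdeal_KA f hm hf n hn]
    exact RingHom.mem_ker.mpr (rho_T f hm n hn i)
  obtain ⟨hreg, -⟩ := Groth.Agent.S0558.isRegularLocalRing_quot (KA f n) (T f n i) hmem
    (T_notMem_sq f hm hf n hn i)
  have hdom := Groth.Agent.S0558.result (KA f n ⧸ Ideal.span {T f n i})
  exact (Ideal.Quotient.isDomain_iff_prime _).mp hdom

end K7

end Groth.Agent.Lib.Helper84.Kummer
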