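import Mathlib

/-!
# A valuation ring of a fraction field centred on a principal prime (helper84)

`B` a Noetherian domain, `ι : B → L` injective with `L` generated by fractions, `τ ∈ B` a prime
element, `v` a valuation on `L` with `v (ι b) ≤ 1` for all `b` and `v (ι b) < 1 ↔ τ ∣ b`.
Then every nonzero `x ∈ L` has `v x = v (ι τ) ^ k / v (ι τ) ^ l`, and is `ι τ ^ (k - l)` times a
fraction of elements of `B` outside `(τ)`.
-/

set_option autoImplicit false
set_option linter.unusedSectionVars false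

namespace Groth.Agent.Lib.Helper84.Kummer

section Val

variable {B L Γ : Type*} [CommRing B] [IsDomain B] [IsNoetherianRing B] [Field L]
  [LinearOrderedCommGroupWithZero Γ] (ι : B →+* L) (hι : Function.Injective ι)
  (hfrac : ∀ x : L, ∃ a s : B, s ≠ 0 ∧ x * ι s = ι a)
  (τ : B) (hτ : Prime τ) (v : Valuation L Γ)
  (h1 : ∀ b : B, v (ι b) ≤ 1) (h2 : ∀ b : B, v (ι b) < 1 ↔ τ ∣ b)

include hι hτ h1 h2

theorem v_eq_one_of_not_dvd {b : B} (hb : ¬ τ ∣ b) : v (ι b) = 1 :=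
  le_antisymm (h1 b) (not_lt.mp (fun h => hb ((h2 b).mp h)))

theorem v_tau_lt_one : v (ι τ) < 1 := (h2 τ).mpr dvd_rfl

theorem v_tau_ne_zero : v (ι τ) ≠ 0 := by
  rw [ne_eq, Valuation.zero_iff]
  intro h
  exact hτ.ne_zero (hι (h.trans (map_zero ι).symm))

include hfrac

/-- normal form of a nonzero element of `L` -/
theorem exists_normal_form (x : L) (hx : x ≠ 0) :
    ∃ (k l : ℕ) (a' s' : B), ¬ τ ∣ a' ∧ ¬ τ ∣ s' ∧ x * ι τ ^ l * ι s' = ι τ ^ k * ι a' := by
  obtain ⟨a, s, hs, hxs⟩ := hfrac x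
  have ha : a ≠ 0 := by
    rintro rfl
    rw [map_zero] at hxs
    rcases mul_eq_zero.mp hxs with h | h
    · exact hx h
    · exact hs (hι (h.trans (map_zero ι).symm))
  obtain ⟨k, a', ha', rfl⟩ := WfDvdMonoid.max_power_factor ha hτ.irreducible
  obtain ⟨l, s', hs', rfl⟩ := WfDvdMonoid.max_power_factor hs hτ.irreducible
  refine ⟨k, l, a', s', ha', hs', ?_⟩
  rw [map_mul, map_pow, map_mul, map_pow] at hxs
  rw [← hxs]; ring

theorem v_eq (x : L) (hx : x ≠ 0) :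
    ∃ (k l : ℕ), v x * v (ι τ) ^ l = v (ι τ) ^ k := by
  obtain ⟨k, l, a', s', ha', hs', h⟩ := exists_normal_form ι hι hfrac τ hτ v h1 h2 x hx
  refine ⟨k, l, ?_⟩
  have := congrArg v h
  rwa [map_mul, map_mul, map_mul, map_pow, map_pow,
    v_eq_one_of_not_dvd ι hι τ hτ v h1 h2 ha', v_eq_one_of_not_dvd ι hι τ hτ v h1 h2 hs',
    mul_one, mul_one] at this

/-- elements of valuation `< 1` are multiples of `ι τ` by elements of valuation `≤ 1` -/
theorem exists_mul_of_lt_one (x : L) (hx : v x < 1) : ∃ y : L, v y ≤ 1 ∧ x = ι τ * y := by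
  by_cases hx0 : x = 0
  · exact ⟨0, by simp, by simp [hx0]⟩
  obtain ⟨k, l, hkl⟩ := v_eq ι hι hfrac τ hτ v h1 h2 x hx0
  have ht0 := v_tau_ne_zero ι hι τ hτ v h1 h2
  have ht1 := v_tau_lt_one ι hι τ hτ v h1 h2
  have hlk : l < k := by
    by_contra hcon
    push Not at hcon
    -- k ≤ l : v x = t^k / t^l ≥ 1
    have h3 : v (ι τ) ^ l ≤ v (ι τ) ^ k := pow_le_pow_right_of_le_one' ht1.le hcon
    have h4 : v x * v (ι τ) ^ l < 1 * v (ι τ) ^ l :=
      mul_lt_mul_of_pos_right hx (pow_pos (zero_lt_iff.mpr ht0) l)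
    rw [hkl, one_mul] at h4
    exact absurd h3 (not_le.mpr h4)
  have hτ0 : ι τ ≠ 0 := fun h => ht0 (by rw [h, map_zero])
  refine ⟨x / ι τ, ?_, by field_simp⟩
  rw [map_div₀]
  -- v x = t^(k-l), k - l ≥ 1
  have h5 : v x = v (ι τ) ^ (k - l) := by
    have : v (ι τ) ^ k = v (ι τ) ^ (k - l) * v (ι τ) ^ l := by
      rw [← pow_add, Nat.sub_add_cancel hlk.le]
    rw [this] at hkl
    exact mul_right_cancel₀ (pow_ne_zero l ht0) hkl
  rw [h5]
  obtain ⟨j, hj⟩ : ∃ j, k - l = j + 1 := ⟨k - l - 1, by omega⟩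
  rw [hj, pow_succ, mul_div_assoc, div_self ht0, mul_one]
  exact pow_le_one' ht1.le j

/-- elements of valuation `≤ 1` are fractions with denominator outside `(τ)` -/
theorem exists_frac_of_le_one (x : L) (hx : v x ≤ 1) :
    ∃ a s : B, ¬ τ ∣ s ∧ x * ι s = ι a := by
  by_cases hx0 : x = 0
  · exact ⟨0, 1, fun h => hτ.not_isUnit (isUnit_of_dvd_one h), by simp [hx0]⟩
  obtain ⟨k, l, a', s', ha', hs', h⟩ := exists_normal_form ι hι hfrac τ hτ v h1 h2 x hx0
  have ht0 := v_tau_ne_zero ι hι τ hτ v h1 h2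
  have ht1 := v_tau_lt_one ι hι τ hτ v h1 h2
  have hτ0 : ι τ ≠ 0 := fun h => ht0 (by rw [h, map_zero])
  have hv := congrArg v h
  rw [map_mul, map_mul, map_mul, map_pow, map_pow,
    v_eq_one_of_not_dvd ι hι τ hτ v h1 h2 ha', v_eq_one_of_not_dvd ι hι τ hτ v h1 h2 hs',
    mul_one, mul_one] at hv
  have hlk : l ≤ k := by
    by_contra hcon
    push Not at hcon
    have h3 : v (ι τ) ^ l < v (ι τ) ^ k := by
      obtain ⟨j, rfl⟩ := Nat.exists_eq_add_of_lt hcon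
      rw [show k + j + 1 = k + (j + 1) by ring, pow_add]
      calc v (ι τ) ^ k * v (ι τ) ^ (j + 1) < v (ι τ) ^ k * 1 := by
            apply mul_lt_mul_of_pos_left _ (pow_pos (zero_lt_iff.mpr ht0) k)
            exact pow_lt_one₀ zero_le ht1 (by omega)
        _ = v (ι τ) ^ k := mul_one _
    have h4 : v x * v (ι τ) ^ l ≤ 1 * v (ι τ) ^ l := mul_le_mul_left hx _
    rw [hv, one_mul] at h4
    exact absurd h3 (not_lt.mpr h4)
  refine ⟨τ ^ (k - l) * a', s', hs', ?_⟩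
  rw [map_mul, map_pow]
  have h6 : ι τ ^ k = ι τ ^ (k - l) * ι τ ^ l := by rw [← pow_add, Nat.sub_add_cancel hlk]
  rw [h6] at h
  have h7 : (x * ι s') * ι τ ^ l = (ι τ ^ (k - l) * ι a') * ι τ ^ l := by
    calc (x * ι s') * ι τ ^ l = x * ι τ ^ l * ι s' := by ring
      _ = ι τ ^ (k - l) * ι τ ^ l * ι a' := h
      _ = (ι τ ^ (k - l) * ι a') * ι τ ^ l := by ring
  exact mul_right_cancel₀ (pow_ne_zero l hτ0) h7

end Val

end Groth.Agent.Lib.Helper84.Kummer
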