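import Mathlib
import Groth.Prelude.Def_EtRam
import Groth.Agent.Lib.Helper84.Kummer6

/-!
# Tameness from a principal prime centre (helper84)

Abstract form of the computation of the ramification index and the residue field extension of a
valuation ring `V` of `L` dominating a local ring `O` with principal maximal ideal `(π)`, when
`L` is the fraction field of a Noetherian domain `B` on which `V` is centred at a principal prime
`(τ)` and `π = τ ^ e` in `L`.
-/

set_option autoImplicit false
set_option linter.unusedSectionVars false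

universe u

namespace Groth.Agent.Lib.Helper84.Kummer7

open Groth.Agent.Lib.Helper84.Kummer

open IsLocalRing

section Tame

variable {O : Type u} [CommRing O] [IsLocalRing O] {L : Type u} [Field L] (g : O →+* L)
  (V : ValuationSubring L) (h : EtRam.Dominates O g V)
  {B : Type*} [CommRing B] [IsDomain B] [IsNoetherianRing B]
  (ι : B →+* L) (hι : Function.Injective ι)
  (hfrac : ∀ x : L, ∃ a s : B, s ≠ 0 ∧ x * ι s = ι a)
  (τ : B) (hτ : Prime τ)
  (h1 : ∀ b : B, V.valuation (ι b) ≤ 1) (h2 : ∀ b : B, V.valuation (ι b) < 1 ↔ τ ∣ b)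

include hι hfrac hτ h1 h2

theorem iota_mem (b : B) : ι b ∈ V := (V.valuation_le_one_iff _).mp (h1 b)

/-- the uniformizer of `V` -/
noncomputable def tauV : V := ⟨ι τ, iota_mem V ι hι hfrac τ hτ h1 h2 τ⟩

theorem tauV_mem : tauV V ι hι hfrac τ hτ h1 h2 ∈ maximalIdeal V := by
  rw [V.valuation_lt_one_iff]
  exact v_tau_lt_one ι hι τ hτ V.valuation h1 h2

theorem tauV_ne_zero : tauV V ι hι hfrac τ hτ h1 h2 ≠ 0 := by
  intro h0
  have : ι τ = 0 := congrArg Subtype.val h0
  exact hτ.ne_zero (hι (this.trans (map_zero ι).symm))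

theorem maximalIdeal_eq : maximalIdeal V = Ideal.span {tauV V ι hι hfrac τ hτ h1 h2} := by
  apply le_antisymm
  · intro x hx
    rw [V.valuation_lt_one_iff] at hx
    obtain ⟨y, hy, hxy⟩ := exists_mul_of_lt_one ι hι hfrac τ hτ V.valuation h1 h2 (x : L) hx
    rw [Ideal.mem_span_singleton]
    refine ⟨⟨y, (V.valuation_le_one_iff _).mp hy⟩, Subtype.ext ?_⟩
    exact hxy
  · rw [Ideal.span_singleton_le_iff_mem]
    exact tauV_mem V ι hι hfrac τ hτ h1 h2

theorem ramificationIdx_eq (π : O) (hπ : maximalIdeal O = Ideal.span {π}) (e : ℕ)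
    (hg : g π = ι τ ^ e) :
    letI : Algebra O V := (RingHom.codRestrict g V h.1).toAlgebra
    Ideal.ramificationIdx' (maximalIdeal O) (maximalIdeal V) = e := by
  let : Algebra O V := (RingHom.codRestrict g V h.1).toAlgebra
  set t := tauV V ι hι hfrac τ hτ h1 h2 with ht
  have hmV := maximalIdeal_eq V ι hι hfrac τ hτ h1 h2
  have hmap : Ideal.map (algebraMap O V) (maximalIdeal O) = Ideal.span {t ^ e} := by
    rw [hπ, Ideal.map_span, Set.image_singleton]
    congr 2
    apply Subtype.ext
    change g π = ((t ^ e : V) : L)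
    rw [hg]
    simp [ht, tauV]
  have hpow : ∀ k : ℕ, maximalIdeal V ^ k = Ideal.span {t ^ k} := by
    intro k
    rw [hmV, Ideal.span_singleton_pow]
  apply Ideal.ramificationIdx'_spec
  · rw [hmap, hpow]
  · rw [hmap, hpow, Ideal.span_singleton_le_span_singleton]
    intro hdvd
    have ht0 : t ≠ 0 := tauV_ne_zero V ι hι hfrac τ hτ h1 h2
    have hunit : IsUnit t := by
      obtain ⟨c, hc⟩ := hdvd
      have : t ^ e * 1 = t ^ e * (t * c) := by rw [mul_one, ← mul_assoc, ← pow_succ]; exact hc
      have h' := mul_left_cancel₀ (pow_ne_zero e ht0) this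
      exact IsUnit.of_mul_eq_one c h'.symm
    have hmem : t ∈ maximalIdeal V := tauV_mem V ι hι hfrac τ hτ h1 h2
    exact (mem_maximalIdeal _).mp hmem hunit

/-- the residue map `B → κ(V)` -/
noncomputable def psi : B →+* ResidueField V :=
  (residue V).comp (RingHom.codRestrict ι V (iota_mem V ι hι hfrac τ hτ h1 h2))

theorem psi_eq_zero_iff (b : B) : psi V ι hι hfrac τ hτ h1 h2 b = 0 ↔ τ ∣ b := by
  rw [psi, RingHom.comp_apply, residue_eq_zero_iff, V.valuation_lt_one_iff]
  exact h2 b

theorem exists_psi_frac (ξ : ResidueField V) :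
    ∃ a s : B, psi V ι hι hfrac τ hτ h1 h2 s ≠ 0 ∧
      ξ * psi V ι hι hfrac τ hτ h1 h2 s = psi V ι hι hfrac τ hτ h1 h2 a := by
  obtain ⟨x, rfl⟩ := residue_surjective ξ
  obtain ⟨a, s, hs, hxs⟩ := exists_frac_of_le_one ι hι hfrac τ hτ V.valuation h1 h2 (x : L)
    ((V.valuation_le_one_iff _).mpr x.2)
  refine ⟨a, s, ?_, ?_⟩
  · rw [ne_eq, psi_eq_zero_iff]; exact hs
  · rw [psi, RingHom.comp_apply, RingHom.comp_apply, ← map_mul]
    congr 1
    apply Subtype.ext
    exact hxs

theorem isSeparable_residue {A₀ : Type*} [CommRing A₀] (φ : A₀ →+* B) (α : A₀ →+* O)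
    (hα : ∀ a, g (α a) = ι (φ a)) {J : Type*} (t : J → B) (n : J → ℕ)
    (hgen : ∀ S : Subring B, (∀ a, φ a ∈ S) → (∀ j, t j ∈ S) → ∀ b, b ∈ S)
    (hsep : ∀ j, τ ∣ t j ∨ ∃ c : O, IsUnit c ∧ IsUnit ((n j : ℕ) : O) ∧ g c = ι (t j) ^ n j) :
    letI : Algebra O V := (RingHom.codRestrict g V h.1).toAlgebra
    ∀ [IsLocalHom (algebraMap O V)],
      Algebra.IsSeparable (ResidueField O) (ResidueField V) := by
  let : Algebra O V := (RingHom.codRestrict g V h.1).toAlgebra
  intro _
  set ψ := psi V ι hι hfrac τ hτ h1 h2 with hψ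
  -- compatibility of ψ with the residue field of O
  have hcompat : ∀ (o : O) (b : B), g o = ι b →
      algebraMap (ResidueField O) (ResidueField V) (residue O o) = ψ b := by
    intro o b hob
    rw [ResidueField.algebraMap_residue]
    rw [hψ, psi, RingHom.comp_apply]
    congr 1
    apply Subtype.ext
    exact hob
  let E := separableClosure (ResidueField O) (ResidueField V)
  have hA : ∀ a, ψ (φ a) ∈ E := by
    intro a
    rw [← hcompat (α a) (φ a) (hα a)]
    exact E.algebraMap_mem _
  have hT : ∀ j, ψ (t j) ∈ E := by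
    intro j
    rcases hsep j with hdvd | ⟨c, hc, hnj, hgc⟩
    · rw [(psi_eq_zero_iff V ι hι hfrac τ hτ h1 h2 _).mpr hdvd]
      exact E.zero_mem
    · rw [mem_separableClosure_iff]
      have hroot : ψ (t j) ^ n j =
          algebraMap (ResidueField O) (ResidueField V) (residue O c) := by
        rw [hcompat c (t j ^ n j) (by rw [hgc, map_pow]), map_pow]
      have hc0 : residue O c ≠ 0 := by
        rw [residue_ne_zero_iff_isUnit]; exact hc
      have hn0 : ((n j : ℕ) : ResidueField O) ≠ 0 := by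
        have : residue O ((n j : ℕ) : O) ≠ 0 := by
          rw [residue_ne_zero_iff_isUnit]; exact hnj
        simpa using this
      have hsepP := Polynomial.separable_X_pow_sub_C (residue O c) hn0 hc0
      refine hsepP.of_dvd (minpoly.dvd _ _ ?_)
      simp [hroot]
  have hB : ∀ b, ψ b ∈ E := by
    intro b
    exact hgen (E.toSubring.comap ψ) hA hT b
  rw [← separableClosure.eq_top_iff]
  rw [eq_top_iff]
  intro ξ _
  obtain ⟨a, s, hs, hξ⟩ := exists_psi_frac V ι hι hfrac τ hτ h1 h2 ξ
  have : ξ = ψ a / ψ s := by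
    rw [eq_div_iff hs]; exact hξ
  rw [this]
  exact E.div_mem (hB a) (hB s)

end Tame

end Groth.Agent.Lib.Helper84.Kummer7
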