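import Groth.Prelude.Def_W4swconnpcurvhiggsLogLam
import Mathlib

/-!
# The pieces `E_I` of a logarithmic λ-connection (helper84)

Setting of the `LogConn` statements: `t i` coordinates with `d (t i)` a basis of `Ω[B⁄A]`, `L` free on
`ω i`, `ι (d (t i)) = t i • ω i`, `∇` a `λ`-connection with values in `E ⊗ L`.

* `pd bΩ j` : the partial derivative `∂/∂t_j`, an `A`-derivation of `B`.
* `comp_smul` : `∇_j (b • e) = b • ∇_j e + (λ * t j * ∂_j b) • e`.
* `compProd_insert` : `∇_{insert j J} = ∇_j ∘ ∇_J` when `j` is smaller than all elements of `J`.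
* `smul_mem_piece` : the pieces are stable under `B` (S16792).
* `span_eq_piece` : generators of the pieces (S16795).
-/

set_option autoImplicit false
set_option linter.unusedSectionVars false
universe v u

open TensorProduct

namespace Groth.Agent.Lib.Helper84.LogC

open LogConn

section

variable {A : Type v} {B L E : Type u} [CommRing A] [CommRing B]
    [Algebra A B] [AddCommGroup L] [Module B L] [Module A L] [IsScalarTower A B L]
    [AddCommGroup E] [Module B E] [Module A E] [IsScalarTower A B E]

/-- the partial derivative with respect to the `j`-th coordinate -/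
noncomputable def pd {n : ℕ} (bΩ : Module.Basis (Fin n) B (KaehlerDifferential A B)) (j : Fin n) :
    Derivation A B B :=
  (bΩ.coord j).compDer (KaehlerDifferential.D A B)

theorem pd_apply {n : ℕ} (bΩ : Module.Basis (Fin n) B (KaehlerDifferential A B)) (j : Fin n) (b : B) :
    pd bΩ j b = bΩ.repr (KaehlerDifferential.D A B b) j := rfl

variable (lam : B) {n : ℕ} (t : Fin n → B) (bΩ : Module.Basis (Fin n) B (KaehlerDifferential A B))
    (hbΩ : ∀ i, bΩ i = KaehlerDifferential.D A B (t i))
    (ω : Module.Basis (Fin n) B L) (ι : KaehlerDifferential A B →ₗ[B] L)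
    (hι : ∀ i, ι (KaehlerDifferential.D A B (t i)) = t i • ω i)
    (nabla : E →ₗ[A] E ⊗[B] L)
    (hc : Conn.IsLamConn (ι.compDer (KaehlerDifferential.D A B)) lam nabla)

include hbΩ in
theorem pd_t [DecidableEq (Fin n)] (i j : Fin n) : pd bΩ j (t i) = if i = j then 1 else 0 := by
  rw [pd_apply, ← hbΩ, Module.Basis.repr_self, Finsupp.single_apply]

include hbΩ in
theorem pd_prod (j : Fin n) (K : Finset (Fin n)) (hj : j ∉ K) : pd bΩ j (∏ i ∈ K, t i) = 0 := by
  classical
  induction K using Finset.induction_on with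
  | empty => simp
  | insert a K ha ih =>
    rw [Finset.prod_insert ha, Derivation.leibniz, ih (fun h => hj (Finset.mem_insert_of_mem h)),
      pd_t t bΩ hbΩ, if_neg (fun h : a = j => hj (h ▸ Finset.mem_insert_self a K)), smul_zero,
      smul_zero, add_zero]

include hbΩ hι in
theorem coord_ι_D (j : Fin n) (b : B) :
    ω.coord j (ι (KaehlerDifferential.D A B b)) = t j * pd bΩ j b := by
  conv_lhs => rw [← bΩ.sum_repr (KaehlerDifferential.D A B b)]
  rw [map_sum, map_sum]
  simp only [map_smul, hbΩ, hι, Module.Basis.coord_apply, Module.Basis.repr_self, smul_eq_mul]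
  rw [Finset.sum_eq_single j]
  · simp [pd_apply, mul_comm]
  · intro i _ hij
    simp [hij]
  · simp

include hbΩ hι hc in
theorem comp_smul (j : Fin n) (b : B) (e : E) :
    comp nabla ω j (b • e) = b • comp nabla ω j e + (lam * (t j * pd bΩ j b)) • e := by
  unfold comp
  rw [Conn.along_apply, Conn.along_apply, hc b e, map_add, map_add, map_smul, map_smul, map_smul,
    map_smul, TensorProduct.map_tmul, TensorProduct.rid_tmul,
    LinearMap.id_apply]
  have h1 : (ι.compDer (KaehlerDifferential.D A B)) b = ι (KaehlerDifferential.D A B b) := rfl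
  rw [h1, coord_ι_D t bΩ hbΩ ω ι hι, smul_smul]

omit [Module A L] [IsScalarTower A B L] in
theorem compProd_empty : compProd nabla ω ∅ = LinearMap.id := by
  simp [compProd]

omit [Module A L] [IsScalarTower A B L] in
theorem compProd_insert (j : Fin n) (J : Finset (Fin n)) (hj : ∀ x ∈ J, j < x) :
    compProd nabla ω (insert j J) = comp nabla ω j ∘ₗ compProd nabla ω J := by
  unfold compProd
  rw [Finset.sort_insert (r := (· ≤ ·)) (fun b hb => (hj b hb).le)
    (fun h => lt_irrefl _ (hj j h))]
  rfl

/-- the generator `t_{I∖J} ∇_J e` of the piece `E_I` -/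
noncomputable def gen (I J : Finset (Fin n)) (e : E) : E :=
  (∏ i ∈ I \ J, t i) • compProd nabla ω J e

omit [Module A L] [IsScalarTower A B L] in
theorem gen_mem_piece {I J : Finset (Fin n)} (hJ : J ⊆ I) (e : E) :
    gen t ω nabla I J e ∈ piece nabla ω t I := by
  unfold piece
  refine Submodule.mem_iSup_of_mem J (Submodule.mem_iSup_of_mem (Finset.mem_powerset.2 hJ) ?_)
  exact ⟨e, rfl⟩

omit [Module A L] [IsScalarTower A B L] in
/-- induction principle for the pieces -/
theorem piece_induction {I : Finset (Fin n)} {P : E → Prop}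
    (hgen : ∀ J ⊆ I, ∀ e, P (gen t ω nabla I J e)) (h0 : P 0)
    (hadd : ∀ x y, P x → P y → P (x + y)) {x : E} (hx : x ∈ piece nabla ω t I) : P x := by
  unfold piece at hx
  refine Submodule.iSup_induction _ (motive := P) hx ?_ h0 hadd
  intro J x hx
  refine Submodule.iSup_induction _ (motive := P) hx ?_ h0 hadd
  intro hJ x hx
  obtain ⟨e, rfl⟩ := hx
  exact hgen J (Finset.mem_powerset.1 hJ) e

omit [Module A L] [IsScalarTower A B L] in
/-- (PL) `t_{I∖J} • E_J ⊆ E_I` for `J ⊆ I` -/
theorem prod_smul_mem_piece {I J : Finset (Fin n)} (hJ : J ⊆ I) {x : E}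
    (hx : x ∈ piece nabla ω t J) : (∏ i ∈ I \ J, t i) • x ∈ piece nabla ω t I := by
  classical
  refine piece_induction t ω nabla (P := fun x => (∏ i ∈ I \ J, t i) • x ∈ piece nabla ω t I)
    ?_ ?_ ?_ hx
  · intro J' hJ' e
    have h1 : (∏ i ∈ I \ J, t i) • gen t ω nabla J J' e = gen t ω nabla I J' e := by
      unfold gen
      rw [smul_smul, ← Finset.prod_union]
      · congr 2
        ext i
        simp only [Finset.mem_union, Finset.mem_sdiff]
        constructor
        · rintro (⟨h1, h2⟩ | ⟨h1, h2⟩)
          · exact ⟨h1, fun h => h2 (hJ' h)⟩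
          · exact ⟨hJ h1, h2⟩
        · rintro ⟨h1, h2⟩
          by_cases h3 : i ∈ J
          · exact Or.inr ⟨h3, h2⟩
          · exact Or.inl ⟨h1, h3⟩
      · rw [Finset.disjoint_left]
        intro i h1 h2
        exact (Finset.mem_sdiff.1 h1).2 (Finset.mem_sdiff.1 h2).1
    rw [h1]
    exact gen_mem_piece t ω nabla (hJ'.trans hJ) e
  · simp
  · intro x y hx hy
    rw [smul_add]
    exact Submodule.add_mem _ hx hy


omit [Module A L] [IsScalarTower A B L] in
theorem smul_t_mem_piece (j : Fin n) (J : Finset (Fin n)) (hj : ∀ x ∈ J, j < x) {x : E}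
    (hx : x ∈ piece nabla ω t J) : t j • x ∈ piece nabla ω t (insert j J) := by
  classical
  have h1 := prod_smul_mem_piece t ω nabla (Finset.subset_insert j J) hx
  have h2 : insert j J \ J = {j} := by
    ext i
    simp only [Finset.mem_sdiff, Finset.mem_insert, Finset.mem_singleton]
    constructor
    · rintro ⟨h3 | h3, h4⟩
      · exact h3
      · exact absurd h3 h4
    · rintro rfl
      exact ⟨Or.inl rfl, fun h => lt_irrefl _ (hj _ h)⟩
  rw [h2, Finset.prod_singleton] at h1
  exact h1

include hbΩ hι hc in
/-- (NL) `∇_j (E_J) ⊆ E_{insert j J}` for `j` smaller than all elements of `J` -/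
theorem comp_mem_piece (j : Fin n) (J : Finset (Fin n)) (hj : ∀ x ∈ J, j < x) {x : E}
    (hx : x ∈ piece nabla ω t J) : comp nabla ω j x ∈ piece nabla ω t (insert j J) := by
  classical
  have hjJ : j ∉ J := fun h => lt_irrefl _ (hj j h)
  refine piece_induction t ω nabla
    (P := fun x => comp nabla ω j x ∈ piece nabla ω t (insert j J)) ?_ ?_ ?_ hx
  · intro J' hJ' e
    have h1 : comp nabla ω j (gen t ω nabla J J' e) =
        gen t ω nabla (insert j J) (insert j J') e := by
      unfold gen
      rw [comp_smul lam t bΩ hbΩ ω ι hι nabla hc, pd_prod t bΩ hbΩ j _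
        (fun h => hjJ (Finset.mem_sdiff.1 h).1), mul_zero, mul_zero, zero_smul, add_zero,
        compProd_insert ω nabla j J' (fun x hx => hj x (hJ' hx)), LinearMap.comp_apply]
      congr 2
      ext i
      simp only [Finset.mem_sdiff, Finset.mem_insert]
      constructor
      · rintro ⟨h1, h2⟩
        exact ⟨Or.inr h1, fun h => h.elim (fun h => hjJ (h ▸ h1)) h2⟩
      · rintro ⟨h1 | h1, h2⟩
        · exact absurd (Or.inl h1) h2
        · exact ⟨h1, fun h => h2 (Or.inr h)⟩
    rw [h1]
    exact gen_mem_piece t ω nabla (Finset.insert_subset_insert j hJ') e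
  · simp
  · intro x y hx hy
    rw [map_add]
    exact Submodule.add_mem _ hx hy

include hbΩ hι hc in
/-- `b • ∇_J e ∈ E_J` -/
theorem smul_compProd_mem_piece (J : Finset (Fin n)) :
    ∀ (b : B) (e : E), b • compProd nabla ω J e ∈ piece nabla ω t J := by
  classical
  induction J using Finset.induction_on_min with
  | empty =>
    intro b e
    have h1 : b • compProd nabla ω ∅ e = gen t ω nabla ∅ ∅ (b • e) := by
      simp [gen, compProd_empty]
    rw [h1]
    exact gen_mem_piece t ω nabla (Finset.Subset.refl _) _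
  | insert j J hj ih =>
    intro b e
    rw [compProd_insert ω nabla j J hj, LinearMap.comp_apply]
    set x := compProd nabla ω J e with hx
    have h1 : b • comp nabla ω j x =
        comp nabla ω j (b • x) - t j • ((lam * pd bΩ j b) • x) := by
      rw [comp_smul lam t bΩ hbΩ ω ι hι nabla hc, smul_smul]
      have : t j * (lam * pd bΩ j b) = lam * (t j * pd bΩ j b) := by ring
      rw [this]
      abel
    rw [h1]
    refine Submodule.sub_mem _ ?_ ?_
    · exact comp_mem_piece lam t bΩ hbΩ ω ι hι nabla hc j J hj (ih b e)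
    · exact smul_t_mem_piece t ω nabla j J hj (ih _ e)

include hbΩ hι hc in
/-- (ML, S16792) the pieces are stable under multiplication by `B` -/
theorem smul_mem_piece (I : Finset (Fin n)) (b : B) {x : E} (hx : x ∈ piece nabla ω t I) :
    b • x ∈ piece nabla ω t I := by
  refine piece_induction t ω nabla (P := fun x => b • x ∈ piece nabla ω t I) ?_ ?_ ?_ hx
  · intro J hJ e
    unfold gen
    rw [smul_comm]
    exact prod_smul_mem_piece t ω nabla hJ
      (smul_compProd_mem_piece lam t bΩ hbΩ ω ι hι nabla hc J b e)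
  · simp
  · intro x y hx hy
    rw [smul_add]
    exact Submodule.add_mem _ hx hy


section Gens

variable {m : ℕ} (e : Fin m → E)

/-- the `B`-span of the elements `t_{I∖J} ∇_J (e k)` -/
noncomputable def gspan (I : Finset (Fin n)) : Submodule B E :=
  Submodule.span B (⋃ J ∈ I.powerset, Set.range (fun k : Fin m =>
    (∏ i ∈ I \ J, t i) • compProd nabla ω J (e k)))

omit [Module A L] [IsScalarTower A B L] in
theorem gen_mem_gspan {I J : Finset (Fin n)} (hJ : J ⊆ I) (k : Fin m) :
    gen t ω nabla I J (e k) ∈ gspan t ω nabla e I := by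
  refine Submodule.subset_span ?_
  simp only [Set.mem_iUnion]
  exact ⟨J, Finset.mem_powerset.2 hJ, k, rfl⟩

omit [Module A L] [IsScalarTower A B L] in
theorem gspan_induction {I : Finset (Fin n)} {P : E → Prop}
    (hgen : ∀ J ⊆ I, ∀ k, P (gen t ω nabla I J (e k))) (h0 : P 0)
    (hadd : ∀ x y, P x → P y → P (x + y))
    (hsmul : ∀ (c : B) x, x ∈ gspan t ω nabla e I → P x → P (c • x)) {x : E}
    (hx : x ∈ gspan t ω nabla e I) : P x := by
  unfold gspan at hx
  refine Submodule.span_induction (p := fun x _ => P x) ?_ h0 (fun x y _ _ => hadd x y)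
    (fun c x hx => hsmul c x hx) hx
  intro x hx
  simp only [Set.mem_iUnion] at hx
  obtain ⟨J, hJ, k, rfl⟩ := hx
  exact hgen J (Finset.mem_powerset.1 hJ) k

omit [Module A L] [IsScalarTower A B L] in
theorem prod_smul_mem_gspan {I J : Finset (Fin n)} (hJ : J ⊆ I) {x : E}
    (hx : x ∈ gspan t ω nabla e J) : (∏ i ∈ I \ J, t i) • x ∈ gspan t ω nabla e I := by
  classical
  refine gspan_induction t ω nabla e
    (P := fun x => (∏ i ∈ I \ J, t i) • x ∈ gspan t ω nabla e I) ?_ ?_ ?_ ?_ hx
  · intro J' hJ' k
    have h1 : (∏ i ∈ I \ J, t i) • gen t ω nabla J J' (e k) = gen t ω nabla I J' (e k) := by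
      unfold gen
      rw [smul_smul, ← Finset.prod_union]
      · congr 2
        ext i
        simp only [Finset.mem_union, Finset.mem_sdiff]
        constructor
        · rintro (⟨h1, h2⟩ | ⟨h1, h2⟩)
          · exact ⟨h1, fun h => h2 (hJ' h)⟩
          · exact ⟨hJ h1, h2⟩
        · rintro ⟨h1, h2⟩
          by_cases h3 : i ∈ J
          · exact Or.inr ⟨h3, h2⟩
          · exact Or.inl ⟨h1, h3⟩
      · rw [Finset.disjoint_left]
        intro i h1 h2
        exact (Finset.mem_sdiff.1 h1).2 (Finset.mem_sdiff.1 h2).1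
    rw [h1]
    exact gen_mem_gspan t ω nabla e (hJ'.trans hJ) k
  · simp
  · intro x y hx hy
    rw [smul_add]
    exact Submodule.add_mem _ hx hy
  · intro c x _ hx
    rw [smul_comm]
    exact Submodule.smul_mem _ _ hx

omit [Module A L] [IsScalarTower A B L] in
theorem smul_t_mem_gspan (j : Fin n) (J : Finset (Fin n)) (hj : ∀ x ∈ J, j < x) {x : E}
    (hx : x ∈ gspan t ω nabla e J) : t j • x ∈ gspan t ω nabla e (insert j J) := by
  classical
  have h1 := prod_smul_mem_gspan t ω nabla e (Finset.subset_insert j J) hx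
  have h2 : insert j J \ J = {j} := by
    ext i
    simp only [Finset.mem_sdiff, Finset.mem_insert, Finset.mem_singleton]
    constructor
    · rintro ⟨h3 | h3, h4⟩
      · exact h3
      · exact absurd h3 h4
    · rintro rfl
      exact ⟨Or.inl rfl, fun h => lt_irrefl _ (hj _ h)⟩
  rw [h2, Finset.prod_singleton] at h1
  exact h1

include hbΩ hι hc in
theorem comp_mem_gspan (j : Fin n) (J : Finset (Fin n)) (hj : ∀ x ∈ J, j < x) {x : E}
    (hx : x ∈ gspan t ω nabla e J) : comp nabla ω j x ∈ gspan t ω nabla e (insert j J) := by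
  classical
  have hjJ : j ∉ J := fun h => lt_irrefl _ (hj j h)
  refine gspan_induction t ω nabla e
    (P := fun x => comp nabla ω j x ∈ gspan t ω nabla e (insert j J)) ?_ ?_ ?_ ?_ hx
  · intro J' hJ' k
    have h1 : comp nabla ω j (gen t ω nabla J J' (e k)) =
        gen t ω nabla (insert j J) (insert j J') (e k) := by
      unfold gen
      rw [comp_smul lam t bΩ hbΩ ω ι hι nabla hc, pd_prod t bΩ hbΩ j _
        (fun h => hjJ (Finset.mem_sdiff.1 h).1), mul_zero, mul_zero, zero_smul, add_zero,
        compProd_insert ω nabla j J' (fun x hx => hj x (hJ' hx)), LinearMap.comp_apply]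
      congr 2
      ext i
      simp only [Finset.mem_sdiff, Finset.mem_insert]
      constructor
      · rintro ⟨h1, h2⟩
        exact ⟨Or.inr h1, fun h => h.elim (fun h => hjJ (h ▸ h1)) h2⟩
      · rintro ⟨h1 | h1, h2⟩
        · exact absurd (Or.inl h1) h2
        · exact ⟨h1, fun h => h2 (Or.inr h)⟩
    rw [h1]
    exact gen_mem_gspan t ω nabla e (Finset.insert_subset_insert j hJ') k
  · simp
  · intro x y hx hy
    rw [map_add]
    exact Submodule.add_mem _ hx hy
  · intro c x hxm hx
    rw [comp_smul lam t bΩ hbΩ ω ι hι nabla hc]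
    refine Submodule.add_mem _ (Submodule.smul_mem _ _ hx) ?_
    have h2 : (lam * (t j * pd bΩ j c)) • x = (lam * pd bΩ j c) • (t j • x) := by
      rw [smul_smul]
      congr 1
      ring
    rw [h2]
    exact Submodule.smul_mem _ _ (smul_t_mem_gspan t ω nabla e j J hj hxm)

include hbΩ hι hc in
theorem compProd_mem_gspan (he : Submodule.span B (Set.range e) = ⊤) (J : Finset (Fin n)) :
    ∀ x : E, compProd nabla ω J x ∈ gspan t ω nabla e J := by
  classical
  induction J using Finset.induction_on_min with
  | empty =>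
    intro x
    have h1 : gspan t ω nabla e ∅ = Submodule.span B (Set.range e) := by
      unfold gspan
      congr 1
      ext y
      simp [compProd_empty]
    rw [h1, he]
    trivial
  | insert j J hj ih =>
    intro x
    rw [compProd_insert ω nabla j J hj, LinearMap.comp_apply]
    exact comp_mem_gspan lam t bΩ hbΩ ω ι hι nabla hc e j J hj (ih x)

include hbΩ hι hc in
/-- (S16795) generators of the pieces -/
theorem gspan_eq_piece (he : Submodule.span B (Set.range e) = ⊤) (I : Finset (Fin n)) :
    (gspan t ω nabla e I).restrictScalars A = piece nabla ω t I := by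
  apply le_antisymm
  · intro x hx
    have hx' : x ∈ gspan t ω nabla e I := hx
    refine gspan_induction t ω nabla e (P := fun x => x ∈ piece nabla ω t I) ?_ ?_ ?_ ?_ hx'
    · intro J hJ k
      exact gen_mem_piece t ω nabla hJ _
    · exact Submodule.zero_mem _
    · intro x y hx hy
      exact Submodule.add_mem _ hx hy
    · intro c x _ hx
      exact smul_mem_piece lam t bΩ hbΩ ω ι hι nabla hc I c hx
  · intro x hx
    show x ∈ gspan t ω nabla e I
    refine piece_induction t ω nabla (P := fun x => x ∈ gspan t ω nabla e I) ?_ ?_ ?_ hx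
    · intro J hJ x
      exact prod_smul_mem_gspan t ω nabla e hJ
        (compProd_mem_gspan lam t bΩ hbΩ ω ι hι nabla hc e he J x)
    · exact Submodule.zero_mem _
    · intro x y hx hy
      exact Submodule.add_mem _ hx hy

end Gens


end

end Groth.Agent.Lib.Helper84.LogC
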