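import Groth.Agent.Lib.Helper84.LogFlat

/-!
# Logarithmic λ-connections with commuting components: independence of the coordinates (helper84)

For a system of coordinates `(t, ω)` in which the components `∇_i` commute:
* `comp_mem_piece_self` : `∇_i (E_K) ⊆ E_K`;
* `comp_mem_piece_insert` : `∇_i (E_K) ⊆ E_{K ∪ i}`;
* `piece_anti` : `E_I ⊆ E_J` for `J ⊆ I`;
and the comparison of the pieces and the layers for two systems of coordinates with the same
branches (S16798).
-/

set_option autoImplicit false
set_option linter.unusedSectionVars false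
universe v u

open TensorProduct

namespace Groth.Agent.Lib.Helper84.LogC

open LogConn

section Comm

variable {A : Type v} {B L E : Type u} [CommRing A] [CommRing B]
    [Algebra A B] [AddCommGroup L] [Module B L] [Module A L] [IsScalarTower A B L]
    [AddCommGroup E] [Module B E] [Module A E] [IsScalarTower A B E]
    (lam : B) {n : ℕ} (t : Fin n → B) (bΩ : Module.Basis (Fin n) B (KaehlerDifferential A B))
    (hbΩ : ∀ i, bΩ i = KaehlerDifferential.D A B (t i))
    (ω : Module.Basis (Fin n) B L) (ι : KaehlerDifferential A B →ₗ[B] L)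
    (hι : ∀ i, ι (KaehlerDifferential.D A B (t i)) = t i • ω i)
    (nabla : E →ₗ[A] E ⊗[B] L)
    (hc : Conn.IsLamConn (ι.compDer (KaehlerDifferential.D A B)) lam nabla)
    (hcomm : ∀ (a b : Fin n) (m : E),
      comp nabla ω a (comp nabla ω b m) = comp nabla ω b (comp nabla ω a m))

include hcomm in
theorem compProd_insert_of_comm (j : Fin n) (J : Finset (Fin n)) (hj : j ∉ J) :
    compProd nabla ω (insert j J) = comp nabla ω j ∘ₗ compProd nabla ω J := by
  classical
  induction J using Finset.induction_on_min with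
  | empty => exact compProd_insert ω nabla j ∅ (by simp)
  | insert a J ha ih =>
    have hja : j ≠ a := fun h => hj (h ▸ Finset.mem_insert_self _ _)
    have hjJ : j ∉ J := fun h => hj (Finset.mem_insert_of_mem h)
    rcases lt_or_gt_of_ne hja with h | h
    · refine compProd_insert ω nabla j _ ?_
      intro x hx
      rcases Finset.mem_insert.1 hx with rfl | hx
      · exact h
      · exact h.trans (ha x hx)
    · rw [Finset.insert_comm, compProd_insert ω nabla a (insert j J) ?_, ih hjJ,
        compProd_insert ω nabla a J ha]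
      · ext m
        simp only [LinearMap.comp_apply]
        exact hcomm a j _
      · intro x hx
        rcases Finset.mem_insert.1 hx with rfl | hx
        · exact h
        · exact ha x hx

include hcomm in
theorem comp_compProd_comm (i : Fin n) (J : Finset (Fin n)) (e : E) :
    comp nabla ω i (compProd nabla ω J e) = compProd nabla ω J (comp nabla ω i e) := by
  classical
  induction J using Finset.induction_on_min with
  | empty => simp [compProd_empty]
  | insert a J ha ih =>
    rw [compProd_insert ω nabla a J ha, LinearMap.comp_apply, LinearMap.comp_apply, hcomm, ih]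

include hbΩ in
theorem t_mul_pd_prod (i : Fin n) (S : Finset (Fin n)) :
    t i * pd bΩ i (∏ k ∈ S, t k) = if i ∈ S then ∏ k ∈ S, t k else 0 := by
  split_ifs with h
  · rw [← Finset.insert_erase h, Finset.prod_insert (Finset.notMem_erase i S), Derivation.leibniz,
      pd_prod t bΩ hbΩ i _ (Finset.notMem_erase i S), pd_t t bΩ hbΩ, if_pos rfl, smul_zero,
      zero_add, smul_eq_mul, mul_one]
  · rw [pd_prod t bΩ hbΩ i S h, mul_zero]

include hbΩ hι hc hcomm in
/-- `∇_i (E_K) ⊆ E_K` -/
theorem comp_mem_piece_self (i : Fin n) (K : Finset (Fin n)) {x : E}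
    (hx : x ∈ piece nabla ω t K) : comp nabla ω i x ∈ piece nabla ω t K := by
  classical
  refine piece_induction t ω nabla
    (P := fun x => comp nabla ω i x ∈ piece nabla ω t K) ?_ ?_ ?_ hx
  · intro J hJ e
    have h1 : comp nabla ω i (gen t ω nabla K J e) =
        gen t ω nabla K J (comp nabla ω i e) +
          (lam * if i ∈ K \ J then 1 else 0) • gen t ω nabla K J e := by
      unfold gen
      rw [comp_smul lam t bΩ hbΩ ω ι hι nabla hc, t_mul_pd_prod t bΩ hbΩ,
        comp_compProd_comm ω nabla hcomm]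
      congr 1
      split_ifs with h
      · rw [mul_one, smul_smul]
      · rw [mul_zero, zero_smul, zero_smul]
    rw [h1]
    refine Submodule.add_mem _ (gen_mem_piece t ω nabla hJ _) ?_
    exact smul_mem_piece lam t bΩ hbΩ ω ι hι nabla hc K _ (gen_mem_piece t ω nabla hJ _)
  · simp
  · intro x y hx hy
    rw [map_add]
    exact Submodule.add_mem _ hx hy

include hbΩ hι hc hcomm in
theorem comp_mem_piece_of_notMem (j : Fin n) (J : Finset (Fin n)) (hjJ : j ∉ J) {x : E}
    (hx : x ∈ piece nabla ω t J) : comp nabla ω j x ∈ piece nabla ω t (insert j J) := by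
  classical
  refine piece_induction t ω nabla
    (P := fun x => comp nabla ω j x ∈ piece nabla ω t (insert j J)) ?_ ?_ ?_ hx
  · intro J' hJ' e
    have h1 : comp nabla ω j (gen t ω nabla J J' e) =
        gen t ω nabla (insert j J) (insert j J') e := by
      unfold gen
      rw [comp_smul lam t bΩ hbΩ ω ι hι nabla hc, pd_prod t bΩ hbΩ j _
        (fun h => hjJ (Finset.mem_sdiff.1 h).1), mul_zero, mul_zero, zero_smul, add_zero,
        compProd_insert_of_comm ω nabla hcomm j J' (fun h => hjJ (hJ' h)),
        LinearMap.comp_apply]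
      congr 2
      ext i
      simp only [Finset.mem_sdiff, Finset.mem_insert]
      constructor
      · rintro ⟨h1, h2⟩
        exact ⟨Or.inr h1, fun h => h.elim (fun h => hjJ (h ▸ h1)) h2⟩
      · rintro ⟨h1 | h1, h2⟩
        · exact absurd (Or.inl h1) h2
        · exact ⟨h1, fun h => h2 (Or.inr h)⟩
    rw [h1]
    exact gen_mem_piece t ω nabla (Finset.insert_subset_insert j hJ') e
  · simp
  · intro x y hx hy
    rw [map_add]
    exact Submodule.add_mem _ hx hy

include hbΩ hι hc hcomm in
/-- `∇_i (E_K) ⊆ E_{K ∪ i}` -/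
theorem comp_mem_piece_insert (i : Fin n) (K : Finset (Fin n)) {x : E}
    (hx : x ∈ piece nabla ω t K) : comp nabla ω i x ∈ piece nabla ω t (insert i K) := by
  by_cases h : i ∈ K
  · rw [Finset.insert_eq_of_mem h]
    exact comp_mem_piece_self lam t bΩ hbΩ ω ι hι nabla hc hcomm i K hx
  · exact comp_mem_piece_of_notMem lam t bΩ hbΩ ω ι hι nabla hc hcomm i K h hx

include hbΩ hι hc in
/-- `t_i E_K ⊆ E_{K ∪ i}` -/
theorem smul_t_mem_piece_insert (i : Fin n) (K : Finset (Fin n)) {x : E}
    (hx : x ∈ piece nabla ω t K) : t i • x ∈ piece nabla ω t (insert i K) := by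
  by_cases h : i ∈ K
  · rw [Finset.insert_eq_of_mem h]
    exact smul_mem_piece lam t bΩ hbΩ ω ι hι nabla hc K _ hx
  · have h1 := prod_smul_mem_piece t ω nabla (Finset.subset_insert i K) hx
    have h2 : insert i K \ K = {i} := by
      ext k
      simp only [Finset.mem_sdiff, Finset.mem_insert, Finset.mem_singleton]
      constructor
      · rintro ⟨h3 | h3, h4⟩
        · exact h3
        · exact absurd h3 h4
      · rintro rfl
        exact ⟨Or.inl rfl, h⟩
    rw [h2, Finset.prod_singleton] at h1
    exact h1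

include hbΩ hι hc hcomm in
theorem piece_insert_le (i : Fin n) (K : Finset (Fin n)) (hi : i ∉ K) :
    piece nabla ω t (insert i K) ≤ piece nabla ω t K := by
  intro x hx
  refine piece_induction t ω nabla (P := fun x => x ∈ piece nabla ω t K) ?_ ?_ ?_ hx
  · intro J hJ e
    by_cases hiJ : i ∈ J
    · have hJ' : J.erase i ⊆ K := by
        intro k hk
        rcases Finset.mem_insert.1 (hJ (Finset.mem_of_mem_erase hk)) with rfl | h
        · exact absurd hk (Finset.notMem_erase _ _)
        · exact h
      have h1 : gen t ω nabla (insert i K) J e =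
          gen t ω nabla K (J.erase i) (comp nabla ω i e) := by
        unfold gen
        conv_lhs => rw [← Finset.insert_erase hiJ]
        rw [compProd_insert_of_comm ω nabla hcomm i _ (Finset.notMem_erase i J),
          LinearMap.comp_apply, comp_compProd_comm ω nabla hcomm]
        congr 2
        ext k
        simp only [Finset.mem_sdiff, Finset.mem_insert, Finset.mem_erase]
        constructor
        · rintro ⟨h1 | h1, h2⟩
          · exact absurd (Or.inl h1) h2
          · exact ⟨h1, fun h => h2 (Or.inr h)⟩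
        · rintro ⟨h1, h2⟩
          refine ⟨Or.inr h1, fun h => ?_⟩
          rcases h with h | h
          · exact hi (h ▸ h1)
          · exact h2 h
      rw [h1]
      exact gen_mem_piece t ω nabla hJ' _
    · have hJ' : J ⊆ K := by
        intro k hk
        rcases Finset.mem_insert.1 (hJ hk) with rfl | h
        · exact absurd hk hiJ
        · exact h
      have h1 : gen t ω nabla (insert i K) J e = t i • gen t ω nabla K J e := by
        unfold gen
        have h2 : insert i K \ J = insert i (K \ J) := by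
          ext k
          simp only [Finset.mem_sdiff, Finset.mem_insert]
          constructor
          · rintro ⟨h1 | h1, h2⟩
            · exact Or.inl h1
            · exact Or.inr ⟨h1, h2⟩
          · rintro (h1 | ⟨h1, h2⟩)
            · exact ⟨Or.inl h1, fun h => hiJ (h1 ▸ h)⟩
            · exact ⟨Or.inr h1, h2⟩
        rw [h2, Finset.prod_insert (fun h => hi (Finset.mem_sdiff.1 h).1), mul_smul]
      rw [h1]
      exact smul_mem_piece lam t bΩ hbΩ ω ι hι nabla hc K _ (gen_mem_piece t ω nabla hJ' _)
  · exact Submodule.zero_mem _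
  · intro x y hx hy
    exact Submodule.add_mem _ hx hy

include hbΩ hι hc hcomm in
/-- the pieces decrease: `E_I ⊆ E_J` for `J ⊆ I` -/
theorem piece_anti {I J : Finset (Fin n)} (hJI : J ⊆ I) :
    piece nabla ω t I ≤ piece nabla ω t J := by
  classical
  have key : ∀ S : Finset (Fin n), Disjoint S J → piece nabla ω t (S ∪ J) ≤ piece nabla ω t J := by
    intro S
    induction S using Finset.induction_on with
    | empty => intro _; rw [Finset.empty_union]
    | insert a S ha ih =>
      intro hdis
      rw [Finset.disjoint_insert_left] at hdis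
      rw [Finset.insert_union]
      refine le_trans (piece_insert_le lam t bΩ hbΩ ω ι hι nabla hc hcomm a _ ?_) (ih hdis.2)
      intro h
      rcases Finset.mem_union.1 h with h | h
      · exact ha h
      · exact hdis.1 h
  have h1 : I = (I \ J) ∪ J := by
    rw [Finset.sdiff_union_of_subset hJI]
  rw [h1]
  exact key _ Finset.sdiff_disjoint

end Comm

section Compare

variable {A : Type v} {B L E : Type u} [CommRing A] [CommRing B]
    [Algebra A B] [AddCommGroup L] [Module B L] [Module A L] [IsScalarTower A B L]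
    [AddCommGroup E] [Module B E] [Module A E] [IsScalarTower A B E]
    (lam : B) {n : ℕ} (t : Fin n → B) (bΩ : Module.Basis (Fin n) B (KaehlerDifferential A B))
    (hbΩ : ∀ i, bΩ i = KaehlerDifferential.D A B (t i))
    (ω : Module.Basis (Fin n) B L) (ι : KaehlerDifferential A B →ₗ[B] L)
    (hι : ∀ i, ι (KaehlerDifferential.D A B (t i)) = t i • ω i)
    (nabla : E →ₗ[A] E ⊗[B] L)
    (hc : Conn.IsLamConn (ι.compDer (KaehlerDifferential.D A B)) lam nabla)
    (hcomm : ∀ (a b : Fin n) (m : E),
      comp nabla ω a (comp nabla ω b m) = comp nabla ω b (comp nabla ω a m))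
    (t' : Fin n → B) (ω' : Module.Basis (Fin n) B L) (c : Fin n → Fin n → B)
    (hrel : ∀ j, ω j = ω' j + ∑ i, (t i * c i j) • ω' i)

include hrel in
theorem coord'_eq (i j : Fin n) : ω'.coord i (ω j) = (if i = j then 1 else 0) + t i * c i j := by
  classical
  rw [hrel j, map_add, map_sum]
  simp only [map_smul, Module.Basis.coord_apply, Module.Basis.repr_self, Finsupp.single_apply,
    smul_eq_mul, mul_ite, mul_one, mul_zero, Finset.sum_ite_eq', Finset.mem_univ, if_true]
  congr 1
  simp only [eq_comm]

include hrel in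
theorem comp'_eq (i : Fin n) (m : E) :
    comp nabla ω' i m = comp nabla ω i m + t i • ∑ j, c i j • comp nabla ω j m := by
  classical
  have h1 : comp nabla ω' i m = contr E (ω'.coord i) (nabla m) := rfl
  rw [h1, nabla_eq_sum ω nabla m, map_sum]
  simp only [contr_tmul, coord'_eq t ω ω' c hrel, add_smul, Finset.sum_add_distrib, ite_smul,
    one_smul, zero_smul, Finset.sum_ite_eq, Finset.mem_univ, if_true, mul_smul, Finset.smul_sum]

include hbΩ hι hc hcomm hrel in
theorem comp'_mem_piece (i : Fin n) (K : Finset (Fin n)) {x : E}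
    (hx : x ∈ piece nabla ω t K) : comp nabla ω' i x ∈ piece nabla ω t (insert i K) := by
  rw [comp'_eq t ω nabla ω' c hrel]
  refine Submodule.add_mem _ (comp_mem_piece_insert lam t bΩ hbΩ ω ι hι nabla hc hcomm i K hx) ?_
  refine smul_t_mem_piece_insert lam t bΩ hbΩ ω ι hι nabla hc i K ?_
  refine Submodule.sum_mem _ fun j _ => ?_
  exact smul_mem_piece lam t bΩ hbΩ ω ι hι nabla hc K _
    (comp_mem_piece_self lam t bΩ hbΩ ω ι hι nabla hc hcomm j K hx)

include hbΩ hι hc hcomm hrel in
theorem compProd'_mem_piece (J : Finset (Fin n)) (e : E) :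
    compProd nabla ω' J e ∈ piece nabla ω t J := by
  classical
  induction J using Finset.induction_on_min with
  | empty =>
    have h1 : compProd nabla ω' ∅ e = gen t ω nabla ∅ ∅ e := by
      simp [gen, compProd_empty]
    rw [h1]
    exact gen_mem_piece t ω nabla (Finset.Subset.refl _) _
  | insert a J ha ih =>
    rw [compProd_insert ω' nabla a J ha, LinearMap.comp_apply]
    exact comp'_mem_piece lam t bΩ hbΩ ω ι hι nabla hc hcomm ω' c hrel a J ih

include hbΩ hι hc hcomm hrel in
/-- the pieces formed with `(t', ω')` are contained in those formed with `(t, ω)` -/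
theorem piece'_le (b : Fin n → B) (ht' : ∀ i, t' i = b i * t i) (I : Finset (Fin n)) :
    piece nabla ω' t' I ≤ piece nabla ω t I := by
  intro x hx
  refine piece_induction t' ω' nabla (P := fun x => x ∈ piece nabla ω t I) ?_ ?_ ?_ hx
  · intro J hJ e
    unfold gen
    have h1 : ∏ i ∈ I \ J, t' i = (∏ i ∈ I \ J, b i) * ∏ i ∈ I \ J, t i := by
      rw [← Finset.prod_mul_distrib]
      exact Finset.prod_congr rfl fun i _ => ht' i
    rw [h1, mul_smul]
    refine smul_mem_piece lam t bΩ hbΩ ω ι hι nabla hc I _ ?_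
    exact prod_smul_mem_piece t ω nabla hJ
      (compProd'_mem_piece lam t bΩ hbΩ ω ι hι nabla hc hcomm ω' c hrel J e)
  · exact Submodule.zero_mem _
  · intro x y hx hy
    exact Submodule.add_mem _ hx hy

include hbΩ hι hc hcomm hrel in
theorem det_smul_mem_piece (p : ℕ) (K K' : Set.powersetCard (Fin n) p) {y : E}
    (hy : y ∈ piece nabla ω t (K : Finset (Fin n))) :
    (Matrix.of fun r c' => ω'.coord (kemb p K' c') (ω (kemb p K r))).det • y ∈
      piece nabla ω t (K' : Finset (Fin n)) := by
  classical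
  set v : Fin p → B := fun c' => if kemb p K' c' ∈ (K : Finset (Fin n)) then 1 else t (kemb p K' c')
    with hv
  set M : Matrix (Fin p) (Fin p) B := Matrix.of fun r c' =>
    if kemb p K' c' ∈ (K : Finset (Fin n)) then ω'.coord (kemb p K' c') (ω (kemb p K r))
    else c (kemb p K' c') (kemb p K r) with hM
  have h1 : (Matrix.of fun r c' => ω'.coord (kemb p K' c') (ω (kemb p K r))) =
      Matrix.of fun r c' => v c' * M r c' := by
    ext r c'
    simp only [Matrix.of_apply, hv, hM]
    split_ifs with h
    · rw [one_mul]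
    · rw [coord'_eq t ω ω' c hrel, if_neg, zero_add]
      intro h2
      exact h (h2 ▸ kemb_mem p K r)
  have h2 : ∏ c', v c' = ∏ k ∈ (K' : Finset (Fin n)) \ (K : Finset (Fin n)), t k := by
    rw [hv, prod_kemb p K' (fun k => if k ∈ (K : Finset (Fin n)) then 1 else t k),
      Finset.prod_ite, Finset.prod_const_one, one_mul]
    congr 1
    ext k
    simp [Finset.mem_filter, Finset.mem_sdiff]
  rw [h1, Matrix.det_mul_row, h2, mul_smul]
  have h3 : (K' : Finset (Fin n)) \ (K : Finset (Fin n)) =
      ((K : Finset (Fin n)) ∪ (K' : Finset (Fin n))) \ (K : Finset (Fin n)) := by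
    ext k
    simp only [Finset.mem_sdiff, Finset.mem_union]
    tauto
  rw [h3]
  refine piece_anti lam t bΩ hbΩ ω ι hι nabla hc hcomm
    (I := (K : Finset (Fin n)) ∪ (K' : Finset (Fin n))) Finset.subset_union_right ?_
  refine prod_smul_mem_piece t ω nabla Finset.subset_union_left ?_
  exact smul_mem_piece lam t bΩ hbΩ ω ι hι nabla hc _ _ hy

include hbΩ hι hc hcomm hrel in
/-- comparison of the layers -/
theorem layer_le (hpiece : ∀ I, piece nabla ω t I ≤ piece nabla ω' t' I) (p : ℕ) :
    layer nabla ω t p ≤ layer nabla ω' t' p := by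
  intro x hx
  rw [mem_layer_iff] at hx ⊢
  intro K'
  apply hpiece
  rw [eq_sum_coordE ω p x, map_sum]
  refine Submodule.sum_mem _ fun K _ => ?_
  have h1 : (ω.exteriorPower p) K = exteriorPower.ιMulti B p (fun k => ω (kemb p K k)) := by
    rw [exteriorPower.basis_apply]
    rfl
  rw [h1, coordE_tmul, coord_ιMulti]
  exact det_smul_mem_piece lam t bΩ hbΩ ω ι hι nabla hc hcomm ω' c hrel p K K' (hx K)

end Compare

section Closed

variable {A : Type v} {B L E : Type u} [CommRing A] [CommRing B]
    [Algebra A B] [AddCommGroup L] [Module B L] [Module A L] [IsScalarTower A B L]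
    [AddCommGroup E] [Module B E] [Module A E] [IsScalarTower A B E]
    (lam : B) {n : ℕ} (ω : Module.Basis (Fin n) B L)
    (nabla : E →ₗ[A] E ⊗[B] L)
    (d : ∀ p : ℕ, ↥(⋀[B]^p L) →ₗ[A] ↥(⋀[B]^(p + 1) L))
    (nablas : ∀ p : ℕ, E ⊗[B] ↥(⋀[B]^p L) →ₗ[A] E ⊗[B] ↥(⋀[B]^(p + 1) L))
    (hint : Conn.IsIntegrable nabla (fun p => lam • d p) nablas)
    (hd1 : ∀ j, d 1 (exteriorPower.ιMulti B 1 (fun _ : Fin 1 => ω j)) = 0)

include hint hd1 in
theorem nablas_tmul_one (j : Fin n) (y : E) :
    nablas 1 (y ⊗ₜ[B] exteriorPower.ιMulti B 1 (fun _ : Fin 1 => ω j)) =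
      ∑ i : Fin n, comp nabla ω i y ⊗ₜ[B]
        exteriorPower.ιMulti B (1 + 1) (Fin.cons (ω i) (fun _ : Fin 1 => ω j)) := by
  rw [hint.1 1 y, LinearMap.smul_apply, hd1 j, smul_zero, TensorProduct.tmul_zero,
    add_zero, nabla_eq_sum ω nabla y, map_sum, map_sum, LinearMap.sum_apply]
  refine Finset.sum_congr rfl fun i _ => ?_
  rw [Conn.toOne_tmul, Conn.twedge_tmul, wedge_ιMulti]

include hint hd1 in
theorem comp_comm_of_closed_of_lt {a b : Fin n} (hab : a < b) (m : E) :
    comp nabla ω a (comp nabla ω b m) = comp nabla ω b (comp nabla ω a m) := by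
  classical
  have h0 := hint.2 m
  have h1 : Conn.toOne (nabla m) = ∑ j : Fin n, comp nabla ω j m ⊗ₜ[B]
      exteriorPower.ιMulti B 1 (fun _ : Fin 1 => ω j) := by
    rw [nabla_eq_sum ω nabla m, map_sum]
    refine Finset.sum_congr rfl fun j _ => ?_
    rw [Conn.toOne_tmul, exteriorPower.oneEquiv_symm_apply]
  rw [h1, map_sum] at h0
  simp_rw [nablas_tmul_one lam ω nabla d nablas hint hd1] at h0
  let f : Fin 2 ↪o Fin n := OrderEmbedding.ofStrictMono ![a, b] (by
    intro i j hij
    fin_cases i <;> fin_cases j <;> simp_all)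
  let K : Set.powersetCard (Fin n) 2 := Set.powersetCard.ofFinEmbEquiv f
  have hK : kemb 2 K = f := Equiv.symm_apply_apply _ _
  have h2 := congrArg (coordE (E := E) ω 2 K) h0
  rw [map_zero, map_sum] at h2
  simp_rw [map_sum, coordE_tmul, coord_ιMulti, Matrix.det_fin_two, hK] at h2
  have hf0 : f 0 = a := rfl
  have hf1 : f 1 = b := rfl
  simp only [Matrix.of_apply, hf0, hf1, Fin.cons_zero, Fin.cons_one, Module.Basis.coord_apply,
    Module.Basis.repr_self, Finsupp.single_apply] at h2
  simp only [sub_smul, Finset.sum_sub_distrib, mul_smul, ite_smul, one_smul, zero_smul, smul_ite,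
    smul_zero] at h2
  rw [Finset.sum_eq_single b (by intro x _ hx; simp [hx]) (by simp),
    Finset.sum_eq_single a (by intro x _ hx; simp [hx]) (by simp),
    Finset.sum_eq_single a (by intro x _ hx; simp [hx]) (by simp),
    Finset.sum_eq_single b (by intro x _ hx; simp [hx]) (by simp)] at h2
  simp only [if_true] at h2
  exact sub_eq_zero.1 h2

include hint hd1 in
/-- the components of a flat connection in a basis of closed forms commute -/
theorem comp_comm_of_closed (a b : Fin n) (m : E) :
    comp nabla ω a (comp nabla ω b m) = comp nabla ω b (comp nabla ω a m) := by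
  rcases lt_trichotomy a b with h | h | h
  · exact comp_comm_of_closed_of_lt lam ω nabla d nablas hint hd1 h m
  · rw [h]
  · exact (comp_comm_of_closed_of_lt lam ω nabla d nablas hint hd1 h m).symm

end Closed

section Change

variable {A : Type v} {B L E : Type u} [CommRing A] [CommRing B]
    [Algebra A B] [AddCommGroup L] [Module B L] [Module A L] [IsScalarTower A B L]
    [AddCommGroup E] [Module B E] [Module A E] [IsScalarTower A B E]
    (lam : B) {n : ℕ} (t : Fin n → B) (bΩ : Module.Basis (Fin n) B (KaehlerDifferential A B))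
    (hbΩ : ∀ i, bΩ i = KaehlerDifferential.D A B (t i))
    (ω : Module.Basis (Fin n) B L) (ι : KaehlerDifferential A B →ₗ[B] L)
    (hι : ∀ i, ι (KaehlerDifferential.D A B (t i)) = t i • ω i)
    (nabla : E →ₗ[A] E ⊗[B] L)
    (hc : Conn.IsLamConn (ι.compDer (KaehlerDifferential.D A B)) lam nabla)
    (d : ∀ p : ℕ, ↥(⋀[B]^p L) →ₗ[A] ↥(⋀[B]^(p + 1) L))
    (hd : LogDiff.IsLogRule (KaehlerDifferential.D A B) ι (⇑ω) d)
    (nablas : ∀ p : ℕ, E ⊗[B] ↥(⋀[B]^p L) →ₗ[A] E ⊗[B] ↥(⋀[B]^(p + 1) L))
    (hint : Conn.IsIntegrable nabla (fun p => lam • d p) nablas)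

include hbΩ hι in
theorem ι_D_eq_sum (b : B) :
    ι (KaehlerDifferential.D A B b) = ∑ i, (t i * pd bΩ i b) • ω i := by
  conv_lhs => rw [← ω.sum_repr (ι (KaehlerDifferential.D A B b))]
  refine Finset.sum_congr rfl fun i _ => ?_
  rw [← coord_ι_D t bΩ hbΩ ω ι hι i b]
  rfl

include hd in
theorem d_one_unit (u : Bˣ) :
    d 1 (((u⁻¹ : Bˣ) : B) • exteriorPower.ιMulti B 1
      (fun _ : Fin 1 => ι (KaehlerDifferential.D A B (u : B)))) = 0 := by
  rw [hd 1 _ _ (fun _ => Or.inl ⟨_, rfl⟩)]
  have h1 : KaehlerDifferential.D A B ((u⁻¹ : Bˣ) : B) =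
      -((u⁻¹ : Bˣ) : B) ^ 2 • KaehlerDifferential.D A B (u : B) :=
    Derivation.leibniz_of_mul_eq_one _ (by simp)
  rw [h1, map_smul]
  have h2 := (exteriorPower.ιMulti B (1 + 1) (M := L)).toMultilinearMap.cons_smul
    (fun _ : Fin 1 => ι (KaehlerDifferential.D A B (u : B))) (-((u⁻¹ : Bˣ) : B) ^ 2)
    (ι (KaehlerDifferential.D A B (u : B)))
  refine h2.trans ?_
  have h3 : exteriorPower.ιMulti B (1 + 1) (M := L)
      (Fin.cons (ι (KaehlerDifferential.D A B (u : B)))
        fun _ : Fin 1 => ι (KaehlerDifferential.D A B (u : B))) = 0 :=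
    AlternatingMap.map_eq_zero_of_eq _ _ (i := 0) (j := 1) rfl (by decide)
  exact (congrArg (fun z => (-((u⁻¹ : Bˣ) : B) ^ 2) • z) h3).trans (smul_zero _)

include hbΩ hι hc hd hint in
/-- (S16798) the layers do not depend on the coordinates with given branches -/
theorem layer_eq_of_units (u : Fin n → Bˣ) (bΩ' : Module.Basis (Fin n) B (KaehlerDifferential A B))
    (hbΩ' : ∀ i, bΩ' i = KaehlerDifferential.D A B ((u i : B) * t i))
    (ω' : Module.Basis (Fin n) B L)
    (hω' : ∀ i, ω' i = ω i + ((u i)⁻¹ : Bˣ).val • ι (KaehlerDifferential.D A B (u i : B)))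
    (p : ℕ) :
    layer nabla ω t p = layer nabla ω' (fun i => (u i : B) * t i) p := by
  classical
  set t' : Fin n → B := fun i => (u i : B) * t i with ht'
  have hι' : ∀ i, ι (KaehlerDifferential.D A B (t' i)) = t' i • ω' i := by
    intro i
    simp only [ht']
    rw [Derivation.leibniz, map_add, map_smul, map_smul, hι, hω', smul_add, smul_smul,
      smul_smul]
    congr 2
    rw [mul_comm (u i : B) (t i), mul_assoc, Units.mul_inv, mul_one]
  have hcomm := comp_comm lam ω ι nabla d hd nablas hint
  have hd1' : ∀ j, d 1 (exteriorPower.ιMulti B 1 (fun _ : Fin 1 => ω' j)) = 0 := by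
    intro j
    have e1 : ∀ x : L, exteriorPower.ιMulti B 1 (fun _ : Fin 1 => x) =
        (exteriorPower.oneEquiv B L).symm x := fun x =>
      (exteriorPower.oneEquiv_symm_apply B L x).symm
    rw [e1, hω', map_add, map_smul, map_add, ← e1, ← e1, d_one_unit ω ι d hd, add_zero]
    exact d_basis ω ι d hd 1 (fun _ => j)
  have hcomm' := comp_comm_of_closed lam ω' nabla d nablas hint hd1'
  have hrel : ∀ j, ω j = ω' j + ∑ i, (t i *
      (-(((u j)⁻¹ : Bˣ) : B) * (u i : B) * pd bΩ' i (u j : B))) • ω' i := by
    intro j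
    have h1 : ω j = ω' j - ((u j)⁻¹ : Bˣ).val • ι (KaehlerDifferential.D A B (u j : B)) := by
      rw [hω']; abel
    rw [h1, ι_D_eq_sum t' bΩ' hbΩ' ω' ι hι', sub_eq_add_neg, Finset.smul_sum,
      ← Finset.sum_neg_distrib]
    congr 1
    refine Finset.sum_congr rfl fun i _ => ?_
    rw [smul_smul, ← neg_smul]
    congr 1
    simp only [ht']
    ring
  have hrel' : ∀ j, ω' j = ω j + ∑ i, (t' i *
      ((((u j)⁻¹ : Bˣ) : B) * (((u i)⁻¹ : Bˣ) : B) * pd bΩ i (u j : B))) • ω i := by
    intro j
    rw [hω', ι_D_eq_sum t bΩ hbΩ ω ι hι, Finset.smul_sum]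
    congr 1
    refine Finset.sum_congr rfl fun i _ => ?_
    rw [smul_smul]
    congr 1
    simp only [ht']
    have : (u i : B) * (((u i)⁻¹ : Bˣ) : B) = 1 := Units.mul_inv _
    linear_combination (-(((u j)⁻¹ : Bˣ) : B) * t i * pd bΩ i (u j : B)) * this
  have hp1 : ∀ I, piece nabla ω' t' I ≤ piece nabla ω t I :=
    piece'_le lam t bΩ hbΩ ω ι hι nabla hc hcomm t' ω' _ hrel (fun i => (u i : B)) (fun i => rfl)
  have hp2 : ∀ I, piece nabla ω t I ≤ piece nabla ω' t' I :=
    piece'_le lam t' bΩ' hbΩ' ω' ι hι' nabla hc hcomm' t ω _ hrel'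
      (fun i => (((u i)⁻¹ : Bˣ) : B)) (fun i => by simp [ht'])
  exact le_antisymm
    (layer_le lam t bΩ hbΩ ω ι hι nabla hc hcomm t' ω' _ hrel hp2 p)
    (layer_le lam t' bΩ' hbΩ' ω' ι hι' nabla hc hcomm' t ω _ hrel' hp1 p)

end Change

end Groth.Agent.Lib.Helper84.LogC
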