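import Mathlib

/-!
# Logarithmic differentials, part 1 (helper84, S18578)

* `formallySmooth_of_charZero`: any field extension in characteristic zero is formally smooth.
* `dlog` calculus in `Ω[K⁄k]`.
-/

set_option autoImplicit false

universe u

namespace Groth.Agent.Lib.Helper84.LogD

/-- any field extension in characteristic zero is formally smooth -/
theorem formallySmooth_of_charZero (K L : Type*) [Field K] [Field L] [Algebra K L] [CharZero K] :
    Algebra.FormallySmooth K L := by
  obtain ⟨s, hs⟩ := exists_isTranscendenceBasis K L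
  have h1 : Algebra.IsAlgebraic (IntermediateField.adjoin K (Set.range ((↑) : s → L))) L :=
    hs.isAlgebraic_field
  have h2 : Algebra.IsSeparable (IntermediateField.adjoin K (Set.range ((↑) : s → L))) L :=
    inferInstance
  exact Algebra.FormallySmooth.of_algebraicIndependent_of_isSeparable hs.1

section Dlog

variable (k : Type u) {K : Type u} [Field k] [Field K] [Algebra k K]

/-- logarithmic differential -/
noncomputable def dlog (x : K) : Ω[K⁄k] := x⁻¹ • KaehlerDifferential.D k K x

theorem dlog_def (x : K) : dlog k x = x⁻¹ • KaehlerDifferential.D k K x := rfl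

theorem dlog_one : dlog k (1 : K) = 0 := by
  simp [dlog]

theorem dlog_mul {x y : K} (hx : x ≠ 0) (hy : y ≠ 0) : dlog k (x * y) = dlog k x + dlog k y := by
  unfold dlog
  rw [Derivation.leibniz, smul_add, smul_smul, smul_smul, add_comm]
  congr 2
  · field_simp
  · field_simp

theorem dlog_inv {x : K} (hx : x ≠ 0) : dlog k x⁻¹ = - dlog k x := by
  have h := dlog_mul k hx (inv_ne_zero hx)
  rw [mul_inv_cancel₀ hx, dlog_one] at h
  exact (neg_eq_of_add_eq_zero_right h.symm).symm

theorem dlog_div {x y : K} (hx : x ≠ 0) (hy : y ≠ 0) : dlog k (x / y) = dlog k x - dlog k y := by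
  rw [div_eq_mul_inv, dlog_mul k hx (inv_ne_zero hy), dlog_inv k hy, sub_eq_add_neg]

theorem dlog_pow {x : K} (hx : x ≠ 0) (n : ℕ) : dlog k (x ^ n) = n • dlog k x := by
  induction n with
  | zero => simp [dlog_one]
  | succ n ih => rw [pow_succ, dlog_mul k (pow_ne_zero n hx) hx, ih, succ_nsmul]

theorem dlog_zpow {x : K} (hx : x ≠ 0) (n : ℤ) : dlog k (x ^ n) = n • dlog k x := by
  cases n with
  | ofNat n => simp [dlog_pow k hx]
  | negSucc n =>
    rw [zpow_negSucc, dlog_inv k (pow_ne_zero _ hx), dlog_pow k hx, negSucc_zsmul]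

theorem dlog_prod {ι : Type*} (s : Finset ι) (x : ι → K) (hx : ∀ i ∈ s, x i ≠ 0) :
    dlog k (∏ i ∈ s, x i) = ∑ i ∈ s, dlog k (x i) := by
  classical
  induction s using Finset.induction_on with
  | empty => simp [dlog_one]
  | insert a s ha ih =>
    rw [Finset.prod_insert ha, Finset.sum_insert ha,
      dlog_mul k (hx a (Finset.mem_insert_self a s))
        (Finset.prod_ne_zero_iff.2 fun i hi => hx i (Finset.mem_insert_of_mem hi)),
      ih fun i hi => hx i (Finset.mem_insert_of_mem hi)]

end Dlog

end Groth.Agent.Lib.Helper84.LogD
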