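import Mathlib
import Groth.Agent.Lib.Helper84.LogD1

/-!
# Logarithmic differentials, part 2 (helper84, S18578)

* `kerCotangentToTensor_injective`: for a local `k`-algebra `A` whose residue field is formally
  smooth over `k`, the map `𝔪/𝔪² → κ ⊗_A Ω_{A/k}` is injective.
* `map_injective_of_projective`: `Ω_{V/k} → Ω_{K/k}` is injective when `Ω_{V/k}` is projective and
  `K = Frac V`.
-/

set_option autoImplicit false

universe u

namespace Groth.Agent.Lib.Helper84.LogD

open IsLocalRing TensorProduct

section Inj

variable (k A : Type u) [CommRing k] [CommRing A] [IsLocalRing A] [Algebra k A]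

theorem kerCotangentToTensor_injective [Algebra.FormallySmooth k (ResidueField A)] :
    Function.Injective (KaehlerDifferential.kerCotangentToTensor k A (ResidueField A)) := by
  have hsurj : Function.Surjective (algebraMap A (ResidueField A)) := residue_surjective
  let g := (IsScalarTower.toAlgHom k A (ResidueField A)).kerSquareLift
  have hgsurj : Function.Surjective g := by
    intro x
    obtain ⟨a, rfl⟩ := hsurj x
    exact ⟨Ideal.Quotient.mk _ a, rfl⟩
  have hgnil : IsNilpotent (RingHom.ker g.toRingHom) := by
    refine ⟨2, ?_⟩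
    have := AlgHom.ker_kerSquareLift (IsScalarTower.toAlgHom k A (ResidueField A))
    rw [this, Ideal.cotangentIdeal_square]
    rfl
  let σ := Algebra.FormallySmooth.liftOfSurjective (AlgHom.id k (ResidueField A)) g hgsurj hgnil
  have hσ : g.comp σ = AlgHom.id _ _ :=
    Algebra.FormallySmooth.comp_liftOfSurjective _ g hgsurj hgnil
  obtain ⟨l, hl⟩ := (retractionKerCotangentToTensorEquivSection (R := k) hsurj).symm ⟨σ, hσ⟩
  intro x y hxy
  have := congrArg l hxy
  rw [← LinearMap.comp_apply, ← LinearMap.comp_apply, hl] at this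
  exact this

/-- if `1 ⊗ dμ = 0` in `κ ⊗ Ω_{A/k}` for `μ ∈ 𝔪`, then `μ ∈ 𝔪²` -/
theorem mem_sq_of_tmul_D_eq_zero [Algebra.FormallySmooth k (ResidueField A)] {μ : A}
    (hμ : μ ∈ maximalIdeal A)
    (h0 : (1 : ResidueField A) ⊗ₜ[A] KaehlerDifferential.D k A μ = 0) :
    μ ∈ maximalIdeal A ^ 2 := by
  have hker : μ ∈ RingHom.ker (algebraMap A (ResidueField A)) := by
    rw [RingHom.mem_ker]; exact (residue_eq_zero_iff μ).2 hμ
  have hker_eq : RingHom.ker (algebraMap A (ResidueField A)) = maximalIdeal A := ker_residue
  have h1 : KaehlerDifferential.kerCotangentToTensor k A (ResidueField A)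
      (Ideal.toCotangent _ ⟨μ, hker⟩) = 0 := by
    rw [KaehlerDifferential.kerCotangentToTensor_toCotangent]
    exact h0
  have h3 := kerCotangentToTensor_injective k A (h1.trans (map_zero _).symm)
  rw [Ideal.toCotangent_eq_zero] at h3
  have h4 : μ ∈ RingHom.ker (algebraMap A (ResidueField A)) ^ 2 := h3
  rw [hker_eq] at h4
  exact h4

end Inj

section MapInj

variable (k V K : Type u) [CommRing k] [CommRing V] [IsDomain V] [Algebra k V]
  [Field K] [Algebra V K] [IsFractionRing V K] [Algebra k K] [IsScalarTower k V K]

theorem map_injective_of_projective [Module.Projective V Ω[V⁄k]] :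
    Function.Injective (KaehlerDifferential.map k k V K) := by
  rw [← LinearMap.ker_eq_bot, LinearMap.ker_eq_bot']
  intro x hx
  obtain ⟨c, hc⟩ := (IsLocalizedModule.eq_zero_iff (nonZeroDivisors V)
    (KaehlerDifferential.map k k V K)).1 hx
  obtain ⟨s, hs⟩ := Module.projective_def'.1 (inferInstance : Module.Projective V Ω[V⁄k])
  have hsinj : Function.Injective s := fun a b hab => by
    have := congrArg (Finsupp.linearCombination V id) hab
    rwa [← LinearMap.comp_apply, ← LinearMap.comp_apply, hs] at this
  apply hsinj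
  rw [map_zero]
  have h1 : (c : V) • s x = 0 := by
    rw [← map_smul]
    have : (c : V) • x = 0 := hc
    rw [this, map_zero]
  exact (smul_eq_zero.1 h1).resolve_left (nonZeroDivisors.coe_ne_zero c)

end MapInj

end Groth.Agent.Lib.Helper84.LogD
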