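import Mathlib
import Groth.Agent.Lib.Helper84.LogD2

/-!
# Logarithmic differentials, part 3 (helper84, S18578): the key lemma

`R` a domain formally smooth over a field `k` of characteristic zero, `q` a prime element,
`V = R_(q)`, `K = Frac R`.  If `m • dlog q` lies in the image of `Ω_{V/k} → Ω_{K/k}` then `m = 0`.
-/

set_option autoImplicit false

universe u

namespace Groth.Agent.Lib.Helper84.LogD

open IsLocalRing TensorProduct

section KL

variable {k R V K : Type u} [Field k] [CharZero k] [CommRing R] [IsDomain R] [Algebra k R]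
  [Algebra.FormallySmooth k R]
  [Field K] [Algebra R K] [IsFractionRing R K] [Algebra k K] [IsScalarTower k R K]
  (q : R) (hq : Prime q)
  [CommRing V] [Algebra R V] [Algebra k V] [IsScalarTower k R V] [Algebra V K] [IsScalarTower R V K]
  [IsScalarTower k V K]
  [hP : (Ideal.span {q}).IsPrime] [IsLocalization.AtPrime V (Ideal.span {q})]

omit [IsScalarTower k R K] in
include hq in
theorem key_lemma (m : ℤ) (ω : Ω[V⁄k])
    (h : KaehlerDifferential.map k k V K ω = m • dlog k (algebraMap R K q)) : m = 0 := by
  have hfr : IsFractionRing V K :=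
    IsFractionRing.isFractionRing_of_isDomain_of_isLocalization (Ideal.span {q}).primeCompl V K
  have hdom : IsDomain V := (IsFractionRing.injective V K).isDomain (algebraMap V K)
  have hloc : IsLocalRing V := IsLocalization.AtPrime.isLocalRing V (Ideal.span {q})
  have hfsRV : Algebra.FormallySmooth R V :=
    Algebra.FormallySmooth.of_isLocalization (Ideal.span {q}).primeCompl
  have hfs : Algebra.FormallySmooth k V := Algebra.FormallySmooth.comp k R V
  have hinj := map_injective_of_projective k V K
  set qV : V := algebraMap R V q with hqV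
  have hqK : algebraMap R K q ≠ 0 := by
    rw [Ne, map_eq_zero_iff _ (IsFractionRing.injective R K)]
    exact hq.ne_zero
  have hqVK : algebraMap V K qV = algebraMap R K q := by
    rw [hqV, ← IsScalarTower.algebraMap_apply]
  -- the equation in `Ω_V`
  have h1 : qV • ω = m • KaehlerDifferential.D k V qV := by
    apply hinj
    rw [map_smul, map_zsmul, KaehlerDifferential.map_D, h, algebra_compatible_smul K qV, hqVK,
      dlog_def, smul_comm, smul_smul, mul_inv_cancel₀ hqK, one_smul]
  -- `qV` is in the maximal ideal
  have hqm : qV ∈ maximalIdeal V := by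
    rw [← IsLocalization.AtPrime.map_eq_maximalIdeal (Ideal.span {q}) V]
    exact Ideal.mem_map_of_mem _ (Ideal.subset_span rfl)
  -- tensor with the residue field
  have : CharZero (ResidueField V) :=
    charZero_of_injective_algebraMap (algebraMap k (ResidueField V)).injective
  have : Algebra.FormallySmooth k (ResidueField V) := formallySmooth_of_charZero k _
  by_contra hm
  have h2 : (1 : ResidueField V) ⊗ₜ[V] KaehlerDifferential.D k V qV = 0 := by
    have h3 : (1 : ResidueField V) ⊗ₜ[V] (qV • ω) = 0 := by
      rw [← smul_tmul]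
      have : qV • (1 : ResidueField V) = 0 := by
        rw [Algebra.smul_def, mul_one]; exact (residue_eq_zero_iff qV).2 hqm
      rw [this, zero_tmul]
    rw [h1, tmul_smul, ← Int.cast_smul_eq_zsmul (ResidueField V)] at h3
    exact (smul_eq_zero.1 h3).resolve_left (Int.cast_ne_zero.2 hm)
  have h4 := mem_sq_of_tmul_D_eq_zero k V hqm h2
  -- contradiction: `qV ∈ 𝔪²` with `𝔪 = (qV)`
  have hmax : maximalIdeal V = Ideal.span {qV} := by
    rw [← IsLocalization.AtPrime.map_eq_maximalIdeal (Ideal.span {q}) V, Ideal.map_span,
      Set.image_singleton]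
  rw [hmax, Ideal.span_singleton_pow, Ideal.mem_span_singleton] at h4
  obtain ⟨t, ht⟩ := h4
  have hqV0 : qV ≠ 0 := by
    intro h0
    apply hqK
    rw [← hqVK, h0, map_zero]
  have h5 : qV * t = 1 := by
    have : qV * (qV * t) = qV * 1 := by rw [mul_one]; rw [pow_two, mul_assoc] at ht; exact ht.symm
    exact mul_left_cancel₀ hqV0 this
  have h6 : IsUnit qV := isUnit_iff_exists_inv.2 ⟨t, h5⟩
  exact (IsLocalRing.mem_maximalIdeal _).1 hqm h6

end KL

end Groth.Agent.Lib.Helper84.LogD
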