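import Mathlib
import Groth.Agent.Lib.Helper84.LogD3

/-!
# Logarithmic differentials, part 4 (helper84, S18578): the valuation lemma, `V`-free form
-/

set_option autoImplicit false

universe u

namespace Groth.Agent.Lib.Helper84.LogD

open IsLocalRing TensorProduct

section Val

variable {k R K : Type u} [Field k] [CharZero k] [CommRing R] [IsDomain R] [Algebra k R]
  [Algebra.FormallySmooth k R]
  [Field K] [Algebra R K] [IsFractionRing R K] [Algebra k K] [IsScalarTower k R K]
  (q : R) [hP : (Ideal.span {q}).IsPrime]

omit [Algebra.FormallySmooth k R] [CharZero k] [IsScalarTower k R K] [Algebra k K] [Algebra k R]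
  [IsDomain R] in
theorem isUnit_algebraMap_of_mem_primeCompl (y : (Ideal.span {q}).primeCompl) :
    IsUnit (algebraMap R K y) := by
  apply IsUnit.mk0
  rw [Ne, map_eq_zero_iff _ (IsFractionRing.injective R K)]
  intro h
  exact y.2 (h ▸ Ideal.zero_mem _)

/-- the canonical map `R_(q) → K` -/
noncomputable def toK : Localization.AtPrime (Ideal.span {q}) →+* K :=
  IsLocalization.lift (M := (Ideal.span {q}).primeCompl) (g := algebraMap R K)
    (isUnit_algebraMap_of_mem_primeCompl q)

/-- `K` as an algebra over `R_(q)` -/
@[reducible] noncomputable def algVK : Algebra (Localization.AtPrime (Ideal.span {q})) K :=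
  (toK (K := K) q).toAlgebra

attribute [local instance] algVK

omit [IsDomain R] [CharZero k] [Algebra.FormallySmooth k R] [Algebra k R] [Algebra k K]
  [IsScalarTower k R K] in
theorem towerRVK : IsScalarTower R (Localization.AtPrime (Ideal.span {q})) K :=
  IsScalarTower.of_algebraMap_eq (fun x => (IsLocalization.lift_eq _ x).symm)

attribute [local instance] towerRVK

omit [CharZero k] [Algebra.FormallySmooth k R] in
theorem towerkVK : IsScalarTower k (Localization.AtPrime (Ideal.span {q})) K :=
  IsScalarTower.of_algebraMap_eq (fun x => by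
    rw [IsScalarTower.algebraMap_apply k R (Localization.AtPrime (Ideal.span {q})),
      ← IsScalarTower.algebraMap_apply R (Localization.AtPrime (Ideal.span {q})) K,
      ← IsScalarTower.algebraMap_apply k R K])

attribute [local instance] towerkVK

variable (k)

/-- the image of `Ω_{V/k}` in `Ω_{K/k}` -/
noncomputable def W : Submodule (Localization.AtPrime (Ideal.span {q})) Ω[K⁄k] :=
  LinearMap.range (KaehlerDifferential.map k k (Localization.AtPrime (Ideal.span {q})) K)

theorem D_mem_W (y : R) : KaehlerDifferential.D k K (algebraMap R K y) ∈ W k (K := K) q := by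
  refine ⟨KaehlerDifferential.D k _ (algebraMap R (Localization.AtPrime (Ideal.span {q})) y), ?_⟩
  rw [KaehlerDifferential.map_D, ← IsScalarTower.algebraMap_apply]

theorem smul_mem_W (c : R) {x : Ω[K⁄k]} (hx : x ∈ W k (K := K) q) :
    algebraMap R K c • x ∈ W k (K := K) q := by
  have : algebraMap R K c • x = (algebraMap R (Localization.AtPrime (Ideal.span {q})) c) • x := by
    rw [algebra_compatible_smul K (algebraMap R (Localization.AtPrime (Ideal.span {q})) c) x,
      ← IsScalarTower.algebraMap_apply]
  rw [this]
  exact Submodule.smul_mem _ _ hx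

theorem inv_smul_mem_W (y : R) (hy : ¬ q ∣ y) {x : Ω[K⁄k]} (hx : x ∈ W k (K := K) q) :
    (algebraMap R K y)⁻¹ • x ∈ W k (K := K) q := by
  have hy' : y ∈ (Ideal.span {q}).primeCompl := by
    show y ∉ Ideal.span {q}
    rwa [Ideal.mem_span_singleton]
  have hu : IsUnit (algebraMap R (Localization.AtPrime (Ideal.span {q})) y) :=
    IsLocalization.map_units _ (⟨y, hy'⟩ : (Ideal.span {q}).primeCompl)
  obtain ⟨u, hu⟩ := hu
  have h1 : (algebraMap R K y)⁻¹ =
      algebraMap (Localization.AtPrime (Ideal.span {q})) K ((u⁻¹ : _ˣ) : _) := by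
    rw [IsScalarTower.algebraMap_apply R (Localization.AtPrime (Ideal.span {q})) K, ← hu]
    apply inv_eq_of_mul_eq_one_right
    rw [← map_mul, Units.mul_inv, map_one]
  rw [h1, ← algebra_compatible_smul K]
  exact Submodule.smul_mem _ _ hx

theorem map_mem_W (η : Ω[R⁄k]) : KaehlerDifferential.map k k R K η ∈ W k (K := K) q := by
  have hη : η ∈ Submodule.span R (Set.range (KaehlerDifferential.D k R)) := by
    rw [KaehlerDifferential.span_range_derivation]; trivial
  induction hη using Submodule.span_induction with
  | mem x hx =>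
    obtain ⟨y, rfl⟩ := hx
    rw [KaehlerDifferential.map_D]
    exact D_mem_W k q y
  | zero => rw [map_zero]; exact Submodule.zero_mem _
  | add x y _ _ hx hy => rw [map_add]; exact Submodule.add_mem _ hx hy
  | smul c x _ hx =>
    rw [map_smul, algebra_compatible_smul K c]
    exact smul_mem_W k q c hx

theorem dlog_mem_W (y : R) (hy : ¬ q ∣ y) : dlog k (algebraMap R K y) ∈ W k (K := K) q := by
  rw [dlog_def]
  exact inv_smul_mem_W k q y hy (D_mem_W k q y)

variable {k}

/-- **valuation lemma**: if `q^m · x / y` (with `q ∤ x, y`) has a logarithmic differential with at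
worst logarithmic poles along divisors `f i` not divisible by `q`, then `m = 0`. -/
theorem val_lemma (hq : Prime q) {r : ℕ} (f : Fin r → R) (hf : ∀ i, ¬ q ∣ f i) (m : ℤ) (x y : R)
    (hx : ¬ q ∣ x) (hy : ¬ q ∣ y) (η : Ω[R⁄k]) (c : Fin r → R)
    (h : dlog k ((algebraMap R K q) ^ m * (algebraMap R K x / algebraMap R K y)) =
      KaehlerDifferential.map k k R K η +
        ∑ i, (algebraMap R K (c i) * (algebraMap R K (f i))⁻¹) •
          KaehlerDifferential.D k K (algebraMap R K (f i))) : m = 0 := by
  have hne : ∀ z : R, ¬ q ∣ z → algebraMap R K z ≠ 0 := by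
    intro z hz
    rw [Ne, map_eq_zero_iff _ (IsFractionRing.injective R K)]
    rintro rfl
    exact hz (dvd_zero q)
  have hqK : algebraMap R K q ≠ 0 := by
    rw [Ne, map_eq_zero_iff _ (IsFractionRing.injective R K)]
    exact hq.ne_zero
  rw [dlog_mul k (zpow_ne_zero m hqK) (div_ne_zero (hne x hx) (hne y hy)), dlog_zpow k hqK,
    dlog_div k (hne x hx) (hne y hy)] at h
  have h1 : m • dlog k (algebraMap R K q) ∈ W k (K := K) q := by
    have h2 : m • dlog k (algebraMap R K q) = KaehlerDifferential.map k k R K η +
        ∑ i, (algebraMap R K (c i) * (algebraMap R K (f i))⁻¹) •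
          KaehlerDifferential.D k K (algebraMap R K (f i)) -
        (dlog k (algebraMap R K x) - dlog k (algebraMap R K y)) := by
      rw [← h]; abel
    rw [h2]
    refine Submodule.sub_mem _ (Submodule.add_mem _ (map_mem_W k q η) (Submodule.sum_mem _ ?_))
      (Submodule.sub_mem _ (dlog_mem_W k q x hx) (dlog_mem_W k q y hy))
    intro i _
    rw [← smul_smul]
    exact smul_mem_W k q (c i) (inv_smul_mem_W k q (f i) (hf i) (D_mem_W k q (f i)))
  obtain ⟨ω, hω⟩ := h1
  exact key_lemma (V := Localization.AtPrime (Ideal.span {q})) q hq m ω hω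

end Val


end Groth.Agent.Lib.Helper84.LogD
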