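import Mathlib
import Groth.Agent.Lib.Helper84.LogD4

/-!
# Logarithmic differentials, part 5 (helper84, S18578): factorization bookkeeping
-/

set_option autoImplicit false

universe u

namespace Groth.Agent.Lib.Helper84.LogD

section UFD

variable {R : Type u} [CommRing R] [IsDomain R] [UniqueFactorizationMonoid R]

/-- an element all of whose prime factors divide some `f i` (the `f i` prime) is a unit times a
product of powers of the `f i` -/
theorem exists_unit_mul_prod_pow {r : ℕ} (f : Fin r → R) (hf : ∀ i, Prime (f i)) (a : R)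
    (ha : a ≠ 0) (h : ∀ q, Prime q → q ∣ a → ∃ i, q ∣ f i) :
    ∃ (v : Rˣ) (e : Fin r → ℕ), a = v * ∏ i, f i ^ e i := by
  induction a using UniqueFactorizationMonoid.induction_on_prime with
  | h₁ => exact absurd rfl ha
  | h₂ x hx =>
    obtain ⟨v, rfl⟩ := hx
    exact ⟨v, fun _ => 0, by simp⟩
  | h₃ a p ha0 hp ih =>
    obtain ⟨v, e, hve⟩ := ih ha0 (fun q hq hqa => h q hq (Dvd.dvd.mul_left hqa p))
    obtain ⟨i, hi⟩ := h p hp (dvd_mul_right p a)
    obtain ⟨w, hw⟩ := hi
    have hwu : IsUnit w := by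
      rcases (hf i).irreducible.isUnit_or_isUnit hw with h1 | h1
      · exact absurd h1 hp.not_isUnit
      · exact h1
    obtain ⟨w, rfl⟩ := hwu
    refine ⟨w⁻¹ * v, fun j => e j + if i = j then 1 else 0, ?_⟩
    have h1 : ∏ j, f j ^ (e j + if i = j then 1 else 0) = (∏ j, f j ^ e j) * f i := by
      simp_rw [pow_add]
      rw [Finset.prod_mul_distrib, Finset.prod_pow_boole]
      simp
    have h2 : p = f i * ((w⁻¹ : Rˣ) : R) := by
      rw [hw, mul_assoc, Units.mul_inv, mul_one]
    rw [h1, h2, hve, Units.val_mul]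
    ring

end UFD

section L1

variable (k : Type u) {R K : Type u} [Field k] [CommRing R] [IsDomain R]
  [Field K] [Algebra R K] [IsFractionRing R K] [Algebra k K]

theorem dlog_unit_mul_prod_pow {r : ℕ} (f : Fin r → R) (hf : ∀ i, f i ≠ 0) (v : Rˣ)
    (e : Fin r → ℕ) :
    dlog k (algebraMap R K (v * ∏ i, f i ^ e i)) =
      dlog k (algebraMap R K v) + ∑ i, (e i) • dlog k (algebraMap R K (f i)) := by
  have hinj := IsFractionRing.injective R K
  have hfK : ∀ i, algebraMap R K (f i) ≠ 0 := fun i => by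
    rw [Ne, map_eq_zero_iff _ hinj]; exact hf i
  have hvK : algebraMap R K v ≠ 0 := by
    rw [Ne, map_eq_zero_iff _ hinj]; exact v.ne_zero
  rw [map_mul, map_prod, dlog_mul k hvK (Finset.prod_ne_zero_iff.2 fun i _ => by
    rw [map_pow]; exact pow_ne_zero _ (hfK i)), dlog_prod k _ _ (fun i _ => by
    rw [map_pow]; exact pow_ne_zero _ (hfK i))]
  congr 1
  apply Finset.sum_congr rfl
  intro i _
  rw [map_pow, dlog_pow k (hfK i)]

end L1

end Groth.Agent.Lib.Helper84.LogD
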