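import Groth.Agent.Lib.Helper84.LogLayer
import Groth.Prelude.Def_LogDiff

/-!
# Flat logarithmic λ-connections: commuting components and stability of the layers (helper84)
-/

set_option autoImplicit false
set_option linter.unusedSectionVars false
universe v u

open TensorProduct

namespace Groth.Agent.Lib.Helper84.LogC

open LogConn

section Wedge

variable {B L : Type u} [CommRing B] [AddCommGroup L] [Module B L]

theorem wedge_ιMulti (p : ℕ) (x : L) (v : Fin p → L) :
    Conn.wedge p ((exteriorPower.oneEquiv B L).symm x) (exteriorPower.ιMulti B p v) =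
      exteriorPower.ιMulti B (p + 1) (Fin.cons x v) := by
  apply Subtype.ext
  rw [Conn.wedge_apply_coe, exteriorPower.oneEquiv_symm_apply, exteriorPower.ιMulti_apply_coe,
    exteriorPower.ιMulti_apply_coe, exteriorPower.ιMulti_apply_coe,
    ExteriorAlgebra.ιMulti_succ_apply, ExteriorAlgebra.ιMulti_succ_apply,
    ExteriorAlgebra.ιMulti_zero_apply, mul_one]
  congr 2

end Wedge

section Flat

variable {A : Type v} {B L E : Type u} [CommRing A] [CommRing B]
    [Algebra A B] [AddCommGroup L] [Module B L] [Module A L] [IsScalarTower A B L]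
    [AddCommGroup E] [Module B E] [Module A E] [IsScalarTower A B E]
    (lam : B) {n : ℕ} (t : Fin n → B) (bΩ : Module.Basis (Fin n) B (KaehlerDifferential A B))
    (hbΩ : ∀ i, bΩ i = KaehlerDifferential.D A B (t i))
    (ω : Module.Basis (Fin n) B L) (ι : KaehlerDifferential A B →ₗ[B] L)
    (hι : ∀ i, ι (KaehlerDifferential.D A B (t i)) = t i • ω i)
    (nabla : E →ₗ[A] E ⊗[B] L)
    (hc : Conn.IsLamConn (ι.compDer (KaehlerDifferential.D A B)) lam nabla)
    (d : ∀ p : ℕ, ↥(⋀[B]^p L) →ₗ[A] ↥(⋀[B]^(p + 1) L))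
    (hd : LogDiff.IsLogRule (KaehlerDifferential.D A B) ι (⇑ω) d)
    (nablas : ∀ p : ℕ, E ⊗[B] ↥(⋀[B]^p L) →ₗ[A] E ⊗[B] ↥(⋀[B]^(p + 1) L))
    (hint : Conn.IsIntegrable nabla (fun p => lam • d p) nablas)

theorem nabla_eq_sum (m : E) : nabla m = ∑ j : Fin n, comp nabla ω j m ⊗ₜ[B] ω j :=
  decomp ω (nabla m)

include hd in
theorem d_basis (p : ℕ) (τ : Fin p → Fin n) :
    d p (exteriorPower.ιMulti B p (fun k => ω (τ k))) = 0 := by
  have h1 := hd p 1 (fun k => ω (τ k)) (fun k => Or.inr ⟨τ k, rfl⟩)
  rw [one_smul] at h1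
  rw [h1]
  apply (exteriorPower.ιMulti B (p + 1)).map_coord_zero (i := 0)
  simp

include hd hint in
theorem nablas_tmul_basis (p : ℕ) (τ : Fin p → Fin n) (y : E) :
    nablas p (y ⊗ₜ[B] exteriorPower.ιMulti B p (fun k => ω (τ k))) =
      ∑ j : Fin n, comp nabla ω j y ⊗ₜ[B]
        exteriorPower.ιMulti B (p + 1) (Fin.cons (ω j) (fun k => ω (τ k))) := by
  rw [hint.1 p y, LinearMap.smul_apply, d_basis ω ι d hd p τ, smul_zero, TensorProduct.tmul_zero,
    add_zero, nabla_eq_sum ω nabla y, map_sum, map_sum, LinearMap.sum_apply]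
  refine Finset.sum_congr rfl fun j _ => ?_
  rw [Conn.toOne_tmul, Conn.twedge_tmul, wedge_ιMulti]

include hd hint in
theorem comp_comm_of_lt {a b : Fin n} (hab : a < b) (m : E) :
    comp nabla ω a (comp nabla ω b m) = comp nabla ω b (comp nabla ω a m) := by
  classical
  have h0 := hint.2 m
  have h1 : Conn.toOne (nabla m) = ∑ j : Fin n, comp nabla ω j m ⊗ₜ[B]
      exteriorPower.ιMulti B 1 (fun k : Fin 1 => ω ((fun _ => j) k)) := by
    rw [nabla_eq_sum ω nabla m, map_sum]
    refine Finset.sum_congr rfl fun j _ => ?_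
    rw [Conn.toOne_tmul, exteriorPower.oneEquiv_symm_apply]
  rw [h1, map_sum] at h0
  simp_rw [nablas_tmul_basis lam ω ι nabla d hd nablas hint 1] at h0
  -- the index set {a, b}
  let f : Fin 2 ↪o Fin n := OrderEmbedding.ofStrictMono ![a, b] (by
    intro i j hij
    fin_cases i <;> fin_cases j <;> simp_all)
  let K : Set.powersetCard (Fin n) 2 := Set.powersetCard.ofFinEmbEquiv f
  have hK : kemb 2 K = f := Equiv.symm_apply_apply _ _
  have h2 := congrArg (coordE (E := E) ω 2 K) h0
  rw [map_zero, map_sum] at h2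
  simp_rw [map_sum, coordE_tmul, coord_ιMulti, Matrix.det_fin_two, hK] at h2
  have hf0 : f 0 = a := rfl
  have hf1 : f 1 = b := rfl
  simp only [Matrix.of_apply, hf0, hf1, Fin.cons_zero, Fin.cons_one, Module.Basis.coord_apply,
    Module.Basis.repr_self, Finsupp.single_apply] at h2
  simp only [sub_smul, Finset.sum_sub_distrib, mul_smul, ite_smul, one_smul, zero_smul, smul_ite,
    smul_zero] at h2
  rw [Finset.sum_eq_single b (by intro x _ hx; simp [hx]) (by simp),
    Finset.sum_eq_single a (by intro x _ hx; simp [hx]) (by simp),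
    Finset.sum_eq_single a (by intro x _ hx; simp [hx]) (by simp),
    Finset.sum_eq_single b (by intro x _ hx; simp [hx]) (by simp)] at h2
  simp only [if_true] at h2
  exact sub_eq_zero.1 h2

include hd hint in
theorem comp_comm (a b : Fin n) (m : E) :
    comp nabla ω a (comp nabla ω b m) = comp nabla ω b (comp nabla ω a m) := by
  rcases lt_trichotomy a b with h | h | h
  · exact comp_comm_of_lt lam ω ι nabla d hd nablas hint h m
  · rw [h]
  · exact (comp_comm_of_lt lam ω ι nabla d hd nablas hint h m).symm

include hd hint in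
/-- for a flat connection `∇_{insert j J} = ∇_j ∘ ∇_J` for every `j ∉ J` -/
theorem compProd_insert' (j : Fin n) (J : Finset (Fin n)) (hj : j ∉ J) :
    compProd nabla ω (insert j J) = comp nabla ω j ∘ₗ compProd nabla ω J := by
  classical
  induction J using Finset.induction_on_min with
  | empty => exact compProd_insert ω nabla j ∅ (by simp)
  | insert a J ha ih =>
    have hja : j ≠ a := fun h => hj (h ▸ Finset.mem_insert_self _ _)
    have hjJ : j ∉ J := fun h => hj (Finset.mem_insert_of_mem h)
    rcases lt_or_gt_of_ne hja with h | h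
    · refine compProd_insert ω nabla j _ ?_
      intro x hx
      rcases Finset.mem_insert.1 hx with rfl | hx
      · exact h
      · exact h.trans (ha x hx)
    · rw [Finset.insert_comm, compProd_insert ω nabla a (insert j J) ?_, ih hjJ,
        compProd_insert ω nabla a J ha]
      · ext m
        simp only [LinearMap.comp_apply]
        exact comp_comm lam ω ι nabla d hd nablas hint a j _
      · intro x hx
        rcases Finset.mem_insert.1 hx with rfl | hx
        · exact h
        · exact ha x hx

include hbΩ hι hc hd hint in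
/-- (NL') for a flat connection `∇_j (E_J) ⊆ E_{insert j J}` for every `j ∉ J` -/
theorem comp_mem_piece' (j : Fin n) (J : Finset (Fin n)) (hjJ : j ∉ J) {x : E}
    (hx : x ∈ piece nabla ω t J) : comp nabla ω j x ∈ piece nabla ω t (insert j J) := by
  classical
  refine piece_induction t ω nabla
    (P := fun x => comp nabla ω j x ∈ piece nabla ω t (insert j J)) ?_ ?_ ?_ hx
  · intro J' hJ' e
    have h1 : comp nabla ω j (gen t ω nabla J J' e) =
        gen t ω nabla (insert j J) (insert j J') e := by
      unfold gen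
      rw [comp_smul lam t bΩ hbΩ ω ι hι nabla hc, pd_prod t bΩ hbΩ j _
        (fun h => hjJ (Finset.mem_sdiff.1 h).1), mul_zero, mul_zero, zero_smul, add_zero,
        compProd_insert' lam ω ι nabla d hd nablas hint j J' (fun h => hjJ (hJ' h)),
        LinearMap.comp_apply]
      congr 2
      ext i
      simp only [Finset.mem_sdiff, Finset.mem_insert]
      constructor
      · rintro ⟨h1, h2⟩
        exact ⟨Or.inr h1, fun h => h.elim (fun h => hjJ (h ▸ h1)) h2⟩
      · rintro ⟨h1 | h1, h2⟩
        · exact absurd (Or.inl h1) h2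
        · exact ⟨h1, fun h => h2 (Or.inr h)⟩
    rw [h1]
    exact gen_mem_piece t ω nabla (Finset.insert_subset_insert j hJ') e
  · simp
  · intro x y hx hy
    rw [map_add]
    exact Submodule.add_mem _ hx hy

include hbΩ hι hc hd hint in
theorem tmul_cons_mem_layer (p : ℕ) (K : Set.powersetCard (Fin n) p) (j : Fin n) {y : E}
    (hy : y ∈ piece nabla ω t (K : Finset (Fin n))) :
    comp nabla ω j y ⊗ₜ[B] exteriorPower.ιMulti B (p + 1)
      (Fin.cons (ω j) (fun k => ω (kemb p K k))) ∈ layer nabla ω t (p + 1) := by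
  classical
  by_cases hj : j ∈ (K : Finset (Fin n))
  · obtain ⟨c, hc'⟩ := exists_kemb_eq p K hj
    have h0 : exteriorPower.ιMulti B (p + 1)
        (Fin.cons (ω j) (fun k => ω (kemb p K k)) : Fin (p + 1) → L) = 0 := by
      refine AlternatingMap.map_eq_zero_of_eq _ _ (i := 0) (j := c.succ) ?_ (Fin.succ_ne_zero c).symm
      rw [Fin.cons_zero, Fin.cons_succ, hc']
    rw [h0, TensorProduct.tmul_zero]
    exact Submodule.zero_mem _
  · rw [mem_layer_iff]
    intro K'
    rw [coordE_tmul, coord_ιMulti]
    by_cases hK' : (K' : Finset (Fin n)) = insert j (K : Finset (Fin n))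
    · refine smul_mem_piece lam t bΩ hbΩ ω ι hι nabla hc _ _ ?_
      rw [hK']
      exact comp_mem_piece' lam t bΩ hbΩ ω ι hι nabla hc d hd nablas hint j _ hj hy
    · have h1 : ∃ i ∈ (K' : Finset (Fin n)), i ∉ insert j (K : Finset (Fin n)) := by
        by_contra hcon
        push Not at hcon
        apply hK'
        refine Finset.eq_of_subset_of_card_le hcon ?_
        rw [Finset.card_insert_of_notMem hj, K.prop, K'.prop]
      obtain ⟨i, hi, hi'⟩ := h1
      obtain ⟨c, hc'⟩ := exists_kemb_eq (p + 1) K' hi
      rw [Matrix.det_eq_zero_of_column_eq_zero c, zero_smul]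
      · exact Submodule.zero_mem _
      · intro r
        rw [Matrix.of_apply, hc']
        refine Fin.cases ?_ (fun k => ?_) r
        · rw [Fin.cons_zero, Module.Basis.coord_apply, Module.Basis.repr_self,
            Finsupp.single_eq_of_ne]
          rintro rfl
          exact hi' (Finset.mem_insert_self _ _)
        · rw [Fin.cons_succ, Module.Basis.coord_apply, Module.Basis.repr_self,
            Finsupp.single_eq_of_ne]
          intro h
          exact hi' (Finset.mem_insert_of_mem (h ▸ kemb_mem p K k))

include hbΩ hι hc hd hint in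
/-- (S16797) for a flat logarithmic λ-connection, `∇^p` maps the `p`-th layer to the `(p+1)`-st -/
theorem nablas_mem_layer (p : ℕ) (x : E ⊗[B] ↥(⋀[B]^p L)) (hx : x ∈ layer nabla ω t p) :
    nablas p x ∈ layer nabla ω t (p + 1) := by
  rw [eq_sum_coordE ω p x, map_sum]
  refine Submodule.sum_mem _ fun K _ => ?_
  have h1 : (ω.exteriorPower p) K = exteriorPower.ιMulti B p (fun k => ω (kemb p K k)) := by
    rw [exteriorPower.basis_apply]
    rfl
  rw [h1, nablas_tmul_basis lam ω ι nabla d hd nablas hint p (fun k => kemb p K k)]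
  refine Submodule.sum_mem _ fun j _ => ?_
  exact tmul_cons_mem_layer lam t bΩ hbΩ ω ι hι nabla hc d hd nablas hint p K j
    ((mem_layer_iff t ω nabla p x).1 hx K)

end Flat

end Groth.Agent.Lib.Helper84.LogC
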