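import Groth.Agent.Lib.Helper84.LogConn
import Groth.Agent.Lib.Helper84.Conn

/-!
# The layers `⊕_K E_K ⊗ ω_K` of a logarithmic λ-connection (helper84)

Coordinates in `E ⊗ ⋀^p L` with respect to the basis `ω_K`, and the comparison of the layers with
the span of the generators `∇_I e ⊗ (ω_I ∧ ι η₁ ∧ ⋯)` (S16796).
-/

set_option autoImplicit false
set_option linter.unusedSectionVars false
universe v u

open TensorProduct

namespace Groth.Agent.Lib.Helper84.LogC

open LogConn

section Coord

variable {B L E : Type u} [CommRing B] [AddCommGroup L] [Module B L]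
    [AddCommGroup E] [Module B E] {n : ℕ} (ω : Module.Basis (Fin n) B L) (p : ℕ)

/-- the increasing enumeration of a set of `p` indices -/
noncomputable def kemb (K : Set.powersetCard (Fin n) p) : Fin p ↪o Fin n :=
  Set.powersetCard.ofFinEmbEquiv.symm K

theorem kemb_mem (K : Set.powersetCard (Fin n) p) (j : Fin p) :
    kemb p K j ∈ (K : Finset (Fin n)) :=
  Finset.orderEmbOfFin_mem K.val K.prop j

theorem exists_kemb_eq (K : Set.powersetCard (Fin n) p) {i : Fin n}
    (hi : i ∈ (K : Finset (Fin n))) : ∃ j, kemb p K j = i := by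
  have := (Set.powersetCard.mem_range_ofFinEmbEquiv_symm_iff_mem K i).2 hi
  exact this

theorem prod_kemb (K : Set.powersetCard (Fin n) p) (g : Fin n → B) :
    ∏ j : Fin p, g (kemb p K j) = ∏ k ∈ (K : Finset (Fin n)), g k := by
  have h1 : Finset.map (kemb p K).toEmbedding Finset.univ = (K : Finset (Fin n)) :=
    Finset.map_orderEmbOfFin_univ K.val K.prop
  rw [← h1, Finset.prod_map]
  rfl

theorem coordE_tmul (K : Set.powersetCard (Fin n) p) (z : E) (η : ↥(⋀[B]^p L)) :
    coordE (E := E) ω p K (z ⊗ₜ[B] η) = (ω.exteriorPower p).coord K η • z := by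
  simp [coordE]

theorem coord_ιMulti (K : Set.powersetCard (Fin n) p) (v : Fin p → L) :
    (ω.exteriorPower p).coord K (exteriorPower.ιMulti B p v) =
      (Matrix.of fun i j => ω.coord (kemb p K j) (v i)).det := by
  rw [exteriorPower.basis_coord, exteriorPower.ιMultiDual_apply_ιMulti]
  rfl

theorem coordE_basis (K K' : Set.powersetCard (Fin n) p) (z : E) :
    coordE (E := E) ω p K (z ⊗ₜ[B] (ω.exteriorPower p) K') = if K = K' then z else 0 := by
  rw [coordE_tmul, Module.Basis.coord_apply, Module.Basis.repr_self, Finsupp.single_apply]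
  split_ifs with h1 h2 h2
  · simp
  · exact absurd h1.symm h2
  · exact absurd h2.symm h1
  · simp

/-- expansion along the basis `ω_K` -/
theorem eq_sum_coordE (x : E ⊗[B] ↥(⋀[B]^p L)) :
    x = ∑ K : Set.powersetCard (Fin n) p, coordE (E := E) ω p K x ⊗ₜ[B] (ω.exteriorPower p) K :=
  decomp (ω.exteriorPower p) x

end Coord

theorem exists_enum {n p : ℕ} (K : Finset (Fin n)) (hK : K.card = p) (J : Finset (Fin n))
    (hJ : J ⊆ K) :
    ∃ τ : Fin p → Fin n, Function.Injective τ ∧ (∀ k, τ k ∈ K) ∧
      (∀ (k : Fin p) (hk : k.val < J.card), τ k = J.orderEmbOfFin rfl ⟨k.val, hk⟩) ∧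
      (∀ k : Fin p, J.card ≤ k.val → τ k ∈ K \ J) := by
  classical
  have hl : J.card ≤ p := hK ▸ Finset.card_le_card hJ
  have hD : (K \ J).card = p - J.card := by
    rw [Finset.card_sdiff_of_subset hJ, hK]
  have h : J.card + (p - J.card) = p := by omega
  let τ' : Fin (J.card + (p - J.card)) → Fin n :=
    Fin.append (J.orderEmbOfFin rfl) ((K \ J).orderEmbOfFin hD)
  refine ⟨τ' ∘ Fin.cast h.symm, ?_, ?_, ?_, ?_⟩
  · apply Function.Injective.comp _ (Fin.cast_injective _)
    rw [Fin.append_injective_iff]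
    refine ⟨(J.orderEmbOfFin rfl).injective, ((K \ J).orderEmbOfFin hD).injective, ?_⟩
    intro i j hij
    have h1 := Finset.orderEmbOfFin_mem J rfl i
    have h2 := Finset.orderEmbOfFin_mem (K \ J) hD j
    rw [hij] at h1
    exact (Finset.mem_sdiff.1 h2).2 h1
  · intro k
    simp only [Function.comp_apply, τ']
    refine Fin.addCases (fun i => ?_) (fun i => ?_) (Fin.cast h.symm k)
    · rw [Fin.append_left]
      exact hJ (Finset.orderEmbOfFin_mem J rfl i)
    · rw [Fin.append_right]
      exact (Finset.mem_sdiff.1 (Finset.orderEmbOfFin_mem (K \ J) hD i)).1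
  · intro k hk
    simp only [Function.comp_apply, τ']
    have : Fin.cast h.symm k = Fin.castAdd (p - J.card) ⟨k.val, hk⟩ := by
      ext; simp
    rw [this, Fin.append_left]
  · intro k hk
    simp only [Function.comp_apply, τ']
    have : Fin.cast h.symm k = Fin.natAdd J.card ⟨k.val - J.card, by omega⟩ := by
      ext; simp; omega
    rw [this, Fin.append_right]
    exact Finset.orderEmbOfFin_mem (K \ J) hD _

section Layer

variable {A : Type v} {B L E : Type u} [CommRing A] [CommRing B]
    [Algebra A B] [AddCommGroup L] [Module B L] [Module A L] [IsScalarTower A B L]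
    [AddCommGroup E] [Module B E] [Module A E] [IsScalarTower A B E]
    (lam : B) {n : ℕ} (t : Fin n → B) (bΩ : Module.Basis (Fin n) B (KaehlerDifferential A B))
    (hbΩ : ∀ i, bΩ i = KaehlerDifferential.D A B (t i))
    (ω : Module.Basis (Fin n) B L) (ι : KaehlerDifferential A B →ₗ[B] L)
    (hι : ∀ i, ι (KaehlerDifferential.D A B (t i)) = t i • ω i)
    (nabla : E →ₗ[A] E ⊗[B] L)
    (hc : Conn.IsLamConn (ι.compDer (KaehlerDifferential.D A B)) lam nabla)
    (p : ℕ)

theorem mem_layer_iff (x : E ⊗[B] ↥(⋀[B]^p L)) :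
    x ∈ layer nabla ω t p ↔ ∀ K : Set.powersetCard (Fin n) p,
      coordE (E := E) ω p K x ∈ piece nabla ω t (K : Finset (Fin n)) := by
  simp [layer, Submodule.mem_iInf]

include hbΩ hι hc in
theorem smul_mem_layer (b : B) {x : E ⊗[B] ↥(⋀[B]^p L)} (hx : x ∈ layer nabla ω t p) :
    b • x ∈ layer nabla ω t p := by
  rw [mem_layer_iff] at hx ⊢
  intro K
  rw [map_smul]
  exact smul_mem_piece lam t bΩ hbΩ ω ι hι nabla hc _ b (hx K)

theorem tmul_basis_mem_layer (K : Set.powersetCard (Fin n) p) {y : E}
    (hy : y ∈ piece nabla ω t (K : Finset (Fin n))) :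
    y ⊗ₜ[B] (ω.exteriorPower p) K ∈ layer nabla ω t p := by
  rw [mem_layer_iff]
  intro K'
  rw [coordE_basis]
  split_ifs with h
  · rw [h]; exact hy
  · exact Submodule.zero_mem _

include hbΩ hι in
theorem coord_ι (j : Fin n) (η : KaehlerDifferential A B) :
    ω.coord j (ι η) = t j * bΩ.repr η j := by
  conv_lhs => rw [← bΩ.sum_repr η]
  rw [map_sum, map_sum]
  simp only [map_smul, hbΩ, hι, Module.Basis.coord_apply, Module.Basis.repr_self, smul_eq_mul]
  rw [Finset.sum_eq_single j]
  · simp [mul_comm]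
  · intro i _ hij
    simp [hij]
  · simp

include hbΩ hι in
/-- the coordinates of `ω_I ∧ ι η₁ ∧ ⋯` along `ω_K` vanish unless `I ⊆ K` and are divisible by
`t_{K∖I}` -/
theorem det_gens (I : Finset (Fin n)) (hIp : I.card ≤ p) (K : Set.powersetCard (Fin n) p)
    (v : Fin p → L)
    (hv1 : ∀ (k : Fin p) (hk : k.val < I.card), v k = ω (I.orderEmbOfFin rfl ⟨k.val, hk⟩))
    (hv2 : ∀ k : Fin p, I.card ≤ k.val → v k ∈ LinearMap.range ι) :
    (¬ I ⊆ (K : Finset (Fin n)) → (Matrix.of fun i j => ω.coord (kemb p K j) (v i)).det = 0) ∧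
    ∃ c : B, (Matrix.of fun i j => ω.coord (kemb p K j) (v i)).det =
      c * ∏ i ∈ (K : Finset (Fin n)) \ I, t i := by
  classical
  by_cases hIK : I ⊆ (K : Finset (Fin n))
  · refine ⟨fun h => absurd hIK h, ?_⟩
    choose! η hη using hv2
    let s : Fin p → B := fun j => if kemb p K j ∈ I then 1 else t (kemb p K j)
    let M' : Matrix (Fin p) (Fin p) B := fun i j =>
      if kemb p K j ∈ I then ω.coord (kemb p K j) (v i)
      else if i.val < I.card then 0 else bΩ.repr (η i) (kemb p K j)
    have h1 : (Matrix.of fun i j => ω.coord (kemb p K j) (v i)) =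
        Matrix.of fun i j => s j * M' i j := by
      ext i j
      simp only [Matrix.of_apply, s, M']
      by_cases hj : kemb p K j ∈ I
      · simp [hj]
      · rw [if_neg hj, if_neg hj]
        by_cases hi : i.val < I.card
        · rw [if_pos hi, mul_zero, hv1 i hi, Module.Basis.coord_apply, Module.Basis.repr_self,
            Finsupp.single_apply, if_neg]
          intro h
          exact hj (h ▸ Finset.orderEmbOfFin_mem I rfl _)
        · rw [if_neg hi, ← hη i (not_lt.1 hi), coord_ι t bΩ hbΩ ω ι hι]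
    rw [h1, Matrix.det_mul_row]
    refine ⟨M'.det, ?_⟩
    rw [mul_comm]
    congr 1
    have h2 := prod_kemb p K (fun k => if k ∈ I then (1 : B) else t k)
    simp only [s]
    rw [h2, Finset.prod_ite, Finset.prod_const_one, one_mul]
    congr 1
    ext i
    simp [Finset.mem_sdiff]
  · have hdet : (Matrix.of fun i j => ω.coord (kemb p K j) (v i)).det = 0 := by
      obtain ⟨i₀, hi₀, hi₀K⟩ := Finset.not_subset.1 hIK
      obtain ⟨k₀, hk₀⟩ : ∃ k₀ : Fin I.card, I.orderEmbOfFin rfl k₀ = i₀ := by
        have := (Finset.range_orderEmbOfFin I rfl).symm ▸ (Finset.mem_coe.2 hi₀)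
        exact this
      apply Matrix.det_eq_zero_of_row_eq_zero (⟨k₀.val, lt_of_lt_of_le k₀.2 hIp⟩ : Fin p)
      intro j
      rw [Matrix.of_apply, hv1 _ k₀.2, Module.Basis.coord_apply, Module.Basis.repr_self,
        Finsupp.single_apply, if_neg]
      intro h
      apply hi₀K
      have h3 : I.orderEmbOfFin rfl ⟨k₀.val, k₀.2⟩ = i₀ := hk₀
      rw [← h3, h]
      exact kemb_mem p K j
    exact ⟨fun _ => hdet, 0, by rw [hdet, zero_mul]⟩

include hbΩ hι hc in
theorem gens_subset_layer {x : E ⊗[B] ↥(⋀[B]^p L)} (hx : x ∈ gens nabla ω ι p) :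
    x ∈ layer nabla ω t p := by
  obtain ⟨I, hIp, e, v, hv1, hv2, rfl⟩ := hx
  rw [mem_layer_iff]
  intro K
  rw [coordE_tmul, coord_ιMulti]
  obtain ⟨h0, c, hc'⟩ := det_gens t bΩ hbΩ ω ι hι p I hIp K v hv1 hv2
  by_cases hIK : I ⊆ (K : Finset (Fin n))
  · rw [hc', mul_smul]
    exact smul_mem_piece lam t bΩ hbΩ ω ι hι nabla hc _ c (gen_mem_piece t ω nabla hIK e)
  · rw [h0 hIK, zero_smul]
    exact Submodule.zero_mem _

include hbΩ hι hc in
theorem span_gens_le_layer :
    (Submodule.span B (gens nabla ω ι p)).restrictScalars A ≤ layer nabla ω t p := by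
  intro x hx
  have hx' : x ∈ Submodule.span B (gens nabla ω ι p) := hx
  refine Submodule.span_induction (p := fun x _ => x ∈ layer nabla ω t p) ?_ ?_ ?_ ?_ hx'
  · intro x hx
    exact gens_subset_layer lam t bΩ hbΩ ω ι hι nabla hc p hx
  · exact Submodule.zero_mem _
  · intro x y _ _ hx hy
    exact Submodule.add_mem _ hx hy
  · intro b x _ hx
    exact smul_mem_layer lam t bΩ hbΩ ω ι hι nabla hc p b hx

include hι in
/-- `t_{K∖J} ∇_J e ⊗ ω_K` is, up to a sign, one of the generators -/
theorem exists_gens_eq (K : Set.powersetCard (Fin n) p) (J : Finset (Fin n))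
    (hJ : J ⊆ (K : Finset (Fin n))) (e : E) :
    ∃ (ε : B) (g : E ⊗[B] ↥(⋀[B]^p L)), g ∈ gens nabla ω ι p ∧
      gen t ω nabla (K : Finset (Fin n)) J e ⊗ₜ[B] (ω.exteriorPower p) K = ε • g := by
  classical
  obtain ⟨τ, hτinj, hτK, hτ1, hτ2⟩ := exists_enum (K : Finset (Fin n)) K.prop J hJ
  have hl : J.card ≤ p := by
    have := Finset.card_le_card hJ
    rwa [K.prop] at this
  let s : Fin p → B := fun k => if k.val < J.card then 1 else t (τ k)
  let v : Fin p → L := fun k =>
    if k.val < J.card then ω (τ k) else ι (KaehlerDifferential.D A B (t (τ k)))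
  have hv : ∀ k, v k = s k • ω (τ k) := by
    intro k
    simp only [v, s]
    split_ifs with h
    · rw [one_smul]
    · rw [hι]
  let g : E ⊗[B] ↥(⋀[B]^p L) := compProd nabla ω J e ⊗ₜ[B] exteriorPower.ιMulti B p v
  have hg : g ∈ gens nabla ω ι p := by
    refine ⟨J, hl, e, v, ?_, ?_, rfl⟩
    · intro k hk
      simp only [v]
      rw [if_pos hk, hτ1 k hk]
    · intro k hk
      simp only [v]
      rw [if_neg (not_lt.2 hk)]
      exact ⟨_, rfl⟩
  -- the permutation matrix
  let M₀ : Matrix (Fin p) (Fin p) B := Matrix.of fun i j => if τ i = kemb p K j then 1 else 0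
  have hM₀ : M₀ * M₀.transpose = 1 := by
    ext i i'
    rw [Matrix.mul_apply]
    obtain ⟨j₀, hj₀⟩ := exists_kemb_eq p K (hτK i)
    rw [Finset.sum_eq_single j₀]
    · simp only [M₀, Matrix.of_apply, Matrix.transpose_apply, hj₀, if_true, one_mul,
        Matrix.one_apply]
      by_cases hii : i = i'
      · rw [if_pos hii, if_pos (hii ▸ rfl)]
      · rw [if_neg hii, if_neg]
        intro h
        exact hii (hτinj h.symm)
    · intro j _ hj
      simp only [M₀, Matrix.of_apply, Matrix.transpose_apply]
      rw [if_neg, zero_mul]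
      intro h
      apply hj
      apply (kemb p K).injective
      rw [hj₀, h]
    · intro h
      exact absurd (Finset.mem_univ _) h
  set ε : B := M₀.det with hε
  have hεε : ε * ε = 1 := by
    have := congrArg Matrix.det hM₀
    rwa [Matrix.det_mul, Matrix.det_transpose, Matrix.det_one] at this
  -- the product of the scalars
  have hprod : ∏ k, s k = ∏ i ∈ (K : Finset (Fin n)) \ J, t i := by
    have h1 : ∀ k, s k = (fun i => if i ∈ J then (1 : B) else t i) (τ k) := by
      intro k
      simp only [s]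
      by_cases hk : k.val < J.card
      · rw [if_pos hk, if_pos]
        rw [hτ1 k hk]
        exact Finset.orderEmbOfFin_mem J rfl _
      · rw [if_neg hk, if_neg]
        exact (Finset.mem_sdiff.1 (hτ2 k (not_lt.1 hk))).2
    have h2 : Finset.image τ Finset.univ = (K : Finset (Fin n)) := by
      apply Finset.eq_of_subset_of_card_le
      · intro i hi
        obtain ⟨k, _, rfl⟩ := Finset.mem_image.1 hi
        exact hτK k
      · rw [Finset.card_image_of_injective _ hτinj, K.prop]
        simp
    simp_rw [h1]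
    rw [← Finset.prod_image (f := fun i => if i ∈ J then (1 : B) else t i)
      (fun a _ b _ h => hτinj h), h2, Finset.prod_ite, Finset.prod_const_one, one_mul]
    congr 1
    ext i
    simp [Finset.mem_sdiff]
  -- the coordinates of `g`
  have hcoord : ∀ K' : Set.powersetCard (Fin n) p, coordE (E := E) ω p K' g =
      if K' = K then ((∏ i ∈ (K : Finset (Fin n)) \ J, t i) * ε) • compProd nabla ω J e
      else 0 := by
    intro K'
    simp only [g]
    rw [coordE_tmul, coord_ιMulti]
    have h3 : (Matrix.of fun i j => ω.coord (kemb p K' j) (v i)) =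
        Matrix.of fun i j => s i * (if τ i = kemb p K' j then (1 : B) else 0) := by
      ext i j
      simp only [Matrix.of_apply, hv, map_smul, smul_eq_mul, Module.Basis.coord_apply,
        Module.Basis.repr_self, Finsupp.single_apply]
    rw [h3]
    split_ifs with hKK
    · subst hKK
      have h4 := Matrix.det_mul_column s M₀
      simp only [M₀, Matrix.of_apply] at h4
      rw [h4, hprod]
    · have hne : ¬ (K' : Finset (Fin n)) ⊆ (K : Finset (Fin n)) := by
        intro hsub
        apply hKK
        apply Subtype.ext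
        apply Finset.eq_of_subset_of_card_le hsub
        rw [K.prop, K'.prop]
      obtain ⟨i₀, hi₀, hi₀K⟩ := Finset.not_subset.1 hne
      obtain ⟨j₀, hj₀⟩ := exists_kemb_eq p K' hi₀
      rw [Matrix.det_eq_zero_of_column_eq_zero j₀, zero_smul]
      intro i
      rw [Matrix.of_apply, if_neg, mul_zero]
      intro h
      apply hi₀K
      rw [← hj₀, ← h]
      exact hτK i
  refine ⟨ε, g, hg, ?_⟩
  rw [eq_sum_coordE ω p g, Finset.sum_eq_single K]
  · rw [hcoord K, if_pos rfl, ← TensorProduct.smul_tmul', smul_smul, ← mul_assoc,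
      mul_comm ε, mul_assoc, hεε, mul_one]
    rfl
  · intro K' _ hK'
    rw [hcoord K', if_neg hK', TensorProduct.zero_tmul]
  · intro h
    exact absurd (Finset.mem_univ _) h

include hι in
theorem tmul_basis_mem_span_gens (K : Set.powersetCard (Fin n) p) {y : E}
    (hy : y ∈ piece nabla ω t (K : Finset (Fin n))) :
    y ⊗ₜ[B] (ω.exteriorPower p) K ∈ Submodule.span B (gens nabla ω ι p) := by
  refine piece_induction t ω nabla
    (P := fun y => y ⊗ₜ[B] (ω.exteriorPower p) K ∈ Submodule.span B (gens nabla ω ι p))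
    ?_ ?_ ?_ hy
  · intro J hJ e
    obtain ⟨ε, g, hg, h⟩ := exists_gens_eq t ω ι hι nabla p K J hJ e
    rw [h]
    exact Submodule.smul_mem _ _ (Submodule.subset_span hg)
  · rw [TensorProduct.zero_tmul]
    exact Submodule.zero_mem _
  · intro x y hx hy
    rw [TensorProduct.add_tmul]
    exact Submodule.add_mem _ hx hy

include hbΩ hι hc in
/-- (S16796) the layer is the `B`-span of the generators -/
theorem span_gens_eq_layer :
    (Submodule.span B (gens nabla ω ι p)).restrictScalars A = layer nabla ω t p := by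
  apply le_antisymm (span_gens_le_layer lam t bΩ hbΩ ω ι hι nabla hc p)
  intro x hx
  show x ∈ Submodule.span B (gens nabla ω ι p)
  rw [eq_sum_coordE ω p x]
  refine Submodule.sum_mem _ fun K _ => ?_
  exact tmul_basis_mem_span_gens t ω ι hι nabla p K ((mem_layer_iff t ω nabla p x).1 hx K)

end Layer

end Groth.Agent.Lib.Helper84.LogC
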