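import Groth.Agent.Lib.Helper84.MatCoeff
import Groth.Prelude.Def_ComodTens

/-!
# Matrix coefficients, part 2 (helper84)

* `comodHom_basis_eq_sum` : for a comodule map `φ : V → A` into the regular comodule and a finite
  basis `b` of `V`, `φ (b j) = Σ_i ε(φ (b i)) • M i j` with `M` the coefficient matrix.
* `comodHom_mem_span_coeffMatrix` : hence `φ v` lies in the span of the matrix coefficients.
* `exists_free_comod_of_projective` : a comodule which is finitely generated projective over the
  base ring is a comodule quotient (and summand) of a comodule structure on `Fin n → k`.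
-/

set_option autoImplicit false
set_option linter.unusedSectionVars false
universe u v w

open TensorProduct

namespace Groth.Agent.Lib.Helper84

open Groth.Agent.Lib.Helper75

section Hom

variable {k : Type u} [CommRing k] {A : Type v} [CommRing A] [HopfAlgebra k A]
variable {V : Type w} [AddCommGroup V] [Module k V] [HopfRep.Comod k A V] {n : ℕ}

theorem comodHom_basis_eq_sum (b : Module.Basis (Fin n) k V) (φ : V →ₗ[k] A)
    (hφ : CoalgebraStruct.comul (R := k) (A := A) ∘ₗ φ =
      φ.rTensor A ∘ₗ HopfRep.Comod.coact (k := k) (A := A)) (j : Fin n) :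
    φ (b j) = ∑ i : Fin n, CoalgebraStruct.counit (R := k) (φ (b i)) •
      coeffMatrix (A := A) b i j := by
  have h1 : CoalgebraStruct.comul (R := k) (φ (b j)) =
      ∑ i : Fin n, φ (b i) ⊗ₜ[k] coeffMatrix (A := A) b i j := by
    have h2 := LinearMap.congr_fun hφ (b j)
    simp only [LinearMap.coe_comp, Function.comp_apply] at h2
    have h3 : HopfRep.Comod.coact (k := k) (A := A) (b j) =
        ∑ i : Fin n, b i ⊗ₜ[k] coeffMatrix (A := A) b i j := coact_basis b j
    rw [h3, map_sum] at h2
    simpa only [LinearMap.rTensor_tmul] using h2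
  have h4 := Coalgebra.rTensor_counit_comul (R := k) (φ (b j))
  rw [h1, map_sum] at h4
  simp only [LinearMap.rTensor_tmul] at h4
  have h5 := congrArg (TensorProduct.lid k A) h4
  rw [map_sum] at h5
  simp only [TensorProduct.lid_tmul, one_smul] at h5
  exact h5.symm

theorem comodHom_mem_span_coeffMatrix (b : Module.Basis (Fin n) k V) (φ : V →ₗ[k] A)
    (hφ : CoalgebraStruct.comul (R := k) (A := A) ∘ₗ φ =
      φ.rTensor A ∘ₗ HopfRep.Comod.coact (k := k) (A := A)) (v : V) :
    φ v ∈ Submodule.span k
      (Set.range (fun p : Fin n × Fin n => coeffMatrix (A := A) b p.1 p.2)) := by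
  rw [← b.sum_repr v, map_sum]
  refine Submodule.sum_mem _ fun j _ => ?_
  rw [map_smul]
  refine Submodule.smul_mem _ _ ?_
  rw [comodHom_basis_eq_sum b φ hφ j]
  refine Submodule.sum_mem _ fun i _ => ?_
  exact Submodule.smul_mem _ _ (Submodule.subset_span ⟨(i, j), rfl⟩)

end Hom

section Proj

variable {k : Type u} [CommRing k] {A : Type v} [Ring A] [Bialgebra k A]
variable (E : Type w) [AddCommGroup E] [Module k E] [cE : HopfRep.Comod k A E]

/-- a finitely generated projective comodule is a comodule quotient of a comodule structure on a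
finite free module -/
theorem exists_free_comod_of_projective [Module.Finite k E] [Module.Projective k E] :
    ∃ (n : ℕ) (c : HopfRep.Comod k A (Fin n → k)) (q : (Fin n → k) →ₗ[k] E),
      Function.Surjective q ∧ cE.coact ∘ₗ q = q.rTensor A ∘ₗ c.coact := by
  obtain ⟨n, f, g, hf, hg, hfg⟩ := Module.Finite.exists_comp_eq_id_of_projective k E
  have hfg' : ∀ x, f (g x) = x := fun x => LinearMap.congr_fun hfg x
  let K := LinearMap.ker f
  let e : (E × K) ≃ₗ[k] (Fin n → k) :=
    LinearEquiv.ofLinearMap (g.coprod K.subtype)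
      (f.prod (LinearMap.codRestrict K (LinearMap.id - g ∘ₗ f) (fun v => by
        simp [K, LinearMap.mem_ker, hfg']))) (by
        apply LinearMap.ext
        intro v
        simp) (by
        apply LinearMap.ext
        rintro ⟨x, ⟨y, hy⟩⟩
        have hy' : f y = 0 := hy
        apply Prod.ext
        · simp [hfg', hy']
        · apply Subtype.ext
          simp [hfg', hy'])
  let cP : HopfRep.Comod k A (E × K) := ComodTens.Comod.prod cE (HopfRep.Comod.trivial k A K)
  refine ⟨n, ComodTens.Comod.ofEquiv e cP, f, hf, ?_⟩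
  apply LinearMap.ext
  intro v
  obtain ⟨⟨x, y⟩, rfl⟩ := e.surjective v
  simp only [LinearMap.coe_comp, Function.comp_apply]
  rw [ComodTens.ofEquiv_coact_apply, ComodTens.prod_coact, map_add, map_add]
  have h1 : f (e (x, y)) = x := by
    have hy' : f (y : Fin n → k) = 0 := y.2
    simp [e, hfg', hy']
  have h2 : (f ∘ₗ (e : (E × K) →ₗ[k] (Fin n → k))) ∘ₗ LinearMap.inl k E K = LinearMap.id := by
    apply LinearMap.ext
    intro x
    simp [e, hfg']
  have h3 : (f ∘ₗ (e : (E × K) →ₗ[k] (Fin n → k))) ∘ₗ LinearMap.inr k E K = 0 := by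
    apply LinearMap.ext
    intro y
    have hy' : f (y : Fin n → k) = 0 := y.2
    simp [e, hy']
  rw [h1, ← LinearMap.rTensor_comp_apply, ← LinearMap.rTensor_comp_apply,
    ← LinearMap.rTensor_comp_apply, ← LinearMap.rTensor_comp_apply, h2, h3]
  simp

end Proj

end Groth.Agent.Lib.Helper84
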