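import Mathlib
import Groth.Prelude.Def_Conn

/-!
# Deligne's identity `(f D)^p = f^p D^p + (f δ)^{p-1}(f) D` and the p-curvature in rank one (helper84)

* `adf_iterate_pred` : Jacobson's identity `(ad y)^{p-1} z = ∑ y^i z y^{p-1-i}` in characteristic `p`.
* `add_pow_char_of_commute_ad` : `(y + b)^p = y^p + b^p + (ad y)^{p-1} b` when `b` commutes with all `(ad y)^i b`.
* `fD_iterate_p` : Deligne's identity for an operator `D` on a `B`-module with `D (b n) = b D n + δ b n`.
* `iterDer` : the `p`-th iterate of a derivation in characteristic `p`, as a derivation.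
* `pCurv_eq_zero_of_dual` : S16794.
-/

set_option autoImplicit false
set_option linter.unusedSectionVars false

namespace Groth.Agent.Lib.Helper84.PCurvD

section Ring

variable {R : Type*} [Ring R]

/-- the inner derivation `z ↦ y z - z y` -/
def adf (y : R) : R → R := fun z => y * z - z * y

theorem adf_apply (y z : R) : adf y z = y * z - z * y := rfl

theorem mulLeft_pow_apply (y z : R) (m : ℕ) :
    ((LinearMap.mulLeft ℤ y) ^ m) z = y ^ m * z := by
  induction m generalizing z with
  | zero => simp
  | succ m ih => rw [pow_succ, Module.End.mul_apply, ih, LinearMap.mulLeft_apply, pow_succ, mul_assoc]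

theorem mulRight_pow_apply (y z : R) (m : ℕ) :
    ((LinearMap.mulRight ℤ y) ^ m) z = z * y ^ m := by
  induction m generalizing z with
  | zero => simp
  | succ m ih => rw [pow_succ, Module.End.mul_apply, ih, LinearMap.mulRight_apply, pow_succ',
      mul_assoc]

theorem adf_iterate_eq (y z : R) (n : ℕ) :
    (adf y)^[n] z = ∑ m ∈ Finset.range (n + 1),
      ((-1 : ℤ) ^ (n - m) * (n.choose m : ℤ)) • (y ^ m * z * y ^ (n - m)) := by
  have h1 : (adf y)^[n] z = ((LinearMap.mulLeft ℤ y - LinearMap.mulRight ℤ y) ^ n) z := by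
    rw [Module.End.pow_apply]
    rfl
  have hc : Commute (LinearMap.mulLeft ℤ y) (-LinearMap.mulRight ℤ y) :=
    (LinearMap.commute_mulLeft_right y y).neg_right
  rw [h1, sub_eq_add_neg, hc.add_pow, LinearMap.sum_apply]
  refine Finset.sum_congr rfl fun m _ => ?_
  rw [neg_pow, Module.End.mul_apply, Module.End.mul_apply, Module.End.mul_apply]
  have e1 : ((-1 : Module.End ℤ R) ^ (n - m)) = (((-1 : ℤ) ^ (n - m) : ℤ) : Module.End ℤ R) := by
    push_cast
    rfl
  rw [e1, Module.End.intCast_apply, Module.End.natCast_apply, mulLeft_pow_apply,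
    mulRight_pow_apply, mul_smul_comm, mul_smul, natCast_zsmul, smul_mul_assoc, mul_smul_comm,
    mul_assoc]

section CharP

variable (p : ℕ) [hp : Fact p.Prime] (hp0 : (p : R) = 0)

include hp0 in
theorem choose_cast_eq_zero {i : ℕ} (h1 : 0 < i) (h2 : i < p) : ((p.choose i : ℕ) : R) = 0 := by
  obtain ⟨m, hm⟩ := hp.out.dvd_choose_self h1.ne' h2
  rw [hm, Nat.cast_mul, hp0, zero_mul]

include hp0 in
theorem choose_pred_cast (i : ℕ) (hi : i < p) : (((p - 1).choose i : ℕ) : R) = (-1) ^ i := by
  induction i with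
  | zero => simp
  | succ i ih =>
    have h1 : p - 1 + 1 = p := Nat.sub_add_cancel hp.out.one_le
    have h2 : p.choose (i + 1) = (p - 1).choose i + (p - 1).choose (i + 1) := by
      conv_lhs => rw [← h1]
      exact Nat.choose_succ_succ _ _
    have h3 := choose_cast_eq_zero p hp0 (Nat.succ_pos i) hi
    rw [h2, Nat.cast_add, ih (Nat.lt_of_succ_lt hi)] at h3
    rw [pow_succ, mul_neg_one]
    exact eq_neg_of_add_eq_zero_right h3

include hp0 in
theorem neg_one_pow_pred : ((-1 : R)) ^ (p - 1) = 1 := by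
  rcases hp.out.eq_two_or_odd' with h | h
  · subst h
    have h2 : (2 : R) = 0 := by exact_mod_cast hp0
    simp only [Nat.add_one_sub_one, pow_one]
    rw [neg_eq_iff_add_eq_zero]
    rw [one_add_one_eq_two, h2]
  · obtain ⟨k, hk⟩ := h
    have : p - 1 = 2 * k := by omega
    rw [this, pow_mul]
    simp

include hp0 in
/-- Jacobson's identity `(ad y)^{p-1} z = ∑ y^i z y^{p-1-i}` in characteristic `p` -/
theorem adf_iterate_pred (y z : R) :
    (adf y)^[p - 1] z = ∑ m ∈ Finset.range p, y ^ m * z * y ^ (p - 1 - m) := by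
  rw [adf_iterate_eq, Nat.sub_add_cancel hp.out.one_le]
  refine Finset.sum_congr rfl fun m hm => ?_
  have hm' : m < p := Finset.mem_range.1 hm
  rw [zsmul_eq_mul, Int.cast_mul, Int.cast_pow, Int.cast_neg, Int.cast_one, Int.cast_natCast,
    choose_pred_cast p hp0 m hm', ← pow_add, Nat.sub_add_cancel (by omega),
    neg_one_pow_pred p hp0, one_mul]

end CharP

section Poly

open Polynomial

theorem derivative_pow_noncomm (q : R[X]) (n : ℕ) :
    derivative (q ^ n) = ∑ i ∈ Finset.range n, q ^ i * derivative q * q ^ (n - 1 - i) := by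
  induction n with
  | zero => simp
  | succ n ih =>
    rw [pow_succ, derivative_mul, ih, Finset.sum_mul, Finset.sum_range_succ]
    congr 1
    · refine Finset.sum_congr rfl fun i hi => ?_
      have hi' : i < n := Finset.mem_range.1 hi
      rw [mul_assoc, ← pow_succ]
      congr 2
      omega
    · simp

variable (p : ℕ) [hp : Fact p.Prime] (hp0 : (p : R) = 0)

theorem coeff_pow_linear (y b : R) (n : ℕ) :
    ((C y + X * C b) ^ n).coeff n = b ^ n ∧ ((C y + X * C b) ^ n).natDegree ≤ n := by
  have hdeg : ∀ n, ((C y + X * C b) ^ n).natDegree ≤ n := by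
    intro n
    refine (natDegree_pow_le).trans ?_
    have : (C y + X * C b).natDegree ≤ 1 := by
      refine (natDegree_add_le _ _).trans ?_
      rw [max_le_iff]
      refine ⟨by simp, ?_⟩
      refine (natDegree_mul_le).trans ?_
      rw [natDegree_C, add_zero]
      exact natDegree_X_le
    calc n * (C y + X * C b).natDegree ≤ n * 1 := Nat.mul_le_mul_left n this
      _ = n := mul_one n
  refine ⟨?_, hdeg n⟩
  induction n with
  | zero => simp
  | succ n ih =>
    rw [pow_succ, mul_add, coeff_add, coeff_mul_C, ← mul_assoc, coeff_mul_C, coeff_mul_X, ih,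
      coeff_eq_zero_of_natDegree_lt (lt_of_le_of_lt (hdeg n) (Nat.lt_succ_self n)), zero_mul,
      zero_add, pow_succ]

include hp0 in
/-- `(y + b)^p = y^p + b^p + (ad y)^{p-1} b` in characteristic `p`, when `b` commutes with all
`(ad y)^i b` -/
theorem add_pow_char_of_commute_ad (y b : R) (hb : ∀ i, Commute b ((adf y)^[i] b)) :
    (y + b) ^ p = y ^ p + b ^ p + (adf y)^[p - 1] b := by
  have hp2 : 2 ≤ p := hp.out.two_le
  set q : R[X] := C y + X * C b with hq
  have hpX : ((p : ℕ) : R[X]) = 0 := by
    rw [← map_natCast (C : R →+* R[X]), hp0, map_zero]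
  -- iterated brackets
  have had : ∀ i, (adf q)^[i] (C b) = C ((adf y)^[i] b) := by
    intro i
    induction i with
    | zero => rfl
    | succ i ih =>
      have e : C ((adf y)^[i] b) * (X * C b) = X * C (b * (adf y)^[i] b) := by
        rw [← mul_assoc, ← (commute_X (C ((adf y)^[i] b))).eq, mul_assoc, ← C_mul, (hb i).eq]
      rw [Function.iterate_succ_apply', ih, Function.iterate_succ_apply', adf_apply, adf_apply, hq,
        add_mul, mul_add, mul_assoc, ← C_mul, ← C_mul, ← C_mul, e, C_sub]
      abel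
  have hder : derivative (q ^ p) = C ((adf y)^[p - 1] b) := by
    have hq' : derivative q = C b := by
      rw [hq, derivative_add, derivative_C, zero_add, derivative_mul, derivative_X, derivative_C,
        one_mul, mul_zero, add_zero]
    rw [derivative_pow_noncomm, hq', ← adf_iterate_pred p hpX, had]
  -- coefficients
  obtain ⟨hcp, hdeg⟩ := coeff_pow_linear y b p
  have hc1 : (q ^ p).coeff 1 = (adf y)^[p - 1] b := by
    have := congrArg (fun P => P.coeff 0) hder
    simp only [coeff_derivative, coeff_C_zero, Nat.cast_zero, zero_add, mul_one] at this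
    exact this
  have hcmid : ∀ n, 1 ≤ n → n + 1 < p → (q ^ p).coeff (n + 1) = 0 := by
    intro n hn1 hnp
    have h1 := congrArg (fun P => P.coeff n) hder
    simp only [coeff_derivative] at h1
    rw [coeff_C_of_ne_zero (by omega)] at h1
    -- `n + 1` is invertible
    have hcop : Nat.Coprime p (n + 1) :=
      (Nat.Prime.coprime_iff_not_dvd hp.out).2 (Nat.not_dvd_of_pos_of_lt (Nat.succ_pos n) hnp)
    have hbez := Int.gcd_eq_gcd_ab (p : ℤ) ((n + 1 : ℕ) : ℤ)
    rw [Int.gcd_natCast_natCast, hcop.gcd_eq_one] at hbez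
    have hbez' := congrArg (Int.cast : ℤ → R) hbez
    simp only [Nat.cast_one, Int.cast_one, Int.cast_add, Int.cast_mul, Int.cast_natCast, hp0,
      zero_mul, zero_add] at hbez'
    have h2 : (q ^ p).coeff (n + 1) =
        (q ^ p).coeff (n + 1) * ((n : R) + 1) * (((p : ℤ).gcdB ((n + 1 : ℕ) : ℤ) : ℤ) : R) := by
      have h3 : (((n + 1 : ℕ) : R)) = (n : R) + 1 := by push_cast; rfl
      rw [mul_assoc, ← h3, ← hbez', mul_one]
    rw [h2, h1, zero_mul]
  -- evaluate at `1`
  let φ : R[X] →+* R := eval₂RingHom' (RingHom.id R) 1 (fun a => Commute.one_right a)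
  have hφq : φ q = y + b := by
    simp [φ, hq, eval₂RingHom']
  have hφ : φ (q ^ p) = ∑ i ∈ Finset.range (p + 1), (q ^ p).coeff i := by
    show eval₂ (RingHom.id R) 1 (q ^ p) = _
    rw [eval₂_eq_sum_range' (RingHom.id R) (Nat.lt_succ_of_le hdeg)]
    simp only [RingHom.id_apply, one_pow, mul_one]
    rfl
  -- coefficient `0`
  have hc0 : (q ^ p).coeff 0 = y ^ p := by
    let φ₀ : R[X] →+* R := eval₂RingHom' (RingHom.id R) 0 (fun a => Commute.zero_right a)
    have h1 : φ₀ (q ^ p) = (q ^ p).coeff 0 := by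
      show eval₂ (RingHom.id R) 0 (q ^ p) = _
      rw [coeff_zero_eq_eval_zero]
      rfl
    rw [← h1, map_pow]
    congr 1
    simp [φ₀, hq, eval₂RingHom']
  rw [← hφq, ← map_pow, hφ, Finset.sum_range_succ, hcp]
  obtain ⟨k, rfl⟩ : ∃ k, p = k + 2 := ⟨p - 2, by omega⟩
  rw [Finset.sum_range_succ', Finset.sum_range_succ', hc0, hc1]
  rw [Finset.sum_eq_zero (fun i hi => hcmid (i + 1) (by omega) (by
    have := Finset.mem_range.1 hi; omega)), zero_add]
  abel

end Poly

end Ring

section GD

variable {B : Type*} [CommRing B] (p : ℕ) [hp : Fact p.Prime] (hpB : (p : B) = 0)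
  (δ : B →+ B) (hδ : ∀ a b, δ (a * b) = a * δ b + b * δ a) (f : B)

/-- the additive map `b ↦ f * δ b` -/
def theta : B →+ B := (AddMonoidHom.mulLeft f).comp δ

theorem theta_apply (b : B) : theta δ f b = f * δ b := rfl

include hδ in
theorem theta_mul (a b : B) : theta δ f (a * b) = a * theta δ f b + b * theta δ f a := by
  rw [theta_apply, theta_apply, theta_apply, hδ]
  ring

include hδ in
theorem delta_one : δ 1 = 0 := by
  have := hδ 1 1
  simp only [mul_one, one_mul] at this
  exact left_eq_add.mp this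

/-- pointwise `θ` on sequences -/
def yE : AddMonoid.End (ℕ → B) where
  toFun c k := theta δ f (c k)
  map_zero' := by ext k; simp
  map_add' a b := by ext k; simp

/-- shift and multiply by `a` -/
def sE (a : B) : AddMonoid.End (ℕ → B) where
  toFun c k := match k with
    | 0 => 0
    | k' + 1 => a * c k'
  map_zero' := by ext k; cases k <;> simp
  map_add' c c' := by ext k; cases k <;> simp [mul_add]

theorem end_mul_apply {G : Type*} [AddCommGroup G] (a b : AddMonoid.End G) (x : G) :
    (a * b) x = a (b x) := rfl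

theorem end_sub_apply {G : Type*} [AddCommGroup G] (a b : AddMonoid.End G) (x : G) :
    (a - b) x = a x - b x := rfl

theorem end_add_apply {G : Type*} [AddCommGroup G] (a b : AddMonoid.End G) (x : G) :
    (a + b) x = a x + b x := rfl

theorem yE_apply (c : ℕ → B) (k : ℕ) : yE δ f c k = theta δ f (c k) := rfl

theorem sE_apply_zero (a : B) (c : ℕ → B) : sE a c 0 = 0 := rfl

theorem sE_apply_succ (a : B) (c : ℕ → B) (k : ℕ) : sE a c (k + 1) = a * c k := rfl

include hδ in
theorem adf_yE_sE (a : B) : adf (yE δ f) (sE a) = sE (theta δ f a) := by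
  ext c k
  cases k with
  | zero =>
    rw [adf_apply, end_sub_apply, end_mul_apply, end_mul_apply, Pi.sub_apply, yE_apply,
      sE_apply_zero, sE_apply_zero, sE_apply_zero, map_zero, sub_zero]
  | succ k =>
    rw [adf_apply, end_sub_apply, end_mul_apply, end_mul_apply, Pi.sub_apply, yE_apply,
      sE_apply_succ, sE_apply_succ, sE_apply_succ, yE_apply, theta_mul δ hδ f]
    ring

theorem commute_sE (a a' : B) : Commute (sE a) (sE a') := by
  ext c k
  rcases k with _ | _ | k
  · rfl
  · show sE a (sE a' c) (0 + 1) = sE a' (sE a c) (0 + 1)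
    rw [sE_apply_succ, sE_apply_succ, sE_apply_zero, sE_apply_zero, mul_zero, mul_zero]
  · show sE a (sE a' c) (k + 1 + 1) = sE a' (sE a c) (k + 1 + 1)
    rw [sE_apply_succ, sE_apply_succ, sE_apply_succ, sE_apply_succ]
    ring

include hδ in
theorem adf_iterate_sE (i : ℕ) :
    (adf (yE δ f))^[i] (sE f) = sE ((theta δ f)^[i] f) := by
  induction i with
  | zero => rfl
  | succ i ih =>
    rw [Function.iterate_succ_apply', ih, adf_yE_sE δ hδ, Function.iterate_succ_apply']

include hpB in
theorem natCast_end_eq_zero : ((p : ℕ) : AddMonoid.End (ℕ → B)) = 0 := by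
  ext c k
  rw [AddMonoid.End.natCast_apply]
  simp only [Pi.smul_apply, nsmul_eq_mul, hpB, zero_mul]
  rfl

theorem sE_pow_single (a : B) (j : ℕ) :
    ((sE a) ^ j) (Pi.single 0 1) = Pi.single j (a ^ j) := by
  induction j with
  | zero => simp
  | succ j ih =>
    rw [pow_succ', end_mul_apply, ih]
    ext k
    cases k with
    | zero => simp [sE_apply_zero]
    | succ k =>
      rw [sE_apply_succ]
      by_cases h : k = j
      · subst h; simp [pow_succ']
      · rw [Pi.single_eq_of_ne h, Pi.single_eq_of_ne (by omega), mul_zero]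

include hδ in
theorem yE_single : yE δ f (Pi.single 0 1) = 0 := by
  ext k
  rw [yE_apply]
  by_cases h : k = 0
  · subst h
    simp [theta_apply, delta_one δ hδ]
  · rw [Pi.single_eq_of_ne h, map_zero]
    rfl

include hpB hδ in
/-- the coefficients of `(f D)^p` -/
theorem coeffs_pow_p :
    ((yE δ f + sE f) ^ p) (Pi.single 0 1) =
      Pi.single p (f ^ p) + Pi.single 1 ((theta δ f)^[p - 1] f) := by
  rw [add_pow_char_of_commute_ad p (natCast_end_eq_zero p hpB) (yE δ f) (sE f) (fun i => by
    rw [adf_iterate_sE δ hδ]; exact commute_sE _ _), adf_iterate_sE δ hδ]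
  rw [end_add_apply, end_add_apply]
  have h1 : ((yE δ f) ^ p) (Pi.single 0 1) = 0 := by
    obtain ⟨k, hk⟩ : ∃ k, p = k + 1 := ⟨p - 1, (Nat.sub_add_cancel hp.out.one_le).symm⟩
    rw [hk, pow_succ, end_mul_apply, yE_single δ hδ, map_zero]
  rw [h1, zero_add, sE_pow_single]
  congr 1
  have h2 := sE_pow_single ((theta δ f)^[p - 1] f) 1
  simpa using h2

section Module

variable {N : Type*} [AddCommGroup N] [Module B N] (D : N →+ N)
  (hD : ∀ (b : B) (n : N), D (b • n) = b • D n + δ b • n)

/-- the operator `f • D` -/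
def fD : N →+ N := (DistribSMul.toAddMonoidHom N f).comp D

theorem fD_apply (n : N) : fD f D n = f • D n := rfl

/-- the coefficients of `(f D)^j` -/
def cE (j : ℕ) : ℕ → B := ((yE δ f + sE f) ^ j) (Pi.single 0 1)

theorem cE_zero : cE δ f 0 = Pi.single 0 1 := rfl

theorem cE_succ (j : ℕ) : cE δ f (j + 1) = (yE δ f + sE f) (cE δ f j) := by
  unfold cE
  rw [pow_succ', end_mul_apply]

theorem cE_succ_zero (j : ℕ) : cE δ f (j + 1) 0 = theta δ f (cE δ f j 0) := by
  rw [cE_succ, end_add_apply, Pi.add_apply, yE_apply, sE_apply_zero, add_zero]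

theorem cE_succ_succ (j k : ℕ) :
    cE δ f (j + 1) (k + 1) = theta δ f (cE δ f j (k + 1)) + f * cE δ f j k := by
  rw [cE_succ, end_add_apply, Pi.add_apply, yE_apply, sE_apply_succ]

theorem cE_eq_zero (j k : ℕ) (h : j < k) : cE δ f j k = 0 := by
  induction j generalizing k with
  | zero =>
    rw [cE_zero, Pi.single_eq_of_ne (by omega)]
  | succ j ih =>
    obtain ⟨k, rfl⟩ : ∃ k', k = k' + 1 := ⟨k - 1, by omega⟩
    rw [cE_succ_succ, ih (k + 1) (by omega), ih k (by omega), map_zero, mul_zero, add_zero]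

include hD in
theorem fD_iterate (j : ℕ) (n : N) :
    (fD f D)^[j] n = ∑ k ∈ Finset.range (j + 1), cE δ f j k • D^[k] n := by
  induction j with
  | zero =>
    rw [Finset.sum_range_one, cE_zero]
    simp
  | succ j ih =>
    rw [Function.iterate_succ_apply', ih, fD_apply, map_sum, Finset.smul_sum]
    have h1 : ∀ k, f • D (cE δ f j k • D^[k] n) =
        (f * cE δ f j k) • D^[k + 1] n + theta δ f (cE δ f j k) • D^[k] n := by
      intro k
      rw [hD, smul_add, smul_smul, smul_smul, Function.iterate_succ_apply', theta_apply]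
    simp_rw [h1]
    rw [Finset.sum_add_distrib]
    rw [Finset.sum_range_succ' (fun k => cE δ f (j + 1) k • D^[k] n) (j + 1)]
    simp_rw [cE_succ_succ, add_smul]
    rw [Finset.sum_add_distrib, cE_succ_zero]
    rw [Finset.sum_range_succ' (fun k => theta δ f (cE δ f j k) • D^[k] n) j]
    rw [Finset.sum_range_succ (fun k => theta δ f (cE δ f j (k + 1)) • D^[k + 1] n) j,
      cE_eq_zero δ f j (j + 1) (Nat.lt_succ_self j), map_zero, zero_smul, add_zero]
    abel

include hD hδ hpB in
/-- Deligne's identity `(f D)^p = f^p D^p + (f δ)^{p-1}(f) D` -/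
theorem fD_iterate_p (n : N) :
    (fD f D)^[p] n = f ^ p • D^[p] n + ((theta δ f)^[p - 1] f) • D n := by
  have hp2 : 2 ≤ p := hp.out.two_le
  rw [fD_iterate δ f D hD]
  have h1 : cE δ f p = Pi.single p (f ^ p) + Pi.single 1 ((theta δ f)^[p - 1] f) :=
    coeffs_pow_p p hpB δ hδ f
  rw [h1]
  simp_rw [Pi.add_apply, add_smul]
  rw [Finset.sum_add_distrib]
  congr 1
  · rw [Finset.sum_eq_single_of_mem p (Finset.mem_range.2 (Nat.lt_succ_self p))
      (fun k _ hk => by rw [Pi.single_eq_of_ne hk, zero_smul]), Pi.single_eq_same]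
  · rw [Finset.sum_eq_single_of_mem 1 (Finset.mem_range.2 (by omega))
      (fun k _ hk => by rw [Pi.single_eq_of_ne hk, zero_smul]), Pi.single_eq_same]
    rfl

end Module

end GD

section IterDer

variable {B : Type*} [CommRing B] (p : ℕ) [hp : Fact p.Prime] (hpB : (p : B) = 0)

theorem iterate_mul (θ : B →+ B) (hθ : ∀ a b, θ (a * b) = a * θ b + b * θ a) (n : ℕ) (a b : B) :
    θ^[n] (a * b) = ∑ ij ∈ Finset.HasAntidiagonal.antidiagonal n,
      (n.choose ij.1 : B) * (θ^[ij.1] a * θ^[ij.2] b) := by
  induction n with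
  | zero => simp
  | succ n ih =>
    rw [Finset.sum_antidiagonal_choose_succ_mul (fun i j => θ^[i] a * θ^[j] b) n,
      Function.iterate_succ_apply', ih, map_sum, add_comm]
    rw [← Finset.sum_add_distrib]
    refine Finset.sum_congr rfl fun ij hij => ?_
    rw [Finset.HasAntidiagonal.mem_antidiagonal] at hij
    have h1 : ∀ (c : ℕ) (z : B), θ ((c : B) * z) = (c : B) * θ z := by
      intro c z
      rw [← nsmul_eq_mul, map_nsmul, nsmul_eq_mul]
    rw [h1, hθ, Function.iterate_succ_apply', Function.iterate_succ_apply',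
      Nat.choose_symm_of_eq_add hij.symm]
    ring

include hpB in
theorem iterate_p_mul (θ : B →+ B) (hθ : ∀ a b, θ (a * b) = a * θ b + b * θ a) (a b : B) :
    θ^[p] (a * b) = a * θ^[p] b + b * θ^[p] a := by
  rw [iterate_mul θ hθ, Finset.Nat.sum_antidiagonal_eq_sum_range_succ_mk]
  have key : ∀ k : ℕ, (∀ i, 0 < i → i < k + 1 → (((k + 1).choose i : ℕ) : B) = 0) →
      ∑ x ∈ Finset.range (k + 1 + 1),
        (((k + 1).choose x : ℕ) : B) * (θ^[x] a * θ^[k + 1 - x] b) =
      a * θ^[k + 1] b + b * θ^[k + 1] a := by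
    intro k hk
    rw [Finset.sum_range_succ, Finset.sum_range_succ', Finset.sum_eq_zero (fun i hi => by
      have hi' := Finset.mem_range.1 hi
      rw [hk (i + 1) (Nat.succ_pos i) (by omega), zero_mul])]
    simp
    ring
  obtain ⟨k, hk⟩ : ∃ k, p = k + 1 := ⟨p - 1, (Nat.sub_add_cancel hp.out.one_le).symm⟩
  have := key k (fun i h1 h2 => by
    have := choose_cast_eq_zero p hpB h1 (by omega)
    rwa [hk] at this)
  rw [hk]
  exact this

variable {A : Type*} [CommRing A] [Algebra A B]

include hpB in
/-- the `p`-th iterate of a derivation in characteristic `p` -/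
noncomputable def iterDer (θ : Derivation A B B) : Derivation A B B :=
  Derivation.mk' ((θ : B →ₗ[A] B) ^ p) (fun a b => by
    rw [Module.End.pow_apply, Module.End.pow_apply, Module.End.pow_apply]
    exact iterate_p_mul p hpB (θ : B →+ B) (fun a b => by
      simp) a b)

theorem iterDer_apply (θ : Derivation A B B) (b : B) : iterDer p hpB θ b = (⇑θ)^[p] b := by
  show ((θ : B →ₗ[A] B) ^ p) b = _
  rw [Module.End.pow_apply]
  rfl

end IterDer

section Final

open TensorProduct

universe v u

variable {A : Type v} {B M : Type u} [CommRing A] [CommRing B] [Algebra A B]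
  [AddCommGroup M] [Module B M] [Module A M] [IsScalarTower A B M]
  (p : ℕ) [hp : Fact p.Prime] [CharP B p]

/-- S16794: the p-curvature vanishes as soon as it vanishes on the derivation dual to a basis of `Ω` -/
theorem pCurv_eq_zero_of_dual
    (bΩ : Module.Basis (Fin 1) B (KaehlerDifferential A B)) (θ₀ : Derivation A B B)
    (hθ₀ : θ₀.liftKaehlerDifferential (bΩ 0) = 1)
    (nabla : M →ₗ[A] M ⊗[B] KaehlerDifferential A B)
    (hc : Conn.IsConn (KaehlerDifferential.D A B) nabla)
    (h0 : ∀ θp : Derivation A B B, Conn.IsIterPow θ₀ p θp → Conn.pCurv p nabla θ₀ θp = 0)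
    (θ θp : Derivation A B B) (hθp : Conn.IsIterPow θ p θp) : Conn.pCurv p nabla θ θp = 0 := by
  have hpB : ((p : ℕ) : B) = 0 := CharP.cast_eq_zero B p
  let δ : B →+ B := (θ₀ : B →ₗ[A] B).toAddMonoidHom
  have hδ : ∀ a b, δ (a * b) = a * δ b + b * δ a := fun a b => θ₀.leibniz a b
  let D₀ : M →+ M := (Conn.alongDer nabla θ₀).toAddMonoidHom
  have hD : ∀ (b : B) (m : M), D₀ (b • m) = b • D₀ m + δ b • m := by
    intro b m
    show Conn.alongDer nabla θ₀ (b • m) = b • Conn.alongDer nabla θ₀ m + θ₀ b • m
    unfold Conn.alongDer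
    rw [Conn.along_apply, Conn.along_apply, hc b m, map_add, map_add, map_smul, map_smul,
      TensorProduct.map_tmul, TensorProduct.rid_tmul, LinearMap.id_apply,
      Derivation.liftKaehlerDifferential_comp_D]
  -- every derivation is a multiple of `θ₀`
  have key1 : ∀ θ' : Derivation A B B, θ'.liftKaehlerDifferential =
      (θ'.liftKaehlerDifferential (bΩ 0)) • θ₀.liftKaehlerDifferential := by
    intro θ'
    apply bΩ.ext
    intro i
    obtain rfl : i = 0 := Subsingleton.elim _ _
    rw [LinearMap.smul_apply, hθ₀, smul_eq_mul, mul_one]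
  have key2 : ∀ (θ' : Derivation A B B) (m : M), Conn.alongDer nabla θ' m =
      (θ'.liftKaehlerDifferential (bΩ 0)) • D₀ m := by
    intro θ' m
    show Conn.alongDer nabla θ' m = _ • Conn.alongDer nabla θ₀ m
    unfold Conn.alongDer
    rw [Conn.along_apply, Conn.along_apply]
    have hk := key1 θ'
    generalize θ'.liftKaehlerDifferential (bΩ 0) = c at hk ⊢
    rw [hk, TensorProduct.map_smul_right, LinearMap.smul_apply, map_smul]
  have key3 : ∀ (θ' : Derivation A B B) (b : B), θ' b =
      (θ'.liftKaehlerDifferential (bΩ 0)) * δ b := by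
    intro θ' b
    have hk := key1 θ'
    generalize θ'.liftKaehlerDifferential (bΩ 0) = c at hk ⊢
    rw [← Derivation.liftKaehlerDifferential_comp_D θ' b, hk, LinearMap.smul_apply,
      Derivation.liftKaehlerDifferential_comp_D, smul_eq_mul]
    rfl
  set f := θ.liftKaehlerDifferential (bΩ 0) with hf
  set h := θp.liftKaehlerDifferential (bΩ 0) with hh
  let θ₀p := iterDer p hpB θ₀
  set g := θ₀p.liftKaehlerDifferential (bΩ 0) with hg
  set u := (theta δ f)^[p - 1] f with hu
  -- the hypothesis on `θ₀`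
  have hD0 : ∀ m, D₀^[p] m = g • D₀ m := by
    intro m
    have h1 := h0 θ₀p (fun b => iterDer_apply p hpB θ₀ b)
    have h2 := LinearMap.congr_fun h1 m
    unfold Conn.pCurv at h2
    rw [LinearMap.sub_apply, LinearMap.zero_apply, Module.End.pow_apply, sub_eq_zero, key2] at h2
    exact h2
  -- Deligne's identity on `M`
  have hM : ∀ m, (⇑(Conn.alongDer nabla θ))^[p] m = f ^ p • D₀^[p] m + u • D₀ m := by
    intro m
    have h1 : (⇑(Conn.alongDer nabla θ)) = ⇑(fD f D₀) := by
      funext m'
      rw [key2 θ m', fD_apply]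
    rw [h1]
    exact fD_iterate_p p hpB δ hδ f D₀ hD m
  -- Deligne's identity on `B`
  have hB : ∀ b, (⇑θ)^[p] b = f ^ p * (⇑θ₀)^[p] b + u * θ₀ b := by
    intro b
    have h1 : (⇑θ) = ⇑(fD f δ) := by
      funext b'
      rw [key3 θ b', fD_apply, smul_eq_mul]
    rw [h1]
    have := fD_iterate_p p hpB δ hδ f δ (fun b n => by
      rw [smul_eq_mul, smul_eq_mul, smul_eq_mul, hδ]; ring) b
    rw [smul_eq_mul, smul_eq_mul] at this
    exact this
  -- hence `θp = f^p θ₀p + u θ₀`
  have hlift : θp.liftKaehlerDifferential =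
      (f ^ p) • θ₀p.liftKaehlerDifferential + u • θ₀.liftKaehlerDifferential := by
    apply Derivation.liftKaehlerDifferential_unique
    ext b
    show θp.liftKaehlerDifferential (KaehlerDifferential.D A B b) =
      (f ^ p • θ₀p.liftKaehlerDifferential + u • θ₀.liftKaehlerDifferential)
        (KaehlerDifferential.D A B b)
    rw [LinearMap.add_apply, LinearMap.smul_apply, LinearMap.smul_apply,
      Derivation.liftKaehlerDifferential_comp_D, Derivation.liftKaehlerDifferential_comp_D,
      Derivation.liftKaehlerDifferential_comp_D, smul_eq_mul, smul_eq_mul,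
      hθp b, hB b, iterDer_apply p hpB θ₀ b]
  have hh' : h = f ^ p * g + u := by
    rw [hh, hlift, LinearMap.add_apply, LinearMap.smul_apply, LinearMap.smul_apply, hθ₀,
      smul_eq_mul, smul_eq_mul, mul_one]
  -- conclusion
  ext m
  unfold Conn.pCurv
  rw [LinearMap.sub_apply, LinearMap.zero_apply, Module.End.pow_apply, hM m, key2 θp m, hD0 m,
    ← hh, hh', add_smul, mul_smul, sub_self]

end Final

end Groth.Agent.Lib.Helper84.PCurvD
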