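import Mathlib

/-!
# Cotangent bases of local rings (helper84, for S4595)
-/

set_option autoImplicit false

namespace Groth.Agent.Lib.Helper84.PRoot

open IsLocalRing

variable {R : Type*} [CommRing R] [IsLocalRing R]

/-- `z` induces a basis of the cotangent space `m/m²` (elementwise formulation). -/
structure IsCotBasis {ι : Type*} [Fintype ι] (z : ι → R) : Prop where
  mem : ∀ i, z i ∈ maximalIdeal R
  span : ∀ y ∈ maximalIdeal R, ∃ c : ι → R, y - ∑ i, c i * z i ∈ maximalIdeal R ^ 2
  indep : ∀ c : ι → R, ∑ i, c i * z i ∈ maximalIdeal R ^ 2 → ∀ i, c i ∈ maximalIdeal R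

lemma residue_smul_toCotangent (c : R) (x : maximalIdeal R) :
    (residue R c) • (maximalIdeal R).toCotangent x = (maximalIdeal R).toCotangent (c • x) := by
  rw [map_smul]
  exact algebraMap_smul (ResidueField R) c ((maximalIdeal R).toCotangent x)

lemma toCotangent_sum_mul {ι : Type*} [Fintype ι] (z : ι → R) (hz : ∀ i, z i ∈ maximalIdeal R)
    (c : ι → R) (h : ∑ i, c i * z i ∈ maximalIdeal R) :
    (maximalIdeal R).toCotangent ⟨∑ i, c i * z i, h⟩ =
      ∑ i, (residue R (c i)) • (maximalIdeal R).toCotangent ⟨z i, hz i⟩ := by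
  have : (⟨∑ i, c i * z i, h⟩ : maximalIdeal R) = ∑ i, c i • (⟨z i, hz i⟩ : maximalIdeal R) := by
    apply Subtype.ext
    simp [Submodule.coe_sum]
  rw [this, map_sum]
  refine Finset.sum_congr rfl fun i _ => ?_
  rw [residue_smul_toCotangent]

theorem IsCotBasis.finrank_eq {ι : Type*} [Fintype ι] {z : ι → R} (h : IsCotBasis z) :
    Module.finrank (ResidueField R) (CotangentSpace R) = Fintype.card ι := by
  classical
  let b : ι → CotangentSpace R := fun i => (maximalIdeal R).toCotangent ⟨z i, h.mem i⟩
  have hsum_mem : ∀ c : ι → R, ∑ i, c i * z i ∈ maximalIdeal R := fun c =>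
    Ideal.sum_mem _ fun i _ => Ideal.mul_mem_left _ _ (h.mem i)
  have hli : LinearIndependent (ResidueField R) b := by
    rw [Fintype.linearIndependent_iff]
    intro g hg i
    choose c hc using fun i => residue_surjective (g i)
    have h1 := toCotangent_sum_mul z h.mem c (hsum_mem c)
    simp only [hc] at h1
    rw [hg] at h1
    rw [Ideal.toCotangent_eq_zero] at h1
    have := h.indep c h1 i
    rw [← hc i]
    exact (residue_eq_zero_iff _).2 this
  have hsp : ⊤ ≤ Submodule.span (ResidueField R) (Set.range b) := by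
    intro x _
    obtain ⟨y, rfl⟩ := (maximalIdeal R).toCotangent_surjective x
    obtain ⟨c, hc⟩ := h.span y.1 y.2
    have h2 : (maximalIdeal R).toCotangent y = (maximalIdeal R).toCotangent ⟨_, hsum_mem c⟩ := by
      rw [Ideal.toCotangent_eq]
      exact hc
    rw [h2, toCotangent_sum_mul z h.mem c (hsum_mem c)]
    exact Submodule.sum_mem _ fun i _ => Submodule.smul_mem _ _ (Submodule.subset_span ⟨i, rfl⟩)
  rw [Module.finrank_eq_card_basis (Module.Basis.mk hli hsp)]

theorem exists_isCotBasis [IsNoetherianRing R] :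
    ∃ z : Fin (Module.finrank (ResidueField R) (CotangentSpace R)) → R, IsCotBasis z := by
  classical
  let b := Module.finBasis (ResidueField R) (CotangentSpace R)
  choose z hz using fun i => (maximalIdeal R).toCotangent_surjective (b i)
  have hsum_mem : ∀ c : _ → R, ∑ i, c i * (z i).1 ∈ maximalIdeal R := fun c =>
    Ideal.sum_mem _ fun i _ => Ideal.mul_mem_left _ _ (z i).2
  refine ⟨fun i => (z i).1, fun i => (z i).2, fun y hy => ?_, fun c hc i => ?_⟩
  · -- spanning
    have hrep := b.sum_repr ((maximalIdeal R).toCotangent ⟨y, hy⟩)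
    choose c hc using fun i => residue_surjective (b.repr ((maximalIdeal R).toCotangent ⟨y, hy⟩) i)
    refine ⟨c, ?_⟩
    have h1 := toCotangent_sum_mul (fun i => (z i).1) (fun i => (z i).2) c (hsum_mem c)
    simp only [hc, Subtype.coe_eta, hz] at h1
    rw [hrep] at h1
    have := ((maximalIdeal R).toCotangent_eq (x := ⟨y, hy⟩) (y := ⟨_, hsum_mem c⟩)).1 h1.symm
    exact this
  · have h1 := toCotangent_sum_mul (fun i => (z i).1) (fun i => (z i).2) c (hsum_mem c)
    simp only [Subtype.coe_eta, hz] at h1
    rw [(Ideal.toCotangent_eq_zero _ _).2 hc] at h1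
    have := (Fintype.linearIndependent_iff.1 b.linearIndependent) _ h1.symm i
    exact (residue_eq_zero_iff _).1 this


lemma map_maximalIdeal_ringEquiv {S : Type*} [CommRing S] [IsLocalRing S] (e : R ≃+* S) (x : R) :
    e x ∈ maximalIdeal S ↔ x ∈ maximalIdeal R := by
  rw [mem_maximalIdeal, mem_maximalIdeal, mem_nonunits_iff, mem_nonunits_iff]
  exact not_congr (MulEquiv.isUnit_map e.toMulEquiv)

lemma map_maximalIdeal_sq_ringEquiv {S : Type*} [CommRing S] [IsLocalRing S] (e : R ≃+* S)
    (x : R) (hx : x ∈ maximalIdeal R ^ 2) : e x ∈ maximalIdeal S ^ 2 := by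
  have h1 : (maximalIdeal R).map (e : R →+* S) ≤ maximalIdeal S := by
    rw [Ideal.map_le_iff_le_comap]
    intro y hy
    exact (map_maximalIdeal_ringEquiv e y).2 hy
  have h2 := Ideal.mem_map_of_mem (e : R →+* S) hx
  rw [Ideal.map_pow] at h2
  exact Ideal.pow_right_mono h1 2 h2

theorem IsCotBasis.map_ringEquiv {S : Type*} [CommRing S] [IsLocalRing S] (e : R ≃+* S)
    {ι : Type*} [Fintype ι] {z : ι → R} (h : IsCotBasis z) : IsCotBasis (fun i => e (z i)) := by
  refine ⟨fun i => (map_maximalIdeal_ringEquiv e _).2 (h.mem i), fun y hy => ?_, fun c hc i => ?_⟩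
  · obtain ⟨c, hc⟩ := h.span (e.symm y) (by
      rw [← map_maximalIdeal_ringEquiv e]; simpa using hy)
    refine ⟨fun i => e (c i), ?_⟩
    have := map_maximalIdeal_sq_ringEquiv e _ hc
    simpa [map_sub, map_sum, map_mul] using this
  · have h1 := map_maximalIdeal_sq_ringEquiv e.symm _ hc
    simp only [map_sum, map_mul, RingEquiv.symm_apply_apply] at h1
    have := h.indep (fun i => e.symm (c i)) h1 i
    rw [← map_maximalIdeal_ringEquiv e] at this
    simpa using this

theorem finrank_cotangentSpace_eq_of_ringEquiv {S : Type*} [CommRing S] [IsLocalRing S]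
    [IsNoetherianRing R] (e : R ≃+* S) :
    Module.finrank (ResidueField S) (CotangentSpace S) =
      Module.finrank (ResidueField R) (CotangentSpace R) := by
  obtain ⟨z, hz⟩ := exists_isCotBasis (R := R)
  rw [(hz.map_ringEquiv e).finrank_eq, Fintype.card_fin]

end Groth.Agent.Lib.Helper84.PRoot
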