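import Mathlib
import Groth.Agent.Lib.Helper84.PRoot1

/-!
# Extensions `A' = A[t]/(t^p - μ)` of Artinian local rings of characteristic `p` (helper84, S4595)

Abstract setting: `A'` is an `A`-algebra with an element `t` such that `1, t, …, t^(p-1)` is an
`A`-basis and `t ^ p = μ`.
-/

set_option autoImplicit false

namespace Groth.Agent.Lib.Helper84.PRoot

open IsLocalRing

section General

variable {A : Type*} [CommRing A] {A' : Type*} [CommRing A'] [Algebra A A']
variable {n : ℕ} (b : Module.Basis (Fin n) A A')

/-- membership in an extended ideal can be tested on coordinates -/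
theorem mem_map_iff_repr (I : Ideal A) (y : A') :
    y ∈ I.map (algebraMap A A') ↔ ∀ k, b.repr y k ∈ I := by
  constructor
  · intro hy
    refine Submodule.span_induction (p := fun y _ => ∀ k, b.repr y k ∈ I) ?_ ?_ ?_ ?_ hy
    · rintro _ ⟨a, ha, rfl⟩ k
      rw [Algebra.algebraMap_eq_smul_one, map_smul, Finsupp.smul_apply, smul_eq_mul]
      exact I.mul_mem_right _ ha
    · intro k; simp
    · intro x y _ _ hx hy k
      rw [map_add, Finsupp.add_apply]
      exact I.add_mem (hx k) (hy k)
    · intro a x _ hx k
      -- a • x = a * x in A'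
      rw [smul_eq_mul, ← b.sum_repr a, Finset.sum_mul, map_sum, Finsupp.coe_finsetSum,
        Finset.sum_apply]
      refine I.sum_mem fun j _ => ?_
      rw [smul_mul_assoc, map_smul, Finsupp.smul_apply, smul_eq_mul, ← b.sum_repr x,
        Finset.mul_sum, map_sum, Finsupp.coe_finsetSum, Finset.sum_apply, Finset.mul_sum]
      refine I.sum_mem fun l _ => ?_
      rw [mul_smul_comm, map_smul, Finsupp.smul_apply, smul_eq_mul, ← mul_assoc]
      exact I.mul_mem_right _ (I.mul_mem_left _ (hx l))
  · intro h
    rw [← b.sum_repr y]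
    refine Ideal.sum_mem _ fun k _ => ?_
    rw [Algebra.smul_def]
    exact Ideal.mul_mem_right _ _ (Ideal.mem_map_of_mem _ (h k))

end General


section PExt

variable {A : Type*} [CommRing A] [IsLocalRing A] [IsArtinianRing A]
variable (p : ℕ) [hp : Fact p.Prime] [CharP A p]
variable {A' : Type*} [CommRing A'] [Algebra A A']
variable (b : Module.Basis (Fin p) A A') {t : A'} {μ : A}
variable (hb : ∀ k : Fin p, b k = t ^ (k : ℕ)) (ht : t ^ p = algebraMap A A' μ)

include hb in
theorem basis_zero : b ⟨0, hp.out.pos⟩ = 1 := by rw [hb]; simp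

include hb in
theorem algebraMap_injective_of_basis : Function.Injective (algebraMap A A') := by
  intro x y hxy
  have h1 : ∀ a : A, b.repr (algebraMap A A' a) ⟨0, hp.out.pos⟩ = a := by
    intro a
    rw [Algebra.algebraMap_eq_smul_one, ← basis_zero p b hb, map_smul, b.repr_self,
      Finsupp.smul_apply, Finsupp.single_eq_same, smul_eq_mul, mul_one]
  rw [← h1 x, ← h1 y, hxy]

include hb in
theorem charP_of_basis : CharP A' p :=
  charP_of_injective_algebraMap (algebraMap_injective_of_basis p b hb) p

include hb in
theorem nontrivial_of_basis : Nontrivial A' :=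
  (algebraMap_injective_of_basis p b hb).nontrivial

include hb ht in
theorem pow_p_eq (y : A') :
    y ^ p = algebraMap A A' (∑ k : Fin p, (b.repr y k) ^ p * μ ^ (k : ℕ)) := by
  haveI := charP_of_basis p b hb
  conv_lhs => rw [← b.sum_repr y]
  rw [sum_pow_char, map_sum]
  refine Finset.sum_congr rfl fun k _ => ?_
  rw [Algebra.smul_def, mul_pow, hb, ← pow_mul, mul_comm (k : ℕ) p, pow_mul, ht, map_mul, map_pow,
    map_pow]

omit hp [CharP A p] in
theorem isNilpotent_of_mem_maximalIdeal {a : A} (ha : a ∈ maximalIdeal A) : IsNilpotent a := by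
  have h := IsArtinianRing.isNilpotent_jacobson_bot (R := A)
  rw [IsLocalRing.jacobson_eq_maximalIdeal ⊥ bot_ne_top] at h
  obtain ⟨n, hn⟩ := h
  refine ⟨n, ?_⟩
  have : a ^ n ∈ maximalIdeal A ^ n := Ideal.pow_mem_pow ha n
  rw [hn] at this
  exact this

include hb ht in
theorem isUnit_or_isNilpotent (y : A') : IsUnit y ∨ IsNilpotent y := by
  have hy := pow_p_eq p b hb ht y
  set a := ∑ k : Fin p, (b.repr y k) ^ p * μ ^ (k : ℕ) with ha
  by_cases hu : IsUnit a
  · left
    have : IsUnit (y ^ p) := by rw [hy]; exact hu.map _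
    exact (isUnit_pow_iff hp.out.ne_zero).1 this
  · right
    have h1 : IsNilpotent a := isNilpotent_of_mem_maximalIdeal hu
    have h2 : IsNilpotent (y ^ p) := by rw [hy]; exact h1.map _
    exact h2.of_pow

include hb ht in
theorem isLocalRing_of_basis : IsLocalRing A' := by
  haveI := nontrivial_of_basis p b hb
  refine IsLocalRing.of_nonunits_add fun x y hx hy => ?_
  have hx' : IsNilpotent x := (isUnit_or_isNilpotent p b hb ht x).resolve_left hx
  have hy' : IsNilpotent y := (isUnit_or_isNilpotent p b hb ht y).resolve_left hy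
  exact (Commute.all x y).isNilpotent_add hx' hy' |>.not_isUnit

include hb ht in
theorem mem_maximalIdeal_iff_isNilpotent [IsLocalRing A'] (y : A') :
    y ∈ maximalIdeal A' ↔ IsNilpotent y := by
  rw [mem_maximalIdeal, mem_nonunits_iff]
  constructor
  · intro h; exact (isUnit_or_isNilpotent p b hb ht y).resolve_left h
  · intro h; exact h.not_isUnit

include hb ht in
theorem isLocalHom_of_basis [IsLocalRing A'] : IsLocalHom (algebraMap A A') := by
  refine ⟨fun a ha => ?_⟩
  by_contra hu
  have h1 : IsNilpotent a := isNilpotent_of_mem_maximalIdeal hu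
  exact (h1.map (algebraMap A A')).not_isUnit ha

include b in
omit hp [CharP A p] [IsLocalRing A] in
theorem isArtinianRing_of_basis : IsArtinianRing A' := by
  have : Module.Finite A A' := Module.Finite.of_basis b
  exact IsArtinianRing.of_finite A A'

end PExt

end Groth.Agent.Lib.Helper84.PRoot
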