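import Mathlib
import Groth.Agent.Lib.Helper84.PRoot2
import Groth.Agent.Lib.Helper13.PBasisField

/-!
# Case 1: `μ̄` is not a `p`-th power in the residue field (helper84, S4595)
-/

set_option autoImplicit false

namespace Groth.Agent.Lib.Helper84.PRoot

open IsLocalRing

theorem charP_residueField {A : Type*} [CommRing A] [IsLocalRing A] (p : ℕ) [hp : Fact p.Prime]
    [CharP A p] : CharP (ResidueField A) p := by
  have h0 : ((p : ℕ) : ResidueField A) = 0 := by
    have : ((p : ℕ) : A) = 0 := CharP.cast_eq_zero A p
    rw [← map_natCast (residue A), this, map_zero]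
  have := CharP.ringChar_of_prime_eq_zero hp.out h0
  rw [← this]
  exact ringChar.charP _

section Case1

variable {A : Type*} [CommRing A] [IsLocalRing A] [IsArtinianRing A]
variable (p : ℕ) [hp : Fact p.Prime] [CharP A p]
variable {A' : Type*} [CommRing A'] [Algebra A A'] [IsLocalRing A']
variable (b : Module.Basis (Fin p) A A') {t : A'} {μ : A}
variable (hb : ∀ k : Fin p, b k = t ^ (k : ℕ)) (ht : t ^ p = algebraMap A A' μ)

include hb ht in
/-- if `μ̄` is not a `p`-th power then `m' = m A'` -/
theorem maximalIdeal_eq_map_of_not_pow (hμ : ∀ c : ResidueField A, c ^ p ≠ residue A μ) :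
    maximalIdeal A' = (maximalIdeal A).map (algebraMap A A') := by
  haveI : IsLocalHom (algebraMap A A') := isLocalHom_of_basis p b hb ht
  haveI : CharP (ResidueField A) p := charP_residueField p
  haveI := nontrivial_of_basis p b hb
  apply le_antisymm
  · intro y hy
    rw [mem_map_iff_repr b]
    have hnil : IsNilpotent y := (mem_maximalIdeal_iff_isNilpotent p b hb ht y).1 hy
    have hyp := pow_p_eq p b hb ht y
    set a := ∑ k : Fin p, (b.repr y k) ^ p * μ ^ (k : ℕ) with ha
    have ha_mem : a ∈ maximalIdeal A := by
      by_contra hu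
      have hu' : IsUnit a := by
        rw [mem_maximalIdeal, mem_nonunits_iff, not_not] at hu; exact hu
      have : IsUnit (y ^ p) := by rw [hyp]; exact hu'.map _
      have hnp : IsNilpotent (y ^ p) := by
        have := hnil.pow_succ (p - 1)
        rwa [Nat.succ_eq_add_one, Nat.sub_add_cancel hp.out.one_le] at this
      exact hnp.not_isUnit this
    -- residue of `a` vanishes
    have hres : ∑ k : Fin p, (residue A (b.repr y k)) ^ p * (residue A μ) ^ (k : ℕ) = 0 := by
      have := (residue_eq_zero_iff a).2 ha_mem
      rw [ha, map_sum] at this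
      simpa [map_mul, map_pow] using this
    -- linear independence of powers of `μ̄` over `K^p`
    let S : Subalgebra ℤ (ResidueField A) := subalgebraOfSubring (frobenius (ResidueField A) p).range
    have hS : ∀ y : ResidueField A, y ^ p ∈ S := fun y =>
      mem_subalgebraOfSubring.2 ⟨y, rfl⟩
    have hμS : residue A μ ∉ S := by
      intro h
      obtain ⟨c, hc⟩ := mem_subalgebraOfSubring.1 h
      exact hμ c hc
    have hli := Groth.Agent.Lib.Helper13.PBasis.linearIndependent_pow_of_not_mem p S hS
      (residue A μ) hμS
    have h0 := Fintype.linearIndependent_iff.1 hli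
      (fun k => ⟨(residue A (b.repr y k)) ^ p, hS _⟩) (by
        rw [← hres]
        refine Finset.sum_congr rfl fun k _ => ?_
        rfl)
    intro k
    have h1 := congrArg Subtype.val (h0 k)
    simp only at h1
    have h2 : residue A (b.repr y k) = 0 := by
      have : (residue A (b.repr y k)) ^ p = 0 := h1
      exact pow_eq_zero_iff hp.out.ne_zero |>.1 this
    exact (residue_eq_zero_iff _).1 h2
  · rw [Ideal.map_le_iff_le_comap]
    intro a ha
    exact (mem_maximalIdeal_iff_isNilpotent p b hb ht _).2
      ((isNilpotent_of_mem_maximalIdeal ha).map _)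

end Case1


section Unramified

variable {A : Type*} [CommRing A] [IsLocalRing A]
variable {A' : Type*} [CommRing A'] [Algebra A A'] [IsLocalRing A']
variable {n : ℕ} (b : Module.Basis (Fin n) A A')

include b in
/-- if `A'` is free over `A` with `m' = m A'`, cotangent bases extend -/
theorem IsCotBasis.map_of_maximalIdeal_eq_map
    (hm : maximalIdeal A' = (maximalIdeal A).map (algebraMap A A'))
    {ι : Type*} [Fintype ι] {z : ι → A} (h : IsCotBasis z) :
    IsCotBasis (fun i => algebraMap A A' (z i)) := by
  classical
  have hm2 : maximalIdeal A' ^ 2 = (maximalIdeal A ^ 2).map (algebraMap A A') := by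
    rw [hm, Ideal.map_pow]
  -- coordinates of `C * algebraMap z`
  have hrepr : ∀ (C : A') (a : A) (k : Fin n), b.repr (C * algebraMap A A' a) k = b.repr C k * a := by
    intro C a k
    rw [mul_comm C, ← Algebra.smul_def, map_smul, Finsupp.smul_apply, smul_eq_mul, mul_comm]
  refine ⟨fun i => ?_, fun y hy => ?_, fun C hC i => ?_⟩
  · rw [hm]; exact Ideal.mem_map_of_mem _ (h.mem i)
  · rw [hm, mem_map_iff_repr b] at hy
    choose d hd using fun k => h.span _ (hy k)
    refine ⟨fun i => ∑ k, d k i • b k, ?_⟩
    rw [hm2, mem_map_iff_repr b]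
    intro k
    rw [map_sub, Finsupp.sub_apply, map_sum, Finsupp.coe_finsetSum, Finset.sum_apply]
    have : ∀ i, b.repr ((∑ k, d k i • b k) * algebraMap A A' (z i)) k = d k i * z i := by
      intro i
      rw [hrepr]
      congr 1
      rw [map_sum, Finsupp.coe_finsetSum, Finset.sum_apply]
      simp [Finsupp.single_apply]
    simp only [this]
    exact hd k
  · rw [hm2, mem_map_iff_repr b] at hC
    rw [hm, mem_map_iff_repr b]
    intro k
    have h1 := hC k
    rw [map_sum, Finsupp.coe_finsetSum, Finset.sum_apply] at h1
    simp only [hrepr] at h1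
    exact h.indep (fun i => b.repr (C i) k) h1 i

include b in
theorem finrank_cotangentSpace_eq_of_maximalIdeal_eq_map [IsNoetherianRing A]
    (hm : maximalIdeal A' = (maximalIdeal A).map (algebraMap A A')) :
    Module.finrank (ResidueField A') (CotangentSpace A') =
      Module.finrank (ResidueField A) (CotangentSpace A) := by
  obtain ⟨z, hz⟩ := exists_isCotBasis (R := A)
  rw [(hz.map_of_maximalIdeal_eq_map b hm).finrank_eq, Fintype.card_fin]

end Unramified

end Groth.Agent.Lib.Helper84.PRoot
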