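import Mathlib
import Groth.Agent.Lib.Helper84.PRoot2

/-!
# Case 2: `μ ∈ m` (helper84, S4595): coordinates in `A' = A[t]/(t^p - μ)`
-/

set_option autoImplicit false

namespace Groth.Agent.Lib.Helper84.PRoot

open IsLocalRing

section Case2

variable {A : Type*} [CommRing A] [IsLocalRing A] [IsArtinianRing A]
variable (p : ℕ) [hp : Fact p.Prime] [CharP A p]
variable {A' : Type*} [CommRing A'] [Algebra A A'] [IsLocalRing A']
variable (b : Module.Basis (Fin p) A A') {t : A'} {μ : A}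
variable (hb : ∀ k : Fin p, b k = t ^ (k : ℕ)) (ht : t ^ p = algebraMap A A' μ)
variable (hμ : μ ∈ maximalIdeal A)

/-- index `0` of `Fin p` -/
def i0 : Fin p := ⟨0, hp.out.pos⟩
/-- index `1` of `Fin p` -/
def i1 : Fin p := ⟨1, hp.out.one_lt⟩

include hb ht hμ in
theorem t_mem : t ∈ maximalIdeal A' := by
  rw [mem_maximalIdeal_iff_isNilpotent p b hb ht]
  have : IsNilpotent (t ^ p) := by
    rw [ht]; exact (isNilpotent_of_mem_maximalIdeal hμ).map _
  exact this.of_pow

include hb ht in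
theorem algebraMap_mem_iff (a : A) : algebraMap A A' a ∈ maximalIdeal A' ↔ a ∈ maximalIdeal A := by
  haveI : IsLocalHom (algebraMap A A') := isLocalHom_of_basis p b hb ht
  rw [mem_maximalIdeal, mem_maximalIdeal, mem_nonunits_iff, mem_nonunits_iff,
    isUnit_map_iff (algebraMap A A') a]

include hb in
/-- `y - y₀` is a multiple of `t` -/
theorem exists_eq_add_mul_t (y : A') :
    ∃ q : A', y = algebraMap A A' (b.repr y (i0 p)) + q * t := by
  classical
  refine ⟨∑ k ∈ Finset.univ.erase (i0 p), b.repr y k • t ^ ((k : ℕ) - 1), ?_⟩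
  conv_lhs => rw [← b.sum_repr y, ← Finset.add_sum_erase _ _ (Finset.mem_univ (i0 p))]
  congr 1
  · rw [hb, Algebra.smul_def]; simp [i0]
  · rw [Finset.sum_mul]
    refine Finset.sum_congr rfl fun k hk => ?_
    have hk0 : (k : ℕ) ≠ 0 := by
      intro h
      exact (Finset.mem_erase.1 hk).1 (Fin.ext h)
    rw [hb, smul_mul_assoc, ← pow_succ, Nat.sub_add_cancel (Nat.one_le_iff_ne_zero.2 hk0)]

include hb ht hμ in
theorem mem_maximalIdeal_iff_repr_zero (y : A') :
    y ∈ maximalIdeal A' ↔ b.repr y (i0 p) ∈ maximalIdeal A := by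
  obtain ⟨q, hq⟩ := exists_eq_add_mul_t p b hb y
  have hqt : q * t ∈ maximalIdeal A' := Ideal.mul_mem_left _ _ (t_mem p b hb ht hμ)
  rw [← algebraMap_mem_iff p b hb ht]
  constructor
  · intro hy
    have : algebraMap A A' (b.repr y (i0 p)) = y - q * t := by rw [eq_sub_iff_add_eq]; exact hq.symm
    rw [this]
    exact Ideal.sub_mem _ hy hqt
  · intro h
    rw [hq]
    exact Ideal.add_mem _ h hqt

include hb ht in
/-- constant coordinate of `t^n`, `n ≥ 1`, is a multiple of `μ` -/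
theorem repr_pow_zero_mem (n : ℕ) (hn : 1 ≤ n) :
    b.repr (t ^ n) (i0 p) ∈ Ideal.span {μ} := by
  classical
  by_cases hnp : n < p
  · have : t ^ n = b ⟨n, hnp⟩ := (hb ⟨n, hnp⟩).symm
    rw [this, b.repr_self, Finsupp.single_apply, if_neg]
    · exact Ideal.zero_mem _
    · intro h
      have := congrArg Fin.val h
      simp [i0] at this
      omega
  · push_neg at hnp
    have : t ^ n = μ • t ^ (n - p) := by
      rw [Algebra.smul_def, ← ht, ← pow_add, Nat.add_sub_cancel' hnp]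
    rw [this, map_smul, Finsupp.smul_apply, smul_eq_mul]
    exact Ideal.mul_mem_right _ _ (Ideal.mem_span_singleton_self μ)

include hb ht hμ in
/-- linear coordinate of `t^n`, `n ≥ 2`, lies in `m` -/
theorem repr_pow_one_mem (n : ℕ) (hn : 2 ≤ n) :
    b.repr (t ^ n) (i1 p) ∈ maximalIdeal A := by
  classical
  by_cases hnp : n < p
  · have : t ^ n = b ⟨n, hnp⟩ := (hb ⟨n, hnp⟩).symm
    rw [this, b.repr_self, Finsupp.single_apply, if_neg]
    · exact Ideal.zero_mem _
    · intro h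
      have := congrArg Fin.val h
      simp [i1] at this
      omega
  · push_neg at hnp
    have : t ^ n = μ • t ^ (n - p) := by
      rw [Algebra.smul_def, ← ht, ← pow_add, Nat.add_sub_cancel' hnp]
    rw [this, map_smul, Finsupp.smul_apply, smul_eq_mul]
    exact Ideal.mul_mem_right _ _ hμ

include hb in
theorem repr_t_one : b.repr t (i1 p) = 1 := by
  have : t = b (i1 p) := by rw [hb]; simp [i1]
  conv_lhs => rw [this]
  rw [b.repr_self, Finsupp.single_eq_same]


include hb in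
theorem eq_sum_smul_pow (y : A') : y = ∑ k : Fin p, b.repr y k • t ^ (k : ℕ) := by
  conv_lhs => rw [← b.sum_repr y]
  exact Finset.sum_congr rfl fun k _ => by rw [hb]

include hb ht in
theorem repr_mul_t_zero_mem (c : A') : b.repr (c * t) (i0 p) ∈ Ideal.span {μ} := by
  have h1 : c * t = ∑ k : Fin p, b.repr c k • t ^ ((k : ℕ) + 1) := by
    conv_lhs => rw [eq_sum_smul_pow p b hb c, Finset.sum_mul]
    exact Finset.sum_congr rfl fun k _ => by rw [smul_mul_assoc, pow_succ]
  rw [h1, map_sum, Finsupp.coe_finsetSum, Finset.sum_apply]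
  refine Ideal.sum_mem _ fun k _ => ?_
  rw [map_smul, Finsupp.smul_apply, smul_eq_mul]
  exact Ideal.mul_mem_left _ _ (repr_pow_zero_mem p b hb ht _ (Nat.le_add_left 1 _))

include hb ht hμ in
theorem repr_mul_t_one_sub_mem (c : A') :
    b.repr (c * t) (i1 p) - b.repr c (i0 p) ∈ maximalIdeal A := by
  classical
  have h1 : c * t = ∑ k : Fin p, b.repr c k • t ^ ((k : ℕ) + 1) := by
    conv_lhs => rw [eq_sum_smul_pow p b hb c, Finset.sum_mul]
    exact Finset.sum_congr rfl fun k _ => by rw [smul_mul_assoc, pow_succ]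
  rw [h1, map_sum, Finsupp.coe_finsetSum, Finset.sum_apply,
    ← Finset.add_sum_erase _ _ (Finset.mem_univ (i0 p))]
  have h2 : (b.repr (b.repr c (i0 p) • t ^ (((i0 p : Fin p) : ℕ) + 1))) (i1 p) = b.repr c (i0 p) := by
    rw [map_smul, Finsupp.smul_apply, smul_eq_mul]
    have : t ^ (((i0 p : Fin p) : ℕ) + 1) = t := by simp [i0]
    rw [this, repr_t_one p b hb, mul_one]
  rw [h2, add_sub_cancel_left]
  refine Ideal.sum_mem _ fun k hk => ?_
  have hk0 : (k : ℕ) ≠ 0 := by
    intro h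
    exact (Finset.mem_erase.1 hk).1 (Fin.ext h)
  rw [map_smul, Finsupp.smul_apply, smul_eq_mul]
  exact Ideal.mul_mem_left _ _ (repr_pow_one_mem p b hb ht hμ _ (by omega))

include hb in
theorem mul_eq_sum_sum (u v : A') :
    u * v = ∑ i : Fin p, ∑ j : Fin p, (b.repr u i * b.repr v j) • t ^ ((i : ℕ) + (j : ℕ)) := by
  conv_lhs => rw [eq_sum_smul_pow p b hb u, eq_sum_smul_pow p b hb v, Finset.sum_mul_sum]
  refine Finset.sum_congr rfl fun i _ => Finset.sum_congr rfl fun j _ => ?_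
  rw [smul_mul_smul_comm, pow_add]

include hb ht hμ in
theorem repr_mul_zero_mem {u v : A'} (hu : u ∈ maximalIdeal A') (hv : v ∈ maximalIdeal A') :
    b.repr (u * v) (i0 p) ∈ maximalIdeal A ^ 2 ⊔ Ideal.span {μ} := by
  have hu0 := (mem_maximalIdeal_iff_repr_zero p b hb ht hμ u).1 hu
  have hv0 := (mem_maximalIdeal_iff_repr_zero p b hb ht hμ v).1 hv
  rw [mul_eq_sum_sum p b hb u v, map_sum, Finsupp.coe_finsetSum, Finset.sum_apply]
  refine Ideal.sum_mem _ fun i _ => ?_
  rw [map_sum, Finsupp.coe_finsetSum, Finset.sum_apply]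
  refine Ideal.sum_mem _ fun j _ => ?_
  rw [map_smul, Finsupp.smul_apply, smul_eq_mul]
  by_cases hij : (i : ℕ) + (j : ℕ) = 0
  · have hi : i = i0 p := Fin.ext (by show (i : ℕ) = 0; omega)
    have hj : j = i0 p := Fin.ext (by show (j : ℕ) = 0; omega)
    subst hi hj
    refine Ideal.mem_sup_left (Ideal.mul_mem_right _ _ ?_)
    rw [pow_two]
    exact Ideal.mul_mem_mul hu0 hv0
  · exact Ideal.mem_sup_right (Ideal.mul_mem_left _ _
      (repr_pow_zero_mem p b hb ht _ (Nat.one_le_iff_ne_zero.2 hij)))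

include hb ht hμ in
theorem repr_mul_one_mem {u v : A'} (hu : u ∈ maximalIdeal A') (hv : v ∈ maximalIdeal A') :
    b.repr (u * v) (i1 p) ∈ maximalIdeal A := by
  have hu0 := (mem_maximalIdeal_iff_repr_zero p b hb ht hμ u).1 hu
  have hv0 := (mem_maximalIdeal_iff_repr_zero p b hb ht hμ v).1 hv
  rw [mul_eq_sum_sum p b hb u v, map_sum, Finsupp.coe_finsetSum, Finset.sum_apply]
  refine Ideal.sum_mem _ fun i _ => ?_
  rw [map_sum, Finsupp.coe_finsetSum, Finset.sum_apply]
  refine Ideal.sum_mem _ fun j _ => ?_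
  rw [map_smul, Finsupp.smul_apply, smul_eq_mul]
  by_cases hi : (i : ℕ) = 0
  · have hi' : i = i0 p := Fin.ext (by show (i : ℕ) = 0; omega)
    subst hi'
    exact Ideal.mul_mem_right _ _ (Ideal.mul_mem_right _ _ hu0)
  by_cases hj : (j : ℕ) = 0
  · have hj' : j = i0 p := Fin.ext (by show (j : ℕ) = 0; omega)
    subst hj'
    exact Ideal.mul_mem_right _ _ (Ideal.mul_mem_left _ _ hv0)
  · exact Ideal.mul_mem_left _ _ (repr_pow_one_mem p b hb ht hμ _ (by omega))

include hb ht hμ in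
theorem repr_mem_of_mem_sq {y : A'} (hy : y ∈ maximalIdeal A' ^ 2) :
    b.repr y (i0 p) ∈ maximalIdeal A ^ 2 ⊔ Ideal.span {μ} ∧ b.repr y (i1 p) ∈ maximalIdeal A := by
  rw [pow_two] at hy
  refine Submodule.mul_induction_on hy (fun u hu v hv => ?_) (fun x y hx hy => ?_)
  · exact ⟨repr_mul_zero_mem p b hb ht hμ hu hv, repr_mul_one_mem p b hb ht hμ hu hv⟩
  · rw [map_add, Finsupp.add_apply, Finsupp.add_apply]
    exact ⟨Ideal.add_mem _ hx.1 hy.1, Ideal.add_mem _ hx.2 hy.2⟩

end Case2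

end Groth.Agent.Lib.Helper84.PRoot
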