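import Mathlib
import Groth.Agent.Lib.Helper84.PRoot4

/-!
# Case 2: `μ ∈ m` (helper84, S4595): the cotangent space of `A' = A[t]/(t^p - μ)`
-/

set_option autoImplicit false

namespace Groth.Agent.Lib.Helper84.PRoot

open IsLocalRing

/-- `z` induces a basis of `m/(m² + μ A)` (elementwise formulation). -/
structure IsCotBasisMod {A : Type*} [CommRing A] [IsLocalRing A] (μ : A)
    {ι : Type*} [Fintype ι] (z : ι → A) : Prop where
  mem : ∀ i, z i ∈ maximalIdeal A
  span : ∀ y ∈ maximalIdeal A, ∃ (c : ι → A) (l : A),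
    y - ∑ i, c i * z i - l * μ ∈ maximalIdeal A ^ 2
  indep : ∀ (c : ι → A) (l : A), ∑ i, c i * z i + l * μ ∈ maximalIdeal A ^ 2 →
    ∀ i, c i ∈ maximalIdeal A

section Case2

variable {A : Type*} [CommRing A] [IsLocalRing A] [IsArtinianRing A]
variable (p : ℕ) [hp : Fact p.Prime] [CharP A p]
variable {A' : Type*} [CommRing A'] [Algebra A A'] [IsLocalRing A']
variable (b : Module.Basis (Fin p) A A') {t : A'} {μ : A}
variable (hb : ∀ k : Fin p, b k = t ^ (k : ℕ)) (ht : t ^ p = algebraMap A A' μ)
variable (hμ : μ ∈ maximalIdeal A)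

include hb ht in
theorem algebraMap_mem_sq {a : A} (ha : a ∈ maximalIdeal A ^ 2) :
    algebraMap A A' a ∈ maximalIdeal A' ^ 2 := by
  have h1 : (maximalIdeal A).map (algebraMap A A') ≤ maximalIdeal A' := by
    rw [Ideal.map_le_iff_le_comap]
    intro x hx
    exact (algebraMap_mem_iff p b hb ht x).2 hx
  have h2 := Ideal.mem_map_of_mem (algebraMap A A') ha
  rw [Ideal.map_pow] at h2
  exact Ideal.pow_right_mono h1 2 h2

include hb ht hμ in
theorem t_pow_p_mem_sq : t ^ p ∈ maximalIdeal A' ^ 2 :=
  Ideal.pow_le_pow_right hp.out.two_le (Ideal.pow_mem_pow (t_mem p b hb ht hμ) p)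

omit [IsLocalRing A] [IsArtinianRing A] hp [CharP A p] [IsLocalRing A'] in
theorem repr_mul_algebraMap (C : A') (a : A) (k : Fin p) :
    b.repr (C * algebraMap A A' a) k = b.repr C k * a := by
  rw [mul_comm C, ← Algebra.smul_def, map_smul, Finsupp.smul_apply, smul_eq_mul, mul_comm]

include hb ht hμ in
theorem IsCotBasisMod.isCotBasis_option {ι : Type*} [Fintype ι] {z : ι → A}
    (h : IsCotBasisMod μ z) :
    IsCotBasis (fun o : Option ι => o.elim t (fun i => algebraMap A A' (z i))) := by
  classical
  refine ⟨fun o => ?_, fun y hy => ?_, fun C hC => ?_⟩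
  · cases o with
    | none => exact t_mem p b hb ht hμ
    | some i => exact (algebraMap_mem_iff p b hb ht _).2 (h.mem i)
  · have hc0 := (mem_maximalIdeal_iff_repr_zero p b hb ht hμ y).1 hy
    obtain ⟨q, hq⟩ := exists_eq_add_mul_t p b hb y
    obtain ⟨d, l, hdl⟩ := h.span _ hc0
    refine ⟨fun o => o.elim q (fun i => algebraMap A A' (d i)), ?_⟩
    rw [Fintype.sum_option]
    simp only [Option.elim_none, Option.elim_some]
    set c0 := b.repr y (i0 p) with hc0def
    have key : y - (q * t + ∑ i, algebraMap A A' (d i) * algebraMap A A' (z i)) =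
        algebraMap A A' (c0 - ∑ i, d i * z i - l * μ) + algebraMap A A' l * t ^ p := by
      rw [ht]
      conv_lhs => rw [hq]
      simp only [map_sub, map_sum, map_mul]
      ring
    rw [key]
    exact Ideal.add_mem _ (algebraMap_mem_sq p b hb ht hdl)
      (Ideal.mul_mem_left _ _ (t_pow_p_mem_sq p b hb ht hμ))
  · rw [Fintype.sum_option] at hC
    simp only [Option.elim_none, Option.elim_some] at hC
    obtain ⟨hr0, hr1⟩ := repr_mem_of_mem_sq p b hb ht hμ hC
    have hexp : ∀ k : Fin p, b.repr (C none * t + ∑ i, C (some i) * algebraMap A A' (z i)) k =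
        b.repr (C none * t) k + ∑ i, b.repr (C (some i)) k * z i := by
      intro k
      rw [map_add, Finsupp.add_apply, map_sum, Finsupp.coe_finsetSum, Finset.sum_apply]
      simp only [repr_mul_algebraMap]
    rw [hexp] at hr0 hr1
    -- the `some` coefficients
    have hsome : ∀ i, C (some i) ∈ maximalIdeal A' := by
      have h1 : ∑ i, b.repr (C (some i)) (i0 p) * z i ∈ maximalIdeal A ^ 2 ⊔ Ideal.span {μ} := by
        have h2 : b.repr (C none * t) (i0 p) ∈ maximalIdeal A ^ 2 ⊔ Ideal.span {μ} :=
          Ideal.mem_sup_right (repr_mul_t_zero_mem p b hb ht _)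
        have := Ideal.sub_mem _ hr0 h2
        rwa [add_sub_cancel_left] at this
      obtain ⟨ω, hω, x, hx, hsum⟩ := Submodule.mem_sup.1 h1
      obtain ⟨l, rfl⟩ := Ideal.mem_span_singleton'.1 hx
      have h3 : ∑ i, b.repr (C (some i)) (i0 p) * z i + (-l) * μ ∈ maximalIdeal A ^ 2 := by
        rw [← hsum]
        have : ω + l * μ + -l * μ = ω := by ring
        rw [this]
        exact hω
      intro i
      exact (mem_maximalIdeal_iff_repr_zero p b hb ht hμ _).2 (h.indep _ _ h3 i)
    have hnone : C none ∈ maximalIdeal A' := by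
      have h1 : ∑ i, b.repr (C (some i)) (i1 p) * z i ∈ maximalIdeal A :=
        Ideal.sum_mem _ fun i _ => Ideal.mul_mem_left _ _ (h.mem i)
      have h2 : b.repr (C none * t) (i1 p) ∈ maximalIdeal A := by
        have := Ideal.sub_mem _ hr1 h1
        rwa [add_sub_cancel_right] at this
      have h3 := repr_mul_t_one_sub_mem p b hb ht hμ (C none)
      have h4 : b.repr (C none) (i0 p) ∈ maximalIdeal A := by
        have := Ideal.sub_mem _ h2 h3
        rwa [sub_sub_cancel] at this
      exact (mem_maximalIdeal_iff_repr_zero p b hb ht hμ _).2 h4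
    intro o
    cases o with
    | none => exact hnone
    | some i => exact hsome i

end Case2

end Groth.Agent.Lib.Helper84.PRoot
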