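import Mathlib
import Groth.Agent.Lib.Helper84.PRoot5

/-!
# Existence of cotangent bases modulo an element (helper84, S4595)
-/

set_option autoImplicit false

namespace Groth.Agent.Lib.Helper84.PRoot

open IsLocalRing

section

variable {A : Type*} [CommRing A] [IsLocalRing A] [IsNoetherianRing A]

/-- number of elements of a cotangent basis modulo `μ` -/
noncomputable def cotRankMod (μ : A) (hμ : μ ∈ maximalIdeal A) : ℕ :=
  Module.finrank (ResidueField A)
    (CotangentSpace A ⧸ Submodule.span (ResidueField A) {(maximalIdeal A).toCotangent ⟨μ, hμ⟩})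

theorem cotRankMod_of_mem_sq {μ : A} (hμ : μ ∈ maximalIdeal A) (h2 : μ ∈ maximalIdeal A ^ 2) :
    cotRankMod μ hμ = Module.finrank (ResidueField A) (CotangentSpace A) := by
  unfold cotRankMod
  have : (maximalIdeal A).toCotangent ⟨μ, hμ⟩ = 0 := (Ideal.toCotangent_eq_zero _ _).2 h2
  rw [this, Submodule.span_zero_singleton]
  exact (Submodule.quotEquivOfEqBot ⊥ rfl).finrank_eq

theorem cotRankMod_add_one_of_notMem_sq {μ : A} (hμ : μ ∈ maximalIdeal A)
    (h2 : μ ∉ maximalIdeal A ^ 2) :
    cotRankMod μ hμ + 1 = Module.finrank (ResidueField A) (CotangentSpace A) := by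
  unfold cotRankMod
  have hne : (maximalIdeal A).toCotangent ⟨μ, hμ⟩ ≠ 0 := fun h =>
    h2 ((Ideal.toCotangent_eq_zero _ _).1 h)
  rw [← Submodule.finrank_quotient_add_finrank
    (Submodule.span (ResidueField A) {(maximalIdeal A).toCotangent ⟨μ, hμ⟩}),
    finrank_span_singleton hne]

theorem exists_isCotBasisMod_aux (μ : A) (hμ : μ ∈ maximalIdeal A)
    (W : Submodule (ResidueField A) (CotangentSpace A))
    (hW : W = Submodule.span (ResidueField A) {(maximalIdeal A).toCotangent ⟨μ, hμ⟩})
    {ι : Type*} [Fintype ι] (bQ : Module.Basis ι (ResidueField A) (CotangentSpace A ⧸ W)) :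
    ∃ z : ι → A, IsCotBasisMod μ z := by
  classical
  have hsurj : ∀ i, ∃ z : maximalIdeal A, W.mkQ ((maximalIdeal A).toCotangent z) = bQ i := by
    intro i
    obtain ⟨x, hx⟩ := W.mkQ_surjective (bQ i)
    obtain ⟨z, rfl⟩ := (maximalIdeal A).toCotangent_surjective x
    exact ⟨z, hx⟩
  choose z hz using hsurj
  let μ' : maximalIdeal A := ⟨μ, hμ⟩
  have hv₀ : W.mkQ ((maximalIdeal A).toCotangent μ') = 0 := by
    rw [Submodule.mkQ_apply, Submodule.Quotient.mk_eq_zero, hW]
    exact Submodule.subset_span rfl
  -- image of a combination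
  have hcomb : ∀ (c : ι → A) (l : A),
      W.mkQ ((maximalIdeal A).toCotangent (∑ i, c i • z i + l • μ')) =
        ∑ i, residue A (c i) • bQ i := by
    intro c l
    have e1 : (maximalIdeal A).toCotangent (∑ i, c i • z i + l • μ') =
        ∑ i, residue A (c i) • (maximalIdeal A).toCotangent (z i) +
          residue A l • (maximalIdeal A).toCotangent μ' := by
      rw [map_add, map_sum, residue_smul_toCotangent]
      exact congrArg (· + _) (Finset.sum_congr rfl fun i _ => (residue_smul_toCotangent _ _).symm)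
    rw [e1, map_add, map_sum, map_smul, hv₀, smul_zero, add_zero]
    refine Finset.sum_congr rfl fun i _ => ?_
    rw [map_smul, hz]
  have hcoe : ∀ (c : ι → A) (l : A),
      ((∑ i, c i • z i + l • μ' : maximalIdeal A) : A) = ∑ i, c i * (z i).1 + l * μ := by
    intro c l
    simp [μ']
  refine ⟨fun i => (z i).1, fun i => (z i).2, fun y hy => ?_, fun c l hc i => ?_⟩
  · let y' : maximalIdeal A := ⟨y, hy⟩
    choose c hc using fun i => residue_surjective
      (bQ.repr (W.mkQ ((maximalIdeal A).toCotangent y')) i)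
    have h1 : W.mkQ ((maximalIdeal A).toCotangent (y' - (∑ i, c i • z i + (0 : A) • μ'))) = 0 := by
      rw [map_sub, map_sub, hcomb]
      simp only [hc]
      rw [bQ.sum_repr, sub_self]
    rw [Submodule.mkQ_apply, Submodule.Quotient.mk_eq_zero, hW, Submodule.mem_span_singleton] at h1
    obtain ⟨a, ha⟩ := h1
    obtain ⟨l, rfl⟩ := residue_surjective a
    refine ⟨c, l, ?_⟩
    have h2 : (maximalIdeal A).toCotangent (y' - (∑ i, c i • z i + l • μ')) = 0 := by
      rw [residue_smul_toCotangent, ← sub_eq_zero, ← map_sub] at ha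
      rw [← neg_eq_zero, ← map_neg]
      convert ha using 2
      simp only [zero_smul, add_zero]
      abel
    rw [Ideal.toCotangent_eq_zero] at h2
    have h3 : ((y' - (∑ i, c i • z i + l • μ') : maximalIdeal A) : A) =
        y - ∑ i, c i * (z i).1 - l * μ := by
      rw [Submodule.coe_sub, hcoe]
      simp only [y']
      ring
    rw [h3] at h2
    exact h2
  · have h1 : (maximalIdeal A).toCotangent (∑ i, c i • z i + l • μ') = 0 := by
      rw [Ideal.toCotangent_eq_zero, hcoe]
      exact hc
    have h2 := hcomb c l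
    rw [h1, map_zero] at h2
    have := (Fintype.linearIndependent_iff.1 bQ.linearIndependent) _ h2.symm i
    exact (residue_eq_zero_iff _).1 this

theorem exists_isCotBasisMod (μ : A) (hμ : μ ∈ maximalIdeal A) :
    ∃ z : Fin (cotRankMod μ hμ) → A, IsCotBasisMod μ z :=
  exists_isCotBasisMod_aux μ hμ _ rfl (Module.finBasis (ResidueField A) _)

end

end Groth.Agent.Lib.Helper84.PRoot
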