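import Mathlib
import Groth.Agent.Lib.Helper84.PRoot3
import Groth.Agent.Lib.Helper84.PRoot6

/-!
# The concrete extension `AdjoinRoot (X^p - C f)` (helper84, S4595)
-/

set_option autoImplicit false

namespace Groth.Agent.Lib.Helper84.PRoot

open IsLocalRing Polynomial

section Concrete

variable {A : Type*} [CommRing A] (p : ℕ) [hp : Fact p.Prime]

/-- the polynomial `X^p - f` -/
noncomputable abbrev hpoly (f : A) : Polynomial A := X ^ p - C f

theorem hpoly_monic (f : A) : (hpoly p f).Monic := monic_X_pow_sub_C f hp.out.ne_zero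

theorem hpoly_natDegree [Nontrivial A] (f : A) : (hpoly p f).natDegree = p :=
  natDegree_X_pow_sub_C

/-- `A[T]/(T^p - f)` -/
abbrev Ext (f : A) : Type _ := AdjoinRoot (hpoly p f)

/-- the root `T` -/
noncomputable abbrev rt (f : A) : Ext p f := AdjoinRoot.root (hpoly p f)

theorem rt_pow (f : A) : rt p f ^ p = algebraMap A (Ext p f) f := by
  have h := AdjoinRoot.eval₂_root (hpoly p f)
  rw [eval₂_sub, eval₂_pow, eval₂_X, eval₂_C, sub_eq_zero] at h
  rw [h, AdjoinRoot.algebraMap_eq]

/-- the standard basis `1, T, …, T^(p-1)` -/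
noncomputable def stdBasis [Nontrivial A] (f : A) : Module.Basis (Fin p) A (Ext p f) :=
  (AdjoinRoot.powerBasis' (hpoly_monic p f)).basis.reindex (finCongr (hpoly_natDegree p f))

theorem stdBasis_apply [Nontrivial A] (f : A) (k : Fin p) :
    stdBasis p f k = rt p f ^ (k : ℕ) := by
  rw [stdBasis, Module.Basis.reindex_apply, PowerBasis.basis_eq_pow]
  rfl

end Concrete

section Local

variable {A : Type*} [CommRing A] [IsLocalRing A] [IsArtinianRing A]
variable (p : ℕ) [hp : Fact p.Prime] [CharP A p]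

instance isLocalRing_ext (f : A) : IsLocalRing (Ext p f) :=
  isLocalRing_of_basis p (stdBasis p f) (stdBasis_apply p f) (rt_pow p f)

instance isArtinianRing_ext (f : A) : IsArtinianRing (Ext p f) :=
  isArtinianRing_of_basis p (stdBasis p f)

instance charP_ext (f : A) : CharP (Ext p f) p :=
  charP_of_basis p (stdBasis p f) (stdBasis_apply p f)

instance isLocalHom_ext (f : A) : IsLocalHom (algebraMap A (Ext p f)) :=
  isLocalHom_of_basis p (stdBasis p f) (stdBasis_apply p f) (rt_pow p f)

/-- translation `T ↦ T - γ` -/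
noncomputable def transEquiv (f γ : A) : Ext p (f - γ ^ p) ≃ₐ[A] Ext p f :=
  AlgEquiv.ofAlgHom
    (AdjoinRoot.liftAlgHom (hpoly p (f - γ ^ p)) (Algebra.ofId A (Ext p f))
      (rt p f - algebraMap A (Ext p f) γ) (by
        rw [eval₂_sub, eval₂_pow, eval₂_X, eval₂_C, sub_pow_char, rt_pow]
        simp))
    (AdjoinRoot.liftAlgHom (hpoly p f) (Algebra.ofId A (Ext p (f - γ ^ p)))
      (rt p (f - γ ^ p) + algebraMap A (Ext p (f - γ ^ p)) γ) (by
        rw [eval₂_sub, eval₂_pow, eval₂_X, eval₂_C, add_pow_char, rt_pow]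
        simp))
    (by ext; simp)
    (by ext; simp)

theorem transEquiv_rt (f γ : A) :
    transEquiv p f γ (rt p (f - γ ^ p)) = rt p f - algebraMap A (Ext p f) γ := by
  simp [transEquiv]

/-- the translated basis `(T - γ)^k` of `A[T]/(T^p - f)` -/
noncomputable def transBasis (f γ : A) : Module.Basis (Fin p) A (Ext p f) :=
  (stdBasis p (f - γ ^ p)).map (transEquiv p f γ).toLinearEquiv

theorem transBasis_apply (f γ : A) (k : Fin p) :
    transBasis p f γ k = (rt p f - algebraMap A (Ext p f) γ) ^ (k : ℕ) := by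
  rw [transBasis, Module.Basis.map_apply, stdBasis_apply]
  show (transEquiv p f γ) (rt p (f - γ ^ p) ^ (k : ℕ)) = _
  rw [map_pow, transEquiv_rt]

theorem trans_pow (f γ : A) :
    (rt p f - algebraMap A (Ext p f) γ) ^ p = algebraMap A (Ext p f) (f - γ ^ p) := by
  rw [sub_pow_char, rt_pow, map_sub, map_pow]

end Local

end Groth.Agent.Lib.Helper84.PRoot
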