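import Mathlib
import Groth.Agent.Lib.Helper84.PRoot7

/-!
# One-step theorem for `AdjoinRoot (X^p - C f)` (helper84, S4595)
-/

set_option autoImplicit false

namespace Groth.Agent.Lib.Helper84.PRoot

open IsLocalRing Polynomial

section OneStep

variable {A : Type*} [CommRing A] [IsLocalRing A] [IsArtinianRing A]
variable (p : ℕ) [hp : Fact p.Prime] [CharP A p]

/-- the embedding dimension -/
noncomputable abbrev edim (R : Type*) [CommRing R] [IsLocalRing R] : ℕ :=
  Module.finrank (ResidueField R) (CotangentSpace R)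

theorem edim_ext_case1 (f : A) (hf : ∀ c : ResidueField A, c ^ p ≠ residue A f) :
    edim (Ext p f) = edim A :=
  finrank_cotangentSpace_eq_of_maximalIdeal_eq_map (stdBasis p f)
    (maximalIdeal_eq_map_of_not_pow p (stdBasis p f) (stdBasis_apply p f) (rt_pow p f) hf)

theorem edim_ext_case2 (f γ : A) (hγ : f - γ ^ p ∈ maximalIdeal A) :
    edim (Ext p f) = cotRankMod (f - γ ^ p) hγ + 1 := by
  obtain ⟨z, hz⟩ := exists_isCotBasisMod (f - γ ^ p) hγ
  have := (hz.isCotBasis_option p (transBasis p f γ) (transBasis_apply p f γ)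
    (trans_pow p f γ) hγ).finrank_eq
  rw [Fintype.card_option, Fintype.card_fin] at this
  exact this

theorem exists_case2 (f : A) (h : ¬ ∀ c : ResidueField A, c ^ p ≠ residue A f) :
    ∃ γ : A, f - γ ^ p ∈ maximalIdeal A := by
  push Not at h
  obtain ⟨c, hc⟩ := h
  obtain ⟨γ, rfl⟩ := residue_surjective c
  refine ⟨γ, ?_⟩
  rw [← residue_eq_zero_iff, map_sub, map_pow, hc, sub_self]

theorem edim_le_edim_ext (f : A) : edim A ≤ edim (Ext p f) := by
  by_cases h : ∀ c : ResidueField A, c ^ p ≠ residue A f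
  · exact (edim_ext_case1 p f h).ge
  · obtain ⟨γ, hγ⟩ := exists_case2 p f h
    rw [edim_ext_case2 p f γ hγ]
    by_cases h2 : f - γ ^ p ∈ maximalIdeal A ^ 2
    · rw [cotRankMod_of_mem_sq hγ h2]; exact Nat.le_succ _
    · rw [cotRankMod_add_one_of_notMem_sq hγ h2]

theorem edim_ext_eq_iff_case2 (f γ : A) (hγ : f - γ ^ p ∈ maximalIdeal A) :
    edim (Ext p f) = edim A ↔ f - γ ^ p ∉ maximalIdeal A ^ 2 := by
  rw [edim_ext_case2 p f γ hγ]
  constructor
  · intro h h2
    rw [cotRankMod_of_mem_sq hγ h2] at h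
    exact Nat.succ_ne_self _ h
  · intro h2
    exact cotRankMod_add_one_of_notMem_sq hγ h2

end OneStep

end Groth.Agent.Lib.Helper84.PRoot
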