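import Mathlib
import Groth.Agent.Lib.Helper84.PRoot8
import Groth.Agent.S2468
import Groth.Agent.S2483
import Groth.Agent.Lib.Helper13.PBasisField

/-!
# Differential criterion (helper84, S4595)

`vd a = 1 ⊗ d a ∈ K ⊗_A Ω_{A/ℤ}` and its vanishing.
-/

set_option autoImplicit false

universe u

namespace Groth.Agent.Lib.Helper84.PRoot

open IsLocalRing TensorProduct

section Vd

variable {A : Type u} [CommRing A] [IsLocalRing A]

/-- `1 ⊗ d a` in `K ⊗_A Ω_{A/ℤ}` -/
noncomputable def vd (a : A) : ResidueField A ⊗[A] Ω[A⁄ℤ] :=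
  (1 : ResidueField A) ⊗ₜ[A] KaehlerDifferential.D ℤ A a

theorem vd_add (a b : A) : vd (a + b) = vd a + vd b := by
  unfold vd; rw [map_add, tmul_add]

theorem vd_sub (a b : A) : vd (a - b) = vd a - vd b := by
  unfold vd; rw [map_sub, tmul_sub]

theorem vd_mul_of_mem {x y : A} (hx : x ∈ maximalIdeal A) (hy : y ∈ maximalIdeal A) :
    vd (x * y) = 0 := by
  unfold vd
  rw [Derivation.leibniz, tmul_add, ← smul_tmul, ← smul_tmul]
  have h1 : x • (1 : ResidueField A) = 0 := by
    rw [Algebra.smul_def, mul_one]; exact (residue_eq_zero_iff x).2 hx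
  have h2 : y • (1 : ResidueField A) = 0 := by
    rw [Algebra.smul_def, mul_one]; exact (residue_eq_zero_iff y).2 hy
  rw [h1, h2, zero_tmul, zero_tmul, add_zero]

theorem vd_of_mem_sq {a : A} (ha : a ∈ maximalIdeal A ^ 2) : vd a = 0 := by
  rw [pow_two] at ha
  refine Submodule.mul_induction_on ha (fun x hx y hy => vd_mul_of_mem hx hy) (fun x y hx hy => ?_)
  rw [vd_add, hx, hy, add_zero]

theorem vd_pow (p : ℕ) [hp : Fact p.Prime] [CharP A p] (a : A) : vd (a ^ p) = 0 := by
  unfold vd
  rw [Derivation.leibniz_pow, tmul_smul]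
  haveI : CharP (ResidueField A) p := charP_residueField p
  rw [← Nat.cast_smul_eq_nsmul (ResidueField A), CharP.cast_eq_zero, zero_smul]

end Vd


section Inj

variable {A : Type u} [CommRing A] [IsLocalRing A]

/-- the `𝔽_p`-algebra structure (universe lifted) -/
@[instance_reducible]
noncomputable def zmodAlg (p : ℕ) [hp : Fact p.Prime] [CharP A p] : Algebra (ULift.{u} (ZMod p)) A :=
  ((ZMod.castHom (dvd_refl p) A).comp (ULift.ringEquiv : ULift.{u} (ZMod p) ≃+* ZMod p).toRingHom).toAlgebra

theorem vd_ne_zero_of_notMem_sq (p : ℕ) [hp : Fact p.Prime] [CharP A p] {μ : A} (hμ : μ ∈ maximalIdeal A) (h2 : μ ∉ maximalIdeal A ^ 2) :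
    vd μ ≠ 0 := by
  letI : Algebra (ULift.{u} (ZMod p)) A := zmodAlg p
  letI : Algebra (ULift.{u} (ZMod p)) (ResidueField A) :=
    ((algebraMap A (ResidueField A)).comp (algebraMap (ULift.{u} (ZMod p)) A)).toAlgebra
  haveI : IsScalarTower (ULift.{u} (ZMod p)) A (ResidueField A) :=
    IsScalarTower.of_algebraMap_eq fun _ => rfl
  haveI : CharP (ResidueField A) p := charP_residueField p
  haveI : Algebra.FormallySmooth (ULift.{u} (ZMod p)) (ResidueField A) :=
    Groth.Agent.S2483.formallySmooth_of_charP p (ResidueField A)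
  have hsurj : Function.Surjective (algebraMap A (ResidueField A)) := residue_surjective
  -- the section
  let g := (IsScalarTower.toAlgHom (ULift.{u} (ZMod p)) A (ResidueField A)).kerSquareLift
  have hgsurj : Function.Surjective g := by
    intro x
    obtain ⟨a, rfl⟩ := hsurj x
    exact ⟨Ideal.Quotient.mk _ a, rfl⟩
  have hgnil : IsNilpotent (RingHom.ker g.toRingHom) := by
    refine ⟨2, ?_⟩
    have := AlgHom.ker_kerSquareLift
      (IsScalarTower.toAlgHom (ULift.{u} (ZMod p)) A (ResidueField A))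
    rw [this, Ideal.cotangentIdeal_square]
    rfl
  let σ := Algebra.FormallySmooth.liftOfSurjective
    (AlgHom.id (ULift.{u} (ZMod p)) (ResidueField A)) g hgsurj hgnil
  have hσ : g.comp σ = AlgHom.id _ _ :=
    Algebra.FormallySmooth.comp_liftOfSurjective _ g hgsurj hgnil
  obtain ⟨l, hl⟩ := (retractionKerCotangentToTensorEquivSection
    (R := ULift.{u} (ZMod p)) hsurj).symm ⟨σ, hσ⟩
  -- injectivity
  have hinj : Function.Injective
      (KaehlerDifferential.kerCotangentToTensor (ULift.{u} (ZMod p)) A (ResidueField A)) := by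
    intro x y hxy
    have := congrArg l hxy
    rw [← LinearMap.comp_apply, ← LinearMap.comp_apply, hl] at this
    exact this
  intro h0
  have hker : μ ∈ RingHom.ker (algebraMap A (ResidueField A)) := by
    rw [RingHom.mem_ker]; exact (residue_eq_zero_iff μ).2 hμ
  have hker_eq : RingHom.ker (algebraMap A (ResidueField A)) = maximalIdeal A := ker_residue
  -- image of `vd μ` under the change of base ring `ℤ → 𝔽_p`
  have h1 : (KaehlerDifferential.map ℤ (ULift.{u} (ZMod p)) A A).lTensor (ResidueField A) (vd μ) =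
      KaehlerDifferential.kerCotangentToTensor (ULift.{u} (ZMod p)) A (ResidueField A)
        (Ideal.toCotangent _ ⟨μ, hker⟩) := by
    rw [KaehlerDifferential.kerCotangentToTensor_toCotangent]
    unfold vd
    rw [LinearMap.lTensor_tmul, KaehlerDifferential.map_D]
    rfl
  rw [h0, map_zero] at h1
  have h3 := hinj (h1.symm.trans (map_zero _).symm)
  rw [Ideal.toCotangent_eq_zero] at h3
  have h4 : μ ∈ RingHom.ker (algebraMap A (ResidueField A)) ^ 2 := h3
  rw [hker_eq] at h4
  exact h2 h4

end Inj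


section NotPow

open Groth.Agent.Lib.Helper13.PBasis

/-- in a field of characteristic `p`, an element which is not a `p`-th power has nonzero
differential over the subfield of `p`-th powers -/
theorem D_ne_zero_of_not_pow (p : ℕ) [Fact p.Prime] {K : Type u} [Field K] [CharP K p] (s : K)
    (hs : ∀ c : K, c ^ p ≠ s) :
    KaehlerDifferential.D ((frobenius K p).fieldRange) K s ≠ 0 := by
  classical
  set k := (frobenius K p).fieldRange with hk
  let x : PEmpty.{u+1} → K := PEmpty.elim
  have hx : EGA41.IsPIndependent p k x := Groth.Agent.S2468.pIndependent_of_isEmpty p x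
  have hC : ∀ c ∈ EGA41.pPowerSubalgebra p k K, ∃ y : K, y ^ p = c := by
    intro c hc
    have hle : EGA41.pPowerSubalgebra p k K ≤ (⊥ : Subalgebra k K) := by
      unfold EGA41.pPowerSubalgebra
      rw [Algebra.adjoin_le_iff]
      rintro _ ⟨b, rfl⟩
      exact ⟨⟨b ^ p, ⟨b, rfl⟩⟩, rfl⟩
    obtain ⟨⟨_, y, rfl⟩, rfl⟩ := hle hc
    exact ⟨y, rfl⟩
  have hs' : s ∉ Algebra.adjoin (EGA41.pPowerSubalgebra p k K) (Set.range x) := by
    intro h
    have hr : Set.range x = ∅ := Set.range_eq_empty x
    rw [hr, Algebra.adjoin_empty] at h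
    obtain ⟨c, rfl⟩ := h
    obtain ⟨y, hy⟩ := hC c.1 c.2
    exact hs y hy
  have h := pIndependent_sumElim_of_not_mem p x hx s hs'
  have h2 := Groth.Agent.S2468.indep_of_pIndependent p _ h
  exact h2.ne_zero (Sum.inr PUnit.unit)

theorem tmul_D_ne_zero_of_not_pow (p : ℕ) [hp : Fact p.Prime] {A : Type u} [CommRing A]
    {K : Type u} [Field K] [CharP K p] [Algebra A K] (f : A)
    (hf : ∀ c : K, c ^ p ≠ algebraMap A K f) :
    (1 : K) ⊗ₜ[A] KaehlerDifferential.D ℤ A f ≠ 0 := by
  have h := D_ne_zero_of_not_pow p (algebraMap A K f) hf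
  intro h0
  apply h
  have h1 : KaehlerDifferential.map ℤ ((frobenius K p).fieldRange) K K
      (KaehlerDifferential.mapBaseChange ℤ A K ((1 : K) ⊗ₜ[A] KaehlerDifferential.D ℤ A f)) =
      KaehlerDifferential.D ((frobenius K p).fieldRange) K (algebraMap A K f) := by
    rw [KaehlerDifferential.mapBaseChange_tmul, one_smul, KaehlerDifferential.map_D,
      KaehlerDifferential.map_D]
    rfl
  rw [← h1, h0, map_zero, map_zero]

variable {A : Type u} [CommRing A] [IsLocalRing A]

theorem vd_ne_zero_of_not_pow (p : ℕ) [hp : Fact p.Prime] [CharP A p] (f : A)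
    (hf : ∀ c : ResidueField A, c ^ p ≠ residue A f) : vd f ≠ 0 := by
  haveI : CharP (ResidueField A) p := charP_residueField p
  exact tmul_D_ne_zero_of_not_pow p f hf

end NotPow

section Summary

variable {A : Type u} [CommRing A] [IsLocalRing A] [IsArtinianRing A]
variable (p : ℕ) [hp : Fact p.Prime] [CharP A p]

/-- **One-step theorem**: `e(A[T]/(T^p - f)) = e(A)` iff `1 ⊗ df ≠ 0`. -/
theorem edim_ext_eq_iff (f : A) : edim (Ext p f) = edim A ↔ vd f ≠ 0 := by
  by_cases h : ∀ c : ResidueField A, c ^ p ≠ residue A f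
  · exact ⟨fun _ => vd_ne_zero_of_not_pow p f h, fun _ => edim_ext_case1 p f h⟩
  · obtain ⟨γ, hγ⟩ := exists_case2 p f h
    rw [edim_ext_eq_iff_case2 p f γ hγ]
    have hv : vd f = vd (f - γ ^ p) := by
      rw [vd_sub, vd_pow, sub_zero]
    rw [hv]
    constructor
    · intro h2
      exact vd_ne_zero_of_notMem_sq p hγ h2
    · intro h2 h3
      exact h2 (vd_of_mem_sq h3)

end Summary

end Groth.Agent.Lib.Helper84.PRoot
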