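import Mathlib
import Groth.Agent.Lib.Helper84.PRoot9

/-!
# Derivations and the transfer of linear independence (helper84, S4595)
-/

set_option autoImplicit false

universe u

namespace Groth.Agent.Lib.Helper84.PRoot

open IsLocalRing TensorProduct

section LinAlg

variable {K V ι : Type*} [Field K] [AddCommGroup V] [Module K V]

theorem exists_dual_of_linearIndependent [DecidableEq ι] {v : ι → V}
    (hv : LinearIndependent K v) (i : ι) :
    ∃ φ : V →ₗ[K] K, ∀ j, φ (v j) = if j = i then 1 else 0 := by
  obtain ⟨g, hg⟩ := LinearMap.exists_extend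
    ((Finsupp.lapply i : (ι →₀ K) →ₗ[K] K) ∘ₗ hv.repr)
  refine ⟨g, fun j => ?_⟩
  have : g (v j) = (g ∘ₗ (Submodule.span K (Set.range v)).subtype)
      ⟨v j, Submodule.subset_span ⟨j, rfl⟩⟩ := rfl
  rw [this, hg, LinearMap.comp_apply]
  show (Finsupp.lapply i) (hv.repr ⟨v j, _⟩) = _
  rw [hv.repr_eq_single j _ rfl, Finsupp.lapply_apply, Finsupp.single_apply]

theorem linearIndependent_of_dual [Fintype ι] [DecidableEq ι] {L W : Type*} [Field L]
    [AddCommGroup W] [Module L W] (v : ι → W) (ψ : ι → W →ₗ[L] L)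
    (h : ∀ i j, ψ i (v j) = if j = i then 1 else 0) : LinearIndependent L v := by
  rw [Fintype.linearIndependent_iff]
  intro g hg i
  have := congrArg (ψ i) hg
  simpa [map_sum, h] using this

end LinAlg

/-- `ℤ`-derivations, with the canonical `ℤ`-algebra structure -/
abbrev IntDer (R : Type*) (M : Type*) [CommRing R] [AddCommGroup M] [Module R M] : Type _ :=
  Derivation ℤ R M

section DerFun

variable {A : Type u} [CommRing A] [IsLocalRing A]

/-- a functional on `K ⊗ Ω` gives a derivation `A → K` -/
noncomputable def derOfFunctional (φ : ResidueField A ⊗[A] Ω[A⁄ℤ] →ₗ[ResidueField A] ResidueField A) :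
    Derivation ℤ A (ResidueField A) :=
  ((φ.restrictScalars A).comp (TensorProduct.mk A (ResidueField A) (Ω[A⁄ℤ]) 1)).compDer
    (KaehlerDifferential.D ℤ A)

theorem derOfFunctional_apply
    (φ : ResidueField A ⊗[A] Ω[A⁄ℤ] →ₗ[ResidueField A] ResidueField A) (a : A) :
    derOfFunctional φ a = φ (vd a) := rfl

/-- a derivation `A → N` (`N` a `K`-module) gives a functional on `K ⊗ Ω` -/
noncomputable def functionalOfDer {N : Type*} [AddCommGroup N] [Module A N]
    [Module (ResidueField A) N] [IsScalarTower A (ResidueField A) N] (δ : Derivation ℤ A N) :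
    ResidueField A ⊗[A] Ω[A⁄ℤ] →ₗ[ResidueField A] N :=
  LinearMap.liftBaseChange (ResidueField A) δ.liftKaehlerDifferential

theorem functionalOfDer_vd {N : Type*} [AddCommGroup N] [Module A N]
    [Module (ResidueField A) N] [IsScalarTower A (ResidueField A) N] (δ : Derivation ℤ A N)
    (a : A) : functionalOfDer δ (vd a) = δ a := by
  unfold functionalOfDer vd
  rw [LinearMap.liftBaseChange_tmul, one_smul, Derivation.liftKaehlerDifferential_comp_D]

end DerFun


section ExtDer

variable {A : Type u} [CommRing A] [IsLocalRing A] [IsArtinianRing A]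
variable (p : ℕ) [hp : Fact p.Prime] [CharP A p]

/-- the ring map `A → K'[ε]`, `a ↦ ā + ε δ(a)` -/
noncomputable def dualNumHom (f₀ : A) (δ : Derivation ℤ A (ResidueField A)) :
    A →+* TrivSqZeroExt (ResidueField (Ext p f₀)) (ResidueField (Ext p f₀)) where
  toFun a := TrivSqZeroExt.inl (residue _ (algebraMap A (Ext p f₀) a)) +
    TrivSqZeroExt.inr (algebraMap (ResidueField A) (ResidueField (Ext p f₀)) (δ a))
  map_one' := by
    rw [map_one, map_one, Derivation.map_one_eq_zero, map_zero, TrivSqZeroExt.inr_zero, add_zero,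
      TrivSqZeroExt.inl_one]
  map_mul' x y := by
    ext
    · simp
    · simp only [Derivation.leibniz, map_add, TrivSqZeroExt.snd_add, TrivSqZeroExt.snd_inl,
        TrivSqZeroExt.snd_inr, zero_add, TrivSqZeroExt.snd_mul, TrivSqZeroExt.fst_add,
        TrivSqZeroExt.fst_inl, TrivSqZeroExt.fst_inr, add_zero, smul_eq_mul,
        MulOpposite.smul_eq_mul_unop, MulOpposite.unop_op]
      rw [Algebra.smul_def, Algebra.smul_def, map_mul, map_mul]
      simp only [ResidueField.algebraMap_eq, IsLocalRing.ResidueField.algebraMap_residue]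
      ring
  map_zero' := by
    rw [map_zero, map_zero, map_zero, map_zero, TrivSqZeroExt.inr_zero, add_zero,
      TrivSqZeroExt.inl_zero]
  map_add' x y := by
    rw [map_add, map_add, map_add, map_add, TrivSqZeroExt.inl_add, TrivSqZeroExt.inr_add]
    abel


theorem dualNumHom_apply (f₀ : A) (δ : Derivation ℤ A (ResidueField A)) (a : A) :
    dualNumHom p f₀ δ a = TrivSqZeroExt.inl (residue _ (algebraMap A (Ext p f₀) a)) +
      TrivSqZeroExt.inr (algebraMap (ResidueField A) (ResidueField (Ext p f₀)) (δ a)) := rfl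

/-- the extension `A' → K'[ε]` sending `T ↦ T̄` -/
noncomputable def dualNumExt (f₀ : A) (δ : Derivation ℤ A (ResidueField A)) (hδ : δ f₀ = 0) :
    Ext p f₀ →+* TrivSqZeroExt (ResidueField (Ext p f₀)) (ResidueField (Ext p f₀)) :=
  AdjoinRoot.lift (dualNumHom p f₀ δ) (TrivSqZeroExt.inl (residue _ (rt p f₀))) (by
    have hpow : (TrivSqZeroExt.inl (residue _ (rt p f₀)) :
        TrivSqZeroExt (ResidueField (Ext p f₀)) (ResidueField (Ext p f₀))) ^ p =
        TrivSqZeroExt.inl ((residue _ (rt p f₀)) ^ p) :=
      (map_pow (TrivSqZeroExt.inlHom (ResidueField (Ext p f₀)) (ResidueField (Ext p f₀)))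
        (residue _ (rt p f₀)) p).symm
    rw [Polynomial.eval₂_sub, Polynomial.eval₂_pow, Polynomial.eval₂_X, Polynomial.eval₂_C,
      dualNumHom_apply, hδ, map_zero, TrivSqZeroExt.inr_zero, add_zero, hpow,
      ← map_pow, rt_pow, sub_self])

theorem dualNumExt_fst (f₀ : A) (δ : Derivation ℤ A (ResidueField A)) (hδ : δ f₀ = 0)
    (y : Ext p f₀) : (dualNumExt p f₀ δ hδ y).fst = residue _ y := by
  have : (TrivSqZeroExt.fstHom (ResidueField (Ext p f₀)) (ResidueField (Ext p f₀))
      (ResidueField (Ext p f₀))).toRingHom.comp (dualNumExt p f₀ δ hδ) = residue (Ext p f₀) := by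
    apply AdjoinRoot.ringHom_ext
    · ext a
      simp [dualNumExt, dualNumHom_apply]
    · simp [dualNumExt]
  exact congrArg (fun φ : Ext p f₀ →+* ResidueField (Ext p f₀) => φ y) this

/-- the extended derivation `A' → K'` -/
noncomputable def extDer (f₀ : A) (δ : Derivation ℤ A (ResidueField A)) (hδ : δ f₀ = 0) :
    IntDer (Ext p f₀) (ResidueField (Ext p f₀)) where
  toLinearMap := AddMonoidHom.toIntLinearMap
    { toFun := fun y => (dualNumExt p f₀ δ hδ y).snd
      map_zero' := by rw [map_zero, TrivSqZeroExt.snd_zero]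
      map_add' := fun x y => by rw [map_add, TrivSqZeroExt.snd_add] }
  map_one_eq_zero' := by
    show (dualNumExt p f₀ δ hδ 1).snd = 0
    rw [map_one, TrivSqZeroExt.snd_one]
  leibniz' x y := by
    show (dualNumExt p f₀ δ hδ (x * y)).snd =
      x • (dualNumExt p f₀ δ hδ y).snd + y • (dualNumExt p f₀ δ hδ x).snd
    rw [map_mul, TrivSqZeroExt.snd_mul, dualNumExt_fst, dualNumExt_fst]
    simp only [smul_eq_mul, MulOpposite.smul_eq_mul_unop, MulOpposite.unop_op]
    rw [Algebra.smul_def, Algebra.smul_def, ResidueField.algebraMap_eq]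
    ring

theorem extDer_algebraMap (f₀ : A) (δ : Derivation ℤ A (ResidueField A)) (hδ : δ f₀ = 0) (a : A) :
    extDer p f₀ δ hδ (algebraMap A (Ext p f₀) a) =
      algebraMap (ResidueField A) (ResidueField (Ext p f₀)) (δ a) := by
  show (dualNumExt p f₀ δ hδ (algebraMap A (Ext p f₀) a)).snd = _
  rw [AdjoinRoot.algebraMap_eq]
  simp [dualNumExt, dualNumHom_apply, Algebra.algebraMap_eq_smul_one]

end ExtDer


section Transfer

variable {A : Type u} [CommRing A] [IsLocalRing A] [IsArtinianRing A]
variable (p : ℕ) [hp : Fact p.Prime] [CharP A p]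

theorem der_algebraMap_eq_zero (f₀ : A)
    (δ' : IntDer (Ext p f₀) (ResidueField (Ext p f₀))) :
    δ' (algebraMap A (Ext p f₀) f₀) = 0 := by
  haveI : CharP (ResidueField (Ext p f₀)) p := charP_residueField p
  rw [← rt_pow, Derivation.leibniz_pow, ← Nat.cast_smul_eq_nsmul (ResidueField (Ext p f₀)),
    CharP.cast_eq_zero, zero_smul]

theorem linearIndependent_cons_iff {r : ℕ} (f : Fin (r + 1) → A) :
    LinearIndependent (ResidueField A) (fun i => vd (f i)) ↔
      vd (f 0) ≠ 0 ∧ LinearIndependent (ResidueField (Ext p (f 0)))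
        (fun j : Fin r => vd (algebraMap A (Ext p (f 0)) (f j.succ))) := by
  classical
  constructor
  · intro h
    refine ⟨h.ne_zero 0, ?_⟩
    choose φ hφ using fun j : Fin r => exists_dual_of_linearIndependent h j.succ
    have h0 : ∀ j, derOfFunctional (φ j) (f 0) = 0 := by
      intro j
      rw [derOfFunctional_apply, hφ j 0, if_neg (Fin.succ_ne_zero j).symm]
    refine linearIndependent_of_dual _
      (fun j => functionalOfDer (extDer p (f 0) (derOfFunctional (φ j)) (h0 j))) ?_
    intro j l
    rw [functionalOfDer_vd, extDer_algebraMap, derOfFunctional_apply, hφ j l.succ]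
    by_cases hlj : l = j
    · rw [if_pos hlj, if_pos (congrArg Fin.succ hlj), map_one]
    · rw [if_neg hlj, if_neg (fun h => hlj (Fin.succ_injective _ h)), map_zero]
  · rintro ⟨hv0, h'⟩
    rw [Fintype.linearIndependent_iff]
    intro g hg
    choose ψ hψ using fun j : Fin r => exists_dual_of_linearIndependent h' j
    have hsucc : ∀ j : Fin r, g j.succ = 0 := by
      intro j
      let δ' := derOfFunctional (ψ j)
      let δ'' : Derivation ℤ A (ResidueField (Ext p (f 0))) := Derivation.compAlgebraMap A δ'
      have hΛ := congrArg (functionalOfDer δ'') hg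
      rw [map_sum, map_zero, Fin.sum_univ_succ] at hΛ
      simp only [map_smul, functionalOfDer_vd] at hΛ
      have e0 : δ'' (f 0) = 0 := der_algebraMap_eq_zero p (f 0) δ'
      have el : ∀ l : Fin r, δ'' (f l.succ) = if l = j then 1 else 0 := by
        intro l
        show δ' (algebraMap A (Ext p (f 0)) (f l.succ)) = _
        rw [derOfFunctional_apply, hψ j l]
      rw [e0, smul_zero, zero_add] at hΛ
      simp only [el, smul_ite, smul_zero, Finset.sum_ite_eq', Finset.mem_univ, if_true] at hΛ
      rw [Algebra.smul_def, mul_one] at hΛ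
      exact (map_eq_zero _).1 hΛ
    have h0 : g 0 = 0 := by
      rw [Fin.sum_univ_succ] at hg
      simp only [hsucc, zero_smul, Finset.sum_const_zero, add_zero] at hg
      exact (smul_eq_zero.1 hg).resolve_right hv0
    intro i
    refine Fin.cases h0 hsucc i

end Transfer

end Groth.Agent.Lib.Helper84.PRoot
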