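import Mathlib
import Groth.Agent.Lib.Helper84.PRoot10

/-!
# The tower isomorphism for `A[T_1..T_r]/(T_i^p - f_i)` (helper84, S4595)
-/

set_option autoImplicit false

universe u

namespace Groth.Agent.Lib.Helper84.PRoot

open IsLocalRing

section Tower

variable {A : Type u} [CommRing A] (p : ℕ) [hp : Fact p.Prime]

/-- the ideal `(T_i^p - f_i)` -/
noncomputable abbrev pIdeal {r : ℕ} (f : Fin r → A) : Ideal (MvPolynomial (Fin r) A) :=
  Ideal.span (Set.range fun i => MvPolynomial.X i ^ p - MvPolynomial.C (f i))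

/-- `A[T_1..T_r]/(T_i^p - f_i)` -/
abbrev Bq {r : ℕ} (f : Fin r → A) : Type u := MvPolynomial (Fin r) A ⧸ pIdeal p f

variable {r : ℕ} (f : Fin (r + 1) → A)

/-- the shifted family over `A[T]/(T^p - f 0)` -/
noncomputable abbrev shiftFam : Fin r → Ext p (f 0) :=
  fun j => algebraMap A (Ext p (f 0)) (f j.succ)

/-- forward map on polynomials -/
noncomputable def towerFwd₁ : MvPolynomial (Fin (r + 1)) A →+* Bq p (shiftFam p f) :=
  MvPolynomial.eval₂Hom
    ((Ideal.Quotient.mk (pIdeal p (shiftFam p f))).comp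
      (MvPolynomial.C.comp (algebraMap A (Ext p (f 0)))))
    (Fin.cons (α := fun _ => Bq p (shiftFam p f))
      (Ideal.Quotient.mk _ (MvPolynomial.C (rt p (f 0))))
      (fun j => Ideal.Quotient.mk _ (MvPolynomial.X j)))

theorem towerFwd₁_C (a : A) : towerFwd₁ p f (MvPolynomial.C a) =
    Ideal.Quotient.mk _ (MvPolynomial.C (algebraMap A (Ext p (f 0)) a)) := by
  simp [towerFwd₁]

theorem towerFwd₁_X_zero : towerFwd₁ p f (MvPolynomial.X 0) =
    Ideal.Quotient.mk _ (MvPolynomial.C (rt p (f 0))) := by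
  simp [towerFwd₁]

theorem towerFwd₁_X_succ (j : Fin r) : towerFwd₁ p f (MvPolynomial.X j.succ) =
    Ideal.Quotient.mk _ (MvPolynomial.X j) := by
  simp [towerFwd₁]

theorem towerFwd₁_mem (x : MvPolynomial (Fin (r + 1)) A) (hx : x ∈ pIdeal p f) :
    towerFwd₁ p f x = 0 := by
  have : pIdeal p f ≤ RingHom.ker (towerFwd₁ p f) := by
    rw [Ideal.span_le]
    rintro _ ⟨i, rfl⟩
    rw [SetLike.mem_coe, RingHom.mem_ker, map_sub, map_pow, towerFwd₁_C]
    refine Fin.cases ?_ (fun j => ?_) i
    · rw [towerFwd₁_X_zero, ← map_pow, ← map_pow, rt_pow, sub_self]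
    · rw [towerFwd₁_X_succ, ← map_pow, ← map_sub, Ideal.Quotient.eq_zero_iff_mem]
      exact Ideal.subset_span ⟨j, rfl⟩
  exact this hx

/-- forward map -/
noncomputable def towerFwd : Bq p f →+* Bq p (shiftFam p f) :=
  Ideal.Quotient.lift (pIdeal p f) (towerFwd₁ p f) (towerFwd₁_mem p f)

/-- coefficient map for the backward direction -/
noncomputable def towerCoeff : Ext p (f 0) →+* Bq p f :=
  AdjoinRoot.lift ((Ideal.Quotient.mk (pIdeal p f)).comp MvPolynomial.C)
    (Ideal.Quotient.mk _ (MvPolynomial.X 0)) (by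
      rw [Polynomial.eval₂_sub, Polynomial.eval₂_pow, Polynomial.eval₂_X, Polynomial.eval₂_C,
        RingHom.comp_apply, ← map_pow, ← map_sub, Ideal.Quotient.eq_zero_iff_mem]
      exact Ideal.subset_span ⟨0, rfl⟩)

theorem towerCoeff_algebraMap (a : A) : towerCoeff p f (algebraMap A (Ext p (f 0)) a) =
    Ideal.Quotient.mk _ (MvPolynomial.C a) := by
  rw [AdjoinRoot.algebraMap_eq]
  simp [towerCoeff]

theorem towerCoeff_rt : towerCoeff p f (rt p (f 0)) = Ideal.Quotient.mk _ (MvPolynomial.X 0) := by
  simp [towerCoeff]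

/-- backward map on polynomials -/
noncomputable def towerBwd₁ : MvPolynomial (Fin r) (Ext p (f 0)) →+* Bq p f :=
  MvPolynomial.eval₂Hom (towerCoeff p f) (fun j => Ideal.Quotient.mk _ (MvPolynomial.X j.succ))

theorem towerBwd₁_mem (x : MvPolynomial (Fin r) (Ext p (f 0))) (hx : x ∈ pIdeal p (shiftFam p f)) :
    towerBwd₁ p f x = 0 := by
  have : pIdeal p (shiftFam p f) ≤ RingHom.ker (towerBwd₁ p f) := by
    rw [Ideal.span_le]
    rintro _ ⟨j, rfl⟩
    rw [SetLike.mem_coe, RingHom.mem_ker, map_sub, map_pow]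
    simp only [towerBwd₁, MvPolynomial.coe_eval₂Hom, MvPolynomial.eval₂_X, MvPolynomial.eval₂_C]
    rw [towerCoeff_algebraMap, ← map_pow, ← map_sub, Ideal.Quotient.eq_zero_iff_mem]
    exact Ideal.subset_span ⟨j.succ, rfl⟩
  exact this hx

/-- backward map -/
noncomputable def towerBwd : Bq p (shiftFam p f) →+* Bq p f :=
  Ideal.Quotient.lift (pIdeal p (shiftFam p f)) (towerBwd₁ p f) (towerBwd₁_mem p f)

/-- the tower isomorphism -/
noncomputable def towerEquiv : Bq p f ≃+* Bq p (shiftFam p f) :=
  RingEquiv.ofRingHom (towerFwd p f) (towerBwd p f)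
    (by
      apply Ideal.Quotient.ringHom_ext
      apply MvPolynomial.ringHom_ext
      · intro a'
        simp only [RingHom.comp_apply, RingHom.id_apply, towerFwd, towerBwd,
          Ideal.Quotient.lift_mk]
        simp only [towerBwd₁, MvPolynomial.coe_eval₂Hom, MvPolynomial.eval₂_C]
        -- compare two ring homs out of `Ext p (f 0)`
        have : (Ideal.Quotient.lift (pIdeal p f) (towerFwd₁ p f) (towerFwd₁_mem p f)).comp
            (towerCoeff p f) =
            (Ideal.Quotient.mk (pIdeal p (shiftFam p f))).comp MvPolynomial.C := by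
          apply AdjoinRoot.ringHom_ext
          · ext a
            simp only [RingHom.comp_apply]
            rw [← AdjoinRoot.algebraMap_eq, towerCoeff_algebraMap, Ideal.Quotient.lift_mk,
              towerFwd₁_C]
          · simp only [RingHom.comp_apply]
            rw [towerCoeff_rt, Ideal.Quotient.lift_mk, towerFwd₁_X_zero]
        exact congrArg (fun φ : Ext p (f 0) →+* Bq p (shiftFam p f) => φ a') this
      · intro j
        simp only [RingHom.comp_apply, RingHom.id_apply, towerFwd, towerBwd,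
          Ideal.Quotient.lift_mk]
        simp only [towerBwd₁, MvPolynomial.coe_eval₂Hom, MvPolynomial.eval₂_X]
        rw [Ideal.Quotient.lift_mk, towerFwd₁_X_succ])
    (by
      apply Ideal.Quotient.ringHom_ext
      apply MvPolynomial.ringHom_ext
      · intro a
        simp only [RingHom.comp_apply, RingHom.id_apply, towerFwd, towerBwd,
          Ideal.Quotient.lift_mk, towerFwd₁_C]
        simp only [towerBwd₁, MvPolynomial.coe_eval₂Hom, MvPolynomial.eval₂_C,
          towerCoeff_algebraMap]
      · intro i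
        simp only [RingHom.comp_apply, RingHom.id_apply, towerFwd, towerBwd,
          Ideal.Quotient.lift_mk]
        refine Fin.cases ?_ (fun j => ?_) i
        · rw [towerFwd₁_X_zero, Ideal.Quotient.lift_mk]
          simp only [towerBwd₁, MvPolynomial.coe_eval₂Hom, MvPolynomial.eval₂_C, towerCoeff_rt]
        · rw [towerFwd₁_X_succ, Ideal.Quotient.lift_mk]
          simp only [towerBwd₁, MvPolynomial.coe_eval₂Hom, MvPolynomial.eval₂_X])

end Tower

end Groth.Agent.Lib.Helper84.PRoot
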