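import Mathlib
import Groth.Agent.Lib.Helper84.PRoot11

/-!
# Main induction for S4595 (helper84)
-/

set_option autoImplicit false

universe u

namespace Groth.Agent.Lib.Helper84.PRoot

open IsLocalRing

/-- the base case: no variables -/
noncomputable def baseEquiv {A : Type u} [CommRing A] (p : ℕ) (f : Fin 0 → A) : A ≃+* Bq p f :=
  (MvPolynomial.isEmptyRingEquiv A (Fin 0)).symm.trans
    ((RingEquiv.quotientBot (MvPolynomial (Fin 0) A)).symm.trans
      (Ideal.quotEquivOfEq (by
        unfold pIdeal
        rw [Set.range_eq_empty, Ideal.span_empty])))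

theorem main (p : ℕ) [hp : Fact p.Prime] : ∀ (r : ℕ) (A : Type u) [CommRing A] [IsLocalRing A]
    [IsArtinianRing A] [CharP A p] (f : Fin r → A),
    ∃ _ : IsLocalRing (Bq p f), IsArtinianRing (Bq p f) ∧ edim A ≤ edim (Bq p f) ∧
      (edim (Bq p f) = edim A ↔ LinearIndependent (ResidueField A) (fun i => vd (f i))) := by
  intro r
  induction r with
  | zero =>
    intro A _ _ _ _ f
    have hloc : IsLocalRing (Bq p f) := (baseEquiv p f).isLocalRing
    have hart : IsArtinianRing (Bq p f) := (baseEquiv p f).isArtinianRing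
    have he : edim (Bq p f) = edim A := finrank_cotangentSpace_eq_of_ringEquiv (baseEquiv p f)
    refine ⟨hloc, hart, he.ge, ?_⟩
    exact ⟨fun _ => linearIndependent_empty_type, fun _ => he⟩
  | succ r ih =>
    intro A _ _ _ _ f
    obtain ⟨hloc', hart', hle', hiff'⟩ := ih (Ext p (f 0)) (shiftFam p f)
    have hloc : IsLocalRing (Bq p f) := (towerEquiv p f).symm.isLocalRing
    have hart : IsArtinianRing (Bq p f) := (towerEquiv p f).symm.isArtinianRing
    have he : edim (Bq p f) = edim (Bq p (shiftFam p f)) :=
      finrank_cotangentSpace_eq_of_ringEquiv (towerEquiv p f).symm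
    have h1 : edim A ≤ edim (Ext p (f 0)) := edim_le_edim_ext p (f 0)
    refine ⟨hloc, hart, ?_, ?_⟩
    · rw [he]; exact h1.trans hle'
    · rw [he, linearIndependent_cons_iff p f, ← edim_ext_eq_iff p (f 0), ← hiff']
      constructor
      · intro h
        have h2 : edim (Ext p (f 0)) = edim A := le_antisymm (h ▸ hle') h1
        exact ⟨h2, h.trans h2.symm⟩
      · rintro ⟨h2, h3⟩
        exact h3.trans h2

end Groth.Agent.Lib.Helper84.PRoot
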