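import Groth.Agent.Lib.Helper84.TotalIntegral

/-!
# Invariant partitions of unity for actions with a total integral (helper84)

* `isSubcomod_comap_range_rTensor` : for a flat coalgebra, `ρ⁻¹(N ⊗ A)` is a subcomodule
  (the argument of S3032, extracted).
* `stabIdeal J` : for a coaction on an algebra `B` and an ideal `J`, the ideal
  `{b | ρ b ∈ J (B ⊗ A)}`; it is contained in `J`, it is a subcomodule, and `J` is contained in its
  radical when `J` is the vanishing ideal of an invariant closed set.
* `exists_invariant_partition` : for an action with a total integral and a cover of `Spec B` by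
  invariant open sets `U i`, there are invariants `f i` generating the unit ideal with
  `D(f i) ⊆ U i`.
-/

set_option autoImplicit false
set_option linter.unusedSectionVars false
universe u v w w'

open TensorProduct

namespace Groth.Agent.Lib.Helper84

section Sub

variable {k : Type u} [CommRing k] {A : Type v} [AddCommGroup A] [Module k A] [Coalgebra k A]
  {V : Type w} [AddCommGroup V] [Module k V] [HopfRep.Comod k A V]

/-- `ρ⁻¹(N ⊗ A) ≤ N` -/
theorem comap_range_rTensor_le (N : Submodule k V) :
    (LinearMap.range (N.subtype.rTensor A)).comap (HopfRep.Comod.coact (k := k) (A := A)) ≤ N := by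
  intro v hv
  obtain ⟨t, ht⟩ := hv
  have hcounit : (TensorProduct.rid k V) ((CoalgebraStruct.counit (R := k) (A := A)).lTensor V
      (HopfRep.Comod.coact (k := k) (A := A) v)) = v := by
    have := LinearMap.congr_fun (HopfRep.Comod.counit_comp (k := k) (A := A) (V := V)) v
    simp only [LinearMap.comp_apply] at this
    rw [this]
    simp
  rw [← hcounit, ← ht]
  have key : ∀ t : N ⊗[k] A, (TensorProduct.rid k V)
      ((CoalgebraStruct.counit (R := k) (A := A)).lTensor V ((N.subtype.rTensor A) t)) =
      N.subtype ((TensorProduct.rid k N)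
        ((CoalgebraStruct.counit (R := k) (A := A)).lTensor N t)) := by
    intro t
    induction t with
    | zero => simp
    | tmul n c => simp
    | add x y hx hy => simp only [map_add, hx, hy]
  rw [key]
  exact Submodule.coe_mem _

/-- for a flat coalgebra, `ρ⁻¹(N ⊗ A)` is a subcomodule -/
theorem isSubcomod_comap_range_rTensor [Module.Flat k A] (N : Submodule k V) :
    HopfRep.IsSubcomod (k := k) (A := A)
      ((LinearMap.range (N.subtype.rTensor A)).comap (HopfRep.Comod.coact (k := k) (A := A))) := by
  let ρ : V →ₗ[k] V ⊗[k] A := HopfRep.Comod.coact (k := k) (A := A)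
  set W : Submodule k V := (LinearMap.range (N.subtype.rTensor A)).comap ρ with hWdef
  let q : V →ₗ[k] V ⧸ N := N.mkQ
  let φ : V →ₗ[k] (V ⧸ N) ⊗[k] A := (q.rTensor A) ∘ₗ ρ
  have hWker : W = LinearMap.ker φ := by
    rw [hWdef, ← rTensor_mkQ, LinearMap.ker_comp]
  have hex : Function.Exact W.subtype φ := by
    rw [LinearMap.exact_iff, Submodule.range_subtype, hWker]
  have hex' : Function.Exact (W.subtype.rTensor A) (φ.rTensor A) :=
    Module.Flat.rTensor_exact A hex
  intro w hw
  change ρ w ∈ _
  rw [← LinearMap.exact_iff.mp hex', LinearMap.mem_ker]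
  obtain ⟨t, ht⟩ := hw
  have hco : (ρ.rTensor A) (ρ w) =
      (TensorProduct.assoc k V A A).symm
        ((CoalgebraStruct.comul (R := k) (A := A)).lTensor V (ρ w)) := by
    have := LinearMap.congr_fun (HopfRep.Comod.coassoc (k := k) (A := A) (V := V)) w
    simp only [LinearMap.comp_apply, LinearEquiv.coe_coe] at this
    rw [← this, LinearEquiv.symm_apply_apply]
  have hφ : (φ.rTensor A) (ρ w) = ((q.rTensor A).rTensor A) ((ρ.rTensor A) (ρ w)) := by
    rw [LinearMap.rTensor_comp]; rfl
  rw [hφ, hco, ← ht]
  have key : ∀ t : N ⊗[k] A, ((q.rTensor A).rTensor A) ((TensorProduct.assoc k V A A).symm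
      ((CoalgebraStruct.comul (R := k) (A := A)).lTensor V ((N.subtype.rTensor A) t))) = 0 := by
    intro t
    induction t with
    | zero => simp
    | add x y hx hy => simp only [map_add, hx, hy, add_zero]
    | tmul n c =>
      simp only [LinearMap.rTensor_tmul, LinearMap.lTensor_tmul, Submodule.subtype_apply]
      generalize (CoalgebraStruct.comul (R := k) (A := A)) c = d
      induction d with
      | zero => simp
      | add x y hx hy => simp only [TensorProduct.tmul_add, map_add, hx, hy, add_zero]
      | tmul c₁ c₂ =>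
        simp only [TensorProduct.assoc_symm_tmul, LinearMap.rTensor_tmul]
        have : q (n : V) = 0 := by
          simp [q]
        rw [this, TensorProduct.zero_tmul, TensorProduct.zero_tmul]
  exact key t

end Sub

section Stab

variable {k : Type u} [CommRing k] {A : Type v} [CommRing A] [HopfAlgebra k A]
  {B : Type w} [CommRing B] [Algebra k B] [HopfRep.Comod k A B] [GLin.IsCoactAlg k A B]

variable (k A) in
/-- the largest subcomodule ideal inside `J` (for flat `A`): `{b | ρ b ∈ J (B ⊗ A)}` -/
noncomputable def stabIdeal (J : Ideal B) : Ideal B :=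
  (J.map (Algebra.TensorProduct.includeLeft : B →ₐ[k] B ⊗[k] A)).comap (GLin.coactAlgHom k A B)

theorem mem_stabIdeal_iff (J : Ideal B) (b : B) :
    b ∈ stabIdeal k A J ↔ HopfRep.Comod.coact (k := k) (A := A) b ∈
      LinearMap.range ((J.restrictScalars k).subtype.rTensor A) := by
  rw [← Ideal.map_includeLeft_eq]
  rfl

theorem stabIdeal_restrictScalars (J : Ideal B) :
    (stabIdeal k A J).restrictScalars k =
      (LinearMap.range ((J.restrictScalars k).subtype.rTensor A)).comap
        (HopfRep.Comod.coact (k := k) (A := A)) := by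
  ext b
  exact mem_stabIdeal_iff J b

theorem stabIdeal_le (J : Ideal B) : stabIdeal k A J ≤ J := by
  intro b hb
  have h1 : b ∈ (stabIdeal k A J).restrictScalars k := hb
  rw [stabIdeal_restrictScalars] at h1
  exact comap_range_rTensor_le (J.restrictScalars k) h1

theorem isSubcomod_stabIdeal [Module.Flat k A] (J : Ideal B) :
    HopfRep.IsSubcomod (k := k) (A := A) ((stabIdeal k A J).restrictScalars k) := by
  rw [stabIdeal_restrictScalars]
  exact isSubcomod_comap_range_rTensor _

/-- if `J` is the vanishing ideal of the complement of an invariant open set, then `J` is contained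
in the radical of its stable part -/
theorem le_radical_stabIdeal (U : Set (PrimeSpectrum B)) (hU : IsOpen U)
    (hinv : PrimeSpectrum.comap (GLin.coactAlgHom k A B).toRingHom ⁻¹' U =
      PrimeSpectrum.comap
        (Algebra.TensorProduct.includeLeftRingHom : B →+* B ⊗[k] A) ⁻¹' U) :
    PrimeSpectrum.vanishingIdeal Uᶜ ≤ (stabIdeal k A (PrimeSpectrum.vanishingIdeal Uᶜ)).radical := by
  set J := PrimeSpectrum.vanishingIdeal Uᶜ with hJ
  intro b hb
  have h1 : GLin.coactAlgHom k A B b ∈
      (J.map (Algebra.TensorProduct.includeLeft : B →ₐ[k] B ⊗[k] A)).radical := by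
    rw [Ideal.radical_eq_sInf, Ideal.mem_sInf]
    rintro P ⟨hP1, hP2⟩
    let P' : PrimeSpectrum (B ⊗[k] A) := ⟨P, hP2⟩
    have h2 : J ≤ P.comap (Algebra.TensorProduct.includeLeft : B →ₐ[k] B ⊗[k] A) :=
      Ideal.map_le_iff_le_comap.1 hP1
    have h3 : PrimeSpectrum.comap
        (Algebra.TensorProduct.includeLeftRingHom : B →+* B ⊗[k] A) P' ∈ Uᶜ := by
      have h4 : PrimeSpectrum.comap
          (Algebra.TensorProduct.includeLeftRingHom : B →+* B ⊗[k] A) P' ∈
          PrimeSpectrum.zeroLocus (J : Set B) := h2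
      rw [hJ, PrimeSpectrum.zeroLocus_vanishingIdeal_eq_closure,
        hU.isClosed_compl.closure_eq] at h4
      exact h4
    have h5 : PrimeSpectrum.comap (GLin.coactAlgHom k A B).toRingHom P' ∈ Uᶜ := by
      intro h6
      have h7 : P' ∈ PrimeSpectrum.comap (GLin.coactAlgHom k A B).toRingHom ⁻¹' U := h6
      rw [hinv] at h7
      exact h3 h7
    have h8 : PrimeSpectrum.comap (GLin.coactAlgHom k A B).toRingHom P' ∈
        PrimeSpectrum.zeroLocus (J : Set B) :=
      PrimeSpectrum.subset_zeroLocus_vanishingIdeal _ h5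
    exact h8 hb
  obtain ⟨n, hn⟩ := h1
  refine ⟨n, ?_⟩
  show GLin.coactAlgHom k A B (b ^ n) ∈
    J.map (Algebra.TensorProduct.includeLeft : B →ₐ[k] B ⊗[k] A)
  rw [map_pow]
  exact hn

end Stab

section Partition

variable {k : Type u} [CommRing k] {A : Type v} [CommRing A] [HopfAlgebra k A] [Module.Flat k A]
  {B : Type w} [CommRing B] [Algebra k B] [HopfRep.Comod k A B] [GLin.IsCoactAlg k A B]

/-- an invariant partition of unity subordinate to a cover by invariant open sets -/
theorem exists_invariant_partition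
    (α : A →ₗ[k] B) (hα : Hoch.IsComodHom A α) (hα1 : α 1 = 1)
    {I : Type w'} (U : I → Set (PrimeSpectrum B)) (hU : ∀ i, IsOpen (U i))
    (hinv : ∀ i, PrimeSpectrum.comap (GLin.coactAlgHom k A B).toRingHom ⁻¹' U i =
      PrimeSpectrum.comap
        (Algebra.TensorProduct.includeLeftRingHom : B →+* B ⊗[k] A) ⁻¹' U i)
    (hcov : ∀ x, ∃ i, x ∈ U i) :
    ∃ f : I → GLin.invariants k A B, Ideal.span (Set.range f) = ⊤ ∧
      ∀ i, ((PrimeSpectrum.basicOpen ((f i : GLin.invariants k A B) : B)) :
        Set (PrimeSpectrum B)) ⊆ U i := by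
  classical
  have _inst := isHopfMod_self (k := k) (A := A) (B := B)
  let J : I → Ideal B := fun i => PrimeSpectrum.vanishingIdeal (U i)ᶜ
  let S : I → Ideal B := fun i => stabIdeal k A (J i)
  have hS : ∀ i, HopfRep.IsSubcomod (k := k) (A := A) ((S i).restrictScalars k) :=
    fun i => isSubcomod_stabIdeal (J i)
  have hSJ : ∀ i, S i ≤ J i := fun i => stabIdeal_le (J i)
  have hJS : ∀ i, J i ≤ (S i).radical := fun i => le_radical_stabIdeal (U i) (hU i) (hinv i)
  have htop : ⨆ i, S i = ⊤ := by
    rw [← PrimeSpectrum.zeroLocus_empty_iff_eq_top, PrimeSpectrum.zeroLocus_iSup,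
      Set.eq_empty_iff_forall_notMem]
    intro x hx
    rw [Set.mem_iInter] at hx
    obtain ⟨i, hi⟩ := hcov x
    have h1 : x ∈ PrimeSpectrum.zeroLocus ((S i).radical : Set B) := by
      rw [PrimeSpectrum.zeroLocus_radical]
      exact hx i
    have h2 : x ∈ PrimeSpectrum.zeroLocus (J i : Set B) :=
      PrimeSpectrum.zeroLocus_anti_mono_ideal (hJS i) h1
    rw [PrimeSpectrum.zeroLocus_vanishingIdeal_eq_closure, (hU i).isClosed_compl.closure_eq] at h2
    exact h2 hi
  have h1 : (1 : B) ∈ ⨆ i, S i := by rw [htop]; trivial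
  obtain ⟨b, hb, hb1⟩ := (Submodule.mem_iSup_iff_exists_finsupp S (1 : B)).1 h1
  let E : B →ₗ[k] B := TameAct.reynolds k A B B α
  have hEfix : ∀ x, E x ∈ GLin.invariants k A B := fun x => reynolds_mem_fixedPts α hα x
  have hES : ∀ i, E (b i) ∈ S i := fun i =>
    reynolds_mem_of_isSubcomod α (S i) (hS i) (b i) (hb i)
  have hE1 : E 1 = 1 := by
    apply reynolds_of_mem_fixedPts α hα1
    show HopfRep.Comod.coact (k := k) (A := A) (1 : B) = (1 : B) ⊗ₜ[k] (1 : A)
    rw [GLin.IsCoactAlg.coact_one (k := k) (A := A) (R := B), Algebra.TensorProduct.one_def]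
  refine ⟨fun i => ⟨E (b i), hEfix (b i)⟩, ?_, ?_⟩
  · rw [Ideal.eq_top_iff_one]
    have h2 : (1 : GLin.invariants k A B) = ∑ i ∈ b.support, ⟨E (b i), hEfix (b i)⟩ := by
      apply Subtype.ext
      rw [AddSubmonoidClass.coe_finsetSum]
      simp only [OneMemClass.coe_one]
      rw [← map_sum]
      have h3 : ∑ i ∈ b.support, b i = 1 := hb1
      rw [h3, hE1]
    rw [h2]
    exact Ideal.sum_mem _ fun i _ => Ideal.subset_span ⟨i, rfl⟩
  · intro i x hx
    by_contra hxU
    have h2 : J i ≤ x.asIdeal := by
      intro y hy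
      exact (PrimeSpectrum.mem_vanishingIdeal _ _).1 hy x hxU
    exact hx (h2 (hSJ i (hES i)))

end Partition

end Groth.Agent.Lib.Helper84
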