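import Mathlib

/-!
# Categorical quotients of affine schemes (helper84)

Pure scheme theory used for S12924.

* `epi_of_surjective_of_dominant` : a quasi-compact, surjective, scheme-theoretically dominant
  morphism of schemes is an epimorphism.
* `mem_range_of_away` : equalizers of commutative rings commute with localization at an element.
* `exists_unique_desc` : let `π : X ⟶ Y`, `a p : X' ⟶ X` be morphisms of affine schemes with
  `a ≫ π = p ≫ π`, `π` surjective, `Γ(Y) → Γ(X)` injective with image the equalizer of `Γ(a)`,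
  `Γ(p)`.  Let `ψ : X ⟶ Z` with `a ≫ ψ = p ≫ ψ` and suppose `Y` is covered by basic opens `D(f i)`
  such that `ψ` maps `π⁻¹ D(f i)` into an affine open `V i` of `Z`.  Then `ψ` factors uniquely
  through `π`.
* `exists_unique_desc_Spec` : the same for spectra of rings.
-/

set_option autoImplicit false
universe u

open CategoryTheory Limits AlgebraicGeometry TopologicalSpace

namespace Groth.Agent.Lib.Helper84


/-- a morphism of sheafed spaces which is surjective on points and injective on sections is epi -/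
theorem SheafedSpace.epi_of_base_surjective_of_c_mono {C : Type*} [Category C]
    {X Y : SheafedSpace C} (f : X ⟶ Y)
    (h₁ : Function.Surjective f.hom.base)
    (h₂ : ∀ U, Mono (f.hom.c.app U)) : Epi f := by
  constructor
  intro Z ⟨g, gc⟩ ⟨h, hc⟩ e
  apply_fun InducedCategory.Hom.hom at e
  obtain rfl : g = h := ConcreteCategory.hom_ext _ _ fun y ↦ by
    rw [← (h₁ y).choose_spec]
    simpa using congr(($e).base.hom (h₁ y).choose)
  congr
  ext U : 2
  have := h₂ (Opposite.op ((Opens.map g).obj U))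
  rw [← cancel_mono (f.hom.c.app (Opposite.op ((Opens.map g).obj U)))]
  have e' := congr(($e).c.app (Opposite.op U))
  exact e'


/-- a quasi-compact, surjective, scheme-theoretically dominant morphism is an epimorphism -/
theorem epi_of_surjective_of_dominant {X Y : Scheme.{u}} (f : X ⟶ Y) [Surjective f]
    [IsSchemeTheoreticallyDominant f] [QuasiCompact f] : Epi f := by
  apply CategoryTheory.Functor.epi_of_epi_map (Scheme.forgetToLocallyRingedSpace)
  apply CategoryTheory.Functor.epi_of_epi_map (LocallyRingedSpace.forgetToSheafedSpace)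
  apply SheafedSpace.epi_of_base_surjective_of_c_mono _ ‹Surjective f›.surj
  intro U
  apply ConcreteCategory.mono_of_injective
  exact f.app_injective U.unop



/-- equalizers of rings commute with localization at one element -/
theorem mem_range_of_away {C B B' : Type*} [CommRing C] [CommRing B] [CommRing B']
    (φ : C →+* B) (ρ ι : B →+* B') (hρι : ρ.comp φ = ι.comp φ)
    (heq : ∀ b, ρ b = ι b → b ∈ φ.range)
    (f : C) {Cf Bf Bf' : Type*} [CommRing Cf] [CommRing Bf] [CommRing Bf'] [Algebra C Cf]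
    [Algebra B Bf] [Algebra B' Bf']
    [IsLocalization.Away f Cf] [IsLocalization.Away (φ f) Bf] [IsLocalization.Away (ι (φ f)) Bf']
    (ν : Cf →+* Bf) (ρf ιf : Bf →+* Bf')
    (hν : ν.comp (algebraMap C Cf) = (algebraMap B Bf).comp φ)
    (hρf : ρf.comp (algebraMap B Bf) = (algebraMap B' Bf').comp ρ)
    (hιf : ιf.comp (algebraMap B Bf) = (algebraMap B' Bf').comp ι)
    (s : Bf) (hs : ρf s = ιf s) : s ∈ ν.range := by
  have hν' : ∀ c, ν (algebraMap C Cf c) = algebraMap B Bf (φ c) := fun c => RingHom.congr_fun hν c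
  have hρf' : ∀ b, ρf (algebraMap B Bf b) = algebraMap B' Bf' (ρ b) :=
    fun b => RingHom.congr_fun hρf b
  have hιf' : ∀ b, ιf (algebraMap B Bf b) = algebraMap B' Bf' (ι b) :=
    fun b => RingHom.congr_fun hιf b
  have hρι' : ∀ c, ρ (φ c) = ι (φ c) := fun c => RingHom.congr_fun hρι c
  obtain ⟨n, b, hb⟩ := IsLocalization.Away.surj (φ f) s
  -- hb : s * algebraMap B Bf (φ f) ^ n = algebraMap B Bf b
  have h1 : algebraMap B' Bf' (ρ b) = algebraMap B' Bf' (ι b) := by
    rw [← hρf', ← hιf', ← hb, map_mul, map_mul, map_pow, map_pow, hρf', hιf', hρι', hs]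
  obtain ⟨m, hm⟩ := IsLocalization.Away.exists_of_eq (S := Bf') (ι (φ f)) h1
  -- hm : ι (φ f) ^ m * ρ b = ι (φ f) ^ m * ι b
  have h2 : ρ (φ f ^ m * b) = ι (φ f ^ m * b) := by
    rw [map_mul, map_mul, map_pow, map_pow, hρι', hm]
  obtain ⟨c, hc⟩ := heq _ h2
  have hu : IsUnit (algebraMap C Cf f) := IsLocalization.Away.algebraMap_isUnit f
  obtain ⟨u, hu⟩ := hu
  refine ⟨algebraMap C Cf c * (↑(u⁻¹ ^ (n + m)) : Cf), ?_⟩
  have hu' : IsUnit (algebraMap B Bf (φ f)) := IsLocalization.Away.algebraMap_isUnit (φ f)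
  have h3 : ν (↑(u ^ (n + m)) : Cf) = algebraMap B Bf (φ f) ^ (n + m) := by
    rw [Units.val_pow_eq_pow_val, map_pow, hu, hν']
  have h4 : s * algebraMap B Bf (φ f) ^ (n + m) = ν (algebraMap C Cf c) := by
    rw [hν', hc, map_mul, map_pow, pow_add, ← mul_assoc, hb, mul_comm]
  have h5 : ν (algebraMap C Cf c * (↑(u⁻¹ ^ (n + m)) : Cf)) * algebraMap B Bf (φ f) ^ (n + m) =
      s * algebraMap B Bf (φ f) ^ (n + m) := by
    rw [h4, ← h3, ← map_mul, mul_assoc, ← Units.val_mul, ← mul_pow, inv_mul_cancel, one_pow,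
      Units.val_one, mul_one]
  exact (hu'.pow (n + m)).mul_left_injective h5



theorem isSchemeTheoreticallyDominant_of_injective_appTop {X Y : Scheme.{u}} [IsAffine Y]
    (π : X ⟶ Y) (hinj : Function.Injective π.appTop) : IsSchemeTheoreticallyDominant π := by
  refine ⟨?_⟩
  rw [Scheme.ker_of_isAffine, (RingHom.injective_iff_ker_eq_bot _).1 hinj]
  apply Scheme.IdealSheafData.ext
  ext U : 1
  simp

theorem appLE_congr_hom {X Z : Scheme.{u}} {g g' : X ⟶ Z} (e : g = g') (V : Z.Opens) (W : X.Opens)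
    (h : W ≤ g ⁻¹ᵁ V) (h' : W ≤ g' ⁻¹ᵁ V) : g.appLE V W h = g'.appLE V W h' := by
  subst e; rfl


theorem appTop_comp_map {X Y : Scheme.{u}} (π : X ⟶ Y) (W : X.Opens)
    (i : Opposite.op (⊤ : X.Opens) ⟶ Opposite.op W) (h : W ≤ π ⁻¹ᵁ ⊤) :
    π.appTop ≫ X.presheaf.map i = π.appLE ⊤ W h := by
  simp [Scheme.Hom.appLE]
  rfl

theorem appTop_comp_eq {X Y X' : Scheme.{u}} (π : X ⟶ Y) (a p : X' ⟶ X) (hap : a ≫ π = p ≫ π)
    (f : Γ(Y, ⊤)) : a.appTop (π.appTop f) = p.appTop (π.appTop f) := by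
  have h1 : (a ≫ π).appTop f = (p ≫ π).appTop f := by rw [hap]
  rw [Scheme.Hom.comp_appTop, Scheme.Hom.comp_appTop] at h1
  exact h1

theorem mem_range_appLE_basicOpen {X Y X' : Scheme.{u}} [IsAffine X] [IsAffine Y] [IsAffine X']
    (π : X ⟶ Y) (a p : X' ⟶ X) (hap : a ≫ π = p ≫ π)
    (heq : ∀ b : Γ(X, ⊤), a.appTop b = p.appTop b → b ∈ Set.range π.appTop)
    (f : Γ(Y, ⊤))
    (h₁ : X'.basicOpen (p.appTop (π.appTop f)) ≤ a ⁻¹ᵁ X.basicOpen (π.appTop f))
    (h₂ : X'.basicOpen (p.appTop (π.appTop f)) ≤ p ⁻¹ᵁ X.basicOpen (π.appTop f))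
    (h₃ : X.basicOpen (π.appTop f) ≤ π ⁻¹ᵁ Y.basicOpen f)
    (s : Γ(X, X.basicOpen (π.appTop f)))
    (hs : a.appLE (X.basicOpen (π.appTop f)) (X'.basicOpen (p.appTop (π.appTop f))) h₁ s =
      p.appLE (X.basicOpen (π.appTop f)) (X'.basicOpen (p.appTop (π.appTop f))) h₂ s) :
    s ∈ Set.range (π.appLE (Y.basicOpen f) (X.basicOpen (π.appTop f)) h₃) := by
  have key := mem_range_of_away (C := Γ(Y, ⊤)) (B := Γ(X, ⊤)) (B' := Γ(X', ⊤))
    π.appTop.hom a.appTop.hom p.appTop.hom (by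
      ext f
      exact appTop_comp_eq π a p hap f) (fun b hb => by
      obtain ⟨c, hc⟩ := heq b hb
      exact ⟨c, hc⟩) f
    (Cf := Γ(Y, Y.basicOpen f)) (Bf := Γ(X, X.basicOpen (π.appTop f)))
    (Bf' := Γ(X', X'.basicOpen (p.appTop (π.appTop f))))
    (π.appLE (Y.basicOpen f) (X.basicOpen (π.appTop f)) h₃).hom
    (a.appLE (X.basicOpen (π.appTop f)) (X'.basicOpen (p.appTop (π.appTop f))) h₁).hom
    (p.appLE (X.basicOpen (π.appTop f)) (X'.basicOpen (p.appTop (π.appTop f))) h₂).hom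
    ?_ ?_ ?_ s hs
  · obtain ⟨c, hc⟩ := key
    exact ⟨c, hc⟩
  · rw [RingHom.algebraMap_toAlgebra, RingHom.algebraMap_toAlgebra, ← CommRingCat.hom_comp,
      ← CommRingCat.hom_comp, Scheme.Hom.map_appLE]
    exact congrArg _ (appTop_comp_map _ _ _ _).symm
  · rw [RingHom.algebraMap_toAlgebra, RingHom.algebraMap_toAlgebra, ← CommRingCat.hom_comp,
      ← CommRingCat.hom_comp, Scheme.Hom.map_appLE]
    exact congrArg _ (appTop_comp_map _ _ _ _).symm
  · rw [RingHom.algebraMap_toAlgebra, RingHom.algebraMap_toAlgebra, ← CommRingCat.hom_comp,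
      ← CommRingCat.hom_comp, Scheme.Hom.map_appLE]
    exact congrArg _ (appTop_comp_map _ _ _ _).symm


/-- lifting a ring map through an injective one when the range is contained -/
theorem exists_lift_of_range_le {R S T : CommRingCat.{u}} (θ : R ⟶ T) (ν : S ⟶ T)
    (hν : Function.Injective ν) (h : ∀ r, θ r ∈ Set.range ν) : ∃ θ' : R ⟶ S, θ' ≫ ν = θ := by
  choose g hg using h
  refine ⟨CommRingCat.ofHom
    { toFun := g
      map_one' := hν (by rw [hg, map_one, map_one])
      map_mul' := fun x y => hν (by rw [hg, map_mul, map_mul, hg, hg])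
      map_zero' := hν (by rw [hg, map_zero, map_zero])
      map_add' := fun x y => hν (by rw [hg, map_add, map_add, hg, hg]) }, ?_⟩
  ext r
  exact hg r


set_option maxHeartbeats 800000 in
theorem exists_unique_desc {X Y X' Z : Scheme.{u}} [IsAffine X] [IsAffine Y] [IsAffine X']
    (π : X ⟶ Y) (a p : X' ⟶ X) (hap : a ≫ π = p ≫ π)
    [Surjective π] (hinj : Function.Injective π.appTop)
    (heq : ∀ b : Γ(X, ⊤), a.appTop b = p.appTop b → b ∈ Set.range π.appTop)
    (ψ : X ⟶ Z) (hψ : a ≫ ψ = p ≫ ψ)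
    {ι : Type u} (f : ι → Γ(Y, ⊤)) (V : ι → Z.Opens) (hV : ∀ i, IsAffineOpen (V i))
    (hcov : ∀ y : Y, ∃ i, y ∈ Y.basicOpen (f i))
    (hfV : ∀ i, X.basicOpen (π.appTop (f i)) ≤ ψ ⁻¹ᵁ V i) :
    ∃! χ : Y ⟶ Z, π ≫ χ = ψ := by
  have hdom : IsSchemeTheoreticallyDominant π :=
    isSchemeTheoreticallyDominant_of_injective_appTop π hinj
  have hepi : ∀ {P : Scheme.{u}} (j : P ⟶ Y) [IsOpenImmersion j], Epi (pullback.snd π j) :=
    fun j _ => epi_of_surjective_of_dominant _
  have hepi0 : Epi π := epi_of_surjective_of_dominant π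
  refine existsUnique_of_exists_of_unique ?_
    (fun χ₁ χ₂ h₁ h₂ => by rw [← cancel_epi π, h₁, h₂])
  -- the basic opens
  let U : ι → Y.Opens := fun i => Y.basicOpen (f i)
  have hU : ∀ i, IsAffineOpen (U i) := fun i => (isAffineOpen_top Y).basicOpen (f i)
  let W : ι → X.Opens := fun i => X.basicOpen (π.appTop (f i))
  have hW : ∀ i, IsAffineOpen (W i) := fun i => (isAffineOpen_top X).basicOpen _
  have hWU : ∀ i, W i = π ⁻¹ᵁ U i := fun i => (Scheme.preimage_basicOpen_top π (f i)).symm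
  let ν : ∀ i, Γ(Y, U i) ⟶ Γ(X, W i) := fun i => π.appLE (U i) (W i) (hWU i).le
  let θ : ∀ i, Γ(Z, V i) ⟶ Γ(X, W i) := fun i => ψ.appLE (V i) (W i) (hfV i)
  have hνinj : ∀ i, Function.Injective (ν i) := by
    intro i
    have h1 : ν i = π.app (U i) ≫ X.presheaf.map (eqToHom (hWU i)).op := by
      simp only [ν, Scheme.Hom.appLE]
      rfl
    rw [h1]
    have h2 : Function.Injective (X.presheaf.map (eqToHom (hWU i)).op) := by
      have : IsIso (X.presheaf.map (eqToHom (hWU i)).op) := inferInstance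
      exact ((ConcreteCategory.isIso_iff_bijective _).1 this).1
    simpa using h2.comp (π.app_injective (U i))
  have hθ : ∀ i r, θ i r ∈ Set.range (ν i) := by
    intro i r
    have h₂ : X'.basicOpen (p.appTop (π.appTop (f i))) ≤ p ⁻¹ᵁ W i :=
      (Scheme.preimage_basicOpen_top p _).ge
    have h₁ : X'.basicOpen (p.appTop (π.appTop (f i))) ≤ a ⁻¹ᵁ W i := by
      rw [← appTop_comp_eq π a p hap]
      exact (Scheme.preimage_basicOpen_top a _).ge
    refine mem_range_appLE_basicOpen π a p hap heq (f i) h₁ h₂ (hWU i).le (θ i r) ?_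
    show (ψ.appLE (V i) (W i) (hfV i) ≫ a.appLE (W i) _ h₁) r =
      (ψ.appLE (V i) (W i) (hfV i) ≫ p.appLE (W i) _ h₂) r
    rw [Scheme.Hom.appLE_comp_appLE, Scheme.Hom.appLE_comp_appLE]
    rw [appLE_congr_hom hψ]
  have hlift : ∀ i, ∃ θ' : Γ(Z, V i) ⟶ Γ(Y, U i), θ' ≫ ν i = θ i :=
    fun i => exists_lift_of_range_le (θ i) (ν i) (hνinj i) (hθ i)
  choose θ' hθ' using hlift
  let χ : ∀ i, Spec Γ(Y, U i) ⟶ Z := fun i => Spec.map (θ' i) ≫ (hV i).fromSpec
  have hχ : ∀ i, Spec.map (ν i) ≫ χ i = (hW i).fromSpec ≫ ψ := fun i => by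
    simp only [χ]
    rw [← Spec.map_comp_assoc, hθ']
    exact IsAffineOpen.SpecMap_appLE_fromSpec ψ (hV i) (hW i) (hfV i)
  have hνπ : ∀ i, Spec.map (ν i) ≫ (hU i).fromSpec = (hW i).fromSpec ≫ π := fun i =>
    IsAffineOpen.SpecMap_appLE_fromSpec π (hU i) (hW i) (hWU i).le
  -- the cover of `Y`
  let 𝒰 : Y.OpenCover :=
    { I₀ := ι
      X := fun i => Spec Γ(Y, U i)
      f := fun i => (hU i).fromSpec
      mem₀ := by
        rw [Scheme.presieve₀_mem_precoverage_iff]
        refine ⟨fun y => ?_, fun i => inferInstance⟩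
        obtain ⟨i, hi⟩ := hcov y
        refine ⟨i, ?_⟩
        rw [(hU i).range_fromSpec]
        exact hi }
  have hglue : ∀ i j, pullback.fst (𝒰.f i) (𝒰.f j) ≫ χ i = pullback.snd (𝒰.f i) (𝒰.f j) ≫ χ j := by
    intro i j
    let jij : pullback (𝒰.f i) (𝒰.f j) ⟶ Y := pullback.fst (𝒰.f i) (𝒰.f j) ≫ 𝒰.f i
    have : Epi (pullback.snd π jij) := hepi jij
    rw [← cancel_epi (pullback.snd π jij)]
    have key : ∀ (l : ι) (q : pullback (𝒰.f i) (𝒰.f j) ⟶ 𝒰.X l) (hq : q ≫ 𝒰.f l = jij),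
        pullback.snd π jij ≫ q ≫ χ l = pullback.fst π jij ≫ ψ := by
      intro l q hq
      have hrange : Set.range (pullback.fst π jij) ⊆ Set.range (hW l).fromSpec := by
        rw [(hW l).range_fromSpec]
        rintro _ ⟨x, rfl⟩
        show (pullback.fst π jij) x ∈ W l
        rw [hWU l]
        show π ((pullback.fst π jij) x) ∈ U l
        have h1 : π ((pullback.fst π jij) x) = (q ≫ 𝒰.f l) ((pullback.snd π jij) x) := by
          rw [hq, ← Scheme.Hom.comp_apply, ← Scheme.Hom.comp_apply, pullback.condition]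
        rw [h1]
        have h2 : (q ≫ 𝒰.f l) ((pullback.snd π jij) x) ∈ Set.range (hU l).fromSpec :=
          ⟨q ((pullback.snd π jij) x), rfl⟩
        rw [(hU l).range_fromSpec] at h2
        exact h2
      let t := IsOpenImmersion.lift (hW l).fromSpec (pullback.fst π jij) hrange
      have ht : t ≫ (hW l).fromSpec = pullback.fst π jij := IsOpenImmersion.lift_fac _ _ _
      have ht2 : t ≫ Spec.map (ν l) = pullback.snd π jij ≫ q := by
        rw [← cancel_mono (𝒰.f l)]
        show (t ≫ Spec.map (ν l)) ≫ (hU l).fromSpec = _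
        rw [Category.assoc, hνπ, ← Category.assoc, ht, pullback.condition, Category.assoc, hq]
      rw [← Category.assoc, ← ht2, Category.assoc, hχ, ← Category.assoc, ht]
    rw [key i (pullback.fst _ _) rfl, key j (pullback.snd _ _) pullback.condition.symm]
  refine ⟨𝒰.glueMorphisms χ hglue, ?_⟩
  -- the cover of `X`
  let 𝒲 : X.OpenCover :=
    { I₀ := ι
      X := fun i => Spec Γ(X, W i)
      f := fun i => (hW i).fromSpec
      mem₀ := by
        rw [Scheme.presieve₀_mem_precoverage_iff]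
        refine ⟨fun x => ?_, fun i => inferInstance⟩
        obtain ⟨i, hi⟩ := hcov (π x)
        refine ⟨i, ?_⟩
        rw [(hW i).range_fromSpec, hWU i]
        exact hi }
  apply 𝒲.hom_ext
  intro i
  show (hW i).fromSpec ≫ π ≫ _ = (hW i).fromSpec ≫ ψ
  rw [← Category.assoc, ← hνπ, Category.assoc]
  have := 𝒰.ι_glueMorphisms χ hglue i
  rw [show (hU i).fromSpec = 𝒰.f i from rfl, this, hχ]


/-- the descent statement for spectra of rings -/
theorem exists_unique_desc_Spec {C B B' : CommRingCat.{u}} (φ : C ⟶ B) (ρ ι : B ⟶ B')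
    (hφ : φ ≫ ρ = φ ≫ ι) (hsurj : Function.Surjective (PrimeSpectrum.comap φ.hom))
    (hinj : Function.Injective φ) (heq : ∀ b, ρ b = ι b → b ∈ Set.range φ)
    {Z : Scheme.{u}} (ψ : Spec B ⟶ Z) (hψ : Spec.map ρ ≫ ψ = Spec.map ι ≫ ψ)
    {I : Type u} (f : I → C) (V : I → Z.Opens) (hV : ∀ i, IsAffineOpen (V i))
    (hf : Ideal.span (Set.range f) = ⊤)
    (hfV : ∀ i, PrimeSpectrum.basicOpen (φ (f i)) ≤ ψ ⁻¹ᵁ V i) :
    ∃! χ : Spec C ⟶ Z, Spec.map φ ≫ χ = ψ := by
  have hs : Surjective (Spec.map φ) := by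
    rw [surjective_iff]
    exact hsurj
  have hnat : ∀ c, (Spec.map φ).appTop ((Scheme.ΓSpecIso C).inv c) = (Scheme.ΓSpecIso B).inv (φ c) := by
    intro c
    have := Scheme.ΓSpecIso_inv_naturality φ
    exact (congrArg (fun g => (ConcreteCategory.hom g) c) this).symm
  have hnat' : ∀ (R S : CommRingCat.{u}) (g : R ⟶ S) (x : Γ(Spec R, ⊤)),
      (Scheme.ΓSpecIso S).hom ((Spec.map g).appTop x) = g ((Scheme.ΓSpecIso R).hom x) := by
    intro R S g x
    have := Scheme.ΓSpecIso_naturality g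
    exact (congrArg (fun g => (ConcreteCategory.hom g) x) this)
  refine exists_unique_desc (Spec.map φ) (Spec.map ρ) (Spec.map ι) ?_ ?_ ?_ ψ hψ
    (fun i => (Scheme.ΓSpecIso C).inv (f i)) V hV ?_ ?_
  · rw [← Spec.map_comp, ← Spec.map_comp, hφ]
  · intro x y hxy
    have h1 := congrArg (Scheme.ΓSpecIso B).hom hxy
    rw [hnat', hnat'] at h1
    have h2 := hinj h1
    exact (ConcreteCategory.bijective_of_isIso (Scheme.ΓSpecIso C).hom).1 h2
  · intro b hb
    have h1 := congrArg (Scheme.ΓSpecIso B').hom hb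
    rw [hnat', hnat'] at h1
    obtain ⟨c, hc⟩ := heq _ h1
    refine ⟨(Scheme.ΓSpecIso C).inv c, ?_⟩
    rw [hnat, hc]
    simp
  · intro y
    by_contra hy
    simp only [not_exists] at hy
    have h1 : Ideal.span (Set.range f) ≤ y.asIdeal := by
      rw [Ideal.span_le]
      rintro _ ⟨i, rfl⟩
      have := hy i
      rw [basicOpen_eq_of_affine] at this
      by_contra h2
      exact this h2
    rw [hf] at h1
    exact y.isPrime.ne_top (top_le_iff.1 h1)
  · intro i
    rw [hnat, basicOpen_eq_of_affine]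
    exact hfV i


end Groth.Agent.Lib.Helper84
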