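import Mathlib

/-!
# The skew group ring of a Frobenius algebra with an invariant form is a symmetric algebra
-/

set_option autoImplicit false

namespace Groth.Agent.Lib.Helper84.SkewSym

open SkewMonoidAlgebra

variable {S : Type*} {B : Type*} [CommRing S] [CommRing B] [Algebra S B] {G : Type*} [Group G]
  [MulSemiringAction G B]

/-- `x ↦ λ(x_1)` -/
noncomputable def phi (lam : B →ₗ[S] S) : SkewMonoidAlgebra B G →ₗ[S] S :=
  lam ∘ₗ (Finsupp.lapply (1 : G)) ∘ₗ
    (coeffLinearEquiv (S := S) (k := B) (G := G)).toLinearMap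

theorem phi_apply (lam : B →ₗ[S] S) (x : SkewMonoidAlgebra B G) :
    phi lam x = lam (x.coeff 1) := rfl

theorem coeff_mul_one [Fintype G] (x y : SkewMonoidAlgebra B G) :
    (x * y).coeff 1 = ∑ h : G, x.coeff h * h • y.coeff h⁻¹ := by
  classical
  rw [coeff_mul_antidiagonal_of_finset x y 1 (Finset.univ.image fun h : G => (h, h⁻¹))]
  · rw [Finset.sum_image]
    intro a _ b _ hab
    exact (Prod.ext_iff.1 hab).1
  · intro q
    simp only [Finset.mem_image, Finset.mem_univ, true_and]
    constructor
    · rintro ⟨h, rfl⟩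
      simp
    · intro hq
      exact ⟨q.1, Prod.ext rfl (eq_inv_of_mul_eq_one_right hq).symm⟩

theorem skew_symmetric [Finite G] [SMulCommClass G S B]
    (lam : B →ₗ[S] S) (hinv : ∀ (h : G) (t : B), lam (h • t) = lam t)
    (hinj : ∀ c c' : B, (∀ x, lam (x * c) = lam (x * c')) → c = c')
    (hsurj : ∀ ψ : B →ₗ[S] S, ∃ c, ∀ x, ψ x = lam (x * c)) :
    ∃ φ : SkewMonoidAlgebra B G →ₗ[S] S,
      (∀ x y : SkewMonoidAlgebra B G, φ (x * y) = φ (y * x)) ∧
      Function.Injective (fun y : SkewMonoidAlgebra B G =>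
        fun x : SkewMonoidAlgebra B G => φ (x * y)) ∧
      ∀ ψ : SkewMonoidAlgebra B G →ₗ[S] S, ∃ y : SkewMonoidAlgebra B G, ∀ x, ψ x = φ (x * y) := by
  classical
  have : Fintype G := Fintype.ofFinite G
  refine ⟨phi lam, ?_, ?_, ?_⟩
  · intro x y
    rw [phi_apply, phi_apply, coeff_mul_one, coeff_mul_one, _root_.map_sum, _root_.map_sum]
    rw [← Equiv.sum_comp (Equiv.inv G)]
    refine Finset.sum_congr rfl fun h _ => ?_
    simp only [Equiv.inv_apply, inv_inv]
    rw [← hinv h (x.coeff h⁻¹ * h⁻¹ • y.coeff h), smul_mul', smul_inv_smul, mul_comm]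
  · intro y y' hyy'
    apply SkewMonoidAlgebra.ext
    intro h
    have key : ∀ c : B, lam (c * h⁻¹ • y.coeff h) = lam (c * h⁻¹ • y'.coeff h) := by
      intro c
      have h1 := congrFun hyy' (single h⁻¹ c)
      simp only [phi_apply, coeff_single_mul, inv_inv, mul_one] at h1
      exact h1
    have h2 := hinj _ _ key
    exact smul_left_cancel _ h2
  · intro ψ
    have hex : ∀ h : G, ∃ t : B, ∀ c : B, ψ (single h c) = lam (c * t) := by
      intro h
      let ψh : B →ₗ[S] S :=
        { toFun := fun c => ψ (single h c)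
          map_add' := fun c c' => by rw [single_add, map_add]
          map_smul' := fun r c => by rw [← smul_single, map_smul]; rfl }
      obtain ⟨t, ht⟩ := hsurj ψh
      exact ⟨t, ht⟩
    choose t ht using hex
    refine ⟨⟨Finsupp.equivFunOnFinite.symm (fun h : G => h • t h⁻¹)⟩, ?_⟩
    intro x
    rw [phi_apply, coeff_mul_one, _root_.map_sum]
    have hx : x = ∑ h : G, single h (x.coeff h) := by
      apply SkewMonoidAlgebra.ext
      intro h'
      have h3 : (∑ h : G, single h (x.coeff h)).coeff =
          ∑ h : G, (single h (x.coeff h)).coeff :=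
        _root_.map_sum (coeffAddEquiv (k := B) (G := G)) _ _
      rw [h3, Finsupp.finsetSum_apply]
      simp only [coeff_single, Finsupp.single_apply]
      rw [Finset.sum_ite_eq' Finset.univ h']
      simp
    conv_lhs => rw [hx]
    rw [_root_.map_sum]
    refine Finset.sum_congr rfl fun h _ => ?_
    rw [ht h]
    congr 2
    simp
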