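import Groth.Agent.Lib.Helper84.TotalIntegral
import Groth.Agent.Lib.Helper84.FixedHom

/-!
# Exactness of invariants gives a total integral (helper84)

For a comodule algebra `B` and any comodule `W`, `B ⊗ W` with the tensor product coaction and `B`
acting on the left factor is a `(B, A)`-Hopf module (`isHopfMod_tensor`).  For `W = A^*` (`A` finite
projective) the invariants of `B ⊗ A^*` are comodule maps `A → B`, and evaluation at `1` is a
surjective `B`-linear comodule map onto `B`.
-/

set_option autoImplicit false
set_option linter.unusedSectionVars false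
universe u v w w'

open TensorProduct

namespace Groth.Agent.Lib.Helper84

section HopfModTensor

variable {k : Type u} [CommRing k] {A : Type v} [CommRing A] [Bialgebra k A]
  {B : Type w} [CommRing B] [Algebra k B] {W : Type w'} [AddCommGroup W] [Module k W]

theorem tensor_coact_aux (p p' : B ⊗[k] A) (q : W ⊗[k] A) :
    TensorProduct.map LinearMap.id (LinearMap.mul' k A)
        (AlgebraTensorModule.tensorTensorTensorComm k k k k B A W A ((p * p') ⊗ₜ[k] q)) =
      TameAct.hmSMul k A B (B ⊗[k] W) p
        (TensorProduct.map LinearMap.id (LinearMap.mul' k A)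
          (AlgebraTensorModule.tensorTensorTensorComm k k k k B A W A (p' ⊗ₜ[k] q))) := by
  induction p using TensorProduct.induction_on with
  | zero => simp
  | add x y hx hy => simp only [add_mul, TensorProduct.add_tmul, map_add, LinearMap.add_apply, hx, hy]
  | tmul b a =>
    induction p' using TensorProduct.induction_on with
    | zero => simp
    | add x y hx hy => simp only [mul_add, TensorProduct.add_tmul, map_add, hx, hy]
    | tmul b' a' =>
      induction q using TensorProduct.induction_on with
      | zero => simp
      | add x y hx hy => simp only [TensorProduct.tmul_add, map_add, hx, hy]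
      | tmul w a'' =>
        simp only [Algebra.TensorProduct.tmul_mul_tmul,
          AlgebraTensorModule.tensorTensorTensorComm_tmul, TensorProduct.map_tmul,
          LinearMap.id_apply, LinearMap.mul'_apply, TameAct.hmSMul_tmul, TensorProduct.smul_tmul',
          smul_eq_mul, mul_assoc]

/-- `B ⊗ W` is a `(B, A)`-Hopf module -/
theorem isHopfMod_tensor (cB : HopfRep.Comod k A B) [GLin.IsCoactAlg k A B]
    (d : HopfRep.Comod k A W) :
    @TameAct.IsHopfMod k _ A _ _ B _ _ (B ⊗[k] W) _ _ _ _ cB (ComodTens.Comod.tensor cB d) := by
  let _i : HopfRep.Comod k A (B ⊗[k] W) := ComodTens.Comod.tensor cB d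
  constructor
  intro b x
  induction x using TensorProduct.induction_on with
  | zero => simp
  | add x y hx hy => simp only [smul_add, map_add, hx, hy]
  | tmul b' w =>
    rw [TensorProduct.smul_tmul', smul_eq_mul]
    show (ComodTens.Comod.tensor cB d).coact ((b * b') ⊗ₜ[k] w) =
      TameAct.hmSMul k A B (B ⊗[k] W) (cB.coact b) ((ComodTens.Comod.tensor cB d).coact (b' ⊗ₜ[k] w))
    rw [ComodTens.tensor_coact_tmul, ComodTens.tensor_coact_tmul,
      GLin.IsCoactAlg.coact_mul (k := k) (A := A), tensor_coact_aux]

end HopfModTensor

section Ev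

variable {k : Type u} [CommRing k] {A : Type v} [CommRing A] [HopfAlgebra k A]
  {B : Type w} [CommRing B] [Algebra k B]

local notation "𝑺" => HopfAlgebraStruct.antipode (R := k) (A := A)

variable (k A B) in
/-- evaluation at `1`: `b ⊗ φ ↦ φ 1 • b`, as a `B`-linear map -/
noncomputable def ev1 : B ⊗[k] Module.Dual k A →ₗ[B] B where
  toFun x := tensorDualHom k B A x 1
  map_add' x y := by simp
  map_smul' b x := by
    induction x using TensorProduct.induction_on with
    | zero => simp
    | add x y hx hy =>
      simp only [smul_add, map_add, LinearMap.add_apply, RingHom.id_apply] at hx hy ⊢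
      rw [hx, hy]
    | tmul b' φ =>
      simp only [TensorProduct.smul_tmul', tensorDualHom_tmul, RingHom.id_apply, smul_eq_mul]
      rw [mul_smul_comm]

theorem ev1_apply (x : B ⊗[k] Module.Dual k A) : ev1 k A B x = tensorDualHom k B A x 1 := rfl

theorem ev1_surjective : Function.Surjective (ev1 k A B) := by
  intro b
  refine ⟨b ⊗ₜ[k] (CoalgebraStruct.counit (R := k) (A := A)), ?_⟩
  rw [ev1_apply, tensorDualHom_tmul, Bialgebra.counit_one, one_smul]

theorem twistHom_one (cB : HopfRep.Comod k A B) (h : A →ₗ[k] B) :
    twistHom (HopfRep.Comod.regular k A) cB (1 : A) h = cB.coact (h 1) := by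
  rw [twistHom_apply, gact_tmul_one]
  show gact cB LinearMap.id (h.rTensor A ((𝑺).lTensor A (CoalgebraStruct.comul (R := k) (1 : A)))) = _
  rw [Bialgebra.comul_one, Algebra.TensorProduct.one_def, LinearMap.lTensor_tmul,
    HopfAlgebra.antipode_one, LinearMap.rTensor_tmul, gact_tmul_one, LinearMap.lTensor_id,
    LinearMap.id_apply]

variable (cB : HopfRep.Comod k A B) (d : HopfRep.Comod k A (Module.Dual k A))
  (hd : ComodTens.Comod.IsDual (HopfRep.Comod.regular k A) d)

include hd in
/-- evaluation at `1` is a comodule map `B ⊗ A^* → B` -/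
theorem coact_ev1 (x : B ⊗[k] Module.Dual k A) :
    cB.coact (ev1 k A B x) =
      ((ev1 k A B).restrictScalars k).rTensor A ((ComodTens.Comod.tensor cB d).coact x) := by
  have h1 := evR_rTensor_tensor_coact cB (HopfRep.Comod.regular k A) d hd x (1 : A)
  rw [twistHom_one] at h1
  rw [ev1_apply, ← h1]
  rfl

include hd in
/-- an invariant of `B ⊗ A^*` is a comodule map `A → B` -/
theorem comodHom_of_mem_fixedPts_tensor_dual (x : B ⊗[k] Module.Dual k A)
    (hx : (ComodTens.Comod.tensor cB d).coact x = x ⊗ₜ[k] (1 : A)) :
    cB.coact ∘ₗ tensorDualHom k B A x =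
      (tensorDualHom k B A x).rTensor A ∘ₗ (HopfRep.Comod.regular k A).coact := by
  rw [comodHom_iff_twistHom]
  intro m
  rw [← evR_rTensor_tensor_coact cB (HopfRep.Comod.regular k A) d hd, hx, LinearMap.rTensor_tmul]
  rfl

end Ev

end Groth.Agent.Lib.Helper84
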