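import Groth.Agent.Lib.Helper84.GenericAct
import Groth.Prelude.Def_W4c1tameactTame

/-!
# Total integrals and the Reynolds operator (helper84)

* `diag c` : the diagonal coaction `x ⊗ a ↦ Σ (x₀ ⊗ a₁) ⊗ x₁ a₂` on `X ⊗ A`.
* `coactAux_gact_id` : the generic point `gact c id` is a comodule map from the diagonal coaction
  to the induced coaction `id ⊗ Δ`; `diag_gact_antipode` the inverse statement.
* `coact_nu` : for a `(B, A)`-Hopf module `M` and a comodule map `α : A → B`, the map
  `ν (m ⊗ a) = α a • m` is a comodule map from the diagonal coaction to `M`.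
* `reynolds_mem_fixedPts`, `reynolds_of_mem_fixedPts`, `reynolds_map`, `reynolds_smul_of_mem`.
-/

set_option autoImplicit false
set_option linter.unusedSectionVars false
universe u v w w' w''

open TensorProduct

namespace Groth.Agent.Lib.Helper84

section Diag

variable {k : Type u} [CommRing k] {A : Type v} [CommRing A] [Bialgebra k A]
  {X : Type w} [AddCommGroup X] [Module k X]

local notation "Δ" => CoalgebraStruct.comul (R := k) (A := A)

variable (k A X) in
/-- `(x ⊗ e) ⊗ (c ⊗ d) ↦ (x ⊗ c) ⊗ (e * d)` -/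
noncomputable def mix : (X ⊗[k] A) ⊗[k] (A ⊗[k] A) →ₗ[k] (X ⊗[k] A) ⊗[k] A :=
  (LinearMap.mul' k A).lTensor (X ⊗[k] A) ∘ₗ
    (TensorProduct.tensorTensorTensorComm k X A A A).toLinearMap

@[simp] theorem mix_tmul (x : X) (e c d : A) :
    mix k A X ((x ⊗ₜ[k] e) ⊗ₜ[k] (c ⊗ₜ[k] d)) = (x ⊗ₜ[k] c) ⊗ₜ[k] (e * d) := by
  simp [mix]

/-- the diagonal coaction on `X ⊗ A`: `x ⊗ a ↦ Σ (x₀ ⊗ a₁) ⊗ x₁ a₂` -/
noncomputable def diag (c : HopfRep.Comod k A X) : X ⊗[k] A →ₗ[k] (X ⊗[k] A) ⊗[k] A :=
  mix k A X ∘ₗ TensorProduct.map c.coact Δ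

theorem diag_tmul (c : HopfRep.Comod k A X) (x : X) (a : A) :
    diag c (x ⊗ₜ[k] a) = mix k A X (c.coact x ⊗ₜ[k] Δ a) := by
  simp [diag]

theorem assoc_coactAux_rmul (z : X ⊗[k] A) (a : A) :
    TensorProduct.assoc k X A A (Hoch.Ind.coactAux k A X (rmul k A X (z ⊗ₜ[k] a))) =
      rmul k (A ⊗[k] A) X ((Δ).lTensor X z ⊗ₜ[k] Δ a) := by
  induction z using TensorProduct.induction_on with
  | zero => simp
  | add x y hx hy => simp only [TensorProduct.add_tmul, map_add, hx, hy]
  | tmul y b =>
    rw [rmul_tmul, Hoch.Ind.coactAux_tmul, LinearEquiv.apply_symm_apply, LinearMap.lTensor_tmul,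
      rmul_tmul, Bialgebra.comul_mul]

theorem assoc_rmul_tmul (w : X ⊗[k] A) (b c d : A) :
    TensorProduct.assoc k X A A (rmul k A X (w ⊗ₜ[k] c) ⊗ₜ[k] (b * d)) =
      rmul k (A ⊗[k] A) X (TensorProduct.assoc k X A A (w ⊗ₜ[k] b) ⊗ₜ[k] (c ⊗ₜ[k] d)) := by
  induction w using TensorProduct.induction_on with
  | zero => simp
  | add x y hx hy => simp only [TensorProduct.add_tmul, map_add, hx, hy]
  | tmul y e =>
    rw [rmul_tmul, TensorProduct.assoc_tmul, TensorProduct.assoc_tmul, rmul_tmul,
      Algebra.TensorProduct.tmul_mul_tmul]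

theorem assoc_gact_rTensor_mix (c : HopfRep.Comod k A X) (z : X ⊗[k] A) (t : A ⊗[k] A) :
    TensorProduct.assoc k X A A ((gact c LinearMap.id).rTensor A (mix k A X (z ⊗ₜ[k] t))) =
      rmul k (A ⊗[k] A) X (TensorProduct.assoc k X A A (c.coact.rTensor A z) ⊗ₜ[k] t) := by
  induction z using TensorProduct.induction_on with
  | zero => simp
  | add x y hx hy => simp only [TensorProduct.add_tmul, map_add, hx, hy]
  | tmul y b =>
    induction t using TensorProduct.induction_on with
    | zero => simp
    | add x y hx hy => simp only [TensorProduct.tmul_add, map_add, hx, hy]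
    | tmul c' d =>
      rw [mix_tmul, LinearMap.rTensor_tmul, gact_id_tmul, LinearMap.rTensor_tmul, assoc_rmul_tmul]

/-- the generic point is a comodule map from the diagonal coaction to the induced coaction -/
theorem coactAux_gact_id (c : HopfRep.Comod k A X) (w : X ⊗[k] A) :
    Hoch.Ind.coactAux k A X (gact c LinearMap.id w) =
      (gact c LinearMap.id).rTensor A (diag c w) := by
  induction w using TensorProduct.induction_on with
  | zero => simp
  | add x y hx hy => simp only [map_add, hx, hy]
  | tmul x a =>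
    apply (TensorProduct.assoc k X A A).injective
    have hco := LinearMap.congr_fun c.coassoc x
    simp only [LinearMap.coe_comp, Function.comp_apply, LinearEquiv.coe_coe] at hco
    rw [gact_id_tmul, assoc_coactAux_rmul, diag_tmul, assoc_gact_rTensor_mix, hco]

end Diag

section HopfDiag

variable {k : Type u} [CommRing k] {A : Type v} [CommRing A] [HopfAlgebra k A]
  {X : Type w} [AddCommGroup X] [Module k X]

local notation "𝑺" => HopfAlgebraStruct.antipode (R := k) (A := A)

/-- the inverse generic point is a comodule map from the induced coaction to the diagonal one -/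
theorem diag_gact_antipode (c : HopfRep.Comod k A X) (w : X ⊗[k] A) :
    diag c (gact c 𝑺 w) = (gact c 𝑺).rTensor A (Hoch.Ind.coactAux k A X w) := by
  have h1 := coactAux_gact_id c (gact c 𝑺 w)
  rw [gact_id_gact_antipode] at h1
  have h2 : gact c 𝑺 ∘ₗ gact c LinearMap.id = LinearMap.id := by
    apply LinearMap.ext
    intro z
    exact gact_antipode_gact_id c z
  have h3 : ∀ y : (X ⊗[k] A) ⊗[k] A,
      (gact c 𝑺).rTensor A ((gact c LinearMap.id).rTensor A y) = y := by
    intro y
    rw [← LinearMap.rTensor_comp_apply, h2, LinearMap.rTensor_id, LinearMap.id_apply]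
  rw [h1, h3]

end HopfDiag

section Nu

variable {k : Type u} [CommRing k] {A : Type v} [CommRing A] [Bialgebra k A]
  {B : Type w} [CommRing B] [Algebra k B]
  {M : Type w'} [AddCommGroup M] [Module k M] [Module B M] [IsScalarTower k B M]

local notation "Δ" => CoalgebraStruct.comul (R := k) (A := A)

variable (M) in
/-- `m ⊗ a ↦ α a • m` -/
noncomputable def nu (α : A →ₗ[k] B) : M ⊗[k] A →ₗ[k] M :=
  TensorProduct.lift
    ((Algebra.lsmul k k M : B →ₐ[k] Module.End k M).toLinearMap ∘ₗ α).flip

@[simp] theorem nu_tmul (α : A →ₗ[k] B) (m : M) (a : A) : nu M α (m ⊗ₜ[k] a) = α a • m := by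
  simp [nu]

theorem hmSMul_rTensor (α : A →ₗ[k] B) (z : M ⊗[k] A) (t : A ⊗[k] A) :
    TameAct.hmSMul k A B M (α.rTensor A t) z = (nu M α).rTensor A (mix k A M (z ⊗ₜ[k] t)) := by
  induction z using TensorProduct.induction_on with
  | zero => simp
  | add x y hx hy => simp only [TensorProduct.add_tmul, map_add, hx, hy]
  | tmul y b =>
    induction t using TensorProduct.induction_on with
    | zero => simp
    | add x y hx hy => simp only [TensorProduct.tmul_add, map_add, LinearMap.add_apply, hx, hy]
    | tmul c' d =>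
      rw [LinearMap.rTensor_tmul, TameAct.hmSMul_tmul, mix_tmul, LinearMap.rTensor_tmul, nu_tmul,
        mul_comm]

variable [HopfRep.Comod k A B] [HopfRep.Comod k A M] [TameAct.IsHopfMod k A B M]

/-- `ν` is a comodule map from the diagonal coaction on `M ⊗ A` to `M`. -/
theorem coact_nu (α : A →ₗ[k] B) (hα : Hoch.IsComodHom A α) (w : M ⊗[k] A) :
    HopfRep.Comod.coact (k := k) (A := A) (nu M α w) =
      (nu M α).rTensor A (diag (inferInstance : HopfRep.Comod k A M) w) := by
  induction w using TensorProduct.induction_on with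
  | zero => simp
  | add x y hx hy => simp only [map_add, hx, hy]
  | tmul m a =>
    have h1 : HopfRep.Comod.coact (k := k) (A := A) (α a) = α.rTensor A (Δ a) :=
      LinearMap.congr_fun hα a
    rw [nu_tmul, TameAct.IsHopfMod.coact_smul, h1, hmSMul_rTensor, diag_tmul]

end Nu

section Reynolds

variable {k : Type u} [CommRing k] {A : Type v} [CommRing A] [HopfAlgebra k A]
  {B : Type w} [CommRing B] [Algebra k B]
  {M : Type w'} [AddCommGroup M] [Module k M] [Module B M] [IsScalarTower k B M]
  [HopfRep.Comod k A M]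
  {N : Type w''} [AddCommGroup N] [Module k N] [Module B N] [IsScalarTower k B N]
  [HopfRep.Comod k A N]

local notation "𝑺" => HopfAlgebraStruct.antipode (R := k) (A := A)

theorem reynolds_eq_nu_lTensor (α : A →ₗ[k] B) (m : M) :
    TameAct.reynolds k A B M α m =
      nu M α ((𝑺).lTensor M (HopfRep.Comod.coact (k := k) (A := A) m)) := by
  unfold TameAct.reynolds
  rw [LinearMap.comp_apply]
  generalize HopfRep.Comod.coact (k := k) (A := A) m = z
  induction z using TensorProduct.induction_on with
  | zero => simp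
  | add x y hx hy => simp only [map_add, hx, hy]
  | tmul y e => simp

theorem reynolds_eq (α : A →ₗ[k] B) (m : M) :
    TameAct.reynolds k A B M α m =
      nu M α (gact (inferInstance : HopfRep.Comod k A M) 𝑺 (m ⊗ₜ[k] (1 : A))) := by
  rw [gact_tmul_one, reynolds_eq_nu_lTensor]

theorem reynolds_of_mem_fixedPts (α : A →ₗ[k] B) (hα1 : α 1 = 1) (m : M)
    (hm : m ∈ HopfRep.fixedPts k A M) : TameAct.reynolds k A B M α m = m := by
  rw [TameAct.reynolds_apply_of_coact_eq k A B M α m m 1 hm, HopfAlgebra.antipode_one, hα1,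
    one_smul]

theorem map_nu (α : A →ₗ[k] B) (f : M →ₗ[B] N) (z : M ⊗[k] A) :
    f (nu M α z) = nu N α ((f.restrictScalars k).rTensor A z) := by
  induction z using TensorProduct.induction_on with
  | zero => simp
  | add x y hx hy => simp only [map_add, hx, hy]
  | tmul y e => simp

/-- the Reynolds map commutes with `B`-linear comodule maps -/
theorem reynolds_map (α : A →ₗ[k] B) (f : M →ₗ[B] N)
    (hf : Hoch.IsComodHom A (f.restrictScalars k)) (m : M) :
    f (TameAct.reynolds k A B M α m) = TameAct.reynolds k A B N α (f m) := by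
  have h1 : HopfRep.Comod.coact (k := k) (A := A) (f m) =
      (f.restrictScalars k).rTensor A (HopfRep.Comod.coact (k := k) (A := A) m) :=
    LinearMap.congr_fun hf m
  have h2 : ∀ z : M ⊗[k] A, (f.restrictScalars k).rTensor A ((𝑺).lTensor M z) =
      (𝑺).lTensor N ((f.restrictScalars k).rTensor A z) := by
    intro z
    induction z using TensorProduct.induction_on with
    | zero => simp
    | add x y hx hy => simp only [map_add, hx, hy]
    | tmul y e => simp
  rw [reynolds_eq_nu_lTensor, reynolds_eq_nu_lTensor, map_nu, h1, h2]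

theorem nu_lTensor_mem (α : A →ₗ[k] B) (b : Submodule B M) (z : (b.restrictScalars k) ⊗[k] A) :
    nu M α ((𝑺).lTensor M ((b.restrictScalars k).subtype.rTensor A z)) ∈ b := by
  induction z using TensorProduct.induction_on with
  | zero => simp
  | add x y hx hy =>
    simp only [map_add]
    exact b.add_mem hx hy
  | tmul y e =>
    simp only [LinearMap.rTensor_tmul, LinearMap.lTensor_tmul, nu_tmul, Submodule.subtype_apply]
    exact b.smul_mem _ y.2

/-- the Reynolds map preserves `B`-submodules that are subcomodules -/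
theorem reynolds_mem_of_isSubcomod (α : A →ₗ[k] B) (b : Submodule B M)
    (hb : HopfRep.IsSubcomod (k := k) (A := A) (b.restrictScalars k)) (m : M) (hm : m ∈ b) :
    TameAct.reynolds k A B M α m ∈ b := by
  obtain ⟨z, hz⟩ := hb m hm
  rw [reynolds_eq_nu_lTensor, ← hz]
  exact nu_lTensor_mem α b z

variable [HopfRep.Comod k A B] [TameAct.IsHopfMod k A B M]

/-- the Reynolds map of a total integral lands in the invariants -/
theorem reynolds_mem_fixedPts (α : A →ₗ[k] B) (hα : Hoch.IsComodHom A α) (m : M) :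
    TameAct.reynolds k A B M α m ∈ HopfRep.fixedPts k A M := by
  show HopfRep.Comod.coact (k := k) (A := A) (TameAct.reynolds k A B M α m) =
    TameAct.reynolds k A B M α m ⊗ₜ[k] (1 : A)
  rw [reynolds_eq, coact_nu α hα, diag_gact_antipode, Hoch.Ind.coactAux_tmul, Bialgebra.comul_one,
    Algebra.TensorProduct.one_def, TensorProduct.assoc_symm_tmul, LinearMap.rTensor_tmul,
    LinearMap.rTensor_tmul]

/-- the Reynolds map is linear over the invariants of `B` -/
theorem reynolds_smul_of_mem (α : A →ₗ[k] B) (b : B) (hb : b ∈ HopfRep.fixedPts k A B) (m : M) :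
    TameAct.reynolds k A B M α (b • m) = b • TameAct.reynolds k A B M α m := by
  have hb' : HopfRep.Comod.coact (k := k) (A := A) b = b ⊗ₜ[k] (1 : A) := hb
  rw [reynolds_eq_nu_lTensor, reynolds_eq_nu_lTensor, TameAct.IsHopfMod.coact_smul, hb']
  generalize HopfRep.Comod.coact (k := k) (A := A) m = z
  induction z using TensorProduct.induction_on with
  | zero => simp
  | add x y hx hy => simp only [map_add, smul_add, hx, hy]
  | tmul y e =>
    simp only [TameAct.hmSMul_tmul, one_mul, LinearMap.lTensor_tmul, nu_tmul]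
    rw [smul_comm]

end Reynolds

section Self

variable {k : Type u} [CommRing k] {A : Type v} [CommRing A] [Bialgebra k A]
  {B : Type w} [CommRing B] [Algebra k B]

theorem hmSMul_self (x y : B ⊗[k] A) : TameAct.hmSMul k A B B x y = x * y := by
  induction x using TensorProduct.induction_on with
  | zero => simp
  | add x₁ x₂ h₁ h₂ => simp only [map_add, LinearMap.add_apply, add_mul, h₁, h₂]
  | tmul b a =>
    induction y using TensorProduct.induction_on with
    | zero => simp
    | add y₁ y₂ h₁ h₂ => simp only [map_add, mul_add, h₁, h₂]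
    | tmul b' a' => simp

variable [HopfRep.Comod k A B] [GLin.IsCoactAlg k A B]

theorem isHopfMod_self : TameAct.IsHopfMod k A B B where
  coact_smul b m := by
    rw [smul_eq_mul, GLin.IsCoactAlg.coact_mul, hmSMul_self]

end Self

section Invariants

variable {k : Type u} [CommRing k] {A : Type v} [CommRing A] [HopfAlgebra k A]
  {B : Type w} [CommRing B] [Algebra k B] [HopfRep.Comod k A B] [GLin.IsCoactAlg k A B]

/-- the Reynolds map sends the extension `cB` of an ideal `c` of the invariants into `c` -/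
theorem exists_mem_eq_reynolds_of_mem_map (α : A →ₗ[k] B) (hα : Hoch.IsComodHom A α)
    (c : Ideal (GLin.invariants k A B)) (y : B)
    (hy : y ∈ c.map (algebraMap (GLin.invariants k A B) B)) :
    ∃ c' ∈ c, ((c' : GLin.invariants k A B) : B) = TameAct.reynolds k A B B α y := by
  have _inst := isHopfMod_self (k := k) (A := A) (B := B)
  have key : ∀ y ∈ c.map (algebraMap (GLin.invariants k A B) B), ∀ b : B,
      ∃ c' ∈ c, ((c' : GLin.invariants k A B) : B) = TameAct.reynolds k A B B α (b * y) := by
    intro y hy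
    refine Submodule.span_induction ?_ ?_ ?_ ?_ hy
    · rintro _ ⟨c₀, hc₀, rfl⟩ b
      refine ⟨c₀ * ⟨TameAct.reynolds k A B B α b, reynolds_mem_fixedPts α hα b⟩,
        c.mul_mem_right _ hc₀, ?_⟩
      have h1 := reynolds_smul_of_mem (M := B) α (c₀ : B) c₀.2 b
      rw [smul_eq_mul, smul_eq_mul] at h1
      rw [mul_comm b, show (algebraMap (GLin.invariants k A B) B) c₀ = (c₀ : B) from rfl, h1]
      rfl
    · intro b
      exact ⟨0, c.zero_mem, by simp⟩
    · intro y z _ _ hy hz b
      obtain ⟨c₁, h₁, e₁⟩ := hy b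
      obtain ⟨c₂, h₂, e₂⟩ := hz b
      refine ⟨c₁ + c₂, c.add_mem h₁ h₂, ?_⟩
      rw [mul_add, map_add, ← e₁, ← e₂]
      rfl
    · intro b' y _ hy b
      obtain ⟨c₁, h₁, e₁⟩ := hy (b * b')
      exact ⟨c₁, h₁, by rw [e₁, smul_eq_mul, mul_assoc]⟩
  obtain ⟨c', hc', e⟩ := key y hy 1
  rw [one_mul] at e
  exact ⟨c', hc', e⟩

end Invariants

section LeftInverse

variable {k : Type u} [CommRing k] {A : Type v} [CommRing A] [HopfAlgebra k A]
  {B : Type w} [CommRing B] [Algebra k B] [HopfRep.Comod k A B] [GLin.IsCoactAlg k A B]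

local notation "𝑺" => HopfAlgebraStruct.antipode (R := k) (A := A)

/-- a total integral gives a comodule retraction of the coaction `B → B ⊗ A` -/
theorem exists_leftInverse_of_totalIntegral (α : A →ₗ[k] B) (hα : Hoch.IsComodHom A α)
    (hα1 : α 1 = 1) :
    ∃ lam : Hoch.Ind k A B →ₗ[k] B, Hoch.IsComodHom A lam ∧
      lam ∘ₗ Hoch.toInd k A B = LinearMap.id := by
  have _inst := isHopfMod_self (k := k) (A := A) (B := B)
  refine ⟨(nu B α ∘ₗ gact (inferInstance : HopfRep.Comod k A B) 𝑺) ∘ₗ
      (Hoch.Ind.equiv k A B).symm.toLinearMap, ?_, ?_⟩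
  · apply LinearMap.ext
    intro w
    obtain ⟨w, rfl⟩ := (Hoch.Ind.equiv k A B).surjective w
    show HopfRep.Comod.coact (k := k) (A := A) (nu B α
        (gact (inferInstance : HopfRep.Comod k A B) 𝑺 w)) =
      (nu B α ∘ₗ gact (inferInstance : HopfRep.Comod k A B) 𝑺).rTensor A
        (Hoch.Ind.coactAux k A B w)
    rw [coact_nu α hα, diag_gact_antipode, LinearMap.rTensor_comp_apply]
  · apply LinearMap.ext
    intro b
    show nu B α (gact (inferInstance : HopfRep.Comod k A B) 𝑺
        (HopfRep.Comod.coact (k := k) (A := A) b)) = b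
    have h1 : HopfRep.Comod.coact (k := k) (A := A) b =
        gact (inferInstance : HopfRep.Comod k A B) LinearMap.id (b ⊗ₜ[k] (1 : A)) := by
      rw [gact_tmul_one, LinearMap.lTensor_id, LinearMap.id_apply]
    rw [h1, gact_antipode_gact_id, nu_tmul, hα1, one_smul]

/-- a comodule retraction of the coaction `B → B ⊗ A` gives a total integral -/
theorem exists_totalIntegral_of_leftInverse (lam : Hoch.Ind k A B →ₗ[k] B)
    (hlam : Hoch.IsComodHom A lam) (hlam1 : lam ∘ₗ Hoch.toInd k A B = LinearMap.id) :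
    ∃ α : A →ₗ[k] B, Hoch.IsComodHom A α ∧ α 1 = 1 := by
  refine ⟨(lam ∘ₗ (Hoch.Ind.equiv k A B).toLinearMap) ∘ₗ TensorProduct.mk k B A 1, ?_, ?_⟩
  · have hlam' : ∀ w : B ⊗[k] A, HopfRep.Comod.coact (k := k) (A := A)
        ((lam ∘ₗ (Hoch.Ind.equiv k A B).toLinearMap) w) =
        (lam ∘ₗ (Hoch.Ind.equiv k A B).toLinearMap).rTensor A (Hoch.Ind.coactAux k A B w) :=
      fun w => LinearMap.congr_fun hlam (Hoch.Ind.equiv k A B w)
    generalize lam ∘ₗ (Hoch.Ind.equiv k A B).toLinearMap = lam' at hlam' ⊢
    apply LinearMap.ext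
    intro a
    show HopfRep.Comod.coact (k := k) (A := A) (lam' ((1 : B) ⊗ₜ[k] a)) =
      (lam' ∘ₗ TensorProduct.mk k B A 1).rTensor A (CoalgebraStruct.comul (R := k) (A := A) a)
    rw [hlam', Hoch.Ind.coactAux_tmul]
    generalize CoalgebraStruct.comul (R := k) (A := A) a = t
    induction t using TensorProduct.induction_on with
    | zero => simp
    | add x y hx hy => simp only [TensorProduct.tmul_add, map_add, hx, hy]
    | tmul c d => simp
  · have h1 := LinearMap.congr_fun hlam1 (1 : B)
    simp only [LinearMap.coe_comp, Function.comp_apply, LinearMap.id_apply] at h1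
    refine Eq.trans ?_ h1
    show lam (Hoch.Ind.equiv k A B ((1 : B) ⊗ₜ[k] (1 : A))) = lam (Hoch.toInd k A B 1)
    congr 1
    show _ = Hoch.Ind.equiv k A B (HopfRep.Comod.coact (k := k) (A := A) (1 : B))
    rw [GLin.IsCoactAlg.coact_one (k := k) (A := A) (R := B), Algebra.TensorProduct.one_def]

end LeftInverse

end Groth.Agent.Lib.Helper84
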