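import Mathlib
import Groth.Agent.Lib.Helper84.MonicTower
import Groth.Agent.Lib.Helper14.MonicQuotReg
import Groth.Agent.Lib.Helper76.PSCohen

/-!
# The Artin–Schreier family `A = R[u_1..u_n]/(u_i^p - a_i^{p-1} u_i - x_i)`, `R = k[[x_1..x_n]]`
(helper84, WildQuot S15787/S15788/S15789/S19998), part 1: the ideal in three forms.
-/

set_option autoImplicit false

universe u

namespace Groth.Agent.Lib.Helper84.WQ

open Groth.Agent.Lib.Helper84.MonicTower Groth.Agent.Lib.Helper14.MonicQuot

section Setup

variable (p : ℕ) {S : Type u} [CommRing S] {n : ℕ} (α β : Fin n → S)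

/-- the generalized Artin–Schreier ideal `(u_i^p - α_i u_i - β_i)` in `S[u_1..u_n]` -/
noncomputable def IAS : Ideal (MvPolynomial (Fin n) S) :=
  Ideal.span (Set.range fun i : Fin n =>
    MvPolynomial.X i ^ p - MvPolynomial.C (α i) * MvPolynomial.X i - MvPolynomial.C (β i))

/-- the one-variable polynomials `T^p - α_i T - β_i` -/
noncomputable def gAS (i : Fin n) : Polynomial S :=
  Polynomial.X ^ p - (Polynomial.C (α i) * Polynomial.X + Polynomial.C (β i))

theorem gAS_monic [Nontrivial S] (hp : 2 ≤ p) (i : Fin n) : (gAS p α β i).Monic := by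
  apply Polynomial.monic_X_pow_sub
  refine lt_of_le_of_lt (Polynomial.degree_linear_le) ?_
  exact_mod_cast hp

theorem gAS_natDegree [Nontrivial S] (hp : 2 ≤ p) (i : Fin n) : (gAS p α β i).natDegree = p := by
  unfold gAS
  rw [Polynomial.natDegree_sub_eq_left_of_natDegree_lt, Polynomial.natDegree_X_pow]
  rw [Polynomial.natDegree_X_pow]
  refine lt_of_le_of_lt (Polynomial.natDegree_linear_le) ?_
  exact hp

theorem IAS_eq_mIdeal : IAS p α β = mIdeal (gAS p α β) := by
  unfold IAS mIdeal
  congr 2
  funext i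
  simp [gAS, sub_sub]

/-- the coefficient family for helper14's `F d c` -/
noncomputable def cAS (i : Fin n) (k : ℕ) : S :=
  if k = 0 then - β i else if k = 1 then - α i else 0

theorem F_eq (hp : 2 ≤ p) (i : Fin n) :
    F (fun _ : Fin n => p) (cAS α β) i =
      MvPolynomial.X i ^ p - MvPolynomial.C (α i) * MvPolynomial.X i - MvPolynomial.C (β i) := by
  unfold F
  rw [Finset.sum_eq_add_of_mem (0 : ℕ) 1 (Finset.mem_range.2 (show 0 < p by omega))
    (Finset.mem_range.2 (show 1 < p by omega)) (by norm_num)]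
  · simp [cAS]
    ring
  · intro c _ hc
    simp [cAS, hc.1, hc.2]

theorem IAS_eq_F (hp : 2 ≤ p) :
    IAS p α β = Ideal.span (Set.range (F (fun _ : Fin n => p) (cAS α β))) := by
  unfold IAS
  congr 2
  funext i
  rw [F_eq p α β hp i]

end Setup

end Groth.Agent.Lib.Helper84.WQ
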