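import Mathlib
import Groth.Agent.Lib.Helper84.WQ7

/-!
# Non-freeness over the invariants for actions ramified only at the origin (helper84)
-/

set_option autoImplicit false

universe u w

namespace Groth.Agent.Lib.Helper84.WQ10

open IsLocalRing Matrix

variable (A : Type u) [CommRing A] [IsDomain A] [IsLocalRing A] [IsNoetherianRing A]
  (G : Type w) [Group G] [Fintype G] [DecidableEq G] [MulSemiringAction G A]

/-- the matrix `(g • b h)` -/
def galMat (b : G → A) : Matrix G G A := Matrix.of fun g h => g • b h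

variable {A G}

/-- If the determinant of `(g • b_h)` lies in the prime `Q`, where `b` is a basis of `A` over
the invariants, then two of the characters `a ↦ g • a mod Q` coincide. -/
theorem det_notMem (b : Module.Basis G (FixedPoints.subring A G) A) (Q : Ideal A) [Q.IsPrime]
    (hQ : ∀ g h : G, g ≠ h → ∃ a : A, g • a - h • a ∉ Q) :
    (galMat A G b).det ∉ Q := by
  intro hdet
  let φ : A →+* A ⧸ Q := Ideal.Quotient.mk Q
  have h0 : ((galMat A G b).map φ).det = 0 := by
    rw [← RingHom.mapMatrix_apply, ← RingHom.map_det]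
    exact Ideal.Quotient.eq_zero_iff_mem.mpr hdet
  obtain ⟨v, hv0, hv⟩ := Matrix.exists_vecMul_eq_zero_iff.mpr h0
  -- the characters
  let χ : G → (A →* A ⧸ Q) := fun g =>
    (φ : A →* A ⧸ Q).comp ((MulSemiringAction.toRingHom G A g : A →+* A) : A →* A)
  have hχ : ∀ g a, χ g a = φ (g • a) := fun g a => rfl
  have hχinj : Function.Injective χ := by
    intro g h hgh
    by_contra hne
    obtain ⟨a, ha⟩ := hQ g h hne
    apply ha
    have := DFunLike.congr_fun hgh a
    rw [hχ, hχ] at this
    rw [← Ideal.Quotient.eq_zero_iff_mem, map_sub, sub_eq_zero]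
    exact this
  have hli := (linearIndependent_monoidHom A (A ⧸ Q)).comp χ hχinj
  rw [Fintype.linearIndependent_iff] at hli
  apply hv0
  funext g
  apply hli v
  funext a
  simp only [Function.comp_apply, Finset.sum_apply, Pi.smul_apply, smul_eq_mul, Pi.zero_apply]
  -- expand `a` in the basis
  have ha : a = ∑ h : G, ((b.repr a h : FixedPoints.subring A G) : A) * b h := by
    conv_lhs => rw [← b.sum_repr a]
    rfl
  have hga : ∀ g : G, φ (g • a) = ∑ h : G, φ ((b.repr a h : FixedPoints.subring A G) : A)
      * φ (g • b h) := by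
    intro g
    conv_lhs => rw [ha]
    rw [Finset.smul_sum, map_sum]
    refine Finset.sum_congr rfl fun h _ => ?_
    rw [smul_mul', map_mul, (b.repr a h).2 g]
  have hcol : ∀ h : G, ∑ g : G, v g * φ (g • b h) = 0 := by
    intro h
    have := congrFun hv h
    simpa [Matrix.vecMul, dotProduct, galMat] using this
  change ∑ g : G, v g * χ g a = 0
  simp only [hχ, hga, Finset.mul_sum]
  rw [Finset.sum_comm]
  have : ∀ h : G, ∑ g : G, v g * (φ ((b.repr a h : FixedPoints.subring A G) : A) * φ (g • b h))
      = φ ((b.repr a h : FixedPoints.subring A G) : A) * ∑ g : G, v g * φ (g • b h) := by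
    intro h
    rw [Finset.mul_sum]
    exact Finset.sum_congr rfl fun g _ => by ring
  simp only [this, hcol, mul_zero, Finset.sum_const_zero]

/-- the determinant lies in the maximal ideal when `G` acts trivially on the residue field and
has at least two elements -/
theorem det_mem_maximalIdeal (b : G → A) (htriv : ∀ (g : G) (a : A), g • a - a ∈ maximalIdeal A)
    (hG : 2 ≤ Fintype.card G) : (galMat A G b).det ∈ maximalIdeal A := by
  rw [← Ideal.Quotient.eq_zero_iff_mem, RingHom.map_det]
  obtain ⟨g₁, g₂, hne⟩ := Fintype.exists_pair_of_one_lt_card (α := G) (by omega)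
  apply Matrix.det_zero_of_row_eq hne
  funext h
  simp only [RingHom.mapMatrix_apply, Matrix.map_apply, galMat, Matrix.of_apply]
  have h1 := Ideal.Quotient.eq.mpr (htriv g₁ (b h))
  have h2 := Ideal.Quotient.eq.mpr (htriv g₂ (b h))
  rw [h1, h2]

/-- **No basis indexed by `G`.** -/
theorem not_basis (hdim : 2 ≤ ringKrullDim A)
    (htriv : ∀ (g : G) (a : A), g • a - a ∈ maximalIdeal A)
    (hfree : ∀ Q : Ideal A, Q.IsPrime → Q ≠ maximalIdeal A →
      ∀ g h : G, g ≠ h → ∃ a : A, g • a - h • a ∉ Q)
    (hG : 2 ≤ Fintype.card G) (b : Module.Basis G (FixedPoints.subring A G) A) : False := by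
  let D := (galMat A G b).det
  have hDm : D ∈ maximalIdeal A := det_mem_maximalIdeal b htriv hG
  have hne : Ideal.span {D} ≠ ⊤ := by
    intro h
    have : Ideal.span {D} ≤ maximalIdeal A := (Ideal.span_singleton_le_iff_mem _).mpr hDm
    rw [h] at this
    exact (maximalIdeal.isMaximal A).ne_top (top_le_iff.mp this)
  obtain ⟨Q, hQ⟩ := Ideal.nonempty_minimalPrimes hne
  haveI := hQ.1.1
  have hht : Q.height ≤ 1 := Ideal.height_le_one_of_isPrincipal_of_mem_minimalPrimes _ Q hQ
  have hQm : Q ≠ maximalIdeal A := by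
    rintro rfl
    have h2 : (2 : WithBot ℕ∞) ≤ ((maximalIdeal A).height : WithBot ℕ∞) := by
      rw [IsLocalRing.maximalIdeal_height_eq_ringKrullDim]; exact hdim
    have h3' : ((2 : ℕ∞) : WithBot ℕ∞) ≤ ((maximalIdeal A).height : WithBot ℕ∞) := h2
    have h3 : (2 : ℕ∞) ≤ (maximalIdeal A).height := WithBot.coe_le_coe.mp h3'
    have := h3.trans hht
    norm_num at this
  have hDQ : D ∈ Q := hQ.1.2 (Ideal.subset_span rfl)
  exact det_notMem b Q (hfree Q hQ.1.1 hQm) hDQ

end Groth.Agent.Lib.Helper84.WQ10
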