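import Mathlib
import Groth.Agent.Lib.Helper84.WQ7
import Groth.Agent.Lib.Helper84.WQ10

/-!
# `A` is not flat over `A^G` for actions ramified precisely at the origin (helper84)
-/

set_option autoImplicit false

universe u w

namespace Groth.Agent.Lib.Helper84.WQ11

open IsLocalRing Groth.Agent.Lib.Helper84.WQ7

section

variable (A : Type u) [CommRing A] [IsLocalRing A]
  (G : Type w) [Group G] [MulSemiringAction G A]

theorem isUnit_fixed_iff (b : FixedPoints.subring A G) : IsUnit b ↔ IsUnit (b : A) := by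
  constructor
  · intro h
    exact h.map (FixedPoints.subring A G).subtype
  · intro h
    obtain ⟨a, ha⟩ := h.exists_right_inv
    have hinv : ∀ g : G, g • a = a := by
      intro g
      have h1 : (b : A) * g • a = 1 := by
        have := congrArg (fun x => g • x) ha
        simp only [smul_mul', smul_one, b.2 g] at this
        exact this
      calc g • a = (a * (b : A)) * g • a := by rw [mul_comm a, ha, one_mul]
        _ = a * ((b : A) * g • a) := by ring
        _ = a := by rw [h1, mul_one]
    exact IsUnit.of_mul_eq_one (⟨a, hinv⟩ : FixedPoints.subring A G) (Subtype.ext ha)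

instance isLocalRing_fixed : IsLocalRing (FixedPoints.subring A G) := by
  apply IsLocalRing.of_nonunits_add
  intro a b ha hb
  rw [mem_nonunits_iff, isUnit_fixed_iff] at ha hb ⊢
  have ha' : (a : A) ∈ maximalIdeal A := ha
  have hb' : (b : A) ∈ maximalIdeal A := hb
  exact (maximalIdeal A).add_mem ha' hb'

theorem smul_mem_maximalIdeal (g : G) {a : A} (ha : a ∈ maximalIdeal A) :
    g • a ∈ maximalIdeal A := by
  rw [mem_maximalIdeal, mem_nonunits_iff] at ha ⊢
  intro hu
  apply ha
  have := (MulSemiringAction.toRingHom G A g⁻¹).isUnit_map hu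
  simpa using this

/-- pairwise distinct characters from trivial inertia -/
theorem exists_sub_notMem (hram : ∀ P : Ideal A, P.IsPrime → P ≠ maximalIdeal A → P.inertia G = ⊥)
    (Q : Ideal A) (hQ : Q.IsPrime) (hQm : Q ≠ maximalIdeal A) (g h : G) (hgh : g ≠ h) :
    ∃ a : A, g • a - h • a ∉ Q := by
  let Q₁ : Ideal A := Q.comap (MulSemiringAction.toRingHom G A h)
  have hQ₁p : Q₁.IsPrime := Ideal.comap_isPrime _ Q
  have hQ₁m : Q₁ ≠ maximalIdeal A := by
    intro heq
    apply hQm
    refine ((maximalIdeal.isMaximal A).eq_of_le hQ.ne_top ?_).symm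
    intro a ha
    have h1 : h⁻¹ • a ∈ Q₁ := by rw [heq]; exact smul_mem_maximalIdeal A G _ ha
    have h2 : h • (h⁻¹ • a) ∈ Q := h1
    rwa [smul_inv_smul] at h2
  have h1 := hram Q₁ hQ₁p hQ₁m
  have h2 : h⁻¹ * g ∉ Q₁.inertia G := by
    rw [h1, Subgroup.mem_bot]
    intro h3
    apply hgh
    have : g = h * (h⁻¹ * g) := by group
    rw [this, h3, mul_one]
  have h3 : ¬ ∀ a : A, (h⁻¹ * g) • a - a ∈ Q₁ := h2
  push Not at h3
  obtain ⟨a, ha⟩ := h3
  refine ⟨a, fun hmem => ha ?_⟩
  change h • ((h⁻¹ * g) • a - a) ∈ Q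
  rw [smul_sub, smul_smul, mul_inv_cancel_left]
  exact hmem

end

variable (A : Type u) [CommRing A] [IsDomain A] [IsLocalRing A] [IsNoetherianRing A]
  (G : Type w) [Group G] [Finite G] [MulSemiringAction G A]

theorem not_flat (hdim : 2 ≤ ringKrullDim A)
    (htriv : ∀ (g : G) (a : A), g • a - a ∈ maximalIdeal A)
    (hram : ∀ P : Ideal A, P.IsPrime → P ≠ maximalIdeal A → P.inertia G = ⊥)
    (hG : 2 ≤ Nat.card G) [Module.Finite (FixedPoints.subring A G) A] :
    ¬ Module.Flat (FixedPoints.subring A G) A := by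
  classical
  intro hflat
  cases nonempty_fintype G
  let B := FixedPoints.subring A G
  haveI : Module.Free B A := Module.free_of_flat_of_isLocalRing
  have hbot : (⊥ : Ideal A) ≠ maximalIdeal A := by
    intro h
    have h1 : (maximalIdeal A).height = 0 := by
      rw [← h]
      exact Ideal.height_bot
    have h2 : (2 : WithBot ℕ∞) ≤ ((maximalIdeal A).height : WithBot ℕ∞) := by
      rw [IsLocalRing.maximalIdeal_height_eq_ringKrullDim]; exact hdim
    rw [h1] at h2
    have h3 : ((2 : ℕ∞) : WithBot ℕ∞) ≤ ((0 : ℕ∞) : WithBot ℕ∞) := h2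
    have := WithBot.coe_le_coe.mp h3
    norm_num at this
  haveI : FaithfulSMul G A := by
    refine ⟨fun {g₁ g₂} h => ?_⟩
    by_contra hne
    obtain ⟨a, ha⟩ := exists_sub_notMem A G hram ⊥ Ideal.isPrime_bot hbot g₁ g₂ hne
    apply ha
    rw [h a, sub_self]
    exact Ideal.zero_mem _
  haveI : IsGaloisGroup G B A := ⟨inferInstance, inferInstance, inferInstance⟩
  have hcard : Nat.card G = Module.finrank B A := IsGaloisGroup.card_eq_finrank' G B A
  let b₀ := Module.Free.chooseBasis B A
  have hc : Fintype.card (Module.Free.ChooseBasisIndex B A) = Fintype.card G := by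
    rw [← Module.finrank_eq_card_chooseBasisIndex, ← hcard, Nat.card_eq_fintype_card]
  let e : Module.Free.ChooseBasisIndex B A ≃ G := Fintype.equivOfCardEq hc
  let b : Module.Basis G B A := b₀.reindex e
  refine Groth.Agent.Lib.Helper84.WQ10.not_basis hdim htriv
    (fun Q hQ hQm g h hgh => exists_sub_notMem A G hram Q hQ hQm g h hgh) ?_ b
  rw [← Nat.card_eq_fintype_card]; exact hG

end Groth.Agent.Lib.Helper84.WQ11
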