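import Mathlib
import Groth.Agent.Lib.Helper84.WQ9
import Groth.Agent.Lib.Helper84.WQ11

/-!
# Normality and completeness of rings of invariants (helper84)
-/

set_option autoImplicit false

universe u w

namespace Groth.Agent.Lib.Helper84.WQ12

open IsLocalRing

section IC

variable (A : Type u) [CommRing A] [IsDomain A] [IsIntegrallyClosed A]
  (G : Type w) [Group G] [MulSemiringAction G A]

theorem isIntegrallyClosed_fixed : IsIntegrallyClosed (FixedPoints.subring A G) := by
  let B := FixedPoints.subring A G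
  let K := FractionRing B
  let L := FractionRing A
  rw [isIntegrallyClosed_iff K]
  intro x hx
  let g : B →+* L := (algebraMap A L).comp B.subtype
  have hg : Function.Injective g := (IsFractionRing.injective A L).comp Subtype.val_injective
  let ψ : K →+* L := IsFractionRing.lift hg
  have hψ : ∀ b : B, ψ (algebraMap B K b) = algebraMap A L (b : A) :=
    fun b => IsFractionRing.lift_algebraMap hg b
  obtain ⟨p, hp, hpx⟩ := hx
  have hint : IsIntegral A (ψ x) := by
    refine ⟨p.map B.subtype, hp.map _, ?_⟩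
    rw [Polynomial.eval₂_map]
    have h1 := congrArg ψ hpx
    rw [Polynomial.hom_eval₂, map_zero] at h1
    have h2 : ψ.comp (algebraMap B K) = (algebraMap A L).comp B.subtype :=
      RingHom.ext fun b => hψ b
    rw [h2] at h1
    exact h1
  obtain ⟨a, ha⟩ := IsIntegrallyClosed.algebraMap_eq_of_integral hint
  obtain ⟨b₁, b₂, hb₂, rfl⟩ := IsFractionRing.div_surjective (A := B) x
  have hb₂0 : b₂ ≠ 0 := nonZeroDivisors.ne_zero hb₂
  have hb₂A : (b₂ : A) ≠ 0 := fun h => hb₂0 (Subtype.ext h)
  have hab : a * (b₂ : A) = (b₁ : A) := by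
    apply IsFractionRing.injective A L
    rw [map_mul, ha, map_div₀, hψ, hψ]
    have : algebraMap A L (b₂ : A) ≠ 0 := by
      rwa [Ne, map_eq_zero_iff _ (IsFractionRing.injective A L)]
    exact (div_mul_cancel₀ _ this)
  have hinv : ∀ σ : G, σ • a = a := by
    intro σ
    have h1 : σ • a * (b₂ : A) = a * (b₂ : A) := by
      have := congrArg (fun z => σ • z) hab
      simp only [smul_mul', b₂.2 σ, b₁.2 σ] at this
      rw [this, hab]
    exact mul_right_cancel₀ hb₂A h1
  refine ⟨⟨a, hinv⟩, ?_⟩
  have hK : algebraMap B K b₂ ≠ 0 := by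
    rwa [Ne, map_eq_zero_iff _ (IsFractionRing.injective B K)]
  rw [eq_div_iff hK, ← map_mul]
  congr 1
  exact Subtype.ext hab

end IC

section Complete

variable (A : Type u) [CommRing A] [IsLocalRing A] [IsNoetherianRing A]
  [IsAdicComplete (maximalIdeal A) A]
  (G : Type w) [Group G] [MulSemiringAction G A]

/-- the maximal ideal of the invariants -/
abbrev J : Ideal (FixedPoints.subring A G) :=
  (maximalIdeal A).comap (FixedPoints.subring A G).subtype

theorem coe_mem_pow (n : ℕ) {x : FixedPoints.subring A G} (hx : x ∈ J A G ^ n) :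
    (x : A) ∈ maximalIdeal A ^ n := by
  have h1 : (J A G).map (FixedPoints.subring A G).subtype ≤ maximalIdeal A :=
    Ideal.map_comap_le
  have h2 := Ideal.mem_map_of_mem (FixedPoints.subring A G).subtype hx
  rw [Ideal.map_pow] at h2
  exact Ideal.pow_right_mono h1 n h2

theorem smul_mem_pow (g : G) (n : ℕ) {a : A} (ha : a ∈ maximalIdeal A ^ n) :
    g • a ∈ maximalIdeal A ^ n := by
  have h1 : (maximalIdeal A).map (MulSemiringAction.toRingHom G A g) ≤ maximalIdeal A := by
    rw [Ideal.map_le_iff_le_comap]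
    intro x hx
    exact Groth.Agent.Lib.Helper84.WQ11.smul_mem_maximalIdeal A G g hx
  have h2 := Ideal.mem_map_of_mem (MulSemiringAction.toRingHom G A g) ha
  rw [Ideal.map_pow] at h2
  exact Ideal.pow_right_mono h1 n h2

variable [IsNoetherianRing (FixedPoints.subring A G)] [Module.Finite (FixedPoints.subring A G) A]

/-- Artin–Rees: the `𝔪`-adic topology induces the `J`-adic topology on the invariants. -/
theorem exists_pow_comap_le (M : ℕ)
    (hM : maximalIdeal A ^ M ≤ (J A G).map (FixedPoints.subring A G).subtype) (n : ℕ) :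
    ∃ N : ℕ, ∀ b : FixedPoints.subring A G, (b : A) ∈ maximalIdeal A ^ N → b ∈ J A G ^ n := by
  let B := FixedPoints.subring A G
  let f : B →ₗ[B] A := Algebra.linearMap B A
  obtain ⟨k, hk⟩ := Ideal.exists_pow_inf_eq_pow_smul (J A G) (LinearMap.range f)
  refine ⟨M * (n + k), fun b hb => ?_⟩
  have h1 : (b : A) ∈ ((J A G ^ (n + k)).map (algebraMap B A)) := by
    have : maximalIdeal A ^ (M * (n + k)) ≤ (J A G ^ (n + k)).map (algebraMap B A) := by
      rw [pow_mul, Ideal.map_pow]
      exact Ideal.pow_right_mono hM _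
    exact this hb
  have h2 : (b : A) ∈ (J A G ^ (n + k) • ⊤ ⊓ LinearMap.range f : Submodule B A) := by
    refine ⟨?_, ⟨b, rfl⟩⟩
    rw [Ideal.smul_top_eq_map]
    exact h1
  rw [hk (n + k) (Nat.le_add_left k n), Nat.add_sub_cancel] at h2
  have h3 : (J A G ^ n • (J A G ^ k • ⊤ ⊓ LinearMap.range f) : Submodule B A)
      ≤ J A G ^ n • LinearMap.range f := Submodule.smul_mono le_rfl inf_le_right
  have h4 := h3 h2
  rw [LinearMap.range_eq_map, ← Submodule.map_smul''] at h4
  obtain ⟨b', hb', hbb'⟩ := h4
  have : b' = b := Subtype.val_injective hbb'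
  rw [← this]
  rwa [smul_eq_mul, Ideal.mul_top] at hb'

theorem isAdicComplete_fixed (M : ℕ)
    (hM : maximalIdeal A ^ M ≤ (J A G).map (FixedPoints.subring A G).subtype) :
    IsAdicComplete (J A G) (FixedPoints.subring A G) := by
  let B := FixedPoints.subring A G
  have hA : IsAdicComplete (maximalIdeal A) A := inferInstance
  haveI : IsHausdorff (J A G) B := by
    refine ⟨fun x hx => ?_⟩
    apply Subtype.ext
    apply IsHausdorff.haus hA.toIsHausdorff
    intro n
    have h1 := SModEq.sub_mem.mp (hx n)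
    rw [sub_zero, smul_eq_mul, Ideal.mul_top] at h1
    rw [SModEq.sub_mem, sub_zero, smul_eq_mul, Ideal.mul_top]
    exact coe_mem_pow A G n h1
  haveI : IsPrecomplete (J A G) B := by
    refine ⟨fun f hf => ?_⟩
    have hfA : ∀ {m n : ℕ}, m ≤ n →
        ((f m : B) : A) ≡ ((f n : B) : A) [SMOD (maximalIdeal A ^ m • ⊤ : Submodule A A)] := by
      intro m n hmn
      have h1 := SModEq.sub_mem.mp (hf hmn)
      rw [smul_eq_mul, Ideal.mul_top] at h1
      rw [SModEq.sub_mem, smul_eq_mul, Ideal.mul_top]
      exact coe_mem_pow A G m h1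
    obtain ⟨a, ha⟩ := IsPrecomplete.prec hA.toIsPrecomplete hfA
    have ha' : ∀ n, ((f n : B) : A) - a ∈ maximalIdeal A ^ n := by
      intro n
      have := SModEq.sub_mem.mp (ha n)
      rwa [smul_eq_mul, Ideal.mul_top] at this
    have hinv : ∀ g : G, g • a = a := by
      intro g
      rw [← sub_eq_zero]
      apply IsHausdorff.haus hA.toIsHausdorff
      intro n
      rw [SModEq.sub_mem, sub_zero, smul_eq_mul, Ideal.mul_top]
      have h1 := smul_mem_pow A G g n (ha' n)
      rw [smul_sub, (f n).2 g] at h1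
      have : g • a - a = (((f n : B) : A) - a) - (((f n : B) : A) - g • a) := by ring
      rw [this]
      exact sub_mem (ha' n) h1
    refine ⟨⟨a, hinv⟩, fun n => ?_⟩
    rw [SModEq.sub_mem, smul_eq_mul, Ideal.mul_top]
    obtain ⟨N, hN⟩ := exists_pow_comap_le A G M hM n
    let N' := max N n
    have h1 : f N' - ⟨a, hinv⟩ ∈ J A G ^ n := by
      apply hN
      exact Ideal.pow_le_pow_right (le_max_left N n) (ha' N')
    have h2 : f n - f N' ∈ J A G ^ n := by
      have := SModEq.sub_mem.mp (hf (le_max_right N n))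
      rwa [smul_eq_mul, Ideal.mul_top] at this
    have : f n - ⟨a, hinv⟩ = (f n - f N') + (f N' - ⟨a, hinv⟩) := by ring
    rw [this]
    exact add_mem h2 h1
  exact { toIsHausdorff := inferInstance, toIsPrecomplete := inferInstance }

end Complete

end Groth.Agent.Lib.Helper84.WQ12
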