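import Mathlib
import Groth.Agent.Lib.Helper84.WQ1
import Groth.Agent.S0558
import Groth.Agent.S8804
import Groth.Agent.Lib.Helper60.AdicProj

/-!
# The Artin–Schreier family, part 2: structure of `A = R[u]/(u_i^p - a_i^{p-1} u_i - x_i)`
-/

set_option autoImplicit false

universe u

namespace Groth.Agent.Lib.Helper84.WQ

open Groth.Agent.Lib.Helper84.MonicTower Groth.Agent.Lib.Helper14.MonicQuot
open Groth.Agent.Lib.Helper76.PSComplete IsLocalRing

section Struct

variable (p : ℕ) [hp : Fact p.Prime] {k : Type u} [Field k] {n : ℕ}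
  (a : Fin n → MvPowerSeries (Fin n) k)

/-- the linear coefficients `a_i^{p-1}` -/
noncomputable abbrev αf : Fin n → MvPowerSeries (Fin n) k := fun i => a i ^ (p - 1)

/-- the constant terms `x_i` -/
noncomputable abbrev βf : Fin n → MvPowerSeries (Fin n) k := fun i => MvPowerSeries.X i

/-- the ring `A` -/
abbrev AQ : Type u := MvPolynomial (Fin n) (MvPowerSeries (Fin n) k) ⧸ IAS p (αf p a) (βf (k := k))

/-- the ideal `(u_1, …, u_n)` of `A` -/
noncomputable abbrev uIdeal : Ideal (AQ p a) :=
  Ideal.map (Ideal.Quotient.mk (IAS p (αf p a) (βf (k := k))))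
    (Ideal.span (Set.range (MvPolynomial.X : Fin n → MvPolynomial (Fin n) (MvPowerSeries (Fin n) k))))

variable (ham : ∀ i, MvPowerSeries.constantCoeff (a i) = 0)

theorem two_le_p : 2 ≤ p := hp.out.two_le

include ham in
theorem a_mem (i : Fin n) : a i ∈ maximalIdeal (MvPowerSeries (Fin n) k) := by
  rw [mem_maximalIdeal, mem_nonunits_iff, MvPowerSeries.isUnit_iff_constantCoeff, ham i]
  exact not_isUnit_zero

theorem X_mem (i : Fin n) :
    (MvPowerSeries.X i : MvPowerSeries (Fin n) k) ∈ maximalIdeal (MvPowerSeries (Fin n) k) := by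
  rw [maximalIdeal_eq_varIdeal]
  exact X_mem_varIdeal i

include ham in
theorem cAS_mem (i : Fin n) (j : ℕ) :
    cAS (αf p a) (βf (k := k)) i j ∈ maximalIdeal (MvPowerSeries (Fin n) k) := by
  unfold cAS
  split_ifs
  · exact neg_mem (X_mem i)
  · apply neg_mem
    have h1 : p - 1 ≠ 0 := by have := two_le_p p; omega
    exact Ideal.pow_mem_of_mem _ (a_mem a ham i) _ (Nat.pos_of_ne_zero h1)
  · exact zero_mem _

include ham in
theorem cAS_li : LinearIndependent (ResidueField (MvPowerSeries (Fin n) k))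
    (fun i => (maximalIdeal (MvPowerSeries (Fin n) k)).toCotangent
      ⟨cAS (αf p a) (βf (k := k)) i 0, cAS_mem p a ham i 0⟩) := by
  have hreg : IsRegularLocalRing (MvPowerSeries (Fin n) k) := inferInstance
  have hfr : Module.finrank (ResidueField (MvPowerSeries (Fin n) k))
      (CotangentSpace (MvPowerSeries (Fin n) k)) = n := by
    have h1 := (IsRegularLocalRing.iff_finrank_cotangentSpace _).1 hreg
    rw [ringKrullDim_eq_card] at h1
    exact_mod_cast h1
  apply linearIndependent_of_top_le_span_of_card_eq_finrank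
  · rintro v -
    obtain ⟨⟨y, hy⟩, rfl⟩ := Ideal.toCotangent_surjective _ v
    have hy' : y ∈ Ideal.span (Set.range
        (MvPowerSeries.X : Fin n → MvPowerSeries (Fin n) k)) := by
      rw [maximalIdeal_eq_varIdeal] at hy
      exact hy
    obtain ⟨c, hc⟩ := (Ideal.mem_span_range_iff_exists_fun).1 hy'
    have h3 : (⟨y, hy⟩ : maximalIdeal (MvPowerSeries (Fin n) k)) =
        ∑ i, (- c i) • (⟨cAS (αf p a) (βf (k := k)) i 0, cAS_mem p a ham i 0⟩ :
          maximalIdeal (MvPowerSeries (Fin n) k)) := by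
      apply Subtype.ext
      rw [Submodule.coe_sum]
      simp [cAS, ← hc]
    have h2 : (maximalIdeal (MvPowerSeries (Fin n) k)).toCotangent ⟨y, hy⟩ =
        ∑ i, (- c i) • (maximalIdeal (MvPowerSeries (Fin n) k)).toCotangent
          ⟨cAS (αf p a) (βf (k := k)) i 0, cAS_mem p a ham i 0⟩ := by
      rw [h3, map_sum]
      simp_rw [map_smul]
    rw [h2]
    apply Submodule.sum_mem
    intro i _
    rw [← IsScalarTower.algebraMap_smul (ResidueField (MvPowerSeries (Fin n) k)) (- c i)]
    exact Submodule.smul_mem _ _ (Submodule.subset_span ⟨i, rfl⟩)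
  · rw [hfr, Fintype.card_fin]

theorem one_le_d : ∀ _ : Fin n, 1 ≤ p := fun _ => (two_le_p p).trans' (by norm_num)

include ham in
theorem isLocalRing_AQ : IsLocalRing (AQ p a) := by
  unfold AQ
  rw [IAS_eq_F p _ _ (two_le_p p)]
  exact isLocalRing_Q' (one_le_d p) (cAS_mem p a ham)

include ham in
theorem isRegularLocalRing_AQ : IsRegularLocalRing (AQ p a) := by
  have := isLocalRing_AQ p a ham
  revert this
  unfold AQ
  rw [IAS_eq_F p _ _ (two_le_p p)]
  intro this
  exact isRegularLocalRing_of_linearIndependent (one_le_d p) (cAS_mem p a ham) (cAS_li p a ham)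

include ham in
theorem isMaximal_aux (J : Ideal (MvPolynomial (Fin n) (MvPowerSeries (Fin n) k)))
    (hJ : J = Ideal.span (Set.range (F (fun _ : Fin n => p) (cAS (αf p a) (βf (k := k)))))) :
    (Ideal.map (Ideal.Quotient.mk J) (Ideal.span (Set.range
      (MvPolynomial.X : Fin n → MvPolynomial (Fin n) (MvPowerSeries (Fin n) k))))).IsMaximal := by
  subst hJ
  have hd := one_le_d (n := n) p
  have hc := cAS_mem p a ham
  have hmax := ker_ev0_isMaximal hd hc
  have hle : Ideal.map (Ideal.Quotient.mk (Ideal.span (Set.range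
      (F (fun _ : Fin n => p) (cAS (αf p a) (βf (k := k)))))))
      (Ideal.span (Set.range (MvPolynomial.X : Fin n → MvPolynomial (Fin n) (MvPowerSeries (Fin n) k))))
      = RingHom.ker (ev0 (maximalIdeal (MvPowerSeries (Fin n) k)) hd (fun i => hc i 0)) := by
    rw [Ideal.map_span, ← Set.range_comp]
    apply le_antisymm
    · exact span_mk_X_le_of_isMaximal hd hc _ (hM := hmax)
    · intro q hq
      obtain ⟨P, rfl⟩ := Ideal.Quotient.mk_surjective q
      rw [RingHom.mem_ker, ev0_mk, Ideal.Quotient.eq_zero_iff_mem] at hq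
      have h1 := mk_sub_algebraMap_mem (d := fun _ : Fin n => p)
        (c := cAS (αf p a) (βf (k := k))) P
      have h2 : algebraMap (MvPowerSeries (Fin n) k) (Q (fun _ : Fin n => p)
          (cAS (αf p a) (βf (k := k)))) (MvPolynomial.constantCoeff P) ∈
          Ideal.span (Set.range fun i => Ideal.Quotient.mk (Ideal.span (Set.range
            (F (fun _ : Fin n => p) (cAS (αf p a) (βf (k := k)))))) (MvPolynomial.X i)) := by
        rw [maximalIdeal_eq_varIdeal] at hq
        refine Submodule.span_induction (p := fun y _ => algebraMap (MvPowerSeries (Fin n) k)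
          (Q (fun _ : Fin n => p) (cAS (αf p a) (βf (k := k)))) y ∈ _) ?_ ?_ ?_ ?_ hq
        · rintro _ ⟨i, rfl⟩
          have h3 := algebraMap_c0_mem (d := fun _ : Fin n => p)
            (c := cAS (αf p a) (βf (k := k))) hd i
          have h4 : cAS (αf p a) (βf (k := k)) i 0 = - MvPowerSeries.X i := by simp [cAS]
          rw [h4, map_neg] at h3
          exact (neg_mem_iff).1 h3
        · rw [map_zero]; exact zero_mem _
        · intro x y _ _ hx hy; rw [map_add]; exact add_mem hx hy
        · intro r x _ hx; rw [smul_eq_mul, map_mul]; exact Ideal.mul_mem_left _ _ hx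
      have := add_mem h1 h2
      rwa [sub_add_cancel] at this
  rw [hle]
  exact hmax

include ham in
theorem uIdeal_isMaximal : (uIdeal p a).IsMaximal :=
  isMaximal_aux p a ham _ (IAS_eq_F p _ _ (two_le_p p))

theorem free_aux (J : Ideal (MvPolynomial (Fin n) (MvPowerSeries (Fin n) k)))
    (hJ : J = mIdeal (gAS p (αf p a) (βf (k := k)))) :
    Module.Free (MvPowerSeries (Fin n) k) (MvPolynomial (Fin n) (MvPowerSeries (Fin n) k) ⧸ J) ∧
    Module.Finite (MvPowerSeries (Fin n) k) (MvPolynomial (Fin n) (MvPowerSeries (Fin n) k) ⧸ J) ∧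
    Module.finrank (MvPowerSeries (Fin n) k)
      (MvPolynomial (Fin n) (MvPowerSeries (Fin n) k) ⧸ J) = p ^ n := by
  subst hJ
  obtain ⟨h1, h2, h3⟩ := free_finrank n (MvPowerSeries (Fin n) k) (gAS p (αf p a) (βf (k := k)))
    (gAS_monic p _ _ (two_le_p p)) (fun i => by
      rw [gAS_natDegree p _ _ (two_le_p p)]; exact lt_of_lt_of_le (by norm_num) (two_le_p p))
  refine ⟨h1, h2, ?_⟩
  rw [h3]
  simp [gAS_natDegree p _ _ (two_le_p p)]

theorem free_AQ : Module.Free (MvPowerSeries (Fin n) k) (AQ p a) :=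
  (free_aux p a _ (IAS_eq_mIdeal p _ _)).1

theorem finite_AQ : Module.Finite (MvPowerSeries (Fin n) k) (AQ p a) :=
  (free_aux p a _ (IAS_eq_mIdeal p _ _)).2.1

theorem finrank_AQ : Module.finrank (MvPowerSeries (Fin n) k) (AQ p a) = p ^ n :=
  (free_aux p a _ (IAS_eq_mIdeal p _ _)).2.2

include ham in
theorem isDomain_AQ : IsDomain (AQ p a) :=
  have := isRegularLocalRing_AQ p a ham
  Groth.Agent.S0558.result (AQ p a)

theorem algebraMap_AQ_injective :
    Function.Injective (algebraMap (MvPowerSeries (Fin n) k) (AQ p a)) := by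
  have := free_AQ p a
  have hnt : Nontrivial (AQ p a) := by
    have hpos : 0 < Module.finrank (MvPowerSeries (Fin n) k) (AQ p a) := by
      rw [finrank_AQ]; exact pow_pos (lt_of_lt_of_le (by norm_num) (two_le_p p)) n
    exact Module.nontrivial_of_finrank_pos (R := MvPowerSeries (Fin n) k) hpos
  exact FaithfulSMul.algebraMap_injective _ _

/-- the classes `u_i` -/
noncomputable abbrev uu (i : Fin n) : AQ p a :=
  Ideal.Quotient.mk (IAS p (αf p a) (βf (k := k))) (MvPolynomial.X i)

theorem uu_rel (i : Fin n) : uu p a i ^ p =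
    algebraMap (MvPowerSeries (Fin n) k) (AQ p a) (a i ^ (p - 1)) * uu p a i +
      algebraMap (MvPowerSeries (Fin n) k) (AQ p a) (MvPowerSeries.X i) := by
  have h : Ideal.Quotient.mk (IAS p (αf p a) (βf (k := k)))
      (MvPolynomial.X i ^ p - MvPolynomial.C (αf p a i) * MvPolynomial.X i -
        MvPolynomial.C (βf (k := k) i)) = 0 :=
    Ideal.Quotient.eq_zero_iff_mem.2 (Ideal.subset_span ⟨i, rfl⟩)
  rw [map_sub, map_sub, map_mul, map_pow] at h
  have h1 : algebraMap (MvPowerSeries (Fin n) k) (AQ p a) (a i ^ (p - 1)) =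
      Ideal.Quotient.mk (IAS p (αf p a) (βf (k := k))) (MvPolynomial.C (αf p a i)) := rfl
  have h2 : algebraMap (MvPowerSeries (Fin n) k) (AQ p a) (MvPowerSeries.X i) =
      Ideal.Quotient.mk (IAS p (αf p a) (βf (k := k))) (MvPolynomial.C (βf (k := k) i)) := rfl
  rw [h1, h2]
  linear_combination h

theorem uIdeal_eq_span : uIdeal p a = Ideal.span (Set.range (uu p a)) := by
  unfold uIdeal
  rw [Ideal.map_span, ← Set.range_comp]
  rfl

include ham in
theorem isAdicComplete_AQ : IsAdicComplete (uIdeal p a) (AQ p a) := by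
  have hfree := free_AQ p a
  have hfin := finite_AQ p a
  have h1 : IsAdicComplete (Ideal.span (Set.range
      (MvPowerSeries.X : Fin n → MvPowerSeries (Fin n) k))) (AQ p a) :=
    Groth.Agent.Lib.Helper60.AdicProj.isAdicComplete_of_finite_projective _
  have h2 : IsAdicComplete ((Ideal.span (Set.range
      (MvPowerSeries.X : Fin n → MvPowerSeries (Fin n) k))).map
      (algebraMap (MvPowerSeries (Fin n) k) (AQ p a))) (AQ p a) :=
    (IsAdicComplete.map_algebraMap_iff _ _).2 h1
  have hX : ∀ i, algebraMap (MvPowerSeries (Fin n) k) (AQ p a) (MvPowerSeries.X i) ∈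
      uIdeal p a := by
    intro i
    have h3 : algebraMap (MvPowerSeries (Fin n) k) (AQ p a) (MvPowerSeries.X i) =
        uu p a i ^ p - algebraMap (MvPowerSeries (Fin n) k) (AQ p a) (a i ^ (p - 1)) * uu p a i := by
      rw [uu_rel]; ring
    rw [h3, uIdeal_eq_span]
    have hu : uu p a i ∈ Ideal.span (Set.range (uu p a)) := Ideal.subset_span ⟨i, rfl⟩
    exact sub_mem (Ideal.pow_mem_of_mem _ hu _ (lt_of_lt_of_le (by norm_num) (two_le_p p)))
      (Ideal.mul_mem_left _ _ hu)
  have hle : (Ideal.span (Set.range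
      (MvPowerSeries.X : Fin n → MvPowerSeries (Fin n) k))).map
      (algebraMap (MvPowerSeries (Fin n) k) (AQ p a)) ≤ uIdeal p a := by
    rw [Ideal.map_span, Ideal.span_le]
    rintro _ ⟨_, ⟨i, rfl⟩, rfl⟩
    exact hX i
  have hrad : uIdeal p a ≤ ((Ideal.span (Set.range
      (MvPowerSeries.X : Fin n → MvPowerSeries (Fin n) k))).map
      (algebraMap (MvPowerSeries (Fin n) k) (AQ p a))).radical := by
    rw [uIdeal_eq_span, Ideal.span_le]
    rintro _ ⟨i, rfl⟩
    refine ⟨p, ?_⟩
    rw [uu_rel]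
    have ha : a i ∈ Ideal.span (Set.range
        (MvPowerSeries.X : Fin n → MvPowerSeries (Fin n) k)) := by
      have := a_mem a ham i
      rwa [maximalIdeal_eq_varIdeal] at this
    have h1 : p - 1 ≠ 0 := by have := two_le_p p; omega
    refine add_mem (Ideal.mul_mem_right _ _ (Ideal.mem_map_of_mem _
      (Ideal.pow_mem_of_mem _ ha _ (Nat.pos_of_ne_zero h1)))) (Ideal.mem_map_of_mem _ ?_)
    exact Ideal.subset_span ⟨i, rfl⟩
  have hfg : (uIdeal p a).FG := by
    rw [uIdeal_eq_span]
    exact ⟨(Set.finite_range (uu p a)).toFinset, by simp⟩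
  obtain ⟨N, hN⟩ := Ideal.exists_pow_le_of_le_radical_of_fg hrad hfg
  exact Groth.Agent.S8804.isAdicComplete_of_le_of_pow_le _ _ _ hle N hN

end Struct

end Groth.Agent.Lib.Helper84.WQ
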