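import Mathlib
import Groth.Agent.Lib.Helper84.WQ2
import Groth.Agent.S9829

/-!
# The Artin–Schreier family, part 3: the automorphisms `u_i ↦ u_i + c_i a_i`
-/

set_option autoImplicit false

universe u

namespace Groth.Agent.Lib.Helper84.WQ

open Groth.Agent.Lib.Helper84.MonicTower IsLocalRing

section Aut

variable (p : ℕ) [hp : Fact p.Prime] {k : Type u} [Field k] [CharP k p] {n : ℕ}
  (a : Fin n → MvPowerSeries (Fin n) k)

theorem isDomain_R : IsDomain (MvPowerSeries (Fin n) k) :=
  Groth.Agent.S0558.result _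

theorem charP_R : CharP (MvPowerSeries (Fin n) k) p :=
  charP_of_injective_algebraMap (algebraMap k (MvPowerSeries (Fin n) k)).injective p

theorem charP_AQ : CharP (AQ p a) p := by
  have := charP_R p (k := k) (n := n)
  exact charP_of_injective_algebraMap (algebraMap_AQ_injective p a) p

/-- the embedding `𝔽_p → R` -/
noncomputable def cz : ZMod p →+* MvPowerSeries (Fin n) k :=
  (algebraMap k (MvPowerSeries (Fin n) k)).comp (ZMod.castHom (dvd_refl p) k)

theorem cz_pow (c : ZMod p) : (cz p c : MvPowerSeries (Fin n) k) ^ p = cz p c := by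
  rw [← map_pow, ZMod.pow_card]

theorem cz_injective : Function.Injective (cz p : ZMod p →+* MvPowerSeries (Fin n) k) :=
  (cz p).injective

/-- the shifted generators `u_i + c_i a_i` -/
noncomputable def shift (v : Fin n → ZMod p) (i : Fin n) : AQ p a :=
  uu p a i + algebraMap (MvPowerSeries (Fin n) k) (AQ p a) (cz p (v i) * a i)

theorem pred_succ : p - 1 + 1 = p := by have := two_le_p p; omega

theorem pow_pred_mul {M : Type*} [Monoid M] (x : M) : x ^ (p - 1) * x = x ^ p := by
  rw [← pow_succ, pred_succ]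

theorem shift_rel (v : Fin n → ZMod p) (i : Fin n) : shift p a v i ^ p =
    algebraMap (MvPowerSeries (Fin n) k) (AQ p a) (a i ^ (p - 1)) * shift p a v i +
      algebraMap (MvPowerSeries (Fin n) k) (AQ p a) (MvPowerSeries.X i) := by
  have := charP_AQ p a
  unfold shift
  rw [add_pow_char, uu_rel, ← map_pow, mul_pow, cz_pow, mul_add, ← map_mul]
  have h : a i ^ (p - 1) * (cz p (v i) * a i) = cz p (v i) * a i ^ p := by
    rw [← pow_pred_mul p (a i)]
    ring
  rw [h]
  ring

/-- the endomorphism `u_i ↦ u_i + c_i a_i` -/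
noncomputable def σhom (v : Fin n → ZMod p) : AQ p a →ₐ[MvPowerSeries (Fin n) k] AQ p a :=
  Ideal.Quotient.liftₐ (IAS p (αf p a) (βf (k := k))) (MvPolynomial.aeval (shift p a v)) (by
    intro x hx
    have hle : IAS p (αf p a) (βf (k := k)) ≤
        RingHom.ker (MvPolynomial.aeval (R := MvPowerSeries (Fin n) k) (shift p a v)) := by
      refine Ideal.span_le.2 ?_
      rintro _ ⟨i, rfl⟩
      beta_reduce
      refine (RingHom.mem_ker).2 ?_
      simp only [map_sub, map_mul, map_pow, MvPolynomial.aeval_X, MvPolynomial.aeval_C]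
      rw [shift_rel, map_pow]
      ring
    exact RingHom.mem_ker.1 (hle hx))

theorem σhom_uu (v : Fin n → ZMod p) (i : Fin n) : σhom p a v (uu p a i) = shift p a v i := by
  unfold σhom uu
  rw [Ideal.Quotient.liftₐ_apply]
  refine (Ideal.Quotient.lift_mk _ _ _).trans ?_
  simp

theorem algHom_ext_AQ {f g : AQ p a →ₐ[MvPowerSeries (Fin n) k] AQ p a}
    (h : ∀ i, f (uu p a i) = g (uu p a i)) : f = g := by
  apply Ideal.Quotient.algHom_ext
  apply MvPolynomial.algHom_ext
  intro i
  exact h i

theorem σhom_comp (v w : Fin n → ZMod p) :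
    (σhom p a v).comp (σhom p a w) = σhom p a (v + w) := by
  apply algHom_ext_AQ
  intro i
  rw [AlgHom.comp_apply, σhom_uu, σhom_uu]
  unfold shift
  rw [map_add, AlgHom.commutes, σhom_uu]
  unfold shift
  rw [Pi.add_apply, map_add, add_mul, map_add]
  ring

theorem σhom_zero : σhom p a 0 = AlgHom.id _ _ := by
  apply algHom_ext_AQ
  intro i
  rw [σhom_uu]
  unfold shift
  simp

/-- the automorphism `u_i ↦ u_i + c_i a_i` -/
noncomputable def σ (v : Fin n → ZMod p) : AQ p a ≃ₐ[MvPowerSeries (Fin n) k] AQ p a :=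
  AlgEquiv.ofAlgHom (σhom p a v) (σhom p a (-v))
    (by rw [σhom_comp, add_neg_cancel, σhom_zero])
    (by rw [σhom_comp, neg_add_cancel, σhom_zero])

theorem σ_apply (v : Fin n → ZMod p) (x : AQ p a) : σ p a v x = σhom p a v x := rfl

theorem σ_uu (v : Fin n → ZMod p) (i : Fin n) : σ p a v (uu p a i) = shift p a v i :=
  σhom_uu p a v i

theorem σ_mul (v w : Fin n → ZMod p) : σ p a v * σ p a w = σ p a (v + w) := by
  ext x
  rw [AlgEquiv.mul_apply, σ_apply, σ_apply, σ_apply, ← σhom_comp]
  rfl

theorem σ_zero : σ p a 0 = 1 := by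
  ext x
  rw [σ_apply, σhom_zero]
  rfl

theorem σ_pow (v : Fin n → ZMod p) (m : ℕ) : σ p a v ^ m = σ p a (m • v) := by
  induction m with
  | zero => rw [pow_zero, zero_smul, σ_zero]
  | succ m ih => rw [pow_succ, ih, σ_mul, succ_nsmul]

theorem σ_pow_p (v : Fin n → ZMod p) : σ p a v ^ p = 1 := by
  rw [σ_pow]
  have : p • v = 0 := by
    ext i
    rw [Pi.smul_apply, Pi.zero_apply, nsmul_eq_mul, CharP.cast_eq_zero, zero_mul]
  rw [this, σ_zero]

theorem σ_comm (v w : Fin n → ZMod p) : σ p a v * σ p a w = σ p a w * σ p a v := by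
  rw [σ_mul, σ_mul, add_comm]

variable (ha0 : ∀ i, a i ≠ 0)

include ha0 in
theorem σ_injective : Function.Injective (σ p a) := by
  intro v w h
  have := isDomain_R (k := k) (n := n)
  funext i
  have h1 : σ p a v (uu p a i) = σ p a w (uu p a i) := by rw [h]
  rw [σ_uu, σ_uu] at h1
  unfold shift at h1
  have h2 := algebraMap_AQ_injective p a (add_left_cancel h1)
  exact cz_injective p (mul_right_cancel₀ (ha0 i) h2)

variable (ham : ∀ i, MvPowerSeries.constantCoeff (a i) = 0)

include ha0 ham in
theorem exists_eq_shift (τ : AQ p a ≃ₐ[MvPowerSeries (Fin n) k] AQ p a) (i : Fin n) :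
    ∃ c : ZMod p, τ (uu p a i) = uu p a i +
      algebraMap (MvPowerSeries (Fin n) k) (AQ p a) (cz p c * a i) := by
  classical
  have := isDomain_R (k := k) (n := n)
  have := isDomain_AQ p a ham
  have := charP_AQ p a
  set z := τ (uu p a i) - uu p a i with hz
  have hzp : z ^ p = algebraMap (MvPowerSeries (Fin n) k) (AQ p a) (a i ^ (p - 1)) * z := by
    rw [hz, sub_pow_char, ← map_pow, uu_rel, map_add, map_mul, AlgEquiv.commutes,
      AlgEquiv.commutes]
    ring
  -- the polynomial `T^p - a^{p-1} T`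
  set P : Polynomial (AQ p a) := Polynomial.X ^ p -
    Polynomial.C (algebraMap (MvPowerSeries (Fin n) k) (AQ p a) (a i ^ (p - 1))) * Polynomial.X
    with hP
  have hdeg : P.natDegree = p := by
    rw [hP, Polynomial.natDegree_sub_eq_left_of_natDegree_lt, Polynomial.natDegree_X_pow]
    rw [Polynomial.natDegree_X_pow]
    refine lt_of_le_of_lt (Polynomial.natDegree_C_mul_le _ _) ?_
    rw [Polynomial.natDegree_X]
    exact two_le_p p
  have hP0 : P ≠ 0 := by
    intro h0
    rw [h0, Polynomial.natDegree_zero] at hdeg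
    have := two_le_p p
    omega
  have hroot : ∀ y : AQ p a, y ∈ P.roots ↔
      y ^ p = algebraMap (MvPowerSeries (Fin n) k) (AQ p a) (a i ^ (p - 1)) * y := by
    intro y
    rw [Polynomial.mem_roots hP0, Polynomial.IsRoot.def, hP]
    simp only [Polynomial.eval_sub, Polynomial.eval_pow, Polynomial.eval_X, Polynomial.eval_mul,
      Polynomial.eval_C]
    rw [sub_eq_zero]
  set S : Finset (AQ p a) := Finset.univ.image
    (fun c : ZMod p => algebraMap (MvPowerSeries (Fin n) k) (AQ p a) (cz p c * a i)) with hS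
  have hScard : S.card = p := by
    rw [hS, Finset.card_image_of_injective, Finset.card_univ, ZMod.card]
    intro c d hcd
    exact cz_injective p (mul_right_cancel₀ (ha0 i) (algebraMap_AQ_injective p a hcd))
  have hSsub : S ⊆ P.roots.toFinset := by
    intro y hy
    rw [hS, Finset.mem_image] at hy
    obtain ⟨c, -, rfl⟩ := hy
    rw [Multiset.mem_toFinset, hroot, ← map_pow, ← map_mul, mul_pow, cz_pow]
    congr 1
    rw [← pow_pred_mul p (a i)]
    ring
  have hle : P.roots.toFinset.card ≤ S.card := by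
    rw [hScard]
    exact (Multiset.toFinset_card_le _).trans ((Polynomial.card_roots' P).trans hdeg.le)
  have hEq := Finset.eq_of_subset_of_card_le hSsub hle
  have hzmem : z ∈ S := by
    rw [hEq, Multiset.mem_toFinset, hroot]
    exact hzp
  rw [hS, Finset.mem_image] at hzmem
  obtain ⟨c, -, hc⟩ := hzmem
  refine ⟨c, ?_⟩
  rw [hc, hz]
  ring

include ha0 ham in
theorem σ_surjective : Function.Surjective (σ p a) := by
  intro τ
  choose v hv using exists_eq_shift p a ha0 ham τ
  refine ⟨v, ?_⟩
  have h : (σ p a v : AQ p a →ₐ[MvPowerSeries (Fin n) k] AQ p a) =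
      (τ : AQ p a →ₐ[MvPowerSeries (Fin n) k] AQ p a) := by
    apply algHom_ext_AQ
    intro i
    rw [AlgEquiv.coe_toAlgHom, AlgEquiv.coe_toAlgHom, σ_uu, hv i]
    rfl
  ext x
  exact DFunLike.congr_fun h x

include ha0 ham in
theorem card_aut : Nat.card (AQ p a ≃ₐ[MvPowerSeries (Fin n) k] AQ p a) = p ^ n := by
  rw [← Nat.card_congr (Equiv.ofBijective (σ p a) ⟨σ_injective p a ha0, σ_surjective p a ha0 ham⟩)]
  rw [Nat.card_fun, Nat.card_zmod, Nat.card_eq_fintype_card, Fintype.card_fin]

end Aut

section Fixed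

variable (p : ℕ) [hp : Fact p.Prime] {k : Type u} [Field k] [CharP k p] {n : ℕ}
  (a : Fin n → MvPowerSeries (Fin n) k) (ha0 : ∀ i, a i ≠ 0)
  (ham : ∀ i, MvPowerSeries.constantCoeff (a i) = 0)

include ha0 ham in
theorem fixed_mem_range (b : AQ p a)
    (hb : ∀ τ : AQ p a ≃ₐ[MvPowerSeries (Fin n) k] AQ p a, τ b = b) :
    b ∈ Set.range (algebraMap (MvPowerSeries (Fin n) k) (AQ p a)) := by
  have hRdom := isDomain_R (k := k) (n := n)
  have hAdom := isDomain_AQ p a ham
  have hfree := free_AQ p a
  have hfin := finite_AQ p a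
  have hic : IsIntegrallyClosed (MvPowerSeries (Fin n) k) := Groth.Agent.S9829.result _
  have hinj : Function.Injective (algebraMap (MvPowerSeries (Fin n) k)
      (FractionRing (AQ p a))) := by
    rw [IsScalarTower.algebraMap_eq (MvPowerSeries (Fin n) k) (AQ p a) (FractionRing (AQ p a))]
    exact (IsFractionRing.injective (AQ p a) (FractionRing (AQ p a))).comp
      (algebraMap_AQ_injective p a)
  haveI : FaithfulSMul (MvPowerSeries (Fin n) k) (FractionRing (AQ p a)) :=
    (faithfulSMul_iff_algebraMap_injective _ _).2 hinj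
  letI : Algebra (FractionRing (MvPowerSeries (Fin n) k)) (FractionRing (AQ p a)) :=
    FractionRing.liftAlgebra (MvPowerSeries (Fin n) k) (FractionRing (AQ p a))
  haveI : IsScalarTower (MvPowerSeries (Fin n) k) (FractionRing (MvPowerSeries (Fin n) k))
      (FractionRing (AQ p a)) :=
    FractionRing.isScalarTower_liftAlgebra (MvPowerSeries (Fin n) k) (FractionRing (AQ p a))
  have hfr : Module.finrank (FractionRing (MvPowerSeries (Fin n) k)) (FractionRing (AQ p a))
      = p ^ n := by
    rw [IsFractionRing.finrank_eq (MvPowerSeries (Fin n) k)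
      (FractionRing (MvPowerSeries (Fin n) k)) (AQ p a) (FractionRing (AQ p a)), finrank_AQ]
  haveI : FiniteDimensional (FractionRing (MvPowerSeries (Fin n) k)) (FractionRing (AQ p a)) :=
    Module.finite_of_finrank_pos (by
      rw [hfr]; exact pow_pos (lt_of_lt_of_le (by norm_num) (two_le_p p)) n)
  have hφinj := IsFractionRing.fieldEquivOfAlgEquivHom_injective (MvPowerSeries (Fin n) k)
    (AQ p a) (FractionRing (MvPowerSeries (Fin n) k)) (FractionRing (AQ p a))
  have hcardG : Nat.card (AQ p a ≃ₐ[MvPowerSeries (Fin n) k] AQ p a) = p ^ n :=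
    card_aut p a ha0 ham
  have hle : Nat.card (FractionRing (AQ p a) ≃ₐ[FractionRing (MvPowerSeries (Fin n) k)]
      FractionRing (AQ p a)) ≤ p ^ n := by
    rw [← hfr, Nat.card_eq_fintype_card]
    exact AlgEquiv.card_le
  have hφbij : Function.Bijective (IsFractionRing.fieldEquivOfAlgEquivHom
      (A := MvPowerSeries (Fin n) k) (B := AQ p a)
      (FractionRing (MvPowerSeries (Fin n) k)) (FractionRing (AQ p a))) := by
    rw [Nat.bijective_iff_injective_and_card]
    exact ⟨hφinj, le_antisymm (Nat.card_le_card_of_injective _ hφinj) (by rw [hcardG]; exact hle)⟩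
  have hcardL : Nat.card (FractionRing (AQ p a) ≃ₐ[FractionRing (MvPowerSeries (Fin n) k)]
      FractionRing (AQ p a)) = Module.finrank (FractionRing (MvPowerSeries (Fin n) k))
        (FractionRing (AQ p a)) := by
    rw [hfr, ← hcardG]
    exact (Nat.card_congr (Equiv.ofBijective _ hφbij)).symm
  have hGal : IsGalois (FractionRing (MvPowerSeries (Fin n) k)) (FractionRing (AQ p a)) :=
    IsGalois.of_card_aut_eq_finrank _ _ hcardL
  have hmem : algebraMap (AQ p a) (FractionRing (AQ p a)) b ∈ Set.range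
      (algebraMap (FractionRing (MvPowerSeries (Fin n) k)) (FractionRing (AQ p a))) := by
    rw [IsGalois.mem_range_algebraMap_iff_fixed]
    intro f
    obtain ⟨τ, rfl⟩ := hφbij.2 f
    rw [IsFractionRing.fieldEquivOfAlgEquivHom_apply,
      IsFractionRing.fieldEquivOfAlgEquiv_algebraMap, hb τ]
  obtain ⟨r, hr⟩ := hmem
  have hint : IsIntegral (MvPowerSeries (Fin n) k) r := by
    have h1 : IsIntegral (MvPowerSeries (Fin n) k)
        (algebraMap (AQ p a) (FractionRing (AQ p a)) b) :=
      (Algebra.IsIntegral.isIntegral b).algebraMap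
    rw [← hr] at h1
    exact (isIntegral_algebraMap_iff (algebraMap (FractionRing (MvPowerSeries (Fin n) k))
      (FractionRing (AQ p a))).injective).1 h1
  obtain ⟨r0, rfl⟩ := IsIntegrallyClosed.isIntegral_iff.1 hint
  refine ⟨r0, ?_⟩
  apply IsFractionRing.injective (AQ p a) (FractionRing (AQ p a))
  rw [← hr, ← IsScalarTower.algebraMap_apply, ← IsScalarTower.algebraMap_apply]

end Fixed

end Groth.Agent.Lib.Helper84.WQ
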