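import Mathlib
import Groth.Agent.Lib.Helper84.WQ3

/-!
# The Artin–Schreier family, part 4: the fixed-point ideal and its colength
-/

set_option autoImplicit false

universe u

namespace Groth.Agent.Lib.Helper84.WQ

open Groth.Agent.Lib.Helper84.MonicTower IsLocalRing
open Groth.Agent.Lib.Helper76.PSComplete
open scoped TensorProduct

section Len

variable (p : ℕ) [hp : Fact p.Prime] {k : Type u} [Field k] {n : ℕ}
  (a : Fin n → MvPowerSeries (Fin n) k)

theorem AQ_induction {P : AQ p a → Prop}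
    (hr : ∀ r, P (algebraMap (MvPowerSeries (Fin n) k) (AQ p a) r))
    (hu : ∀ i, P (uu p a i)) (hadd : ∀ s t, P s → P t → P (s + t))
    (hmul : ∀ s t, P s → P t → P (s * t)) : ∀ t, P t := by
  intro t
  obtain ⟨q, rfl⟩ := Ideal.Quotient.mk_surjective t
  induction q using MvPolynomial.induction_on with
  | C r => exact hr r
  | add f g hf hg => rw [map_add]; exact hadd _ _ hf hg
  | mul_X f i hf => rw [map_mul]; exact hmul _ _ hf (hu i)

theorem algebraMap_X_eq (i : Fin n) :
    algebraMap (MvPowerSeries (Fin n) k) (AQ p a) (MvPowerSeries.X i) =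
      uu p a i ^ p - algebraMap (MvPowerSeries (Fin n) k) (AQ p a) (a i ^ (p - 1)) * uu p a i := by
  rw [uu_rel]; ring

theorem uu_mem (i : Fin n) : uu p a i ∈ uIdeal p a := by
  rw [uIdeal_eq_span]; exact Ideal.subset_span ⟨i, rfl⟩

theorem algebraMap_X_mem_uIdeal (i : Fin n) :
    algebraMap (MvPowerSeries (Fin n) k) (AQ p a) (MvPowerSeries.X i) ∈ uIdeal p a := by
  rw [algebraMap_X_eq]
  exact sub_mem (Ideal.pow_mem_of_mem _ (uu_mem p a i) _
    (lt_of_lt_of_le (by norm_num) (two_le_p p))) (Ideal.mul_mem_left _ _ (uu_mem p a i))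

theorem map_mR_le_uIdeal : (Ideal.span (Set.range
    (MvPowerSeries.X : Fin n → MvPowerSeries (Fin n) k))).map
    (algebraMap (MvPowerSeries (Fin n) k) (AQ p a)) ≤ uIdeal p a := by
  rw [Ideal.map_span, Ideal.span_le]
  rintro _ ⟨_, ⟨i, rfl⟩, rfl⟩
  exact algebraMap_X_mem_uIdeal p a i

variable (ham : ∀ i, MvPowerSeries.constantCoeff (a i) = 0)

include ham in
theorem a_mem_span_X (i : Fin n) : a i ∈ Ideal.span (Set.range
    (MvPowerSeries.X : Fin n → MvPowerSeries (Fin n) k)) := by
  have := a_mem a ham i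
  rwa [maximalIdeal_eq_varIdeal] at this

include ham in
theorem algebraMap_a_mem_uIdeal (i : Fin n) :
    algebraMap (MvPowerSeries (Fin n) k) (AQ p a) (a i) ∈ uIdeal p a :=
  map_mR_le_uIdeal p a (Ideal.mem_map_of_mem _ (a_mem_span_X a ham i))

include ham in
theorem algebraMap_X_mem_pow (i : Fin n) :
    algebraMap (MvPowerSeries (Fin n) k) (AQ p a) (MvPowerSeries.X i) ∈ uIdeal p a ^ p := by
  rw [algebraMap_X_eq]
  refine sub_mem (Ideal.pow_mem_pow (uu_mem p a i) p) ?_
  have h : uIdeal p a ^ p = uIdeal p a ^ (p - 1) * uIdeal p a :=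
    (pow_pred_mul p (uIdeal p a)).symm
  rw [h, map_pow]
  exact Ideal.mul_mem_mul (Ideal.pow_mem_pow (algebraMap_a_mem_uIdeal p a ham i) _) (uu_mem p a i)

include ham in
theorem map_span_a_le_pow : (Ideal.span (Set.range a)).map
    (algebraMap (MvPowerSeries (Fin n) k) (AQ p a)) ≤ uIdeal p a ^ p := by
  have h1 : Ideal.span (Set.range a) ≤ Ideal.span (Set.range
      (MvPowerSeries.X : Fin n → MvPowerSeries (Fin n) k)) := by
    rw [Ideal.span_le]
    rintro _ ⟨i, rfl⟩
    exact a_mem_span_X a ham i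
  refine (Ideal.map_mono h1).trans ?_
  rw [Ideal.map_span, Ideal.span_le]
  rintro _ ⟨_, ⟨i, rfl⟩, rfl⟩
  exact algebraMap_X_mem_pow p a ham i

theorem fixedIdeal_eq (τ : AQ p a ≃ₐ[MvPowerSeries (Fin n) k] AQ p a)
    (hτ : ∀ i, τ (uu p a i) = uu p a i + algebraMap (MvPowerSeries (Fin n) k) (AQ p a) (a i)) :
    Ideal.span (Set.range fun t : AQ p a => τ t - t) =
      (Ideal.span (Set.range a)).map (algebraMap (MvPowerSeries (Fin n) k) (AQ p a)) := by
  apply le_antisymm
  · rw [Ideal.span_le]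
    rintro _ ⟨t, rfl⟩
    beta_reduce
    rw [SetLike.mem_coe]
    induction t using AQ_induction p a with
    | hr r => rw [AlgEquiv.commutes, sub_self]; exact zero_mem _
    | hu i =>
      rw [hτ i, add_sub_cancel_left]
      exact Ideal.mem_map_of_mem _ (Ideal.subset_span ⟨i, rfl⟩)
    | hadd s t hs ht =>
      have : τ (s + t) - (s + t) = (τ s - s) + (τ t - t) := by rw [map_add]; ring
      rw [this]; exact add_mem hs ht
    | hmul s t hs ht =>
      have : τ (s * t) - s * t = τ s * (τ t - t) + (τ s - s) * t := by rw [map_mul]; ring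
      rw [this]
      exact add_mem (Ideal.mul_mem_left _ _ ht) (Ideal.mul_mem_right _ _ hs)
  · rw [Ideal.map_span, Ideal.span_le]
    rintro _ ⟨_, ⟨i, rfl⟩, rfl⟩
    refine Ideal.subset_span ⟨uu p a i, ?_⟩
    beta_reduce
    rw [hτ i, add_sub_cancel_left]

end Len

section Len2

variable (p : ℕ) [hp : Fact p.Prime] {k : Type u} [Field k] {n : ℕ}
  (a : Fin n → MvPowerSeries (Fin n) k) (ham : ∀ i, MvPowerSeries.constantCoeff (a i) = 0)

include ham in
theorem maximalIdeal_AQ [IsLocalRing (AQ p a)] : maximalIdeal (AQ p a) = uIdeal p a :=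
  (IsLocalRing.eq_maximalIdeal (uIdeal_isMaximal p a ham)).symm

include ham in
theorem isLocalHom_AQ [IsLocalRing (AQ p a)] :
    IsLocalHom (algebraMap (MvPowerSeries (Fin n) k) (AQ p a)) := by
  constructor
  intro r hr
  by_contra hnu
  have h1 : r ∈ maximalIdeal (MvPowerSeries (Fin n) k) := (mem_maximalIdeal r).2 hnu
  rw [maximalIdeal_eq_varIdeal] at h1
  have h2 : algebraMap (MvPowerSeries (Fin n) k) (AQ p a) r ∈ uIdeal p a :=
    map_mR_le_uIdeal p a (Ideal.mem_map_of_mem _ h1)
  rw [← maximalIdeal_AQ p a ham, mem_maximalIdeal, mem_nonunits_iff] at h2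
  exact h2 hr

theorem exists_sub_mem_uIdeal (t : AQ p a) :
    ∃ r, t - algebraMap (MvPowerSeries (Fin n) k) (AQ p a) r ∈ uIdeal p a := by
  induction t using AQ_induction p a with
  | hr r => exact ⟨r, by rw [sub_self]; exact zero_mem _⟩
  | hu i => exact ⟨0, by rw [map_zero, sub_zero]; exact uu_mem p a i⟩
  | hadd s t hs ht =>
    obtain ⟨r1, h1⟩ := hs
    obtain ⟨r2, h2⟩ := ht
    refine ⟨r1 + r2, ?_⟩
    have : s + t - algebraMap (MvPowerSeries (Fin n) k) (AQ p a) (r1 + r2) =
        (s - algebraMap (MvPowerSeries (Fin n) k) (AQ p a) r1) +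
          (t - algebraMap (MvPowerSeries (Fin n) k) (AQ p a) r2) := by rw [map_add]; ring
    rw [this]; exact add_mem h1 h2
  | hmul s t hs ht =>
    obtain ⟨r1, h1⟩ := hs
    obtain ⟨r2, h2⟩ := ht
    refine ⟨r1 * r2, ?_⟩
    have : s * t - algebraMap (MvPowerSeries (Fin n) k) (AQ p a) (r1 * r2) =
        (s - algebraMap (MvPowerSeries (Fin n) k) (AQ p a) r1) * t +
          algebraMap (MvPowerSeries (Fin n) k) (AQ p a) r1 *
            (t - algebraMap (MvPowerSeries (Fin n) k) (AQ p a) r2) := by rw [map_mul]; ring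
    rw [this]
    exact add_mem (Ideal.mul_mem_right _ _ h1) (Ideal.mul_mem_left _ _ h2)

include ham in
theorem length_residue [IsLocalRing (AQ p a)]
    [IsLocalHom (algebraMap (MvPowerSeries (Fin n) k) (AQ p a))] :
    Module.length (ResidueField (MvPowerSeries (Fin n) k)) (ResidueField (AQ p a)) = 1 := by
  have hsurj : Function.Surjective (algebraMap (ResidueField (MvPowerSeries (Fin n) k))
      (ResidueField (AQ p a))) := by
    intro y
    obtain ⟨t, rfl⟩ := IsLocalRing.residue_surjective y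
    obtain ⟨r, hr⟩ := exists_sub_mem_uIdeal p a t
    refine ⟨residue _ r, ?_⟩
    rw [ResidueField.algebraMap_residue]
    symm
    rw [← sub_eq_zero, ← map_sub, residue_eq_zero_iff, maximalIdeal_AQ p a ham]
    exact hr
  rw [Module.length_eq_of_surjective hsurj]
  exact Module.length_eq_one _ _

include ham in
theorem length_quot_map (I : Ideal (MvPowerSeries (Fin n) k)) (hI : I ≠ ⊤) :
    Module.length (AQ p a) (AQ p a ⧸ I.map (algebraMap (MvPowerSeries (Fin n) k) (AQ p a))) =
      (p ^ n : ℕ∞) * Module.length (MvPowerSeries (Fin n) k) (MvPowerSeries (Fin n) k ⧸ I) := by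
  have hloc := isLocalRing_AQ p a ham
  have hlh := isLocalHom_AQ p a ham
  have hfree := free_AQ p a
  have hfin := finite_AQ p a
  have hnt : Nontrivial (MvPowerSeries (Fin n) k ⧸ I) := Ideal.Quotient.nontrivial_iff.2 hI
  have h1 := IsLocalRing.length_restrictScalars (MvPowerSeries (Fin n) k) (AQ p a)
    (AQ p a ⧸ I.map (algebraMap (MvPowerSeries (Fin n) k) (AQ p a)))
  rw [length_residue p a ham, mul_one] at h1
  rw [← h1]
  -- now over `R`
  have e1 : (AQ p a ⧸ I.map (algebraMap (MvPowerSeries (Fin n) k) (AQ p a)))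
      ≃ₗ[MvPowerSeries (Fin n) k]
      (MvPowerSeries (Fin n) k ⧸ I) ⊗[MvPowerSeries (Fin n) k] AQ p a :=
    ((Submodule.Quotient.restrictScalarsEquiv (MvPowerSeries (Fin n) k)
      (I.map (algebraMap (MvPowerSeries (Fin n) k) (AQ p a)))).symm.trans
      (Submodule.quotEquivOfEq _ _ (Ideal.smul_top_eq_map I).symm)).trans
      (TensorProduct.quotTensorEquivQuotSMul (AQ p a) I).symm
  rw [e1.length_eq]
  rw [Module.length_eq_of_surjective (S := MvPowerSeries (Fin n) k)
    (R := MvPowerSeries (Fin n) k ⧸ I)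
    (M := (MvPowerSeries (Fin n) k ⧸ I) ⊗[MvPowerSeries (Fin n) k] AQ p a)
    Ideal.Quotient.mk_surjective]
  rw [Module.length_of_free_of_finite, Module.finrank_baseChange, finrank_AQ]
  rw [← Module.length_eq_of_surjective (S := MvPowerSeries (Fin n) k)
    (R := MvPowerSeries (Fin n) k ⧸ I) (M := MvPowerSeries (Fin n) k ⧸ I)
    Ideal.Quotient.mk_surjective]
  push_cast
  rfl

end Len2

end Groth.Agent.Lib.Helper84.WQ
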