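import Mathlib
import Groth.Agent.Lib.Helper84.WQ4

/-!
# The Artin–Schreier family, part 13 (helper84): normal forms modulo Artin–Schreier relations over
an arbitrary index type, and the ring of minor elements `z_j = a_{i₀} u_j - a_j u_{i₀}`
(WildQuot S15807 / S19997 / S15808).
-/

set_option autoImplicit false

universe u v

namespace Groth.Agent.Lib.Helper84.WQ13

open Groth.Agent.Lib.Helper84.WQ

section NF

variable {S : Type u} [CommRing S] {ι : Type v} (p : ℕ) (α β : ι → S)

/-- the Artin–Schreier relation `X_j^p - α_j X_j - β_j` -/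
noncomputable def rAS (j : ι) : MvPolynomial ι S :=
  MvPolynomial.X j ^ p - MvPolynomial.C (α j) * MvPolynomial.X j - MvPolynomial.C (β j)

/-- the univariate Artin–Schreier polynomial `T^p - (α_j T + β_j)` -/
noncomputable def gP (j : ι) : Polynomial S :=
  Polynomial.X ^ p - (Polynomial.C (α j) * Polynomial.X + Polynomial.C (β j))

theorem gP_monic [Nontrivial S] (hp : 2 ≤ p) (j : ι) : (gP p α β j).Monic := by
  apply Polynomial.monic_X_pow_sub
  refine lt_of_le_of_lt (Polynomial.degree_linear_le) ?_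
  exact_mod_cast hp

theorem gP_natDegree [Nontrivial S] (hp : 2 ≤ p) (j : ι) : (gP p α β j).natDegree = p := by
  unfold gP
  rw [Polynomial.natDegree_sub_eq_left_of_natDegree_lt, Polynomial.natDegree_X_pow]
  rw [Polynomial.natDegree_X_pow]
  refine lt_of_le_of_lt (Polynomial.natDegree_linear_le) ?_
  exact hp

theorem aeval_gP (j : ι) :
    Polynomial.aeval (MvPolynomial.X j : MvPolynomial ι S) (gP p α β j) = rAS p α β j := by
  unfold gP rAS
  simp only [map_sub, map_add, map_mul, map_pow, Polynomial.aeval_X, Polynomial.aeval_C]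
  rw [MvPolynomial.algebraMap_eq]
  ring

open Classical in
theorem degreeOf_aeval_X_le [Nontrivial S] (j l : ι) (f : Polynomial S) :
    (Polynomial.aeval (MvPolynomial.X l : MvPolynomial ι S) f).degreeOf j ≤
      if l = j then f.natDegree else 0 := by
  classical
  rw [Polynomial.aeval_eq_sum_range]
  refine (MvPolynomial.degreeOf_sum_le _ _ _).trans ?_
  refine Finset.sup_le ?_
  intro m hm
  rw [MvPolynomial.smul_eq_C_mul]
  refine (MvPolynomial.degreeOf_C_mul_le _ _ _).trans ?_
  by_cases hlj : l = j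
  · subst hlj
    rw [if_pos rfl, MvPolynomial.degreeOf_X_self_pow]
    have := Finset.mem_range.1 hm
    omega
  · rw [if_neg hlj, MvPolynomial.degreeOf_X_pow_of_ne _ (Ne.symm hlj)]

/-- normal form modulo the Artin–Schreier relations -/
theorem exists_nf [Nontrivial S] (hp : 2 ≤ p) (Q : MvPolynomial ι S) :
    ∃ P : MvPolynomial ι S, Q - P ∈ Ideal.span (Set.range (rAS p α β)) ∧
      ∀ j, P.degreeOf j < p := by
  classical
  induction Q using MvPolynomial.induction_on' with
  | monomial e s =>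
    set I := Ideal.span (Set.range (rAS p α β)) with hI
    let T : ι → MvPolynomial ι S := fun j =>
      Polynomial.aeval (MvPolynomial.X j : MvPolynomial ι S)
        ((Polynomial.X ^ (e j) : Polynomial S) %ₘ gP p α β j)
    have hT : ∀ j, Ideal.Quotient.mk I (MvPolynomial.X j ^ e j) = Ideal.Quotient.mk I (T j) := by
      intro j
      rw [Ideal.Quotient.eq]
      have h1 := Polynomial.modByMonic_add_div (Polynomial.X ^ (e j) : Polynomial S) (gP p α β j)
      have h2 := congrArg (Polynomial.aeval (MvPolynomial.X j : MvPolynomial ι S)) h1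
      rw [map_add, map_mul, aeval_gP, map_pow, Polynomial.aeval_X] at h2
      have h3 : MvPolynomial.X j ^ e j - T j = rAS p α β j *
          Polynomial.aeval (MvPolynomial.X j : MvPolynomial ι S)
            ((Polynomial.X ^ (e j) : Polynomial S) /ₘ gP p α β j) := by
        rw [← h2]; ring
      rw [h3]
      exact Ideal.mul_mem_right _ _ (Ideal.subset_span ⟨j, rfl⟩)
    refine ⟨MvPolynomial.C s * ∏ j ∈ e.support, T j, ?_, ?_⟩
    · rw [MvPolynomial.monomial_eq, Finsupp.prod, ← mul_sub]
      refine Ideal.mul_mem_left _ _ ?_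
      rw [← Ideal.Quotient.eq, map_prod, map_prod]
      exact Finset.prod_congr rfl fun j _ => hT j
    · intro j
      refine lt_of_le_of_lt (MvPolynomial.degreeOf_C_mul_le _ _ _) ?_
      refine lt_of_le_of_lt (MvPolynomial.degreeOf_prod_le _ _ _) ?_
      have hb : ∀ l ∈ e.support, (T l).degreeOf j ≤
          if l = j then ((Polynomial.X ^ (e j) : Polynomial S) %ₘ gP p α β j).natDegree else 0 := by
        intro l _
        refine (degreeOf_aeval_X_le j l _).trans ?_
        by_cases hlj : l = j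
        · subst hlj; simp
        · simp [hlj]
      refine lt_of_le_of_lt (Finset.sum_le_sum hb) ?_
      rw [Finset.sum_ite_eq']
      have hlt : ((Polynomial.X ^ (e j) : Polynomial S) %ₘ gP p α β j).natDegree < p := by
        have := Polynomial.natDegree_modByMonic_lt (Polynomial.X ^ (e j) : Polynomial S)
          (gP_monic p α β hp j) (by
            intro h1
            have := gP_natDegree p α β hp j
            rw [h1, Polynomial.natDegree_one] at this
            omega)
        rwa [gP_natDegree p α β hp j] at this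
      split_ifs
      · exact hlt
      · omega
  | add Q1 Q2 h1 h2 =>
    obtain ⟨P1, h1, d1⟩ := h1
    obtain ⟨P2, h2, d2⟩ := h2
    refine ⟨P1 + P2, ?_, fun j => ?_⟩
    · have : Q1 + Q2 - (P1 + P2) = (Q1 - P1) + (Q2 - P2) := by ring
      rw [this]
      exact add_mem h1 h2
    · exact lt_of_le_of_lt (MvPolynomial.degreeOf_add_le j P1 P2) (max_lt (d1 j) (d2 j))

end NF

section Minor

open IsLocalRing

variable (p : ℕ) [hp : Fact p.Prime] {k : Type u} [Field k] [CharP k p] {n : ℕ}
  (a : Fin n → MvPowerSeries (Fin n) k) (μ : MvPowerSeries (Fin n) k) (i₀ : Fin n)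

/-- the coefficients `b_i = μ a_i` -/
noncomputable abbrev bf : Fin n → MvPowerSeries (Fin n) k := fun i => μ * a i

/-- the minor elements `z_j = a_{i₀} u_j - a_j u_{i₀}` -/
noncomputable def zz (j : {j : Fin n // j ≠ i₀}) : AQ p (bf a μ) :=
  algebraMap (MvPowerSeries (Fin n) k) (AQ p (bf a μ)) (a i₀) * uu p (bf a μ) j.1 -
    algebraMap (MvPowerSeries (Fin n) k) (AQ p (bf a μ)) (a j.1) * uu p (bf a μ) i₀

/-- linear coefficients of the minor relations -/
noncomputable abbrev αm : {j : Fin n // j ≠ i₀} → MvPowerSeries (Fin n) k :=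
  fun j => (μ * a i₀ * a j.1) ^ (p - 1)

/-- constant coefficients of the minor relations -/
noncomputable abbrev βm : {j : Fin n // j ≠ i₀} → MvPowerSeries (Fin n) k :=
  fun j => a i₀ ^ p * MvPowerSeries.X j.1 - a j.1 ^ p * MvPowerSeries.X i₀

theorem zz_rel (j : {j : Fin n // j ≠ i₀}) : zz p a μ i₀ j ^ p =
    algebraMap (MvPowerSeries (Fin n) k) (AQ p (bf a μ)) (αm p a μ i₀ j) * zz p a μ i₀ j +
      algebraMap (MvPowerSeries (Fin n) k) (AQ p (bf a μ)) (βm p a i₀ j) := by
  have := charP_AQ p (bf a μ)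
  have hj := uu_rel p (bf a μ) j.1
  have h0 := uu_rel p (bf a μ) i₀
  have h1 : a i₀ ^ p * (μ * a j.1) ^ (p - 1) = (μ * a i₀ * a j.1) ^ (p - 1) * a i₀ := by
    rw [← pow_pred_mul p (a i₀)]
    ring
  have h2 : a j.1 ^ p * (μ * a i₀) ^ (p - 1) = (μ * a i₀ * a j.1) ^ (p - 1) * a j.1 := by
    rw [← pow_pred_mul p (a j.1)]
    ring
  have h1' := congrArg (algebraMap (MvPowerSeries (Fin n) k) (AQ p (bf a μ))) h1
  have h2' := congrArg (algebraMap (MvPowerSeries (Fin n) k) (AQ p (bf a μ))) h2
  simp only [map_mul, map_pow] at h1' h2' hj h0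
  unfold zz
  rw [sub_pow_char, mul_pow, mul_pow, hj, h0]
  simp only [map_sub, map_mul, map_pow]
  linear_combination (uu p (bf a μ) j.1) * h1' - (uu p (bf a μ) i₀) * h2'

variable (ham : ∀ i, MvPowerSeries.constantCoeff (a i) = 0)

include ham in
theorem bf_constantCoeff (i : Fin n) : MvPowerSeries.constantCoeff (bf a μ i) = 0 := by
  simp [bf, ham i]

variable (hn : 2 ≤ n) (hcop : ∀ i j, i ≠ j → IsRelPrime (a i) (a j))

include ham hn hcop in
theorem a_ne_zero (i : Fin n) : a i ≠ 0 := by
  intro h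
  have : Nontrivial (Fin n) := Fin.nontrivial_iff_two_le.2 hn
  obtain ⟨l, hl⟩ := exists_ne i
  have h1 := hcop i l hl.symm
  rw [h, isRelPrime_zero_left] at h1
  exact (mem_nonunits_iff.1 ((mem_maximalIdeal _).1 (a_mem a ham l))) h1

theorem σ_zz (v : Fin n → ZMod p) (hv : v i₀ = 0) (j : {j : Fin n // j ≠ i₀}) :
    σ p (bf a μ) v (zz p a μ i₀ j) = zz p a μ i₀ j +
      algebraMap (MvPowerSeries (Fin n) k) (AQ p (bf a μ)) (cz p (v j.1) * (a i₀ * (μ * a j.1))) := by
  unfold zz
  rw [map_sub, map_mul, map_mul, AlgEquiv.commutes, AlgEquiv.commutes, σ_uu, σ_uu]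
  unfold shift
  rw [hv]
  simp only [map_zero, zero_mul, add_zero, map_mul]
  ring

variable (hμ : μ ≠ 0)

include ham hn hcop hμ in
theorem eq_zero_of_aeval_zz (P : MvPolynomial {j : Fin n // j ≠ i₀} (MvPowerSeries (Fin n) k))
    (hdeg : ∀ j, P.degreeOf j < p) (h0 : MvPolynomial.aeval (zz p a μ i₀) P = 0) : P = 0 := by
  classical
  have hdomR : IsDomain (MvPowerSeries (Fin n) k) := isDomain_R
  have hdom : IsDomain (AQ p (bf a μ)) := isDomain_AQ p (bf a μ) (bf_constantCoeff a μ ham)
  have hinj := algebraMap_AQ_injective p (bf a μ)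
  have hγ : ∀ j : {j : Fin n // j ≠ i₀}, a i₀ * (μ * a j.1) ≠ 0 := fun j =>
    mul_ne_zero (a_ne_zero a ham hn hcop i₀) (mul_ne_zero hμ (a_ne_zero a ham hn hcop j.1))
  have hpt : ∀ j : {j : Fin n // j ≠ i₀}, Function.Injective (fun c : ZMod p => zz p a μ i₀ j +
      algebraMap (MvPowerSeries (Fin n) k) (AQ p (bf a μ)) (cz p c * (a i₀ * (μ * a j.1)))) := by
    intro j c c' hcc
    have h1 := hinj (add_left_cancel hcc)
    exact cz_injective p (mul_right_cancel₀ (hγ j) h1)
  suffices h : MvPolynomial.map (algebraMap (MvPowerSeries (Fin n) k) (AQ p (bf a μ))) P = 0 by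
    apply MvPolynomial.map_injective _ hinj
    rw [h, map_zero]
  apply MvPolynomial.eq_zero_of_eval_zero_at_prod_finset _ (fun j => Finset.univ.image
    (fun c : ZMod p => zz p a μ i₀ j +
      algebraMap (MvPowerSeries (Fin n) k) (AQ p (bf a μ)) (cz p c * (a i₀ * (μ * a j.1)))))
  · intro j
    rw [Finset.card_image_of_injective _ (hpt j), Finset.card_univ, ZMod.card]
    refine lt_of_le_of_lt ?_ (hdeg j)
    rw [MvPolynomial.degreeOf_def, MvPolynomial.degreeOf_def]
    exact Multiset.count_le_of_le _ MvPolynomial.degrees_map_le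
  · intro x hx
    choose c hc using fun j => Finset.mem_image.1 (hx j)
    let v : Fin n → ZMod p := fun l => if h : l ≠ i₀ then c ⟨l, h⟩ else 0
    have hv0 : v i₀ = 0 := by simp [v]
    have hvj : ∀ j : {j : Fin n // j ≠ i₀}, v j.1 = c j := by
      intro j
      simp [v, j.2]
    have hx' : x = fun j => (σ p (bf a μ) v :
        AQ p (bf a μ) →ₐ[MvPowerSeries (Fin n) k] AQ p (bf a μ)) (zz p a μ i₀ j) := by
      funext j
      rw [AlgEquiv.coe_toAlgHom, σ_zz p a μ i₀ v hv0 j, hvj j]
      exact ((hc j).2).symm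
    rw [MvPolynomial.eval_map, ← MvPolynomial.aeval_def, hx', ← MvPolynomial.comp_aeval_apply, h0,
      map_zero]

include ham hn hcop hμ in
/-- the kernel of `R[Z_j] → A`, `Z_j ↦ z_j`, is generated by the Artin–Schreier relations -/
theorem ker_aeval_zz :
    RingHom.ker (MvPolynomial.aeval (zz p a μ i₀) :
      MvPolynomial {j : Fin n // j ≠ i₀} (MvPowerSeries (Fin n) k) →ₐ[MvPowerSeries (Fin n) k]
        AQ p (bf a μ)) =
      Ideal.span (Set.range (rAS p (αm p a μ i₀) (βm p a i₀))) := by
  have hle : Ideal.span (Set.range (rAS p (αm p a μ i₀) (βm p a i₀))) ≤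
      RingHom.ker (MvPolynomial.aeval (zz p a μ i₀) :
        MvPolynomial {j : Fin n // j ≠ i₀} (MvPowerSeries (Fin n) k) →ₐ[MvPowerSeries (Fin n) k]
          AQ p (bf a μ)) := by
    rw [Ideal.span_le]
    rintro _ ⟨j, rfl⟩
    rw [SetLike.mem_coe, RingHom.mem_ker]
    unfold rAS
    rw [map_sub, map_sub, map_mul, map_pow, MvPolynomial.aeval_X, MvPolynomial.aeval_C,
      MvPolynomial.aeval_C, zz_rel]
    ring
  refine le_antisymm ?_ hle
  intro Q hQ
  rw [RingHom.mem_ker] at hQ
  obtain ⟨P, hP, hdeg⟩ := exists_nf p (αm p a μ i₀) (βm p a i₀) (two_le_p p) Q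
  have h1 := RingHom.mem_ker.1 (hle hP)
  rw [map_sub, hQ, zero_sub, neg_eq_zero] at h1
  have h2 := eq_zero_of_aeval_zz p a μ i₀ ham hn hcop hμ P hdeg h1
  rw [h2, sub_zero] at hP
  exact hP

end Minor

end Groth.Agent.Lib.Helper84.WQ13
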