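import Mathlib
import Groth.Agent.Lib.Helper84.WQ13

/-!
# The Artin–Schreier family, part 14 (helper84): invariants of the diagonal automorphism after
inverting `a_{i₀}` are generated by the minor elements (WildQuot S19997).
-/

set_option autoImplicit false
set_option linter.unusedSectionVars false

universe u v

namespace Groth.Agent.Lib.Helper84.WQ14

open Groth.Agent.Lib.Helper84.WQ Groth.Agent.Lib.Helper84.WQ13

section Roots

variable {A : Type v} [CommRing A] [IsDomain A] (p : ℕ) [hp : Fact p.Prime] [CharP A p]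

/-- A polynomial of degree `< p` with `τ`-fixed coefficients whose value at `w` is `τ`-fixed,
where `τ w = w + B₀` with `B₀ ≠ 0` fixed, is constant. -/
theorem eval_eq_coeff_zero_of_fixed (τ : A ≃+* A) (w B0 : A) (hB0 : B0 ≠ 0) (hτB : τ B0 = B0)
    (hτw : τ w = w + B0) (F : Polynomial A) (hdeg : F.natDegree < p)
    (hF : ∀ m, τ (F.coeff m) = F.coeff m) (hy : τ (F.eval w) = F.eval w) :
    F.eval w = F.coeff 0 := by
  classical
  have hmap : F.map (τ : A →+* A) = F := by
    ext m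
    rw [Polynomial.coeff_map]
    exact hF m
  have hτeval : ∀ x, τ (F.eval x) = F.eval (τ x) := by
    intro x
    have h1 : (τ : A →+* A) (F.eval x) = (F.map (τ : A →+* A)).eval ((τ : A →+* A) x) := by
      rw [Polynomial.eval_map, Polynomial.eval₂_at_apply]
    rw [hmap] at h1
    exact h1
  have hiter_eval : ∀ (i : ℕ) x, τ^[i] (F.eval x) = F.eval (τ^[i] x) := by
    intro i
    induction i with
    | zero => intro x; rfl
    | succ i ih =>
      intro x
      rw [Function.iterate_succ_apply', Function.iterate_succ_apply', ih, hτeval]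
  have hiter : ∀ i : ℕ, τ^[i] w = w + (i : A) * B0 := by
    intro i
    induction i with
    | zero => simp
    | succ i ih =>
      rw [Function.iterate_succ_apply', ih, map_add, map_mul, map_natCast, hτw, hτB]
      push_cast
      ring
  have heval : ∀ i : ℕ, F.eval (w + (i : A) * B0) = F.eval w := by
    intro i
    rw [← hiter i, ← hiter_eval i, Function.iterate_fixed hy]
  have hinj : Set.InjOn (fun i : ℕ => w + (i : A) * B0) (Finset.range p : Set ℕ) := by
    intro i hi j hj hij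
    have h1 : (i : A) = (j : A) := mul_right_cancel₀ hB0 (add_left_cancel hij)
    exact CharP.natCast_injOn_Iio A p (by simpa using hi) (by simpa using hj) h1
  have hG : F - Polynomial.C (F.eval w) = 0 := by
    apply Polynomial.eq_zero_of_natDegree_lt_card_of_eval_eq_zero' _
      ((Finset.range p).image (fun i : ℕ => w + (i : A) * B0))
    · intro x hx
      obtain ⟨i, _, rfl⟩ := Finset.mem_image.1 hx
      rw [Polynomial.eval_sub, Polynomial.eval_C, heval i, sub_self]
    · rw [Finset.card_image_of_injOn hinj, Finset.card_range]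
      refine lt_of_le_of_lt (Polynomial.natDegree_sub_le _ _) ?_
      rw [Polynomial.natDegree_C]
      exact max_lt hdeg hp.out.pos
  have h2 : F = Polynomial.C (F.eval w) := sub_eq_zero.1 hG
  conv_rhs => rw [h2]
  rw [Polynomial.coeff_C_zero]

end Roots

section Inv

variable (p : ℕ) [hp : Fact p.Prime] {k : Type u} [Field k] [CharP k p] {n : ℕ}
  (a : Fin n → MvPowerSeries (Fin n) k) (μ : MvPowerSeries (Fin n) k) (i₀ : Fin n)

/-- the subalgebra generated by the minor elements -/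
noncomputable abbrev Aci : Subalgebra (MvPowerSeries (Fin n) k) (AQ p (bf a μ)) :=
  Algebra.adjoin (MvPowerSeries (Fin n) k) (Set.range (zz p a μ i₀))

theorem exists_pow_mul_mem (t : AQ p (bf a μ)) : ∃ N : ℕ,
    algebraMap (MvPowerSeries (Fin n) k) (AQ p (bf a μ)) (a i₀) ^ N * t ∈
      Algebra.adjoin (MvPowerSeries (Fin n) k)
        (Set.range (zz p a μ i₀) ∪ {uu p (bf a μ) i₀}) := by
  refine AQ_induction p (bf a μ) (P := fun t => ∃ N : ℕ,
    algebraMap (MvPowerSeries (Fin n) k) (AQ p (bf a μ)) (a i₀) ^ N * t ∈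
      Algebra.adjoin (MvPowerSeries (Fin n) k)
        (Set.range (zz p a μ i₀) ∪ {uu p (bf a μ) i₀})) ?_ ?_ ?_ ?_ t
  · intro r
    exact ⟨0, by rw [pow_zero, one_mul]; exact Subalgebra.algebraMap_mem _ r⟩
  · intro i
    by_cases hi : i = i₀
    · subst hi
      exact ⟨0, by rw [pow_zero, one_mul]; exact Algebra.subset_adjoin (Or.inr rfl)⟩
    · refine ⟨1, ?_⟩
      have h1 : algebraMap (MvPowerSeries (Fin n) k) (AQ p (bf a μ)) (a i₀) ^ 1 * uu p (bf a μ) i =
          zz p a μ i₀ ⟨i, hi⟩ +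
            algebraMap (MvPowerSeries (Fin n) k) (AQ p (bf a μ)) (a i) * uu p (bf a μ) i₀ := by
        unfold zz
        ring
      rw [h1]
      refine Subalgebra.add_mem _ (Algebra.subset_adjoin (Or.inl ⟨_, rfl⟩)) ?_
      exact Subalgebra.mul_mem _ (Subalgebra.algebraMap_mem _ _)
        (Algebra.subset_adjoin (Or.inr rfl))
  · rintro s t ⟨N1, h1⟩ ⟨N2, h2⟩
    refine ⟨N1 + N2, ?_⟩
    have h3 : algebraMap (MvPowerSeries (Fin n) k) (AQ p (bf a μ)) (a i₀) ^ (N1 + N2) * (s + t) =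
        algebraMap (MvPowerSeries (Fin n) k) (AQ p (bf a μ)) (a i₀) ^ N2 *
          (algebraMap (MvPowerSeries (Fin n) k) (AQ p (bf a μ)) (a i₀) ^ N1 * s) +
        algebraMap (MvPowerSeries (Fin n) k) (AQ p (bf a μ)) (a i₀) ^ N1 *
          (algebraMap (MvPowerSeries (Fin n) k) (AQ p (bf a μ)) (a i₀) ^ N2 * t) := by
      rw [pow_add]; ring
    rw [h3]
    refine Subalgebra.add_mem _ (Subalgebra.mul_mem _ ?_ h1) (Subalgebra.mul_mem _ ?_ h2)
    · exact Subalgebra.pow_mem _ (Subalgebra.algebraMap_mem _ _) _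
    · exact Subalgebra.pow_mem _ (Subalgebra.algebraMap_mem _ _) _
  · rintro s t ⟨N1, h1⟩ ⟨N2, h2⟩
    refine ⟨N1 + N2, ?_⟩
    have h3 : algebraMap (MvPowerSeries (Fin n) k) (AQ p (bf a μ)) (a i₀) ^ (N1 + N2) * (s * t) =
        (algebraMap (MvPowerSeries (Fin n) k) (AQ p (bf a μ)) (a i₀) ^ N1 * s) *
        (algebraMap (MvPowerSeries (Fin n) k) (AQ p (bf a μ)) (a i₀) ^ N2 * t) := by
      rw [pow_add]; ring
    rw [h3]
    exact Subalgebra.mul_mem _ h1 h2

variable (ham : ∀ i, MvPowerSeries.constantCoeff (a i) = 0)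

include ham in
theorem exists_poly (y : AQ p (bf a μ))
    (hy : y ∈ Algebra.adjoin (MvPowerSeries (Fin n) k)
      (Set.range (zz p a μ i₀) ∪ {uu p (bf a μ) i₀})) :
    ∃ F : Polynomial (Aci p a μ i₀), F.natDegree < p ∧
      Polynomial.aeval (uu p (bf a μ) i₀) F = y := by
  have hdom : IsDomain (AQ p (bf a μ)) := isDomain_AQ p (bf a μ) (bf_constantCoeff a μ ham)
  rw [Algebra.adjoin_union_eq_adjoin_adjoin, Subalgebra.mem_restrictScalars,
    Algebra.adjoin_singleton_eq_range_aeval] at hy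
  obtain ⟨F0, rfl⟩ := hy
  set g := gP p (αf p (bf a μ)) (βf (k := k) (n := n)) i₀ with hg
  have hgm : g.Monic := gP_monic p _ _ (two_le_p p) i₀
  have hgd : g.natDegree = p := gP_natDegree p _ _ (two_le_p p) i₀
  set g' : Polynomial (Aci p a μ i₀) :=
    g.map (algebraMap (MvPowerSeries (Fin n) k) (Aci p a μ i₀)) with hg'
  have hg'm : g'.Monic := hgm.map _
  have hg'd : g'.natDegree = p := by rw [hg', hgm.natDegree_map, hgd]
  have hg'0 : Polynomial.aeval (uu p (bf a μ) i₀) g' = 0 := by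
    rw [hg', Polynomial.aeval_map_algebraMap, hg]
    unfold gP
    rw [map_sub, map_add, map_mul, map_pow, Polynomial.aeval_X, Polynomial.aeval_C,
      Polynomial.aeval_C, uu_rel]
    ring
  refine ⟨F0 %ₘ g', ?_, ?_⟩
  · have := Polynomial.natDegree_modByMonic_lt F0 hg'm (by
      intro h1
      rw [h1, Polynomial.natDegree_one] at hg'd
      have := two_le_p p
      omega)
    rwa [hg'd] at this
  · have h1 := Polynomial.modByMonic_add_div F0 g'
    have h2 := congrArg (Polynomial.aeval (uu p (bf a μ) i₀)) h1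
    rw [map_add, map_mul, hg'0, zero_mul, add_zero] at h2
    exact h2

variable (hn : 2 ≤ n) (hcop : ∀ i j, i ≠ j → IsRelPrime (a i) (a j)) (hμ : μ ≠ 0)

omit hp [CharP k p] in
theorem fixed_of_mem_Aci (σ' : AQ p (bf a μ) ≃ₐ[MvPowerSeries (Fin n) k] AQ p (bf a μ))
    (hσ : ∀ i, σ' (uu p (bf a μ) i) = uu p (bf a μ) i +
      algebraMap (MvPowerSeries (Fin n) k) (AQ p (bf a μ)) (μ * a i))
    (x : AQ p (bf a μ)) (hx : x ∈ Aci p a μ i₀) : σ' x = x := by
  have hle : Aci p a μ i₀ ≤ AlgHom.equalizer (σ' : AQ p (bf a μ) →ₐ[MvPowerSeries (Fin n) k]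
      AQ p (bf a μ)) (AlgHom.id _ _) := by
    refine Algebra.adjoin_le ?_
    rintro _ ⟨j, rfl⟩
    rw [SetLike.mem_coe, AlgHom.mem_equalizer, AlgEquiv.coe_toAlgHom, AlgHom.id_apply]
    unfold zz
    rw [map_sub, map_mul, map_mul, AlgEquiv.commutes, AlgEquiv.commutes, hσ, hσ]
    simp only [map_mul]
    ring
  exact hle hx

include ham hn hcop hμ in
theorem exists_pow_mul_mem_Aci
    (σ' : AQ p (bf a μ) ≃ₐ[MvPowerSeries (Fin n) k] AQ p (bf a μ))
    (hσ : ∀ i, σ' (uu p (bf a μ) i) = uu p (bf a μ) i +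
      algebraMap (MvPowerSeries (Fin n) k) (AQ p (bf a μ)) (μ * a i))
    (t : AQ p (bf a μ)) (ht : σ' t = t) :
    ∃ N : ℕ, algebraMap (MvPowerSeries (Fin n) k) (AQ p (bf a μ)) (μ * a i₀) ^ N * t ∈
      Aci p a μ i₀ := by
  have hdomR : IsDomain (MvPowerSeries (Fin n) k) := isDomain_R
  have hdom : IsDomain (AQ p (bf a μ)) := isDomain_AQ p (bf a μ) (bf_constantCoeff a μ ham)
  have hchar := charP_AQ p (bf a μ)
  have hinj := algebraMap_AQ_injective p (bf a μ)
  obtain ⟨N, hN⟩ := exists_pow_mul_mem p a μ i₀ t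
  obtain ⟨F0, hdeg, hF0⟩ := exists_poly p a μ i₀ ham _ hN
  refine ⟨N, ?_⟩
  set F : Polynomial (AQ p (bf a μ)) := F0.map (algebraMap (Aci p a μ i₀) (AQ p (bf a μ))) with hF
  have hFe : F.eval (uu p (bf a μ) i₀) =
      algebraMap (MvPowerSeries (Fin n) k) (AQ p (bf a μ)) (a i₀) ^ N * t := by
    rw [hF, Polynomial.eval_map_algebraMap, hF0]
  have hB0 : algebraMap (MvPowerSeries (Fin n) k) (AQ p (bf a μ)) (μ * a i₀) ≠ 0 := by
    rw [Ne, ← map_zero (algebraMap (MvPowerSeries (Fin n) k) (AQ p (bf a μ)))]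
    intro h
    exact mul_ne_zero hμ (a_ne_zero a ham hn hcop i₀) (hinj h)
  have key := eval_eq_coeff_zero_of_fixed p (σ' : AQ p (bf a μ) ≃+* AQ p (bf a μ))
    (uu p (bf a μ) i₀) (algebraMap (MvPowerSeries (Fin n) k) (AQ p (bf a μ)) (μ * a i₀)) hB0
    (σ'.commutes _) (hσ i₀) F (lt_of_le_of_lt (Polynomial.natDegree_map_le) hdeg)
    (by
      intro m
      rw [hF, Polynomial.coeff_map]
      exact fixed_of_mem_Aci p a μ i₀ σ' hσ _ (F0.coeff m).2)
    (by
      rw [hFe]
      show σ' _ = _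
      rw [map_mul, map_pow, AlgEquiv.commutes, ht])
  rw [hFe, hF, Polynomial.coeff_map] at key
  rw [map_mul, mul_pow, mul_assoc, key]
  refine Subalgebra.mul_mem _ ?_ (F0.coeff 0).2
  exact Subalgebra.pow_mem _ (Subalgebra.algebraMap_mem _ _) _

end Inv

end Groth.Agent.Lib.Helper84.WQ14
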