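import Mathlib
import Groth.Agent.Lib.Helper84.WQ1

/-!
# The generalized Artin–Schreier quotient `S[u]/(u_i^p - α_i u_i - β_i)`:
monomial basis, degree filtration, and the "top coefficient" linear form.
-/

set_option autoImplicit false

universe u

namespace Groth.Agent.Lib.Helper84.WQ

open Groth.Agent.Lib.Helper84.MonicTower

section Frob

variable (p : ℕ) {S : Type u} [CommRing S] {n : ℕ} (α β : Fin n → S)

/-- the general Artin–Schreier quotient -/
abbrev GQ : Type u := MvPolynomial (Fin n) S ⧸ IAS p α β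

/-- the classes of the variables -/
noncomputable abbrev gu (i : Fin n) : GQ p α β :=
  Ideal.Quotient.mk (IAS p α β) (MvPolynomial.X i)

theorem gu_rel (i : Fin n) : gu p α β i ^ p =
    algebraMap S (GQ p α β) (α i) * gu p α β i + algebraMap S (GQ p α β) (β i) := by
  have h : Ideal.Quotient.mk (IAS p α β)
      (MvPolynomial.X i ^ p - MvPolynomial.C (α i) * MvPolynomial.X i -
        MvPolynomial.C (β i)) = 0 :=
    Ideal.Quotient.eq_zero_iff_mem.2 (Ideal.subset_span ⟨i, rfl⟩)
  rw [map_sub, map_sub, map_mul, map_pow] at h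
  have h1 : algebraMap S (GQ p α β) (α i) =
      Ideal.Quotient.mk (IAS p α β) (MvPolynomial.C (α i)) := rfl
  have h2 : algebraMap S (GQ p α β) (β i) =
      Ideal.Quotient.mk (IAS p α β) (MvPolynomial.C (β i)) := rfl
  rw [h1, h2]
  linear_combination h

theorem GQ_induction {P : GQ p α β → Prop}
    (hr : ∀ r, P (algebraMap S (GQ p α β) r))
    (hu : ∀ i, P (gu p α β i)) (hadd : ∀ s t, P s → P t → P (s + t))
    (hmul : ∀ s t, P s → P t → P (s * t)) : ∀ t, P t := by
  intro t
  obtain ⟨q, rfl⟩ := Ideal.Quotient.mk_surjective t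
  induction q using MvPolynomial.induction_on with
  | C r => exact hr r
  | add f g hf hg => rw [map_add]; exact hadd _ _ hf hg
  | mul_X f i hf => rw [map_mul]; exact hmul _ _ hf (hu i)

theorem free_GQ_aux [Nontrivial S] (hp : 2 ≤ p) (J : Ideal (MvPolynomial (Fin n) S))
    (hJ : J = mIdeal (gAS p α β)) :
    Module.Free S (MvPolynomial (Fin n) S ⧸ J) ∧
    Module.Finite S (MvPolynomial (Fin n) S ⧸ J) ∧
    Module.finrank S (MvPolynomial (Fin n) S ⧸ J) = p ^ n := by
  subst hJ
  obtain ⟨h1, h2, h3⟩ := free_finrank n S (gAS p α β)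
    (gAS_monic p _ _ hp) (fun i => by
      rw [gAS_natDegree p _ _ hp]; exact lt_of_lt_of_le (by norm_num) hp)
  refine ⟨h1, h2, ?_⟩
  rw [h3]
  simp [gAS_natDegree p _ _ hp]

theorem free_GQ [Nontrivial S] (hp : 2 ≤ p) : Module.Free S (GQ p α β) :=
  (free_GQ_aux p α β hp _ (IAS_eq_mIdeal p _ _)).1

theorem finite_GQ [Nontrivial S] (hp : 2 ≤ p) : Module.Finite S (GQ p α β) :=
  (free_GQ_aux p α β hp _ (IAS_eq_mIdeal p _ _)).2.1

theorem finrank_GQ [Nontrivial S] (hp : 2 ≤ p) : Module.finrank S (GQ p α β) = p ^ n :=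
  (free_GQ_aux p α β hp _ (IAS_eq_mIdeal p _ _)).2.2

/-- monomials in the `u_i` -/
noncomputable def monN (g : Fin n → ℕ) : GQ p α β := ∏ i, gu p α β i ^ g i

theorem monN_add (g g' : Fin n → ℕ) :
    monN p α β (g + g') = monN p α β g * monN p α β g' := by
  unfold monN
  rw [← Finset.prod_mul_distrib]
  refine Finset.prod_congr rfl fun i _ => ?_
  rw [Pi.add_apply, pow_add]

theorem monN_zero : monN p α β 0 = 1 := by
  unfold monN
  simp

theorem monN_single (i : Fin n) (m : ℕ) : monN p α β (Pi.single i m) = gu p α β i ^ m := by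
  unfold monN
  rw [Fintype.prod_eq_single i]
  · rw [Pi.single_eq_same]
  · intro j hj
    rw [Pi.single_eq_of_ne hj, pow_zero]

/-- the degree filtration, integer-indexed -/
noncomputable def Fil (d : ℤ) : Submodule S (GQ p α β) :=
  Submodule.span S (monN p α β '' {g | ((∑ i, g i : ℕ) : ℤ) ≤ d})

theorem monN_mem_Fil {g : Fin n → ℕ} {d : ℤ} (h : ((∑ i, g i : ℕ) : ℤ) ≤ d) :
    monN p α β g ∈ Fil p α β d :=
  Submodule.subset_span ⟨g, h, rfl⟩

theorem Fil_mono {d d' : ℤ} (h : d ≤ d') : Fil p α β d ≤ Fil p α β d' :=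
  Submodule.span_mono (Set.image_mono fun _ hg => le_trans hg h)

theorem mul_mem_Fil {d d' : ℤ} {x y : GQ p α β} (hx : x ∈ Fil p α β d)
    (hy : y ∈ Fil p α β d') : x * y ∈ Fil p α β (d + d') := by
  have h := Submodule.mul_mem_mul hx hy
  unfold Fil at h
  rw [Submodule.span_mul_span] at h
  refine Submodule.span_mono ?_ h
  rintro _ ⟨_, ⟨g, hg, rfl⟩, _, ⟨g', hg', rfl⟩, rfl⟩
  refine ⟨g + g', ?_, monN_add p α β g g'⟩
  simp only [Set.mem_ofPred_eq, Pi.add_apply, Finset.sum_add_distrib, Nat.cast_add] at hg hg' ⊢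
  omega

theorem one_mem_Fil : (1 : GQ p α β) ∈ Fil p α β 0 := by
  rw [← monN_zero p α β]
  exact monN_mem_Fil p α β (by simp)

theorem algebraMap_mem_Fil (r : S) : algebraMap S (GQ p α β) r ∈ Fil p α β 0 := by
  rw [Algebra.algebraMap_eq_smul_one]
  exact Submodule.smul_mem _ _ (one_mem_Fil p α β)

theorem gu_mem_Fil (i : Fin n) : gu p α β i ∈ Fil p α β 1 := by
  have h := monN_single p α β i 1
  rw [pow_one] at h
  rw [← h]
  refine monN_mem_Fil p α β ?_
  rw [Finset.sum_pi_single']
  simp

theorem exists_mem_Fil (t : GQ p α β) : ∃ d : ℤ, t ∈ Fil p α β d := by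
  induction t using GQ_induction p α β with
  | hr r => exact ⟨0, algebraMap_mem_Fil p α β r⟩
  | hu i => exact ⟨1, gu_mem_Fil p α β i⟩
  | hadd s t hs ht =>
    obtain ⟨d, hd⟩ := hs
    obtain ⟨d', hd'⟩ := ht
    exact ⟨max d d', add_mem (Fil_mono p α β (le_max_left _ _) hd)
      (Fil_mono p α β (le_max_right _ _) hd')⟩
  | hmul s t hs ht =>
    obtain ⟨d, hd⟩ := hs
    obtain ⟨d', hd'⟩ := ht
    exact ⟨d + d', mul_mem_Fil p α β hd hd'⟩

/-- box exponents as natural exponents -/
def toN (e : Fin n → Fin p) : Fin n → ℕ := fun i => (e i : ℕ)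

/-- box monomials -/
noncomputable def mon (e : Fin n → Fin p) : GQ p α β := monN p α β (toN p e)

/-- the box filtration -/
noncomputable def BFil (d : ℤ) : Submodule S (GQ p α β) :=
  Submodule.span S (mon p α β '' {e | ((∑ i, toN p e i : ℕ) : ℤ) ≤ d})

theorem BFil_mono {d d' : ℤ} (h : d ≤ d') : BFil p α β d ≤ BFil p α β d' :=
  Submodule.span_mono (Set.image_mono fun _ hg => le_trans hg h)

theorem BFil_le_Fil (d : ℤ) : BFil p α β d ≤ Fil p α β d := by
  unfold BFil
  rw [Submodule.span_le]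
  rintro _ ⟨e, he, rfl⟩
  exact monN_mem_Fil p α β he

theorem monN_mem_BFil (hp : 2 ≤ p) : ∀ (m : ℕ) (g : Fin n → ℕ), ∑ i, g i = m →
    monN p α β g ∈ BFil p α β m := by
  intro m
  induction m using Nat.strong_induction_on with
  | _ m ih =>
    intro g hg
    by_cases h : ∀ i, g i < p
    · have : monN p α β g = mon p α β (fun i => ⟨g i, h i⟩) := rfl
      rw [this]
      refine Submodule.subset_span ⟨_, ?_, rfl⟩
      show ((∑ i, g i : ℕ) : ℤ) ≤ m
      rw [hg]
    · push Not at h
      obtain ⟨i, hi⟩ := h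
      set g' : Fin n → ℕ := fun j => if j = i then g i - p else g j with hg'
      have hgg : g = g' + Pi.single i p := by
        funext j
        by_cases hj : j = i
        · subst hj
          simp only [hg', Pi.add_apply, if_true, Pi.single_eq_same]
          omega
        · simp [hg', hj]
      have hsum : ∑ j, g j = ∑ j, g' j + p := by
        conv_lhs => rw [hgg]
        simp only [Pi.add_apply, Finset.sum_add_distrib]
        rw [Finset.sum_pi_single']
        simp
      have hsum1 : ∑ j, (g' + Pi.single i 1 : Fin n → ℕ) j = ∑ j, g' j + 1 := by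
        simp only [Pi.add_apply, Finset.sum_add_distrib]
        rw [Finset.sum_pi_single']
        simp
      have key : monN p α β g = algebraMap S (GQ p α β) (α i) *
          monN p α β (g' + Pi.single i 1) + algebraMap S (GQ p α β) (β i) * monN p α β g' := by
        conv_lhs => rw [hgg]
        rw [monN_add, monN_single, gu_rel, monN_add, monN_single, pow_one]
        ring
      rw [key, ← Algebra.smul_def, ← Algebra.smul_def]
      have h1 : ∑ j, g' j < m := by omega
      have h2 : ∑ j, (g' + Pi.single i 1 : Fin n → ℕ) j < m := by omega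
      refine add_mem (Submodule.smul_mem _ _ ?_) (Submodule.smul_mem _ _ ?_)
      · exact BFil_mono p α β (by exact_mod_cast h2.le) (ih _ h2 _ rfl)
      · exact BFil_mono p α β (by exact_mod_cast h1.le) (ih _ h1 _ rfl)

theorem Fil_eq_BFil (hp : 2 ≤ p) (d : ℤ) : Fil p α β d = BFil p α β d := by
  apply le_antisymm _ (BFil_le_Fil p α β d)
  unfold Fil
  rw [Submodule.span_le]
  rintro _ ⟨g, hg, rfl⟩
  exact BFil_mono p α β hg (monN_mem_BFil p α β hp _ g rfl)

theorem span_mon_eq_top (hp : 2 ≤ p) : (⊤ : Submodule S (GQ p α β)) ≤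
    Submodule.span S (Set.range (mon p α β)) := by
  intro t _
  obtain ⟨d, hd⟩ := exists_mem_Fil p α β t
  rw [Fil_eq_BFil p α β hp] at hd
  exact Submodule.span_mono (Set.image_subset_range _ _) hd

/-- the monomial basis -/
noncomputable def monBasis [Nontrivial S] (hp : 2 ≤ p) :
    Module.Basis (Fin n → Fin p) S (GQ p α β) :=
  basisOfTopLeSpanOfCardEqFinrank (mon p α β) (span_mon_eq_top p α β hp) (by
    rw [finrank_GQ p α β hp]
    simp)

theorem monBasis_apply [Nontrivial S] (hp : 2 ≤ p) (e : Fin n → Fin p) :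
    monBasis p α β hp e = mon p α β e := by
  unfold monBasis
  rw [coe_basisOfTopLeSpanOfCardEqFinrank]

/-- the top exponent -/
def topE (hp : 2 ≤ p) : Fin n → Fin p := fun _ => ⟨p - 1, by omega⟩

/-- the top-coefficient form -/
noncomputable def lam [Nontrivial S] (hp : 2 ≤ p) : GQ p α β →ₗ[S] S :=
  (monBasis p α β hp).coord (topE p hp)

theorem lam_mon [Nontrivial S] (hp : 2 ≤ p) (e : Fin n → Fin p) :
    lam p α β hp (mon p α β e) = if e = topE p hp then 1 else 0 := by
  classical
  unfold lam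
  rw [← monBasis_apply p α β hp, Module.Basis.coord_apply, Module.Basis.repr_self,
    Finsupp.single_apply]

theorem sum_topE (hp : 2 ≤ p) : ∑ i : Fin n, toN p (topE p hp) i = n * (p - 1) := by
  simp [toN, topE]

theorem lam_Fil [Nontrivial S] (hp : 2 ≤ p) {d : ℤ} (hd : d < (n * (p - 1) : ℕ))
    {x : GQ p α β} (hx : x ∈ Fil p α β d) : lam p α β hp x = 0 := by
  rw [Fil_eq_BFil p α β hp] at hx
  unfold BFil at hx
  induction hx using Submodule.span_induction with
  | mem y hy =>
    obtain ⟨e, he, rfl⟩ := hy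
    rw [lam_mon, if_neg]
    rintro rfl
    have h1 : ((∑ i, toN p (topE p hp) i : ℕ) : ℤ) ≤ d := he
    rw [sum_topE] at h1
    omega
  | zero => exact map_zero _
  | add y z _ _ hy hz => rw [map_add, hy, hz, add_zero]
  | smul r y _ hy => rw [map_smul, hy, smul_zero]

end Frob

end Groth.Agent.Lib.Helper84.WQ
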