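import Mathlib
import Groth.Agent.Lib.Helper84.WQ14
import Groth.Agent.Lib.Helper84.WQ12
import Groth.Agent.Lib.Helper84.WQ5
import Groth.Agent.S9829

/-!
# The Artin–Schreier family, part 15 (helper84): the complete-intersection ring of minor
elements is free, a domain, and normal after inverting `μ a_{i₀}` (WildQuot S15808).
-/

set_option autoImplicit false
set_option linter.unusedSectionVars false

universe u v

namespace Groth.Agent.Lib.Helper84.WQ15

open Groth.Agent.Lib.Helper84.WQ Groth.Agent.Lib.Helper84.WQ13 Groth.Agent.Lib.Helper84.WQ14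

section Abstract

/-- If `ψ : B → E` is injective, `E` an integrally closed domain, and every element of `E` is
carried into `ψ(B)` by a power of `ψ f ≠ 0`, then `B[1/f]` is integrally closed. -/
theorem isIntegrallyClosed_away_of_injective {B : Type u} {E : Type v} [CommRing B] [CommRing E]
    [IsDomain E] [IsIntegrallyClosed E] (ψ : B →+* E) (hψ : Function.Injective ψ) (f : B)
    (hf : ψ f ≠ 0) (hsurj : ∀ x : E, ∃ (N : ℕ) (y : B), ψ f ^ N * x = ψ y) :
    IsIntegrallyClosed (Localization.Away f) := by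
  let L := Localization.Away (ψ f)
  have hLic : IsIntegrallyClosed L :=
    isIntegrallyClosed_of_isLocalization L (Submonoid.powers (ψ f))
      (Submonoid.powers_le.2 (mem_nonZeroDivisors_of_ne_zero hf))
  have hEL : Function.Injective (algebraMap E L) :=
    IsLocalization.injective L (Submonoid.powers_le.2 (mem_nonZeroDivisors_of_ne_zero hf))
  let alg : Algebra B L := ((algebraMap E L).comp ψ).toAlgebra
  have halg : ∀ y : B, algebraMap B L y = algebraMap E L (ψ y) := fun _ => rfl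
  have hloc : IsLocalization.Away f L := by
    rw [IsLocalization.Away, isLocalization_iff]
    refine ⟨?_, ?_, ?_⟩
    · rintro ⟨_, m, rfl⟩
      rw [halg, map_pow, map_pow]
      exact (IsLocalization.Away.algebraMap_isUnit (ψ f)).pow m
    · intro z
      obtain ⟨m, x, hz⟩ := IsLocalization.Away.surj (ψ f) z
      obtain ⟨N, y, hy⟩ := hsurj x
      refine ⟨(y, ⟨f ^ (m + N), m + N, rfl⟩), ?_⟩
      dsimp only
      rw [halg, halg, ← hy, map_pow, pow_add, map_mul, map_mul, map_pow, map_pow, ← hz]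
      ring
    · intro x y hxy
      rw [halg, halg] at hxy
      exact ⟨1, by rw [hψ (hEL hxy)]⟩
  exact IsIntegrallyClosed.of_equiv
    (IsLocalization.algEquiv (Submonoid.powers f) (Localization.Away f) L).symm.toRingEquiv

end Abstract

section Reindex

variable {S : Type u} [CommRing S] [Nontrivial S] {ι : Type v} [Fintype ι] (p : ℕ) (hp : 2 ≤ p)
  (α β : ι → S)

include hp in
theorem free_finrank_rAS :
    Module.Free S (MvPolynomial ι S ⧸ Ideal.span (Set.range (rAS p α β))) ∧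
      Module.finrank S (MvPolynomial ι S ⧸ Ideal.span (Set.range (rAS p α β))) =
        p ^ Fintype.card ι := by
  classical
  let e : ι ≃ Fin (Fintype.card ι) := Fintype.equivFin ι
  let f : MvPolynomial ι S ≃ₐ[S] MvPolynomial (Fin (Fintype.card ι)) S :=
    MvPolynomial.renameEquiv S e
  have hIJ : IAS p (α ∘ e.symm) (β ∘ e.symm) =
      Ideal.map (f : MvPolynomial ι S →+* MvPolynomial (Fin (Fintype.card ι)) S)
        (Ideal.span (Set.range (rAS p α β))) := by
    rw [Ideal.map_span, ← Set.range_comp]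
    unfold IAS
    congr 1
    rw [← e.symm.surjective.range_comp]
    congr 1
    funext i
    simp only [Function.comp_apply, rAS, f]
    simp [MvPolynomial.renameEquiv_apply]
  let E := Ideal.quotientEquivAlg _ _ f hIJ
  have hfree := free_GQ p (α ∘ e.symm) (β ∘ e.symm) hp
  have hfin := finite_GQ p (α ∘ e.symm) (β ∘ e.symm) hp
  refine ⟨Module.Free.of_equiv E.symm.toLinearEquiv, ?_⟩
  rw [E.toLinearEquiv.finrank_eq, finrank_GQ p _ _ hp]

end Reindex

section Concrete

variable (p : ℕ) [hp : Fact p.Prime] {k : Type u} [Field k] [CharP k p] {n : ℕ}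
  (a : Fin n → MvPowerSeries (Fin n) k) (μ : MvPowerSeries (Fin n) k) (i₀ : Fin n)

/-- the complete-intersection ring of the minor relations -/
abbrev BQ : Type u := MvPolynomial {j : Fin n // j ≠ i₀} (MvPowerSeries (Fin n) k) ⧸
  Ideal.span (Set.range (rAS p (αm p a μ i₀) (βm p a i₀)))

theorem span_le_ker : Ideal.span (Set.range (rAS p (αm p a μ i₀) (βm p a i₀))) ≤
    RingHom.ker (MvPolynomial.aeval (zz p a μ i₀) :
      MvPolynomial {j : Fin n // j ≠ i₀} (MvPowerSeries (Fin n) k) →ₐ[MvPowerSeries (Fin n) k]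
        AQ p (bf a μ)) := by
  rw [Ideal.span_le]
  rintro _ ⟨j, rfl⟩
  rw [SetLike.mem_coe, RingHom.mem_ker]
  unfold rAS
  rw [map_sub, map_sub, map_mul, map_pow, MvPolynomial.aeval_X, MvPolynomial.aeval_C,
    MvPolynomial.aeval_C, zz_rel]
  ring

/-- the comparison map `B → A`, `Z_j ↦ z_j` -/
noncomputable def φ : BQ p a μ i₀ →ₐ[MvPowerSeries (Fin n) k] AQ p (bf a μ) :=
  Ideal.Quotient.liftₐ _ (MvPolynomial.aeval (zz p a μ i₀))
    (fun x hx => RingHom.mem_ker.1 (span_le_ker p a μ i₀ hx))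

theorem φ_mk (Q : MvPolynomial {j : Fin n // j ≠ i₀} (MvPowerSeries (Fin n) k)) :
    φ p a μ i₀ (Ideal.Quotient.mk _ Q) = MvPolynomial.aeval (zz p a μ i₀) Q := by
  unfold φ
  rw [Ideal.Quotient.liftₐ_apply]
  exact Ideal.Quotient.lift_mk _ _ _

theorem φ_mem_Aci (y : BQ p a μ i₀) : φ p a μ i₀ y ∈ Aci p a μ i₀ := by
  obtain ⟨Q, rfl⟩ := Ideal.Quotient.mk_surjective y
  rw [φ_mk, Aci, ← MvPolynomial.aeval_range]
  exact ⟨Q, rfl⟩

theorem exists_φ_eq (x : AQ p (bf a μ)) (hx : x ∈ Aci p a μ i₀) : ∃ y, φ p a μ i₀ y = x := by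
  rw [Aci, ← MvPolynomial.aeval_range] at hx
  obtain ⟨Q, rfl⟩ := hx
  exact ⟨Ideal.Quotient.mk _ Q, φ_mk p a μ i₀ Q⟩

variable (ham : ∀ i, MvPowerSeries.constantCoeff (a i) = 0) (hn : 2 ≤ n)
  (hcop : ∀ i j, i ≠ j → IsRelPrime (a i) (a j)) (hμ : μ ≠ 0)

include ham hn hcop hμ in
theorem φ_injective : Function.Injective (φ p a μ i₀) := by
  rw [injective_iff_map_eq_zero]
  intro y hy
  obtain ⟨Q, rfl⟩ := Ideal.Quotient.mk_surjective y
  rw [φ_mk] at hy
  have h1 : Q ∈ RingHom.ker (MvPolynomial.aeval (zz p a μ i₀) :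
      MvPolynomial {j : Fin n // j ≠ i₀} (MvPowerSeries (Fin n) k) →ₐ[MvPowerSeries (Fin n) k]
        AQ p (bf a μ)) := RingHom.mem_ker.2 hy
  rw [ker_aeval_zz p a μ i₀ ham hn hcop hμ] at h1
  exact Ideal.Quotient.eq_zero_iff_mem.2 h1

/-- the diagonal automorphism `u_i ↦ u_i + μ a_i` -/
noncomputable def σ1 : AQ p (bf a μ) ≃ₐ[MvPowerSeries (Fin n) k] AQ p (bf a μ) :=
  σ p (bf a μ) (fun _ => 1)

theorem σ1_uu (i : Fin n) : σ1 p a μ (uu p (bf a μ) i) = uu p (bf a μ) i +
    algebraMap (MvPowerSeries (Fin n) k) (AQ p (bf a μ)) (μ * a i) := by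
  unfold σ1
  rw [σ_uu]
  unfold shift
  rw [map_one, one_mul]

theorem mem_fixed_iff (x : AQ p (bf a μ)) :
    x ∈ FixedPoints.subring (AQ p (bf a μ)) (Subgroup.zpowers (σ1 p a μ)) ↔ σ1 p a μ x = x := by
  constructor
  · intro hx
    exact hx ⟨σ1 p a μ, Subgroup.mem_zpowers _⟩
  · intro hx g
    have hle : Subgroup.zpowers (σ1 p a μ) ≤
        MulAction.stabilizer (AQ p (bf a μ) ≃ₐ[MvPowerSeries (Fin n) k] AQ p (bf a μ)) x :=
      Subgroup.zpowers_le.2 (MulAction.mem_stabilizer_iff.2 hx)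
    exact MulAction.mem_stabilizer_iff.1 (hle g.2)

include ham hn hcop hμ in
theorem main : Module.Free (MvPowerSeries (Fin n) k) (BQ p a μ i₀) ∧
    Module.finrank (MvPowerSeries (Fin n) k) (BQ p a μ i₀) = p ^ (n - 1) ∧
    IsDomain (BQ p a μ i₀) ∧
    IsIntegrallyClosed (Localization.Away
      (algebraMap (MvPowerSeries (Fin n) k) (BQ p a μ i₀) (μ * a i₀))) := by
  have hdomR : IsDomain (MvPowerSeries (Fin n) k) := isDomain_R
  have hbm := bf_constantCoeff a μ ham
  have hdom : IsDomain (AQ p (bf a μ)) := isDomain_AQ p (bf a μ) hbm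
  have hreg := isRegularLocalRing_AQ p (bf a μ) hbm
  have hic : IsIntegrallyClosed (AQ p (bf a μ)) := Groth.Agent.S9829.result _
  have hinj := algebraMap_AQ_injective p (bf a μ)
  have hφ := φ_injective p a μ i₀ ham hn hcop hμ
  obtain ⟨hfree, hrank⟩ := free_finrank_rAS p (two_le_p p) (αm p a μ i₀) (βm p a i₀)
  refine ⟨hfree, ?_, ?_, ?_⟩
  · rw [hrank]
    congr 1
    simp
  · exact Function.Injective.isDomain (φ p a μ i₀) hφ
  · let G := Subgroup.zpowers (σ1 p a μ)
    have hicE : IsIntegrallyClosed (FixedPoints.subring (AQ p (bf a μ)) G) :=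
      Groth.Agent.Lib.Helper84.WQ12.isIntegrallyClosed_fixed _ _
    have hfix : ∀ y, (φ p a μ i₀ : BQ p a μ i₀ →+* AQ p (bf a μ)) y ∈
        FixedPoints.subring (AQ p (bf a μ)) G := fun y =>
      (mem_fixed_iff p a μ _).2
        (fixed_of_mem_Aci p a μ i₀ (σ1 p a μ) (σ1_uu p a μ) _ (φ_mem_Aci p a μ i₀ y))
    let ψ : BQ p a μ i₀ →+* FixedPoints.subring (AQ p (bf a μ)) G :=
      (φ p a μ i₀ : BQ p a μ i₀ →+* AQ p (bf a μ)).codRestrict _ hfix
    have hψv : ∀ y, ((ψ y : FixedPoints.subring (AQ p (bf a μ)) G) : AQ p (bf a μ)) =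
        φ p a μ i₀ y := fun _ => rfl
    have hψf : ((ψ (algebraMap (MvPowerSeries (Fin n) k) (BQ p a μ i₀) (μ * a i₀)) :
        FixedPoints.subring (AQ p (bf a μ)) G) : AQ p (bf a μ)) =
        algebraMap (MvPowerSeries (Fin n) k) (AQ p (bf a μ)) (μ * a i₀) := by
      rw [hψv, AlgHom.commutes]
    refine isIntegrallyClosed_away_of_injective ψ ?_ _ ?_ ?_
    · intro y y' hyy
      exact hφ (by rw [← hψv, ← hψv, hyy])
    · intro h
      have h1 := congrArg Subtype.val h
      rw [hψf] at h1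
      have h2 : algebraMap (MvPowerSeries (Fin n) k) (AQ p (bf a μ)) (μ * a i₀) = 0 := h1
      rw [← map_zero (algebraMap (MvPowerSeries (Fin n) k) (AQ p (bf a μ)))] at h2
      exact mul_ne_zero hμ (a_ne_zero a ham hn hcop i₀) (hinj h2)
    · intro x
      obtain ⟨N, hN⟩ := exists_pow_mul_mem_Aci p a μ i₀ ham hn hcop hμ (σ1 p a μ) (σ1_uu p a μ)
        x.1 ((mem_fixed_iff p a μ _).1 x.2)
      obtain ⟨y, hy⟩ := exists_φ_eq p a μ i₀ _ hN
      refine ⟨N, y, Subtype.ext ?_⟩
      rw [hψv, hy]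
      show ((ψ _ : FixedPoints.subring (AQ p (bf a μ)) G) : AQ p (bf a μ)) ^ N * x.1 = _
      rw [hψf]

end Concrete

end Groth.Agent.Lib.Helper84.WQ15
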