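import Mathlib
import Groth.Agent.Lib.Helper84.WQ14

/-!
# The Artin–Schreier family, part 16 (helper84): the invariants of the index-`p` subgroup
`H_s = {ν : Σ ν_i s_i = 0}` are `R[z_s]` (WildQuot S15810), part 1: the element `z_s`, its
relation, the action of the group on it, and the kernel of `R[T] → A`.
-/

set_option autoImplicit false
set_option linter.unusedSectionVars false

universe u v

namespace Groth.Agent.Lib.Helper84.WQ16

open Groth.Agent.Lib.Helper84.WQ Groth.Agent.Lib.Helper84.WQ13 Groth.Agent.Lib.Helper84.WQ14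

section Defs

variable (p : ℕ) [hp : Fact p.Prime] {k : Type u} [Field k] [CharP k p] {n : ℕ}
  (a : Fin n → MvPowerSeries (Fin n) k) (μ : MvPowerSeries (Fin n) k) (s : Fin n → ZMod p)

/-- the support of `s` -/
def TT : Finset (Fin n) := Finset.univ.filter (fun i => s i ≠ 0)

/-- the product of the `a_i`, `i ∈ T` -/
noncomputable def αT : MvPowerSeries (Fin n) k := ∏ i ∈ TT p s, a i

/-- the partial products -/
noncomputable def αi (i : Fin n) : MvPowerSeries (Fin n) k := ∏ j ∈ (TT p s).erase i, a j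

/-- the coefficients `w_i = s_i α_i` -/
noncomputable def ww (i : Fin n) : MvPowerSeries (Fin n) k := cz p (s i) * αi p a s i

/-- the element `z_s` -/
noncomputable def zs : AQ p (bf a μ) :=
  ∑ i ∈ TT p s, algebraMap (MvPowerSeries (Fin n) k) (AQ p (bf a μ)) (ww p a s i) * uu p (bf a μ) i

/-- the constant term of `f_s` -/
noncomputable def βs : MvPowerSeries (Fin n) k :=
  ∑ i ∈ TT p s, cz p (s i) * αi p a s i ^ p * MvPowerSeries.X i

/-- the polynomial `f_s` -/
noncomputable def fs : Polynomial (MvPowerSeries (Fin n) k) :=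
  Polynomial.X ^ p - Polynomial.C ((μ * αT p a s) ^ (p - 1)) * Polynomial.X -
    Polynomial.C (βs p a s)

theorem mul_αi {i : Fin n} (hi : i ∈ TT p s) : a i * αi p a s i = αT p a s := by
  unfold αi αT
  exact Finset.mul_prod_erase _ _ hi

theorem zs_rel : zs p a μ s ^ p =
    algebraMap (MvPowerSeries (Fin n) k) (AQ p (bf a μ)) ((μ * αT p a s) ^ (p - 1)) * zs p a μ s +
      algebraMap (MvPowerSeries (Fin n) k) (AQ p (bf a μ)) (βs p a s) := by
  have := charP_AQ p (bf a μ)
  unfold zs βs
  rw [sum_pow_char, Finset.mul_sum, map_sum, ← Finset.sum_add_distrib]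
  refine Finset.sum_congr rfl ?_
  intro i hi
  have h1 : ww p a s i ^ p * (μ * a i) ^ (p - 1) = (μ * αT p a s) ^ (p - 1) * ww p a s i := by
    unfold ww
    rw [mul_pow, cz_pow, ← mul_αi p a s hi, ← pow_pred_mul p (αi p a s i)]
    ring
  have h2 : ww p a s i ^ p = cz p (s i) * αi p a s i ^ p := by
    unfold ww
    rw [mul_pow, cz_pow]
  have h1' := congrArg (algebraMap (MvPowerSeries (Fin n) k) (AQ p (bf a μ))) h1
  have h2' := congrArg (algebraMap (MvPowerSeries (Fin n) k) (AQ p (bf a μ))) h2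
  rw [mul_pow, uu_rel]
  simp only [map_mul, map_pow] at h1' h2' ⊢
  linear_combination (uu p (bf a μ) i) * h1' +
    algebraMap (MvPowerSeries (Fin n) k) (AQ p (bf a μ)) (MvPowerSeries.X i) * h2'

theorem aeval_fs : Polynomial.aeval (zs p a μ s) (fs p a μ s) = 0 := by
  unfold fs
  rw [map_sub, map_sub, map_mul, map_pow, Polynomial.aeval_X, Polynomial.aeval_C,
    Polynomial.aeval_C, zs_rel]
  ring

theorem fs_monic : (fs p a μ s).Monic := by
  have h : fs p a μ s = Polynomial.X ^ p -
      (Polynomial.C ((μ * αT p a s) ^ (p - 1)) * Polynomial.X + Polynomial.C (βs p a s)) := by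
    unfold fs; ring
  rw [h]
  apply Polynomial.monic_X_pow_sub
  refine lt_of_le_of_lt (Polynomial.degree_linear_le) ?_
  exact_mod_cast two_le_p p

theorem fs_natDegree : (fs p a μ s).natDegree = p := by
  have h : fs p a μ s = Polynomial.X ^ p -
      (Polynomial.C ((μ * αT p a s) ^ (p - 1)) * Polynomial.X + Polynomial.C (βs p a s)) := by
    unfold fs; ring
  rw [h, Polynomial.natDegree_sub_eq_left_of_natDegree_lt, Polynomial.natDegree_X_pow]
  rw [Polynomial.natDegree_X_pow]
  exact lt_of_le_of_lt (Polynomial.natDegree_linear_le) (two_le_p p)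

/-- the pairing `Σ v_i s_i` -/
def pair (v : Fin n → ZMod p) : ZMod p := ∑ i, v i * s i

theorem σ_zs (v : Fin n → ZMod p) : σ p (bf a μ) v (zs p a μ s) = zs p a μ s +
    algebraMap (MvPowerSeries (Fin n) k) (AQ p (bf a μ)) (cz p (pair p s v) * (μ * αT p a s)) := by
  unfold zs
  rw [map_sum]
  have h1 : ∀ i ∈ TT p s, σ p (bf a μ) v
      (algebraMap (MvPowerSeries (Fin n) k) (AQ p (bf a μ)) (ww p a s i) * uu p (bf a μ) i) =
      algebraMap (MvPowerSeries (Fin n) k) (AQ p (bf a μ)) (ww p a s i) * uu p (bf a μ) i +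
      algebraMap (MvPowerSeries (Fin n) k) (AQ p (bf a μ))
        (cz p (v i * s i) * (μ * αT p a s)) := by
    intro i hi
    rw [map_mul, AlgEquiv.commutes, σ_uu]
    unfold shift
    rw [mul_add, ← map_mul]
    congr 2
    unfold ww
    rw [← mul_αi p a s hi, map_mul]
    ring
  rw [Finset.sum_congr rfl h1, Finset.sum_add_distrib, ← map_sum, ← Finset.sum_mul, ← map_sum]
  congr 4
  unfold pair TT
  apply Finset.sum_filter_of_ne
  intro i _ hne
  exact fun h0 => hne (by rw [h0, mul_zero])

end Defs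

section Kernel

open IsLocalRing

variable (p : ℕ) [hp : Fact p.Prime] {k : Type u} [Field k] [CharP k p] {n : ℕ}
  (a : Fin n → MvPowerSeries (Fin n) k) (μ : MvPowerSeries (Fin n) k) (s : Fin n → ZMod p)

theorem σ_aeval_zs (v : Fin n → ZMod p) (P : Polynomial (MvPowerSeries (Fin n) k)) :
    σ p (bf a μ) v (Polynomial.aeval (zs p a μ s) P) =
      Polynomial.aeval (zs p a μ s + algebraMap (MvPowerSeries (Fin n) k) (AQ p (bf a μ))
        (cz p (pair p s v) * (μ * αT p a s))) P := by
  rw [← σ_zs]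
  exact (Polynomial.aeval_algHom_apply
    (σ p (bf a μ) v : AQ p (bf a μ) →ₐ[MvPowerSeries (Fin n) k] AQ p (bf a μ)) (zs p a μ s) P).symm

theorem σ_fix_of_mem_range (v : Fin n → ZMod p) (hv : pair p s v = 0) (t : AQ p (bf a μ))
    (ht : t ∈ (Polynomial.aeval (zs p a μ s) :
      Polynomial (MvPowerSeries (Fin n) k) →ₐ[MvPowerSeries (Fin n) k] AQ p (bf a μ)).range) :
    σ p (bf a μ) v t = t := by
  obtain ⟨P, rfl⟩ := ht
  show σ p (bf a μ) v (Polynomial.aeval (zs p a μ s) P) = Polynomial.aeval (zs p a μ s) P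
  rw [σ_aeval_zs, hv, map_zero, zero_mul, map_zero, add_zero]

variable (hs : s ≠ 0)

include hs in
theorem exists_pair_eq (c : ZMod p) : ∃ v : Fin n → ZMod p, pair p s v = c := by
  have : ∃ i, s i ≠ 0 := by
    by_contra h
    push Not at h
    exact hs (funext h)
  obtain ⟨i1, hi1⟩ := this
  refine ⟨Pi.single i1 (c / s i1), ?_⟩
  unfold pair
  rw [Finset.sum_eq_single i1]
  · rw [Pi.single_eq_same, div_mul_cancel₀ _ hi1]
  · intro j _ hj
    rw [Pi.single_eq_of_ne hj, zero_mul]
  · intro h
    exact absurd (Finset.mem_univ _) h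

variable (ham : ∀ i, MvPowerSeries.constantCoeff (a i) = 0) (hn : 2 ≤ n)
  (hcop : ∀ i j, i ≠ j → IsRelPrime (a i) (a j)) (hμ : μ ≠ 0)

include ham hn hcop hμ in
theorem γ_ne_zero : μ * αT p a s ≠ 0 := by
  have hdomR : IsDomain (MvPowerSeries (Fin n) k) := isDomain_R
  refine mul_ne_zero hμ ?_
  unfold αT
  exact Finset.prod_ne_zero_iff.2 fun i _ => a_ne_zero a ham hn hcop i

include ham hn hcop hμ in
theorem translate_injective : Function.Injective (fun c : ZMod p => zs p a μ s +
    algebraMap (MvPowerSeries (Fin n) k) (AQ p (bf a μ)) (cz p c * (μ * αT p a s))) := by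
  have hdomR : IsDomain (MvPowerSeries (Fin n) k) := isDomain_R
  intro c c' hcc
  have h1 := algebraMap_AQ_injective p (bf a μ) (add_left_cancel hcc)
  exact cz_injective p (mul_right_cancel₀ (γ_ne_zero p a μ s ham hn hcop hμ) h1)

include ham hn hcop hμ hs in
/-- a polynomial of degree `< p` over `R` vanishing at `z_s` is zero -/
theorem eq_zero_of_aeval_zs (P : Polynomial (MvPowerSeries (Fin n) k)) (hdeg : P.natDegree < p)
    (h0 : Polynomial.aeval (zs p a μ s) P = 0) : P = 0 := by
  have hdom : IsDomain (AQ p (bf a μ)) := isDomain_AQ p (bf a μ) (bf_constantCoeff a μ ham)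
  have hinj := algebraMap_AQ_injective p (bf a μ)
  suffices h : P.map (algebraMap (MvPowerSeries (Fin n) k) (AQ p (bf a μ))) = 0 by
    apply Polynomial.map_injective _ hinj
    rw [h, Polynomial.map_zero]
  apply Polynomial.eq_zero_of_natDegree_lt_card_of_eval_eq_zero _
    (translate_injective p a μ s ham hn hcop hμ)
  · intro c
    obtain ⟨v, hv⟩ := exists_pair_eq p s hs c
    rw [Polynomial.eval_map_algebraMap, ← hv, ← σ_aeval_zs, h0, map_zero]
  · rw [ZMod.card]
    exact lt_of_le_of_lt (Polynomial.natDegree_map_le) hdeg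

include ham hn hcop hμ hs in
theorem ker_aeval_zs : RingHom.ker (Polynomial.aeval (zs p a μ s) :
    Polynomial (MvPowerSeries (Fin n) k) →ₐ[MvPowerSeries (Fin n) k] AQ p (bf a μ)) =
    Ideal.span {fs p a μ s} := by
  apply le_antisymm
  · intro P hP
    rw [RingHom.mem_ker] at hP
    have h1 := Polynomial.modByMonic_add_div P (fs p a μ s)
    have h2 := congrArg (Polynomial.aeval (zs p a μ s)) h1
    rw [map_add, map_mul, aeval_fs, zero_mul, add_zero, hP] at h2
    have h3 := eq_zero_of_aeval_zs p a μ s hs ham hn hcop hμ _ (by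
      have := Polynomial.natDegree_modByMonic_lt P (fs_monic p a μ s) (by
        intro h
        have h4 := fs_natDegree p a μ s
        rw [h, Polynomial.natDegree_one] at h4
        have := two_le_p p
        omega)
      rwa [fs_natDegree] at this) h2
    rw [Ideal.mem_span_singleton]
    exact (Polynomial.modByMonic_eq_zero_iff_dvd (fs_monic p a μ s)).1 h3
  · rw [Ideal.span_singleton_le_iff_mem, RingHom.mem_ker]
    exact aeval_fs p a μ s

end Kernel

section ListProd

variable (p : ℕ) [hp : Fact p.Prime] {k : Type u} [Field k] [CharP k p] {n : ℕ}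
  (b : Fin n → MvPowerSeries (Fin n) k)

theorem list_prod_σ : ∀ (m : ℕ) (w : Fin m → (Fin n → ZMod p)),
    (List.ofFn (fun i => σ p b (w i))).prod = σ p b (∑ i, w i) := by
  intro m
  induction m with
  | zero =>
    intro w
    simp [σ_zero]
  | succ m ih =>
    intro w
    rw [List.ofFn_succ, List.prod_cons, ih (fun i => w i.succ), σ_mul, Fin.sum_univ_succ]

theorem σ_eq_of_uu (τ : AQ p b ≃ₐ[MvPowerSeries (Fin n) k] AQ p b) (v : Fin n → ZMod p)
    (h : ∀ j, τ (uu p b j) = uu p b j +
      algebraMap (MvPowerSeries (Fin n) k) (AQ p b) (cz p (v j) * b j)) : τ = σ p b v := by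
  have h1 : (τ : AQ p b →ₐ[MvPowerSeries (Fin n) k] AQ p b) =
      (σ p b v : AQ p b →ₐ[MvPowerSeries (Fin n) k] AQ p b) := by
    apply algHom_ext_AQ
    intro i
    rw [AlgEquiv.coe_toAlgHom, AlgEquiv.coe_toAlgHom, σ_uu, h i]
    rfl
  ext x
  exact DFunLike.congr_fun h1 x

/-- the product `∏ σ_i ^ ν_i` is `σ_ν` -/
theorem list_prod_pow (σ' : Fin n → (AQ p b ≃ₐ[MvPowerSeries (Fin n) k] AQ p b))
    (hσ : ∀ i j, σ' i (uu p b j) = uu p b j +
      (if i = j then algebraMap (MvPowerSeries (Fin n) k) (AQ p b) (b i) else 0))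
    (ν : Fin n → ZMod p) :
    (List.ofFn (fun i : Fin n => σ' i ^ (ν i).val)).prod = σ p b ν := by
  have h1 : ∀ i, σ' i = σ p b (Pi.single i 1) := by
    intro i
    apply σ_eq_of_uu
    intro j
    rw [hσ i j]
    by_cases hij : i = j
    · subst hij
      rw [if_pos rfl, Pi.single_eq_same, map_one, one_mul]
    · rw [if_neg hij, Pi.single_eq_of_ne (Ne.symm hij), map_zero, zero_mul, map_zero]
  have h2 : ∀ i, σ' i ^ (ν i).val = σ p b (Pi.single i (ν i)) := by
    intro i
    rw [h1 i, σ_pow]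
    congr 1
    rw [← Pi.single_smul', nsmul_eq_mul, mul_one, ZMod.natCast_zmod_val]
  rw [show (fun i : Fin n => σ' i ^ (ν i).val) = fun i => σ p b (Pi.single i (ν i)) from
    funext h2, list_prod_σ, Finset.univ_sum_single]

end ListProd

end Groth.Agent.Lib.Helper84.WQ16
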