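import Mathlib
import Groth.Agent.Lib.Helper84.WQ16
import Groth.Agent.Lib.Helper84.RegUFD4

/-!
# The Artin–Schreier family, part 17 (helper84): invariants of `H_s` are `R[z_s]`
(WildQuot S15810), part 2: descent of divisibility (`Good`) and Lagrange interpolation.
-/

set_option autoImplicit false
set_option linter.unusedSectionVars false

universe u v

namespace Groth.Agent.Lib.Helper84.WQ17

open Groth.Agent.Lib.Helper84.WQ Groth.Agent.Lib.Helper84.WQ13 Groth.Agent.Lib.Helper84.WQ14
  Groth.Agent.Lib.Helper84.WQ16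

section NFinj

variable (p : ℕ) [hp : Fact p.Prime] {k : Type u} [Field k] [CharP k p] {n : ℕ}
  (b : Fin n → MvPowerSeries (Fin n) k)

theorem aeval_uu (P : MvPolynomial (Fin n) (MvPowerSeries (Fin n) k)) :
    MvPolynomial.aeval (uu p b) P = Ideal.Quotient.mk _ P := by
  have h := MvPolynomial.aeval_unique (Ideal.Quotient.mkₐ (MvPowerSeries (Fin n) k)
    (IAS p (αf p b) (βf (k := k))))
  exact (DFunLike.congr_fun h P).symm

variable (hbm : ∀ i, MvPowerSeries.constantCoeff (b i) = 0) (hb0 : ∀ i, b i ≠ 0)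

include hbm hb0 in
/-- a polynomial in normal form vanishing at `u` is zero -/
theorem eq_zero_of_aeval_uu (P : MvPolynomial (Fin n) (MvPowerSeries (Fin n) k))
    (hdeg : ∀ i, P.degreeOf i < p) (h0 : MvPolynomial.aeval (uu p b) P = 0) : P = 0 := by
  classical
  have hdomR : IsDomain (MvPowerSeries (Fin n) k) := isDomain_R
  have hdom : IsDomain (AQ p b) := isDomain_AQ p b hbm
  have hinj := algebraMap_AQ_injective p b
  have hpt : ∀ i : Fin n, Function.Injective (fun c : ZMod p => uu p b i +
      algebraMap (MvPowerSeries (Fin n) k) (AQ p b) (cz p c * b i)) := by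
    intro i c c' hcc
    have h1 := hinj (add_left_cancel hcc)
    exact cz_injective p (mul_right_cancel₀ (hb0 i) h1)
  suffices h : MvPolynomial.map (algebraMap (MvPowerSeries (Fin n) k) (AQ p b)) P = 0 by
    apply MvPolynomial.map_injective _ hinj
    rw [h, map_zero]
  apply MvPolynomial.eq_zero_of_eval_zero_at_prod_finset _ (fun i => Finset.univ.image
    (fun c : ZMod p => uu p b i + algebraMap (MvPowerSeries (Fin n) k) (AQ p b) (cz p c * b i)))
  · intro i
    rw [Finset.card_image_of_injective _ (hpt i), Finset.card_univ, ZMod.card]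
    refine lt_of_le_of_lt ?_ (hdeg i)
    rw [MvPolynomial.degreeOf_def, MvPolynomial.degreeOf_def]
    exact Multiset.count_le_of_le _ MvPolynomial.degrees_map_le
  · intro x hx
    choose c hc using fun i => Finset.mem_image.1 (hx i)
    have hx' : x = fun i => (σ p b c : AQ p b →ₐ[MvPowerSeries (Fin n) k] AQ p b) (uu p b i) := by
      funext i
      rw [AlgEquiv.coe_toAlgHom, σ_uu]
      exact ((hc i).2).symm
    rw [MvPolynomial.eval_map, ← MvPolynomial.aeval_def, hx', ← MvPolynomial.comp_aeval_apply, h0,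
      map_zero]

end NFinj

section Good

open IsLocalRing

variable (p : ℕ) [hp : Fact p.Prime] {k : Type u} [Field k] [CharP k p] {n : ℕ}
  (a : Fin n → MvPowerSeries (Fin n) k) (μ : MvPowerSeries (Fin n) k) (s : Fin n → ZMod p)

/-- the range of `R[T] → A`, `T ↦ z_s` -/
noncomputable abbrev Rz : Subalgebra (MvPowerSeries (Fin n) k) (AQ p (bf a μ)) :=
  (Polynomial.aeval (zs p a μ s) :
    Polynomial (MvPowerSeries (Fin n) k) →ₐ[MvPowerSeries (Fin n) k] AQ p (bf a μ)).range

/-- `g` is good if `g t ∈ R[z]` implies `t ∈ R[z]` -/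
def Good (g : MvPowerSeries (Fin n) k) : Prop :=
  ∀ t : AQ p (bf a μ), algebraMap (MvPowerSeries (Fin n) k) (AQ p (bf a μ)) g * t ∈ Rz p a μ s →
    t ∈ Rz p a μ s

theorem good_mul {g h : MvPowerSeries (Fin n) k} (hg : Good p a μ s g) (hh : Good p a μ s h) :
    Good p a μ s (g * h) := by
  intro t ht
  rw [map_mul, mul_assoc] at ht
  exact hh t (hg _ ht)

theorem good_of_isUnit {g : MvPowerSeries (Fin n) k} (hg : IsUnit g) : Good p a μ s g := by
  intro t ht
  obtain ⟨g', hg'⟩ := hg.exists_left_inv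
  have h1 : t = algebraMap (MvPowerSeries (Fin n) k) (AQ p (bf a μ)) g' *
      (algebraMap (MvPowerSeries (Fin n) k) (AQ p (bf a μ)) g * t) := by
    rw [← mul_assoc, ← map_mul, hg', map_one, one_mul]
  rw [h1]
  exact Subalgebra.mul_mem _ (Subalgebra.algebraMap_mem _ _) ht

theorem good_prod {ι : Type*} (S : Finset ι) (g : ι → MvPowerSeries (Fin n) k)
    (hg : ∀ i ∈ S, Good p a μ s (g i)) : Good p a μ s (∏ i ∈ S, g i) := by
  classical
  induction S using Finset.induction_on with
  | empty => simpa using good_of_isUnit p a μ s isUnit_one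
  | insert i S hi ih =>
    rw [Finset.prod_insert hi]
    exact good_mul p a μ s (hg i (Finset.mem_insert_self _ _))
      (ih fun j hj => hg j (Finset.mem_insert_of_mem hj))

/-- the linear form `Z = Σ w_i X_i` -/
noncomputable def ZZ : MvPolynomial (Fin n) (MvPowerSeries (Fin n) k) :=
  ∑ i ∈ TT p s, MvPolynomial.C (ww p a s i) * MvPolynomial.X i

theorem aeval_ZZ : MvPolynomial.aeval (uu p (bf a μ)) (ZZ p a s) = zs p a μ s := by
  unfold ZZ zs
  rw [map_sum]
  refine Finset.sum_congr rfl fun i _ => ?_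
  rw [map_mul, MvPolynomial.aeval_C, MvPolynomial.aeval_X]

theorem totalDegree_ZZ_le : (ZZ p a s).totalDegree ≤ 1 := by
  unfold ZZ
  refine MvPolynomial.totalDegree_finsetSum_le fun i _ => ?_
  refine (MvPolynomial.totalDegree_mul _ _).trans ?_
  rw [MvPolynomial.totalDegree_C, MvPolynomial.totalDegree_X, zero_add]

theorem totalDegree_aeval_ZZ_le (P : Polynomial (MvPowerSeries (Fin n) k)) :
    (Polynomial.aeval (ZZ p a s) P).totalDegree ≤ P.natDegree := by
  rw [Polynomial.aeval_eq_sum_range]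
  refine MvPolynomial.totalDegree_finsetSum_le fun m hm => ?_
  rw [MvPolynomial.smul_eq_C_mul]
  refine (MvPolynomial.totalDegree_mul _ _).trans ?_
  rw [MvPolynomial.totalDegree_C, zero_add]
  refine (MvPolynomial.totalDegree_pow _ _).trans ?_
  have h1 := totalDegree_ZZ_le p a s
  have h2 := Finset.mem_range.1 hm
  calc m * (ZZ p a s).totalDegree ≤ m * 1 := Nat.mul_le_mul_left _ h1
    _ ≤ P.natDegree := by omega

/-- the evaluation `X_l ↦ T`, `X_i ↦ 0` for `i ≠ l` -/
noncomputable def evl (l : Fin n) : MvPolynomial (Fin n) (MvPowerSeries (Fin n) k) →ₐ[MvPowerSeries (Fin n) k]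
    Polynomial (MvPowerSeries (Fin n) k) :=
  MvPolynomial.aeval (fun i => if i = l then Polynomial.X else 0)

theorem evl_ZZ {l : Fin n} (hl : l ∈ TT p s) :
    evl l (ZZ p a s) = Polynomial.C (ww p a s l) * Polynomial.X := by
  unfold evl ZZ
  rw [map_sum, Finset.sum_eq_single l]
  · rw [map_mul, MvPolynomial.aeval_C, MvPolynomial.aeval_X, if_pos rfl]
    rfl
  · intro i _ hi
    rw [map_mul, MvPolynomial.aeval_X, if_neg hi, mul_zero]
  · intro h
    exact absurd hl h

variable (ham : ∀ i, MvPowerSeries.constantCoeff (a i) = 0) (hn : 2 ≤ n)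
  (hcop : ∀ i j, i ≠ j → IsRelPrime (a i) (a j)) (hμ : μ ≠ 0)

include ham hn hcop hμ in
theorem good_of_isRelPrime (g : MvPowerSeries (Fin n) k) (hg0 : g ≠ 0) (l : Fin n)
    (hl : l ∈ TT p s) (hgl : IsRelPrime g (αi p a s l)) : Good p a μ s g := by
  have hdomR : IsDomain (MvPowerSeries (Fin n) k) := isDomain_R
  have hufd : UniqueFactorizationMonoid (MvPowerSeries (Fin n) k) :=
    Groth.Agent.Lib.Helper84.RegUFD.uniqueFactorizationMonoid_of_isRegularLocalRing _
  have hbm := bf_constantCoeff a μ ham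
  have hb0 : ∀ i, bf a μ i ≠ 0 := fun i => mul_ne_zero hμ (a_ne_zero a ham hn hcop i)
  have hdom : IsDomain (AQ p (bf a μ)) := isDomain_AQ p (bf a μ) hbm
  have hinj := algebraMap_AQ_injective p (bf a μ)
  have hgw : IsRelPrime g (ww p a s l) := by
    unfold ww
    refine IsRelPrime.mul_right ?_ hgl
    have hu : IsUnit (cz p (s l) : MvPowerSeries (Fin n) k) := by
      have hsl : s l ≠ 0 := (Finset.mem_filter.1 hl).2
      exact (IsUnit.mk0 _ hsl).map (cz p)
    exact hu.isRelPrime_right
  intro t ht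
  obtain ⟨P0, hP0⟩ := ht
  change Polynomial.aeval (zs p a μ s) P0 = _ at hP0
  -- reduce the degree
  set P := P0 %ₘ fs p a μ s with hP
  have hPdeg : P.natDegree < p := by
    have := Polynomial.natDegree_modByMonic_lt P0 (fs_monic p a μ s) (by
      intro h
      have h4 := fs_natDegree p a μ s
      rw [h, Polynomial.natDegree_one] at h4
      have := two_le_p p
      omega)
    rwa [fs_natDegree] at this
  have hPz : Polynomial.aeval (zs p a μ s) P =
      algebraMap (MvPowerSeries (Fin n) k) (AQ p (bf a μ)) g * t := by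
    have h1 := Polynomial.modByMonic_add_div P0 (fs p a μ s)
    have h2 := congrArg (Polynomial.aeval (zs p a μ s)) h1
    rw [map_add, map_mul, aeval_fs, zero_mul, add_zero, hP0] at h2
    exact h2
  -- the multivariate polynomial
  set Q := Polynomial.aeval (ZZ p a s) P with hQ
  have hQu : MvPolynomial.aeval (uu p (bf a μ)) Q = Polynomial.aeval (zs p a μ s) P := by
    rw [hQ, ← aeval_ZZ p a μ s]
    exact (Polynomial.aeval_algHom_apply (MvPolynomial.aeval (uu p (bf a μ)) :
      MvPolynomial (Fin n) (MvPowerSeries (Fin n) k) →ₐ[MvPowerSeries (Fin n) k] AQ p (bf a μ))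
      (ZZ p a s) P).symm
  have hQdeg : ∀ i, Q.degreeOf i < p := fun i =>
    lt_of_le_of_lt ((MvPolynomial.degreeOf_le_totalDegree _ _).trans
      (totalDegree_aeval_ZZ_le p a s P)) hPdeg
  -- normal form of `t`
  obtain ⟨Qt0, hQt0⟩ := Ideal.Quotient.mk_surjective t
  obtain ⟨Qt, hQt, hQtdeg⟩ := exists_nf p (αf p (bf a μ)) (βf (k := k) (n := n)) (two_le_p p) Qt0
  have hQtu : MvPolynomial.aeval (uu p (bf a μ)) Qt = t := by
    rw [aeval_uu, ← hQt0]
    exact ((Ideal.Quotient.eq).2 hQt).symm
  have hD : MvPolynomial.C g * Qt - Q = 0 := by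
    apply eq_zero_of_aeval_uu p (bf a μ) hbm hb0
    · intro i
      refine lt_of_le_of_lt (MvPolynomial.degreeOf_sub_le _ _ _) (max_lt ?_ (hQdeg i))
      exact lt_of_le_of_lt (MvPolynomial.degreeOf_C_mul_le _ _ _) (hQtdeg i)
    · rw [map_sub, map_mul, MvPolynomial.aeval_C, hQtu, hQu, hPz, sub_self]
  have hQeq : Q = MvPolynomial.C g * Qt := (sub_eq_zero.1 hD).symm
  -- apply `evl`
  have h1 : evl l Q = Polynomial.C g * evl l Qt := by
    rw [hQeq, map_mul]
    congr 1
    unfold evl
    rw [MvPolynomial.aeval_C]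
    rfl
  have h2 : evl l Q = P.comp (Polynomial.C (ww p a s l) * Polynomial.X) := by
    rw [hQ, ← Polynomial.aeval_algHom_apply, evl_ZZ p a s hl, Polynomial.comp_eq_aeval]
  have h3 : ∀ m, g ∣ P.coeff m := by
    intro m
    have h4 : g ∣ (evl l Q).coeff m :=
      (Polynomial.C_dvd_iff_dvd_coeff _ _).1 ⟨_, h1⟩ m
    rw [h2, Polynomial.comp_C_mul_X_coeff] at h4
    clear_value P Q
    induction m with
    | zero => simpa using h4
    | succ m _ =>
      have : ∀ j : ℕ, g ∣ P.coeff (m + 1) * ww p a s l ^ j → g ∣ P.coeff (m + 1) := by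
        intro j
        induction j with
        | zero => intro h; simpa using h
        | succ j ihj =>
          intro h
          rw [pow_succ, ← mul_assoc] at h
          exact ihj (hgw.dvd_of_dvd_mul_right h)
      exact this _ h4
  obtain ⟨P', hP'⟩ := (Polynomial.C_dvd_iff_dvd_coeff _ _).2 h3
  refine ⟨P', ?_⟩
  change Polynomial.aeval (zs p a μ s) P' = t
  have hg0' : algebraMap (MvPowerSeries (Fin n) k) (AQ p (bf a μ)) g ≠ 0 := by
    rw [Ne, ← map_zero (algebraMap (MvPowerSeries (Fin n) k) (AQ p (bf a μ)))]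
    exact fun h => hg0 (hinj h)
  apply mul_left_cancel₀ hg0'
  rw [← hPz, hP', map_mul, Polynomial.aeval_C]

end Good

section Lagrange

open IsLocalRing

variable (p : ℕ) [hp : Fact p.Prime] {k : Type u} [Field k] [CharP k p] {n : ℕ}
  (a : Fin n → MvPowerSeries (Fin n) k) (μ : MvPowerSeries (Fin n) k) (s : Fin n → ZMod p)

theorem pair_add (v w : Fin n → ZMod p) : pair p s (v + w) = pair p s v + pair p s w := by
  unfold pair
  simp [add_mul, Finset.sum_add_distrib]

theorem pair_neg (v : Fin n → ZMod p) : pair p s (-v) = - pair p s v := by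
  unfold pair
  simp [Finset.sum_neg_distrib]

/-- the translates of `z_s` -/
noncomputable def zc (c : ZMod p) : AQ p (bf a μ) :=
  zs p a μ s + algebraMap (MvPowerSeries (Fin n) k) (AQ p (bf a μ)) (cz p c * (μ * αT p a s))

theorem zc_zero : zc p a μ s 0 = zs p a μ s := by
  unfold zc
  rw [map_zero, zero_mul, map_zero, add_zero]

theorem σ_zc (v : Fin n → ZMod p) (c : ZMod p) :
    σ p (bf a μ) v (zc p a μ s c) = zc p a μ s (c + pair p s v) := by
  unfold zc
  rw [map_add, σ_zs, AlgEquiv.commutes, add_assoc, ← map_add, ← add_mul, ← map_add,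
    add_comm (pair p s v) c]

variable (hs : s ≠ 0) (ham : ∀ i, MvPowerSeries.constantCoeff (a i) = 0) (hn : 2 ≤ n)
  (hcop : ∀ i j, i ≠ j → IsRelPrime (a i) (a j)) (hμ : μ ≠ 0) (hμa : ∀ i, IsRelPrime μ (a i))

include hs in
theorem exists_mem_TT : ∃ l, l ∈ TT p s := by
  by_contra h
  push Not at h
  apply hs
  funext i
  by_contra hi
  exact h i (Finset.mem_filter.2 ⟨Finset.mem_univ _, hi⟩)

include hs ham hn hcop hμ hμa in
theorem good_γ : Good p a μ s (μ * αT p a s) := by
  have hdomR : IsDomain (MvPowerSeries (Fin n) k) := isDomain_R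
  have hufd : UniqueFactorizationMonoid (MvPowerSeries (Fin n) k) :=
    Groth.Agent.Lib.Helper84.RegUFD.uniqueFactorizationMonoid_of_isRegularLocalRing _
  obtain ⟨l0, hl0⟩ := exists_mem_TT p s hs
  refine good_mul p a μ s ?_ ?_
  · refine good_of_isRelPrime p a μ s ham hn hcop hμ μ hμ l0 hl0 ?_
    unfold αi
    exact IsRelPrime.prod_right fun j _ => hμa j
  · unfold αT
    refine good_prod p a μ s _ _ fun l hl => ?_
    refine good_of_isRelPrime p a μ s ham hn hcop hμ (a l) (a_ne_zero a ham hn hcop l) l hl ?_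
    unfold αi
    exact IsRelPrime.prod_right fun j hj => hcop l j (Finset.ne_of_mem_erase hj).symm

include hs ham hn hcop hμ hμa in
/-- an element fixed by `H_s` is a polynomial in `z_s` -/
theorem mem_Rz_of_fixed (t : AQ p (bf a μ))
    (ht : ∀ v : Fin n → ZMod p, pair p s v = 0 → σ p (bf a μ) v t = t) : t ∈ Rz p a μ s := by
  classical
  have hdomR : IsDomain (MvPowerSeries (Fin n) k) := isDomain_R
  have hbm := bf_constantCoeff a μ ham
  have hb0 : ∀ i, bf a μ i ≠ 0 := fun i => mul_ne_zero hμ (a_ne_zero a ham hn hcop i)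
  choose vsec hvsec using exists_pair_eq p s hs
  let tc : ZMod p → AQ p (bf a μ) := fun c => σ p (bf a μ) (vsec c) t
  have htc : ∀ (v : Fin n → ZMod p) (c : ZMod p),
      σ p (bf a μ) v (tc c) = tc (c + pair p s v) := by
    intro v c
    show σ p (bf a μ) v (σ p (bf a μ) (vsec c) t) = σ p (bf a μ) (vsec (c + pair p s v)) t
    have hd : pair p s (-(vsec (c + pair p s v)) + (v + vsec c)) = 0 := by
      rw [pair_add, pair_add, pair_neg, hvsec, hvsec]
      ring
    have h1 := ht _ hd
    have h2 : σ p (bf a μ) (vsec (c + pair p s v)) (σ p (bf a μ)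
        (-(vsec (c + pair p s v)) + (v + vsec c)) t) = σ p (bf a μ) v (σ p (bf a μ) (vsec c) t) := by
      rw [← AlgEquiv.mul_apply, σ_mul, ← AlgEquiv.mul_apply, σ_mul]
      congr 2
      abel
    rw [← h2, h1]
  let Φ : Polynomial (AQ p (bf a μ)) := ∑ c : ZMod p, Polynomial.C (tc c) *
    ∏ d ∈ Finset.univ.erase c, (Polynomial.X - Polynomial.C (zc p a μ s d))
  have hΦmap : ∀ v : Fin n → ZMod p,
      Φ.map ((σ p (bf a μ) v : AQ p (bf a μ) ≃ₐ[MvPowerSeries (Fin n) k] AQ p (bf a μ)) :
        AQ p (bf a μ) →+* AQ p (bf a μ)) = Φ := by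
    intro v
    have hf : ∀ x, ((σ p (bf a μ) v : AQ p (bf a μ) ≃ₐ[MvPowerSeries (Fin n) k] AQ p (bf a μ)) :
        AQ p (bf a μ) →+* AQ p (bf a μ)) x = σ p (bf a μ) v x := fun _ => rfl
    simp only [Φ, Polynomial.map_sum, Polynomial.map_mul, Polynomial.map_C, Polynomial.map_prod,
      Polynomial.map_sub, Polynomial.map_X, hf, htc, σ_zc]
    have hprod : ∀ c : ZMod p, ∏ d ∈ Finset.univ.erase c,
        (Polynomial.X - Polynomial.C (zc p a μ s (d + pair p s v))) =
        ∏ d ∈ Finset.univ.erase (c + pair p s v),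
          (Polynomial.X - Polynomial.C (zc p a μ s d)) := by
      intro c
      refine Finset.prod_equiv (Equiv.addRight (pair p s v)) ?_ ?_
      · intro d
        simp [Finset.mem_erase]
      · intro d _
        rfl
    simp only [hprod]
    exact Equiv.sum_comp (Equiv.addRight (pair p s v)) (fun c' => Polynomial.C (tc c') *
      ∏ d ∈ Finset.univ.erase c', (Polynomial.X - Polynomial.C (zc p a μ s d)))
  have hcoeff : ∀ m, Φ.coeff m ∈
      Set.range (algebraMap (MvPowerSeries (Fin n) k) (AQ p (bf a μ))) := by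
    intro m
    apply fixed_mem_range p (bf a μ) hb0 hbm
    intro τ
    obtain ⟨v, rfl⟩ := σ_surjective p (bf a μ) hb0 hbm τ
    have h1 := congrArg (fun F => Polynomial.coeff F m) (hΦmap v)
    simp only [Polynomial.coeff_map] at h1
    exact h1
  obtain ⟨ΦR, hΦR⟩ := (Polynomial.mem_lifts _).1 ((Polynomial.lifts_iff_coeff_lifts _).2 hcoeff)
  set g : MvPowerSeries (Fin n) k :=
    ∏ d ∈ Finset.univ.erase (0 : ZMod p), (-(cz p d) * (μ * αT p a s)) with hg
  have heval : Φ.eval (zs p a μ s) =
      algebraMap (MvPowerSeries (Fin n) k) (AQ p (bf a μ)) g * t := by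
    simp only [Φ, Polynomial.eval_finsetSum, Polynomial.eval_mul, Polynomial.eval_C,
      Polynomial.eval_prod, Polynomial.eval_sub, Polynomial.eval_X]
    rw [Finset.sum_eq_single (0 : ZMod p)]
    · have ht0 : tc 0 = t := ht _ (hvsec 0)
      rw [ht0, mul_comm, hg, map_prod]
      congr 1
      refine Finset.prod_congr rfl fun d _ => ?_
      unfold zc
      rw [neg_mul, map_neg]
      ring
    · intro c _ hc
      rw [Finset.prod_eq_zero (i := (0 : ZMod p)) (Finset.mem_erase.2 ⟨Ne.symm hc,
        Finset.mem_univ _⟩) (by rw [zc_zero, sub_self]), mul_zero]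
    · intro h
      exact absurd (Finset.mem_univ _) h
  have hgood : Good p a μ s g := by
    rw [hg]
    refine good_prod p a μ s _ _ fun d hd => ?_
    refine good_mul p a μ s (good_of_isUnit p a μ s ?_)
      (good_γ p a μ s hs ham hn hcop hμ hμa)
    exact ((IsUnit.mk0 _ (Finset.ne_of_mem_erase hd)).map (cz p)).neg
  apply hgood t
  refine ⟨ΦR, ?_⟩
  change Polynomial.aeval (zs p a μ s) ΦR = _
  rw [← heval, ← hΦR, Polynomial.eval_map_algebraMap]

end Lagrange

end Groth.Agent.Lib.Helper84.WQ17
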