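import Mathlib

/-!
# Inertia in a quotient, determinants of Galois matrices, heights (helper84)

* `mem_sup_inertia` : if `h` acts trivially on `A^N` modulo a prime `P` of `A`, then
  `h ∈ N ⊔ I(P)`.
* `det_notMem` : the Galois matrix `(g • e_b)` has determinant outside a prime `Q` when the
  characters `g ↦ (x ↦ g • x mod Q)` on a multiplicative set spanned by the `e_b` are distinct.
* `height_eq_one_of_under` : primes over a height one prime in an integral extension of domains
  have height one.
-/

set_option autoImplicit false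
set_option linter.unusedSectionVars false

universe u v w

namespace Groth.Agent.Lib.Helper84.WQ18

open scoped Pointwise

section QI

variable {R : Type u} [CommRing R] {A : Type v} [CommRing A] [Algebra R A]
  {H : Type w} [Group H] [Finite H] [MulSemiringAction H A] [SMulCommClass H R A]

/-- **Inertia of a quotient.** If `h ∈ H` acts trivially modulo the prime `P` on the invariants
`A^N`, then `h ∈ N · I(P)`. -/
theorem mem_sup_inertia (N : Subgroup H) (P : Ideal A) [P.IsPrime] (h : H)
    (hh : ∀ x ∈ FixedPoints.subalgebra R A N, h • x - x ∈ P) :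
    h ∈ N ⊔ P.inertia H := by
  classical
  let C := FixedPoints.subalgebra R A N
  haveI : Algebra.IsInvariant C A N := ⟨fun a ha => ⟨⟨a, ha⟩, rfl⟩⟩
  let 𝔭 : Ideal C := P.under C
  haveI : P.LiesOver 𝔭 := ⟨rfl⟩
  let P' : Ideal A := h⁻¹ • P
  have hP' : P.under C = P'.under C := by
    ext x
    simp only [Ideal.under_def, Ideal.mem_comap, P', Ideal.mem_inv_pointwise_smul_iff]
    have hx := hh x.1 x.2
    constructor
    · intro hx'
      have := P.add_mem hx hx'
      simpa using this
    · intro hx'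
      have := P.sub_mem hx' hx
      simpa using this
  obtain ⟨ν, hν⟩ := Algebra.IsInvariant.exists_smul_of_under_eq C A N P P' hP'
  -- `g = h ν` stabilises `P`
  have hmem : ∀ a : A, h • a ∈ P ↔ ν⁻¹ • a ∈ P := by
    intro a
    rw [← Ideal.mem_inv_pointwise_smul_iff, ← Ideal.mem_pointwise_smul_iff_inv_smul_mem]
    exact Iff.of_eq (congrArg (a ∈ ·) hν)
  set g : H := h * (ν : H) with hg
  have hgP : g ∈ MulAction.stabilizer H P := by
    rw [MulAction.mem_stabilizer_iff]
    ext a
    rw [Ideal.mem_pointwise_smul_iff_inv_smul_mem]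
    constructor
    · intro ha
      have h1 : g • (g⁻¹ • a) ∈ P := by
        rw [hg, mul_smul, hmem]
        have : ν⁻¹ • ((ν : H) • (g⁻¹ • a)) = g⁻¹ • a := by
          change ν⁻¹ • (ν • (g⁻¹ • a)) = _
          rw [inv_smul_smul]
        rw [this]; exact ha
      rwa [smul_inv_smul] at h1
    · intro ha
      have h1 : h • ((ν : H) • (g⁻¹ • a)) ∈ P := by
        rw [← mul_smul, ← hg, smul_inv_smul]; exact ha
      rw [hmem] at h1
      have : ν⁻¹ • ((ν : H) • (g⁻¹ • a)) = g⁻¹ • a := by
        change ν⁻¹ • (ν • (g⁻¹ • a)) = _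
        rw [inv_smul_smul]
      rwa [this] at h1
  -- `g` acts trivially on `C` modulo `P`
  have hgC : ∀ c : C, g • (c : A) - (c : A) ∈ P := by
    intro c
    have : g • (c : A) = h • (c : A) := by
      rw [hg, mul_smul]
      congr 1
      exact c.2 ν
    rw [this]
    exact hh c.1 c.2
  -- the automorphism of `A ⧸ P` over `C ⧸ 𝔭` induced by `g`
  let q : Ideal R := P.under R
  haveI : P.LiesOver q := ⟨rfl⟩
  let σR : (A ⧸ P) ≃ₐ[R ⧸ q] (A ⧸ P) := Ideal.Quotient.stabilizerHom P q H ⟨g, hgP⟩
  have hσR : ∀ a : A, σR (Ideal.Quotient.mk P a) = Ideal.Quotient.mk P (g • a) := fun a => rfl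
  let σ : (A ⧸ P) ≃ₐ[C ⧸ 𝔭] (A ⧸ P) := AlgEquiv.ofRingEquiv (f := σR.toRingEquiv) (by
    intro x
    obtain ⟨c, rfl⟩ := Ideal.Quotient.mk_surjective x
    rw [Ideal.Quotient.algebraMap_mk_of_liesOver]
    change σR (Ideal.Quotient.mk P (c : A)) = _
    rw [hσR, Ideal.Quotient.eq]
    exact hgC c)
  have hσ : ∀ a : A, σ (Ideal.Quotient.mk P a) = Ideal.Quotient.mk P (g • a) := fun a => rfl
  obtain ⟨ν', hν'⟩ := Ideal.Quotient.stabilizerHom_surjective N 𝔭 P σ
  have hν'a : ∀ a : A, g • a - ((ν' : N) : H) • a ∈ P := by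
    intro a
    have := DFunLike.congr_fun hν' (Ideal.Quotient.mk P a)
    rw [hσ] at this
    rw [← Ideal.Quotient.eq, ← this]
    rfl
  -- `k = g ν'⁻¹` lies in the inertia group
  have hk : g * (((ν' : N) : H))⁻¹ ∈ P.inertia H := by
    intro a
    have := hν'a ((((ν' : N) : H))⁻¹ • a)
    rwa [smul_inv_smul, ← mul_smul] at this
  have hh' : h = (g * (((ν' : N) : H))⁻¹) * ((((ν' : N) : H)) * ((ν : H))⁻¹) := by
    rw [hg]; group
  rw [hh']
  rw [sup_comm]
  exact Subgroup.mul_mem_sup hk (N.mul_mem (ν' : N).2 (N.inv_mem ν.2))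

end QI

section Det

variable {A : Type v} [CommRing A] {Γ : Type w} [Group Γ] [Fintype Γ] [DecidableEq Γ]
  [MulSemiringAction Γ A]

/-- the matrix `(g • e b)` -/
def galMat (e : Γ → A) : Matrix Γ Γ A := Matrix.of fun g b => g • e b

/-- If the characters `x ↦ g • x mod Q` (`g ∈ Γ`) on a multiplicative set `S`, spanned by the
`e b` with `Γ`-invariant coefficients, are pairwise distinct, then `det (g • e b) ∉ Q`. -/
theorem det_notMem (S : Submonoid A) (e : Γ → A)
    (hspan : ∀ x ∈ S, ∃ c : Γ → A, (∀ b (g : Γ), g • c b = c b) ∧ x = ∑ b, c b * e b)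
    (Q : Ideal A) [Q.IsPrime]
    (hQ : ∀ g h : Γ, g ≠ h → ∃ x ∈ S, g • x - h • x ∉ Q) :
    (galMat e).det ∉ Q := by
  intro hdet
  let φ : A →+* A ⧸ Q := Ideal.Quotient.mk Q
  have h0 : ((galMat e).map φ).det = 0 := by
    rw [← RingHom.mapMatrix_apply, ← RingHom.map_det]
    exact Ideal.Quotient.eq_zero_iff_mem.mpr hdet
  obtain ⟨v, hv0, hv⟩ := Matrix.exists_vecMul_eq_zero_iff.mpr h0
  -- the characters
  let χ : Γ → (S →* A ⧸ Q) := fun g =>
    ((φ : A →* A ⧸ Q).comp ((MulSemiringAction.toRingHom Γ A g : A →+* A) : A →* A)).comp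
      S.subtype
  have hχ : ∀ g (a : S), χ g a = φ (g • (a : A)) := fun g a => rfl
  have hχinj : Function.Injective χ := by
    intro g h hgh
    by_contra hne
    obtain ⟨a, haS, ha⟩ := hQ g h hne
    apply ha
    have := DFunLike.congr_fun hgh ⟨a, haS⟩
    rw [hχ, hχ] at this
    rw [← Ideal.Quotient.eq_zero_iff_mem, map_sub, sub_eq_zero]
    exact this
  have hli := (linearIndependent_monoidHom S (A ⧸ Q)).comp χ hχinj
  rw [Fintype.linearIndependent_iff] at hli
  apply hv0
  funext g
  apply hli v
  funext a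
  simp only [Function.comp_apply, Finset.sum_apply, Pi.smul_apply, smul_eq_mul, Pi.zero_apply]
  obtain ⟨c, hc, hac⟩ := hspan a.1 a.2
  have hga : ∀ g : Γ, φ (g • (a : A)) = ∑ b : Γ, φ (c b) * φ (g • e b) := by
    intro g
    conv_lhs => rw [hac]
    rw [Finset.smul_sum, map_sum]
    refine Finset.sum_congr rfl fun b _ => ?_
    rw [smul_mul', map_mul, hc b g]
  have hcol : ∀ b : Γ, ∑ g : Γ, v g * φ (g • e b) = 0 := by
    intro b
    have := congrFun hv b
    simpa [Matrix.vecMul, dotProduct, galMat] using this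
  change ∑ g : Γ, v g * χ g a = 0
  simp only [hχ, hga, Finset.mul_sum]
  rw [Finset.sum_comm]
  have : ∀ b : Γ, ∑ g : Γ, v g * (φ (c b) * φ (g • e b))
      = φ (c b) * ∑ g : Γ, v g * φ (g • e b) := by
    intro b
    rw [Finset.mul_sum]
    exact Finset.sum_congr rfl fun g _ => by ring
  simp only [this, hcol, mul_zero, Finset.sum_const_zero]

end Det

section Height

variable {R : Type u} [CommRing R] [IsDomain R] {A : Type v} [CommRing A] [IsDomain A] [Algebra R A]
  [Algebra.IsIntegral R A]

/-- In an integral extension of domains, a prime lying over a height one prime has height one. -/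
theorem height_eq_one_of_under (hinj : Function.Injective (algebraMap R A))
    (P : Ideal A) [P.IsPrime] (hQ : (P.under R).height = 1) : P.height = 1 := by
  have hPne : P ≠ ⊥ := by
    rintro rfl
    have : (⊥ : Ideal A).under R = ⊥ := by
      rw [Ideal.under_def]
      exact (RingHom.injective_iff_ker_eq_bot _).mp hinj
    rw [this, Ideal.height_bot] at hQ
    exact zero_ne_one hQ
  apply le_antisymm
  · have : P.height ≤ ((1 : ℕ) : ℕ∞) := by
      rw [Ideal.height_le_iff]
      intro P' hP' hlt
      obtain ⟨hle, x, hxP, hxP'⟩ := SetLike.lt_iff_le_and_exists.mp hlt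
      have hlt' : P'.under R < P.under R :=
        Ideal.comap_lt_comap_of_integral_mem_sdiff hle ⟨hxP, hxP'⟩
          (Algebra.IsIntegral.isIntegral x)
      haveI : (P'.under R).IsPrime := Ideal.IsPrime.under R P'
      haveI : (P.under R).IsPrime := Ideal.IsPrime.under R P
      have h1 := Ideal.height_add_one_le_of_lt_of_isPrime hlt'
      rw [hQ] at h1
      have h2 : (P'.under R).height = 0 := by
        have : (P'.under R).height + 1 ≤ 0 + 1 := by simpa using h1
        exact le_antisymm (by simpa using (ENat.add_le_add_iff_right (by simp)).mp this) bot_le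
      rw [Ideal.height_eq_zero_iff_eq_bot] at h2
      have h3 : P' = ⊥ := Ideal.eq_bot_of_comap_eq_bot h2
      rw [h3, Ideal.height_bot]
      exact Nat.cast_pos.mpr Nat.one_pos
    simpa using this
  · have hlt : (⊥ : Ideal A) < P := bot_lt_iff_ne_bot.mpr hPne
    have := Ideal.height_add_one_le_of_lt_of_isPrime hlt
    rwa [Ideal.height_bot, zero_add] at this

end Height

end Groth.Agent.Lib.Helper84.WQ18
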