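import Mathlib
import Groth.Agent.Lib.Helper84.WQ18

/-!
# Local structure of `A^N` with a complement `Γ` (helper84)

`H` is a finite commutative group acting faithfully on a domain `A` with `A^H = R`; `Γ, N ≤ H`
are complementary subgroups, and `A^N` has an `R`-basis `e` indexed by `Γ`.
-/

set_option autoImplicit false
set_option linter.unusedSectionVars false
set_option linter.style.haveILetI false

universe u v w

namespace Groth.Agent.Lib.Helper84.WQ19

open Groth.Agent.Lib.Helper84.WQ18 Matrix

section Basic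

variable {R : Type u} [CommRing R] {A : Type v} [CommRing A] [Algebra R A]
  {H : Type w} [CommGroup H] [MulSemiringAction H A] [SMulCommClass H R A]

theorem mem_F {N : Subgroup H} {x : A} :
    x ∈ FixedPoints.subalgebra R A N ↔ ∀ g ∈ N, g • x = x :=
  ⟨fun h g hg => h ⟨g, hg⟩, fun h g => h g.1 g.2⟩

theorem smul_comm' (g h : H) (x : A) : g • h • x = h • g • x := by
  rw [← mul_smul, ← mul_smul, mul_comm]

theorem smul_mem_F {N : Subgroup H} {x : A} (hx : x ∈ FixedPoints.subalgebra R A N) (h : H) :
    h • x ∈ FixedPoints.subalgebra R A N := by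
  rw [mem_F] at hx ⊢
  intro g hg
  rw [smul_comm', hx g hg]

theorem F_anti {N N' : Subgroup H} (h : N ≤ N') :
    FixedPoints.subalgebra R A N' ≤ FixedPoints.subalgebra R A N := by
  intro x hx
  rw [mem_F] at hx ⊢
  exact fun g hg => hx g (h hg)

/-- an element fixed by a family of subgroups is fixed by their supremum -/
theorem mem_F_of_le_stabilizer {N : Subgroup H} {x : A} (h : N ≤ MulAction.stabilizer H x) :
    x ∈ FixedPoints.subalgebra R A N := by
  rw [mem_F]
  exact fun g hg => MulAction.mem_stabilizer_iff.mp (h hg)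

theorem le_stabilizer_of_mem_F {N : Subgroup H} {x : A} (h : x ∈ FixedPoints.subalgebra R A N) :
    N ≤ MulAction.stabilizer H x := by
  rw [mem_F] at h
  exact fun g hg => MulAction.mem_stabilizer_iff.mpr (h g hg)

end Basic

section Local

variable {R : Type u} [CommRing R] {A : Type v} [CommRing A] [IsDomain A] [Algebra R A]
  {H : Type w} [CommGroup H] [Finite H] [MulSemiringAction H A] [SMulCommClass H R A]
  [FaithfulSMul H A]

/-- the local data attached to complementary subgroups `Γ`, `N` and a basis of `A^N` indexed by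
`Γ`. -/
theorem local_data (Γ N : Subgroup H) [Fintype Γ] (hdisj : Γ ⊓ N = ⊥) (hsup : Γ ⊔ N = ⊤)
    (hfix : ∀ a : A, (∀ h : H, h • a = a) → a ∈ Set.range (algebraMap R A))
    (e : Module.Basis Γ R (FixedPoints.subalgebra R A N)) :
    ∃ (D : A) (d : R), algebraMap R A d = D * D ∧ D ∈ FixedPoints.subalgebra R A N ∧
      (∀ P : Ideal A, P.IsPrime → Γ ⊓ (N ⊔ P.inertia H) = ⊥ → D ∉ P) ∧
      (∀ x : A, ∃ y c : Γ → A, (∀ b, c b ∈ FixedPoints.subalgebra R A N) ∧
        (∀ b, ∀ g ∈ Γ, g • y b = y b) ∧
        (∀ b, ∀ g : H, g • x = x → (∀ z ∈ FixedPoints.subalgebra R A N, g • z = z) →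
          g • y b = y b) ∧
        D * x = ∑ b, y b * c b) ∧
      (∀ z : Γ → A, (∀ b, z b ∈ FixedPoints.subalgebra R A Γ) →
        ∑ b, ((e b : FixedPoints.subalgebra R A N) : A) * z b = 0 → ∀ b, z b = 0) := by
  classical
  let C := FixedPoints.subalgebra R A N
  let ea : Γ → A := fun b => ((e b : C) : A)
  have hea : ∀ b, ea b ∈ C := fun b => (e b).2
  let M : Matrix Γ Γ A := galMat ea
  have hM : ∀ g b, M g b = (g : H) • ea b := fun g b => rfl
  let MC : Matrix Γ Γ C := Matrix.of fun g b => ⟨(g : H) • ea b, smul_mem_F (hea b) _⟩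
  have hMC : M = (algebraMap C A).mapMatrix MC := by
    ext g b; rfl
  -- membership
  have hDmem : M.det ∈ C := by
    rw [hMC, ← RingHom.map_det]
    exact (MC.det).2
  have hadj : ∀ b g, M.adjugate b g ∈ C := by
    intro b g
    rw [hMC, ← RingHom.map_adjugate]
    exact (MC.adjugate b g).2
  -- the trace form
  have hT : ∀ a b, ∃ t : R, algebraMap R A t = (Mᵀ * M) a b := by
    intro a b
    have h1 : (Mᵀ * M) a b = ∑ g : Γ, (g : H) • (ea a * ea b) := by
      rw [Matrix.mul_apply]
      refine Finset.sum_congr rfl fun g _ => ?_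
      rw [Matrix.transpose_apply, hM, hM, smul_mul']
    have hab : ea a * ea b ∈ C := mul_mem (hea a) (hea b)
    have hfixed : ∀ h : H, h • (Mᵀ * M) a b = (Mᵀ * M) a b := by
      have hle : Γ ⊔ N ≤ MulAction.stabilizer H ((Mᵀ * M) a b) := by
        apply sup_le
        · intro γ hγ
          rw [MulAction.mem_stabilizer_iff, h1, Finset.smul_sum]
          simp only [← mul_smul]
          exact Equiv.sum_comp (Equiv.mulLeft (⟨γ, hγ⟩ : Γ)) fun g => (g : H) • (ea a * ea b)
        · intro ν hν
          rw [MulAction.mem_stabilizer_iff, h1, Finset.smul_sum]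
          refine Finset.sum_congr rfl fun g _ => ?_
          rw [smul_comm', (mem_F.mp hab) ν hν]
      intro h
      have : h ∈ Γ ⊔ N := hsup ▸ Subgroup.mem_top h
      exact MulAction.mem_stabilizer_iff.mp (hle this)
    obtain ⟨t, ht⟩ := hfix _ hfixed
    exact ⟨t, ht⟩
  choose t ht using hT
  let tM : Matrix Γ Γ R := Matrix.of t
  have htM : (algebraMap R A).mapMatrix tM = Mᵀ * M := by
    ext a b; exact ht a b
  have hDD : algebraMap R A tM.det = M.det * M.det := by
    rw [RingHom.map_det, htM, Matrix.det_mul, Matrix.det_transpose]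
  -- characters
  have hchar : ∀ P : Ideal A, P.IsPrime → Γ ⊓ (N ⊔ P.inertia H) = ⊥ → M.det ∉ P := by
    intro P hP hI
    haveI := hP
    refine det_notMem (Γ := Γ) C.toSubsemiring.toSubmonoid ea ?_ P ?_
    · intro x hx
      refine ⟨fun b => algebraMap R A (e.repr ⟨x, hx⟩ b), fun b g => smul_algebraMap _ _, ?_⟩
      have : x = ((∑ i, e.repr ⟨x, hx⟩ i • e i : C) : A) :=
        (congrArg (Subtype.val : C → A) (e.sum_repr ⟨x, hx⟩)).symm
      refine this.trans ?_
      rw [AddSubmonoidClass.coe_finsetSum]
      refine Finset.sum_congr rfl fun b _ => ?_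
      rw [Algebra.smul_def]
      rfl
    · intro g g' hgg'
      by_contra hcon
      push Not at hcon
      apply hgg'
      have hh : ((g : H) * (g' : H)⁻¹) ∈ N ⊔ P.inertia H := by
        apply mem_sup_inertia (R := R)
        intro y hy
        have hy' : (g' : H)⁻¹ • y ∈ C := smul_mem_F hy _
        have := hcon ((g' : H)⁻¹ • y) hy'
        change (g : H) • ((g' : H)⁻¹ • y) - (g' : H) • ((g' : H)⁻¹ • y) ∈ P at this
        rwa [smul_inv_smul, ← mul_smul] at this
      have hΓ : ((g : H) * (g' : H)⁻¹) ∈ Γ := Γ.mul_mem g.2 (Γ.inv_mem g'.2)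
      have : ((g : H) * (g' : H)⁻¹) ∈ Γ ⊓ (N ⊔ P.inertia H) := ⟨hΓ, hh⟩
      rw [hI, Subgroup.mem_bot, mul_inv_eq_one] at this
      exact Subtype.ext this
  have hD0 : M.det ≠ 0 := by
    have hbot : (⊥ : Ideal A).inertia H = ⊥ := by
      rw [eq_bot_iff]
      intro g hg
      rw [Subgroup.mem_bot]
      apply FaithfulSMul.eq_of_smul_eq_smul (α := A)
      intro a
      have : g • a - a ∈ (⊥ : Ideal A) := hg a
      rw [Ideal.mem_bot, sub_eq_zero] at this
      rw [this, one_smul]
    have := hchar ⊥ Ideal.isPrime_bot (by rw [hbot, sup_bot_eq, hdisj])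
    simpa using this
  refine ⟨M.det, tM.det, hDD, hDmem, hchar, ?_, ?_⟩
  · -- expansion
    intro x
    refine ⟨fun b => ∑ g : Γ, (g : H) • (x * ea b), fun b => M.adjugate b 1,
      fun b => hadj b 1, ?_, ?_, ?_⟩
    · intro b γ hγ
      rw [Finset.smul_sum]
      simp only [← mul_smul]
      exact Equiv.sum_comp (Equiv.mulLeft (⟨γ, hγ⟩ : Γ)) fun g => (g : H) • (x * ea b)
    · intro b g hx hz
      rw [Finset.smul_sum]
      refine Finset.sum_congr rfl fun γ _ => ?_
      rw [smul_comm', smul_mul', hx, hz _ (hea b)]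
    · have h1 : ∀ g : Γ, ∑ b, M g b * M.adjugate b 1 = if g = 1 then M.det else 0 := by
        intro g
        have := congrFun (congrFun (Matrix.mul_adjugate M) g) 1
        rw [Matrix.mul_apply] at this
        rw [this, Matrix.smul_apply, Matrix.one_apply, smul_eq_mul]
        split_ifs <;> simp
      calc M.det * x = ∑ g : Γ, (g : H) • x * (if g = 1 then M.det else 0) := by
            rw [Finset.sum_eq_single (1 : Γ)]
            · simp [mul_comm]
            · intro g _ hg; simp [hg]
            · intro h; exact absurd (Finset.mem_univ _) h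
        _ = ∑ g : Γ, (g : H) • x * ∑ b, M g b * M.adjugate b 1 := by
            refine Finset.sum_congr rfl fun g _ => ?_
            rw [h1]
        _ = ∑ b, (∑ g : Γ, (g : H) • (x * ea b)) * M.adjugate b 1 := by
            simp only [Finset.mul_sum, Finset.sum_mul]
            rw [Finset.sum_comm]
            refine Finset.sum_congr rfl fun b _ => Finset.sum_congr rfl fun g _ => ?_
            rw [smul_mul', hM]; ring
  · -- independence
    intro z hz hsum
    have hMz : M *ᵥ z = 0 := by
      funext g
      rw [Matrix.mulVec, dotProduct, Pi.zero_apply]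
      have := congrArg (fun a => (g : H) • a) hsum
      simp only [Finset.smul_sum, smul_zero, smul_mul'] at this
      rw [← this]
      refine Finset.sum_congr rfl fun b _ => ?_
      rw [hM, (mem_F.mp (hz b)) g g.2]
    have := Matrix.eq_zero_of_mulVec_eq_zero hD0 hMz
    exact fun b => congrFun this b

end Local

section FreeMul

variable {R : Type u} [CommRing R] {A : Type v} [CommRing A] [Algebra R A]

/-- If `C` has a basis `e` which stays linearly independent over the submodule `V`, then `C * V`
is a free module when `V` is. -/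
theorem free_mul {ι : Type w} [Fintype ι] (C : Subalgebra R A) (e : Module.Basis ι R C)
    (V : Submodule R A) [Module.Free R V]
    (hind : ∀ z : ι → A, (∀ b, z b ∈ V) → ∑ b, ((e b : C) : A) * z b = 0 → ∀ b, z b = 0) :
    Module.Free R ↥(Subalgebra.toSubmodule C * V) := by
  classical
  let Φ : (ι → V) →ₗ[R] A :=
    ∑ b, (LinearMap.mulLeft R ((e b : C) : A)).comp (V.subtype.comp (LinearMap.proj b))
  have hΦ : ∀ z : ι → V, Φ z = ∑ b, ((e b : C) : A) * (z b : A) := by
    intro z
    simp [Φ, LinearMap.sum_apply]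
  have hinj : Function.Injective Φ := by
    rw [injective_iff_map_eq_zero]
    intro z hz
    rw [hΦ] at hz
    have := hind (fun b => (z b : A)) (fun b => (z b).2) hz
    funext b
    exact Subtype.ext (this b)
  have hrange : LinearMap.range Φ = Subalgebra.toSubmodule C * V := by
    apply le_antisymm
    · rintro _ ⟨z, rfl⟩
      rw [hΦ]
      exact Submodule.sum_mem _ fun b _ => Submodule.mul_mem_mul (e b).2 (z b).2
    · rw [Submodule.mul_le]
      intro y hy v hv
      refine ⟨fun b => e.repr ⟨y, hy⟩ b • ⟨v, hv⟩, ?_⟩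
      rw [hΦ]
      have : y = ((∑ i, e.repr ⟨y, hy⟩ i • e i : C) : A) :=
        (congrArg (Subtype.val : C → A) (e.sum_repr ⟨y, hy⟩)).symm
      conv_rhs => rw [this]
      rw [AddSubmonoidClass.coe_finsetSum, Finset.sum_mul]
      refine Finset.sum_congr rfl fun b _ => ?_
      change ((e b : C) : A) * (e.repr ⟨y, hy⟩ b • v) = ((e.repr ⟨y, hy⟩ b • e b : C) : A) * v
      rw [Subalgebra.coe_smul, Algebra.smul_def, Algebra.smul_def]
      ring
  exact Module.Free.of_equiv
    ((LinearEquiv.ofInjective Φ hinj).trans (LinearEquiv.ofEq _ _ hrange))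

end FreeMul

end Groth.Agent.Lib.Helper84.WQ19
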