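import Mathlib
import Groth.Agent.Lib.Helper84.WQ19

/-!
# Group theory for `H = G_1 × ⋯ × G_n` and the global expansion (helper84)
-/

set_option autoImplicit false
set_option linter.unusedSectionVars false
set_option linter.style.haveILetI false

universe u v w

namespace Groth.Agent.Lib.Helper84.WQ20

open Groth.Agent.Lib.Helper84.WQ18 Groth.Agent.Lib.Helper84.WQ19

section GroupTheory

variable {H : Type w} [CommGroup H] [Finite H]

theorem card_sup_le (K G : Subgroup H) :
    Nat.card ↥(K ⊔ G) ≤ Nat.card K * Nat.card G := by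
  let f : K × G → ↥(K ⊔ G) := fun x => ⟨(x.1 : H) * (x.2 : H), Subgroup.mul_mem_sup x.1.2 x.2.2⟩
  have hf : Function.Surjective f := by
    rintro ⟨x, hx⟩
    obtain ⟨y, hy, z, hz, rfl⟩ := Subgroup.mem_sup.mp hx
    exact ⟨(⟨y, hy⟩, ⟨z, hz⟩), rfl⟩
  have := Nat.card_le_card_of_surjective f hf
  rwa [Nat.card_prod] at this

variable {n : ℕ} (p : ℕ) (Gi : Fin n → Subgroup H)

/-- `G_i^⊥` -/
def Gperp (i : Fin n) : Subgroup H := ⨆ j ∈ (Finset.univ.erase i : Finset (Fin n)), Gi j

variable {Gi}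

theorem le_Gperp {i j : Fin n} (hji : j ≠ i) : Gi j ≤ Gperp Gi i :=
  le_biSup (f := Gi) (Finset.mem_erase.mpr ⟨hji, Finset.mem_univ j⟩)

variable {p}

include p in
theorem card_biSup_le (hGi : ∀ i, Nat.card (Gi i) = p) (S : Finset (Fin n)) :
    Nat.card ↥(⨆ j ∈ S, Gi j) ≤ p ^ S.card := by
  classical
  induction S using Finset.induction_on with
  | empty => simp
  | insert a S ha ih =>
    rw [Finset.iSup_insert, Finset.card_insert_of_notMem ha, pow_succ, mul_comm]
    refine (card_sup_le _ _).trans ?_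
    rw [hGi a]
    exact Nat.mul_le_mul_left _ ih

theorem sup_Gperp (hsup : (⨆ i, Gi i) = ⊤) (i : Fin n) : Gi i ⊔ Gperp Gi i = ⊤ := by
  rw [eq_top_iff, ← hsup]
  apply iSup_le
  intro j
  by_cases hji : j = i
  · subst hji; exact le_sup_left
  · exact (le_Gperp hji).trans le_sup_right

include p in
theorem card_Gperp_le (hGi : ∀ i, Nat.card (Gi i) = p) (i : Fin n) :
    Nat.card (Gperp Gi i) ≤ p ^ (n - 1) := by
  have := card_biSup_le hGi (Finset.univ.erase i)
  rwa [Finset.card_erase_of_mem (Finset.mem_univ i), Finset.card_univ, Fintype.card_fin] at this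

theorem card_Gperp [Fact p.Prime] (hcard : Nat.card H = p ^ n) (hGi : ∀ i, Nat.card (Gi i) = p)
    (hsup : (⨆ i, Gi i) = ⊤) (i : Fin n) :
    Nat.card (Gperp Gi i) = p ^ (n - 1) := by
  apply le_antisymm (card_Gperp_le hGi i)
  have h1 := card_sup_le (Gi i) (Gperp Gi i)
  rw [sup_Gperp hsup i, Subgroup.card_top, hcard, hGi i] at h1
  have hn : n = (n - 1) + 1 := by have := i.2; omega
  have hp : 0 < p := (Fact.out : p.Prime).pos
  have h2 : p ^ n = p * p ^ (n - 1) := by
    conv_lhs => rw [hn, pow_succ, mul_comm]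
  rw [h2] at h1
  exact Nat.le_of_mul_le_mul_left h1 hp

theorem disj_Gperp [Fact p.Prime] (hcard : Nat.card H = p ^ n) (hGi : ∀ i, Nat.card (Gi i) = p)
    (hsup : (⨆ i, Gi i) = ⊤) (i : Fin n) : Gi i ⊓ Gperp Gi i = ⊥ := by
  have hp : p.Prime := Fact.out
  have hdvd : Nat.card ↥(Gi i ⊓ Gperp Gi i) ∣ p := by
    rw [← hGi i]
    exact Subgroup.card_dvd_of_le inf_le_left
  rcases (Nat.dvd_prime hp).mp hdvd with h1 | h1
  · exact Subgroup.card_eq_one.mp h1
  · exfalso
    have hle : Gi i ≤ Gperp Gi i := by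
      have : Gi i ⊓ Gperp Gi i = Gi i :=
        Subgroup.eq_of_le_of_card_ge inf_le_left (by rw [h1, hGi i])
      rw [← this]; exact inf_le_right
    have htop : Gperp Gi i = ⊤ := by
      rw [← sup_Gperp hsup i]; exact (sup_eq_right.mpr hle).symm
    have h2 := card_Gperp_le hGi i
    rw [htop, Subgroup.card_top, hcard] at h2
    have hn : n - 1 < n := by have := i.2; omega
    have : p ^ (n - 1) < p ^ n := Nat.pow_lt_pow_right hp.one_lt hn
    omega

end GroupTheory

end Groth.Agent.Lib.Helper84.WQ20
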