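import Mathlib
import Groth.Agent.Lib.Helper84.WQ20

/-!
# Global expansion and freeness of `⨆ A^{G_i^⊥}` (helper84)
-/

set_option autoImplicit false
set_option linter.unusedSectionVars false
set_option linter.style.haveILetI false

universe u v w

namespace Groth.Agent.Lib.Helper84.WQ21

open Groth.Agent.Lib.Helper84.WQ18 Groth.Agent.Lib.Helper84.WQ19 Groth.Agent.Lib.Helper84.WQ20

section

variable (R : Type u) [CommRing R] (A : Type v) [CommRing A] [IsDomain A] [Algebra R A]
  {H : Type w} [CommGroup H] [Finite H] [MulSemiringAction H A] [SMulCommClass H R A]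
  [FaithfulSMul H A]

/-- the local data, bundled -/
structure LocalData (Γ N : Subgroup H) [Fintype Γ] where
  e : Module.Basis Γ R (FixedPoints.subalgebra R A N)
  D : A
  d : R
  hd : algebraMap R A d = D * D
  hD : D ∈ FixedPoints.subalgebra R A N
  notMem : ∀ P : Ideal A, P.IsPrime → Γ ⊓ (N ⊔ P.inertia H) = ⊥ → D ∉ P
  expand : ∀ x : A, ∃ y c : Γ → A, (∀ b, c b ∈ FixedPoints.subalgebra R A N) ∧
        (∀ b, ∀ g ∈ Γ, g • y b = y b) ∧
        (∀ b, ∀ g : H, g • x = x → (∀ z ∈ FixedPoints.subalgebra R A N, g • z = z) →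
          g • y b = y b) ∧
        D * x = ∑ b, y b * c b
  indep : ∀ z : Γ → A, (∀ b, z b ∈ FixedPoints.subalgebra R A Γ) →
        ∑ b, ((e b : FixedPoints.subalgebra R A N) : A) * z b = 0 → ∀ b, z b = 0

variable {R A}

theorem nonempty_localData (Γ N : Subgroup H) [Fintype Γ] (hdisj : Γ ⊓ N = ⊥) (hsup : Γ ⊔ N = ⊤)
    (hfix : ∀ a : A, (∀ h : H, h • a = a) → a ∈ Set.range (algebraMap R A))
    (e : Module.Basis Γ R (FixedPoints.subalgebra R A N)) :
    Nonempty (LocalData R A Γ N) := by
  obtain ⟨D, d, h1, h2, h3, h4, h5⟩ := local_data Γ N hdisj hsup hfix e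
  exact ⟨⟨e, D, d, h1, h2, h3, h4, h5⟩⟩

variable {n : ℕ} {Gi : Fin n → Subgroup H} [∀ i, Fintype (Gi i)]

/-- the global expansion -/
theorem prod_mul_mem (ld : ∀ i, LocalData R A (Gi i) (Gperp Gi i)) (𝔅 : Subalgebra R A)
    (hB : ∀ i, FixedPoints.subalgebra R A (Gperp Gi i) ≤ 𝔅) (T : Finset (Fin n))
    (hT : FixedPoints.subalgebra R A ↥(⨆ j ∈ T, Gi j) ≤ 𝔅) (S : Finset (Fin n)) :
    S ⊆ T → ∀ x : A, (∀ j ∈ T, j ∉ S → ∀ g ∈ Gi j, g • x = x) →
      (∏ i ∈ S, (ld i).D) * x ∈ 𝔅 := by
  classical
  induction S using Finset.induction_on with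
  | empty =>
    intro _ x hx
    rw [Finset.prod_empty, one_mul]
    apply hT
    apply mem_F_of_le_stabilizer
    apply iSup₂_le
    intro j hj g hg
    exact MulAction.mem_stabilizer_iff.mpr (hx j hj (Finset.notMem_empty j) g hg)
  | insert i S' hi ih =>
    intro hST x hx
    obtain ⟨y, c, hc, hyΓ, hyH, hexp⟩ := (ld i).expand x
    rw [Finset.prod_insert hi, mul_comm ((ld i).D), mul_assoc, hexp, Finset.mul_sum]
    refine Subalgebra.sum_mem _ fun b _ => ?_
    rw [← mul_assoc]
    refine mul_mem ?_ (hB i (hc b))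
    apply ih ((Finset.subset_insert i S').trans hST)
    intro j hjT hjS g hg
    by_cases hji : j = i
    · subst hji
      exact hyΓ b g hg
    · apply hyH b g
      · apply hx j hjT _ g hg
        rw [Finset.mem_insert]; push Not; exact ⟨hji, hjS⟩
      · intro z hz
        exact mem_F.mp hz g (le_Gperp hji hg)

/-- freeness of the subalgebra generated by the `A^{G_i^⊥}` -/
theorem free_biSup (hinj : Function.Injective (algebraMap R A))
    (ld : ∀ i, LocalData R A (Gi i) (Gperp Gi i)) (S : Finset (Fin n)) :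
    Module.Free R ↥(Subalgebra.toSubmodule
      (⨆ i ∈ S, FixedPoints.subalgebra R A (Gperp Gi i) : Subalgebra R A)) := by
  classical
  induction S using Finset.induction_on with
  | empty =>
    have h0 : (⨆ i ∈ (∅ : Finset (Fin n)), FixedPoints.subalgebra R A (Gperp Gi i) :
        Subalgebra R A) = ⊥ := by simp
    rw [h0]
    have : Module.Free R (⊥ : Subalgebra R A) :=
      Module.Free.of_equiv (Algebra.botEquivOfInjective hinj).symm.toLinearEquiv
    exact Module.Free.of_equiv (Subalgebra.toSubmoduleEquiv (⊥ : Subalgebra R A)).symm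
  | insert i S' hi ih =>
    rw [Finset.iSup_insert, ← Subalgebra.mul_toSubmodule]
    haveI := ih
    apply free_mul _ (ld i).e
    intro z hz hsum
    apply (ld i).indep z _ hsum
    intro b
    have hle : (⨆ j ∈ S', FixedPoints.subalgebra R A (Gperp Gi j) : Subalgebra R A) ≤
        FixedPoints.subalgebra R A (Gi i) := by
      apply iSup₂_le
      intro j hj
      apply F_anti
      apply le_Gperp
      rintro rfl
      exact hi hj
    exact hle (hz b)

end

end Groth.Agent.Lib.Helper84.WQ21
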