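import Mathlib
import Groth.Agent.Lib.Helper84.WQ21
import Groth.Agent.Lib.Helper49.Serre3
import Groth.Agent.S0558
import Groth.Agent.S9829

/-!
# `A = ⨆ A^{G_i^⊥}` (helper84)
-/

set_option autoImplicit false
set_option linter.unusedSectionVars false
set_option linter.style.haveILetI false

universe u v w

namespace Groth.Agent.Lib.Helper84.WQ22

open Groth.Agent.Lib.Helper84.WQ18 Groth.Agent.Lib.Helper84.WQ19 Groth.Agent.Lib.Helper84.WQ20
  Groth.Agent.Lib.Helper84.WQ21

section Rank

variable {R : Type u} [CommRing R] {A : Type v} [CommRing A] [IsDomain A] [Algebra R A]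
  {H : Type w} [Group H] [Finite H] [MulSemiringAction H A] [SMulCommClass H R A] [FaithfulSMul H A]

theorem finrank_fixed (hinj : Function.Injective (algebraMap R A))
    (hfix : ∀ a : A, (∀ h : H, h • a = a) → a ∈ Set.range (algebraMap R A))
    (N : Subgroup H) [N.Normal] :
    Module.finrank R (FixedPoints.subalgebra R A N) * Nat.card N = Nat.card H := by
  haveI : IsGaloisGroup H R A :=
    { faithful := inferInstance
      commutes := inferInstance
      isInvariant := ⟨fun a ha => hfix a ha⟩ }
  haveI : FaithfulSMul R A := (faithfulSMul_iff_algebraMap_injective R A).mpr hinj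
  haveI : FaithfulSMul R (FixedPoints.subalgebra R A N) := by
    rw [faithfulSMul_iff_algebraMap_injective]
    intro x y hxy
    apply hinj
    exact congrArg Subtype.val hxy
  haveI : FaithfulSMul (FixedPoints.subalgebra R A N) A := by
    rw [faithfulSMul_iff_algebraMap_injective]
    exact Subtype.val_injective
  letI := IsGaloisGroup.mulSemiringActionOfNormal H (FixedPoints.subalgebra R A N) A N
  letI := IsGaloisGroup.mulSemiringActionQuotient H (FixedPoints.subalgebra R A N) A N
  haveI := IsGaloisGroup.smulCommClassQuotient H R (FixedPoints.subalgebra R A N) A N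
  haveI := IsGaloisGroup.quotient H R (FixedPoints.subalgebra R A N) A N
  rw [← IsGaloisGroup.card_eq_finrank' (H ⧸ N) R (FixedPoints.subalgebra R A N)]
  exact (Subgroup.card_eq_card_quotient_mul_card_subgroup N).symm

end Rank

section Hartogs

variable {R : Type u} [CommRing R] [IsDomain R] [IsNoetherianRing R] [IsIntegrallyClosed R]
  {A : Type v} [CommRing A] [IsDomain A] [Algebra R A]

/-- A free submodule `V` of `A` which contains `δ A` for some `δ ≠ 0` and, for each height one
prime `Q` of the normal domain `R`, contains `s A` for some `s ∉ Q`, is everything. -/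
theorem eq_top_of_hartogs (hinj : Function.Injective (algebraMap R A)) (V : Submodule R A)
    [Module.Free R V] (δ : R) (hδ0 : δ ≠ 0) (hδ : ∀ x : A, algebraMap R A δ * x ∈ V)
    (hQ : ∀ Q : Ideal R, Q.IsPrime → Q.height = 1 →
      ∃ s, s ∉ Q ∧ ∀ x : A, algebraMap R A s * x ∈ V) :
    V = ⊤ := by
  classical
  rw [eq_top_iff]
  intro x _
  let f := Module.Free.chooseBasis R V
  let u : V := ⟨algebraMap R A δ * x, hδ x⟩
  let K := FractionRing R
  have hδK : algebraMap R K δ ≠ 0 := by
    rw [Ne, map_eq_zero_iff _ (IsFractionRing.injective R K)]; exact hδ0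
  have key : ∀ k, ∃ t : R, f.repr u k = δ * t := by
    intro k
    let ξ : K := algebraMap R K (f.repr u k) / algebraMap R K δ
    have hξ : ξ ∈ Set.range (algebraMap R K) := by
      apply Groth.Agent.Lib.Helper49.Serre.mem_range_algebraMap_of_forall_height_one R ξ
      intro Q hQp hQ1
      obtain ⟨s, hsQ, hs⟩ := hQ Q hQp hQ1
      let u' : V := ⟨algebraMap R A s * x, hs x⟩
      have h1 : δ • u' = s • u := by
        apply Subtype.ext
        change δ • (algebraMap R A s * x) = s • (algebraMap R A δ * x)
        rw [Algebra.smul_def, Algebra.smul_def]; ring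
      have h2 : δ * f.repr u' k = s * f.repr u k := by
        have := congrArg (fun w => f.repr w k) h1
        simpa [map_smul] using this
      have hs0 : s ≠ 0 := by
        rintro rfl; exact hsQ Q.zero_mem
      have hsK : algebraMap R K s ≠ 0 := by
        rw [Ne, map_eq_zero_iff _ (IsFractionRing.injective R K)]; exact hs0
      refine ⟨IsLocalization.mk' (Localization.AtPrime Q) (f.repr u' k)
        (⟨s, hsQ⟩ : Q.primeCompl), ?_⟩
      have hspec := IsLocalization.mk'_spec (Localization.AtPrime Q) (f.repr u' k)
        (⟨s, hsQ⟩ : Q.primeCompl)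
      have h3 := congrArg (algebraMap (Localization.AtPrime Q) K) hspec
      rw [map_mul, ← IsScalarTower.algebraMap_apply, ← IsScalarTower.algebraMap_apply] at h3
      change _ = algebraMap R K (f.repr u k) / algebraMap R K δ
      rw [eq_div_iff hδK]
      apply mul_right_cancel₀ hsK
      have h2K := congrArg (algebraMap R K) h2
      rw [map_mul, map_mul] at h2K
      calc _ = (algebraMap (Localization.AtPrime Q) K (IsLocalization.mk' (Localization.AtPrime Q)
              (f.repr u' k) (⟨s, hsQ⟩ : Q.primeCompl)) * algebraMap R K s) * algebraMap R K δ := by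
            ring
        _ = algebraMap R K (f.repr u' k) * algebraMap R K δ := by rw [h3]
        _ = algebraMap R K (f.repr u k) * algebraMap R K s := by rw [mul_comm, h2K]; ring
    obtain ⟨t, ht⟩ := hξ
    refine ⟨t, ?_⟩
    apply IsFractionRing.injective R K
    rw [map_mul, ht]
    change _ = algebraMap R K δ * (algebraMap R K (f.repr u k) / algebraMap R K δ)
    rw [mul_div_cancel₀ _ hδK]
  choose t ht using key
  let v : V := ∑ k ∈ (f.repr u).support, t k • f k
  have hv : δ • v = u := by
    change δ • ∑ k ∈ (f.repr u).support, t k • f k = u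
    rw [Finset.smul_sum]
    simp_rw [smul_smul, ← ht]
    have := f.linearCombination_repr u
    rwa [Finsupp.linearCombination_apply, Finsupp.sum] at this
  have hx : (v : A) = x := by
    have := congrArg (Subtype.val : V → A) hv
    change δ • (v : A) = algebraMap R A δ * x at this
    rw [Algebra.smul_def] at this
    have hδA : algebraMap R A δ ≠ 0 := by
      rw [Ne, map_eq_zero_iff _ hinj]; exact hδ0
    exact mul_left_cancel₀ hδA this
  exact hx ▸ v.2

end Hartogs

end Groth.Agent.Lib.Helper84.WQ22
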