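import Mathlib
import Groth.Agent.Lib.Helper84.WQ22

/-!
# `A = ⨆ A^{G_i^⊥}`: the main theorem (helper84)
-/

set_option autoImplicit false
set_option linter.unusedSectionVars false
set_option linter.style.haveILetI false

universe u v w

namespace Groth.Agent.Lib.Helper84.WQ23

open Groth.Agent.Lib.Helper84.WQ18 Groth.Agent.Lib.Helper84.WQ19 Groth.Agent.Lib.Helper84.WQ20
  Groth.Agent.Lib.Helper84.WQ21 Groth.Agent.Lib.Helper84.WQ22

theorem main_comm (p : ℕ) [Fact p.Prime] (R : Type u) [CommRing R] [IsRegularLocalRing R]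
    (A : Type v) [CommRing A] [IsDomain A] [Algebra R A] [Module.Finite R A]
    (hinj : Function.Injective (algebraMap R A))
    (H : Type w) [CommGroup H] [Finite H] [MulSemiringAction H A] [SMulCommClass H R A]
    [FaithfulSMul H A]
    (hfix : ∀ a : A, (∀ h : H, h • a = a) → a ∈ Set.range (algebraMap R A))
    (n : ℕ) (hcard : Nat.card H = p ^ n) (Gi : Fin n → Subgroup H)
    (hGi : ∀ i, Nat.card (Gi i) = p) (hsup : (⨆ i, Gi i) = ⊤)
    (hMR3 : ∀ P : Ideal A, P.IsPrime → P.height = 1 → P.inertia H ≠ ⊥ → ∃ i, P.inertia H = Gi i)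
    (hMR4 : ∀ i, Module.Free R (FixedPoints.subalgebra R A ↥(Gperp Gi i))) :
    (⨆ i, FixedPoints.subalgebra R A ↥(Gperp Gi i)) = ⊤ := by
  classical
  haveI : IsDomain R := Groth.Agent.S0558.result R
  haveI : IsIntegrallyClosed R := Groth.Agent.S9829.result R
  haveI : Algebra.IsIntegral R A := inferInstance
  letI : ∀ i, Fintype (Gi i) := fun i => Fintype.ofFinite _
  have hp : p.Prime := Fact.out
  -- bases
  have hbasis : ∀ i, Nonempty (Module.Basis (Gi i) R (FixedPoints.subalgebra R A ↥(Gperp Gi i))) := by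
    intro i
    haveI := hMR4 i
    have h1 := finrank_fixed hinj hfix (Gperp Gi i)
    rw [card_Gperp hcard hGi hsup i, hcard] at h1
    have hn : n = (n - 1) + 1 := by have := i.2; omega
    have h2 : p ^ n = p * p ^ (n - 1) := by
      conv_lhs => rw [hn, pow_succ, mul_comm]
    rw [h2] at h1
    have h3 : Module.finrank R (FixedPoints.subalgebra R A ↥(Gperp Gi i)) = p :=
      Nat.eq_of_mul_eq_mul_right (pow_pos hp.pos _) h1
    haveI : Module.Finite R (FixedPoints.subalgebra R A ↥(Gperp Gi i)) :=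
      Module.finite_of_finrank_pos (by rw [h3]; exact hp.pos)
    have hc : Fintype.card (Gi i) = p := by rw [← Nat.card_eq_fintype_card, hGi i]
    exact ⟨(Module.finBasisOfFinrankEq R _ h3).reindex (Fintype.equivFinOfCardEq hc).symm⟩
  have hld : ∀ i, Nonempty (LocalData R A (Gi i) (Gperp Gi i)) := fun i =>
    nonempty_localData (Gi i) (Gperp Gi i) (disj_Gperp hcard hGi hsup i) (sup_Gperp hsup i) hfix
      (hbasis i).some
  let ld : ∀ i, LocalData R A (Gi i) (Gperp Gi i) := fun i => (hld i).some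
  set 𝔅 : Subalgebra R A := ⨆ i, FixedPoints.subalgebra R A ↥(Gperp Gi i) with h𝔅
  have hB : ∀ i, FixedPoints.subalgebra R A (Gperp Gi i) ≤ 𝔅 := fun i =>
    le_iSup (fun i => FixedPoints.subalgebra R A ↥(Gperp Gi i)) i
  -- freeness
  haveI hfree : Module.Free R ↥(Subalgebra.toSubmodule 𝔅) := by
    have := free_biSup hinj ld Finset.univ
    have h0 : (⨆ i ∈ (Finset.univ : Finset (Fin n)), FixedPoints.subalgebra R A (Gperp Gi i) :
        Subalgebra R A) = 𝔅 := by simp [h𝔅]
    rwa [h0] at this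
  -- inertia of the zero ideal
  have hbot : (⊥ : Ideal A).inertia H = ⊥ := by
    rw [eq_bot_iff]
    intro g hg
    rw [Subgroup.mem_bot]
    apply FaithfulSMul.eq_of_smul_eq_smul (α := A)
    intro a
    have : g • a - a ∈ (⊥ : Ideal A) := hg a
    rw [Ideal.mem_bot, sub_eq_zero] at this
    rw [this, one_smul]
  have hD0 : ∀ i, (ld i).D ≠ 0 := by
    intro i
    have := (ld i).notMem ⊥ Ideal.isPrime_bot (by rw [hbot, sup_bot_eq, disj_Gperp hcard hGi hsup i])
    simpa using this
  -- the key construction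
  have key : ∀ T : Finset (Fin n), FixedPoints.subalgebra R A ↥(⨆ j ∈ T, Gi j) ≤ 𝔅 →
      ∀ x : A, algebraMap R A (∏ i ∈ T, (ld i).d) * x ∈ 𝔅 := by
    intro T hT x
    have h1 : algebraMap R A (∏ i ∈ T, (ld i).d) = (∏ i ∈ T, (ld i).D) * (∏ i ∈ T, (ld i).D) := by
      rw [map_prod, ← Finset.prod_mul_distrib]
      exact Finset.prod_congr rfl fun i _ => (ld i).hd
    rw [h1, mul_assoc]
    refine mul_mem (Subalgebra.prod_mem _ fun i _ => hB i (ld i).hD) ?_
    exact prod_mul_mem ld 𝔅 hB T hT T subset_rfl x (fun j hjT hjT' => absurd hjT hjT')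
  have hTuniv : FixedPoints.subalgebra R A ↥(⨆ j ∈ (Finset.univ : Finset (Fin n)), Gi j) ≤ 𝔅 := by
    intro x hx
    have h0 : (⨆ j ∈ (Finset.univ : Finset (Fin n)), Gi j) = ⊤ := by simp [hsup]
    rw [mem_F] at hx
    obtain ⟨r, rfl⟩ := hfix x (fun h => hx h (h0 ▸ Subgroup.mem_top h))
    exact Subalgebra.algebraMap_mem _ r
  have hnot : ∀ (P : Ideal A), P.IsPrime → ∀ T : Finset (Fin n),
      (∀ i ∈ T, (ld i).D ∉ P) → algebraMap R A (∏ i ∈ T, (ld i).d) ∉ P := by
    intro P hP T hT hmem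
    rw [map_prod] at hmem
    obtain ⟨i, hiT, hi⟩ := (hP.prod_mem_iff).mp hmem
    rw [(ld i).hd] at hi
    exact hT i hiT ((hP.mem_or_mem hi).elim id id)
  -- apply Hartogs
  have hmain : Subalgebra.toSubmodule 𝔅 = ⊤ := by
    refine eq_top_of_hartogs hinj (Subalgebra.toSubmodule 𝔅) (∏ i ∈ Finset.univ, (ld i).d) ?_
      (key Finset.univ hTuniv) ?_
    · intro h0
      have := hnot ⊥ Ideal.isPrime_bot Finset.univ (fun i _ => by simpa using hD0 i)
      apply this
      rw [h0, map_zero]; exact Ideal.zero_mem _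
    · intro Q hQp hQ1
      haveI := hQp
      obtain ⟨P, hPp, hPQ⟩ := Ideal.exists_ideal_over_prime_of_isIntegral_of_isDomain (S := A) Q
        (by rw [(RingHom.injective_iff_ker_eq_bot _).mp hinj]; exact bot_le)
      haveI := hPp
      have hP1 : P.height = 1 := by
        apply height_eq_one_of_under hinj P
        rw [Ideal.under_def, hPQ]; exact hQ1
      have hQP : ∀ r : R, algebraMap R A r ∉ P → r ∉ Q := by
        intro r hr hrQ
        apply hr
        rw [← hPQ] at hrQ
        exact hrQ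
      by_cases hI : P.inertia H = ⊥
      · refine ⟨∏ i ∈ Finset.univ, (ld i).d, ?_, key Finset.univ hTuniv⟩
        apply hQP
        apply hnot P hPp
        intro i _
        apply (ld i).notMem P hPp
        rw [hI, sup_bot_eq, disj_Gperp hcard hGi hsup i]
      · obtain ⟨i0, hi0⟩ := hMR3 P hPp hP1 hI
        refine ⟨∏ i ∈ Finset.univ.erase i0, (ld i).d, ?_, key (Finset.univ.erase i0) (hB i0)⟩
        apply hQP
        apply hnot P hPp
        intro i hi
        apply (ld i).notMem P hPp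
        have hne : i0 ≠ i := fun h => (Finset.mem_erase.mp hi).1 h.symm
        rw [hi0, sup_eq_left.mpr (le_Gperp hne), disj_Gperp hcard hGi hsup i]
  rw [eq_top_iff]
  intro x _
  have : x ∈ Subalgebra.toSubmodule 𝔅 := hmain ▸ Submodule.mem_top
  exact this

end Groth.Agent.Lib.Helper84.WQ23
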