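import Mathlib
import Groth.Agent.Lib.Helper84.WQ18
import Groth.Agent.Lib.Helper84.Coprod1
import Groth.Agent.Lib.Helper49.Serre3

/-!
# Finite Cohen–Macaulay extensions of regular local rings; actions unramified outside the origin
(helper84)
-/

set_option autoImplicit false
set_option linter.unusedSectionVars false
set_option linter.style.haveILetI false

universe u v w

namespace Groth.Agent.Lib.Helper84.WQ24

open IsLocalRing RingTheory.Sequence Groth.Agent.Lib.Helper84.WQ18

section Free

variable (R : Type u) [CommRing R] [IsRegularLocalRing R]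
  (A : Type v) [CommRing A] [IsLocalRing A] [IsNoetherianRing A] [Algebra R A] [Module.Finite R A]
  (hinj : Function.Injective (algebraMap R A))

include hinj in
theorem map_maximalIdeal_le : (maximalIdeal R).map (algebraMap R A) ≤ maximalIdeal A := by
  have : Algebra.IsIntegral R A := Algebra.IsIntegral.of_finite R A
  obtain ⟨Q, -, hQ, hQc⟩ := Ideal.exists_ideal_over_prime_of_isIntegral (R := R) (S := A)
    (maximalIdeal R) ⊥ (by
      rw [← RingHom.ker_eq_comap_bot, (RingHom.injective_iff_ker_eq_bot _).1 hinj]; exact bot_le)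
  rw [Ideal.map_le_iff_le_comap, ← hQc]
  exact Ideal.comap_mono (IsLocalRing.le_maximalIdeal hQ.ne_top)

theorem maximalIdeal_le_radical_map :
    maximalIdeal A ≤ ((maximalIdeal R).map (algebraMap R A)).radical := by
  have : Algebra.IsIntegral R A := Algebra.IsIntegral.of_finite R A
  rw [Ideal.radical_eq_sInf]
  refine le_sInf ?_
  rintro P ⟨hP, hPp⟩
  have h1 : maximalIdeal R ≤ P.comap (algebraMap R A) := Ideal.map_le_iff_le_comap.mp hP
  have hPc : (P.comap (algebraMap R A)).IsPrime := Ideal.comap_isPrime _ _
  have h2 : P.comap (algebraMap R A) = maximalIdeal R :=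
    ((maximalIdeal.isMaximal R).eq_of_le hPc.ne_top h1).symm
  have h3 : P.IsMaximal := by
    apply Ideal.isMaximal_of_isIntegral_of_isMaximal_comap (R := R) P
    rw [h2]; exact maximalIdeal.isMaximal R
  rw [IsLocalRing.eq_maximalIdeal h3]

include hinj in
/-- A Cohen–Macaulay local ring finite and injective over a regular local ring is free over it. -/
theorem free_of_finite_CM (hCM : LocCoh.IsCohenMacaulayModule A A) : Module.Free R A := by
  classical
  have : Algebra.IsIntegral R A := Algebra.IsIntegral.of_finite R A
  have hdim : ringKrullDim A = ringKrullDim R :=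
    Groth.Agent.Lib.Helper84.Kummer.ringKrullDim_eq_of_isIntegral_of_injective hinj
  have hfg : (maximalIdeal R).FG := (maximalIdeal R).fg_of_isNoetherianRing
  obtain ⟨s, hcard, hspan⟩ := Submodule.FG.exists_span_finset_card_eq_spanFinrank hfg
  have hd : ((maximalIdeal R).spanFinrank : WithBot ℕ∞) = ringKrullDim R :=
    IsRegularLocalRing.spanFinrank_maximalIdeal
  set rs : List R := s.toList with hrs
  have hlen : rs.length = (maximalIdeal R).spanFinrank := by
    rw [hrs, Finset.length_toList, hcard]
  have hgen : Ideal.ofList rs = maximalIdeal R := by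
    rw [← hspan]
    show Ideal.span {r | r ∈ rs} = Ideal.span (s : Set R)
    congr 1
    ext r
    simp [hrs]
  have hmapgen : Ideal.ofList (rs.map (algebraMap R A)) = (maximalIdeal R).map (algebraMap R A) := by
    rw [← Ideal.map_ofList, hgen]
  have hreg : IsWeaklyRegular A (rs.map (algebraMap R A)) := by
    refine Groth.Agent.S15797.isWeaklyRegular_of_sop A hCM (maximalIdeal R).spanFinrank
      (by rw [hdim, ← hd]) _ (by rw [List.length_map, hlen]) ?_ ?_
    · intro x hx
      have : x ∈ Ideal.ofList (rs.map (algebraMap R A)) := Ideal.subset_span hx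
      rw [hmapgen] at this
      exact map_maximalIdeal_le R A hinj this
    · rw [hmapgen]
      exact maximalIdeal_le_radical_map R A
  rw [isWeaklyRegular_map_algebraMap_iff] at hreg
  exact Groth.Agent.Lib.Helper84.Coprod.free_of_isWeaklyRegular _ R A rs hlen hgen hreg

end Free

section Unram

variable {R : Type u} [CommRing R] {A : Type v} [CommRing A] [IsDomain A] [IsLocalRing A]
  [IsNoetherianRing A] [Algebra R A]
  {H : Type w} [Group H] [Finite H] [MulSemiringAction H A] [SMulCommClass H R A]

/-- `H` acts trivially on the residue field when `R` surjects onto it. -/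
theorem smul_sub_mem_maximalIdeal
    (hres : Function.Surjective (IsLocalRing.residue A ∘ algebraMap R A)) (g : H) (a : A) :
    g • a - a ∈ maximalIdeal A := by
  obtain ⟨r, hr⟩ := hres (residue A a)
  have h1 : a - algebraMap R A r ∈ maximalIdeal A := by
    rw [← Ideal.Quotient.eq_zero_iff_mem, map_sub, sub_eq_zero]
    exact hr.symm
  have hg : ∀ m ∈ maximalIdeal A, g • m ∈ maximalIdeal A := by
    intro m hm
    rw [mem_maximalIdeal, mem_nonunits_iff] at hm ⊢
    intro hu
    apply hm
    have := hu.map (MulSemiringAction.toRingHom H A g⁻¹)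
    simpa using this
  have h2 : g • a - a = g • (a - algebraMap R A r) - (a - algebraMap R A r) := by
    rw [smul_sub, smul_algebraMap]; ring
  rw [h2]
  exact Ideal.sub_mem _ (hg _ h1) h1

/-- If `A` is free over `R = A^H` with `H` acting trivially on the residue field, `dim A ≥ 2`
and the inertia groups of all non-maximal primes are trivial, then `H` is trivial. -/
theorem card_le_one_of_inertia_eq_bot [Module.Free R A] [Module.Finite R A]
    (hinj : Function.Injective (algebraMap R A)) [FaithfulSMul H A]
    (hfix : ∀ a : A, (∀ h : H, h • a = a) → a ∈ Set.range (algebraMap R A))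
    (hres : Function.Surjective (IsLocalRing.residue A ∘ algebraMap R A))
    (hdim : 2 ≤ ringKrullDim A)
    (hI : ∀ P : Ideal A, P.IsPrime → P ≠ maximalIdeal A → P.inertia H = ⊥) :
    Nat.card H ≤ 1 := by
  classical
  by_contra hcon
  push Not at hcon
  letI : Fintype H := Fintype.ofFinite H
  haveI : IsGaloisGroup H R A :=
    { faithful := inferInstance
      commutes := inferInstance
      isInvariant := ⟨fun a ha => hfix a ha⟩ }
  haveI : FaithfulSMul R A := (faithfulSMul_iff_algebraMap_injective R A).mpr hinj
  haveI : Nontrivial R := (algebraMap R A).domain_nontrivial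
  have hrank : Module.finrank R A = Fintype.card H := by
    rw [← IsGaloisGroup.card_eq_finrank' H R A, Nat.card_eq_fintype_card]
  let e : Module.Basis H R A :=
    (Module.finBasisOfFinrankEq R A hrank).reindex (Fintype.equivFinOfCardEq rfl).symm
  let ea : H → A := fun b => e b
  let D := (galMat ea).det
  have hDm : D ∈ maximalIdeal A := by
    rw [← Ideal.Quotient.eq_zero_iff_mem, RingHom.map_det]
    obtain ⟨g₁, g₂, hne⟩ := Fintype.exists_pair_of_one_lt_card (α := H)
      (by rw [← Nat.card_eq_fintype_card]; exact hcon)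
    apply Matrix.det_zero_of_row_eq hne
    funext h
    simp only [RingHom.mapMatrix_apply, Matrix.map_apply, galMat, Matrix.of_apply]
    have h1 := Ideal.Quotient.eq.mpr (smul_sub_mem_maximalIdeal hres g₁ (ea h))
    have h2 := Ideal.Quotient.eq.mpr (smul_sub_mem_maximalIdeal hres g₂ (ea h))
    rw [h1, h2]
  have hne : Ideal.span {D} ≠ ⊤ := by
    intro h
    have : Ideal.span {D} ≤ maximalIdeal A := (Ideal.span_singleton_le_iff_mem _).mpr hDm
    rw [h] at this
    exact (maximalIdeal.isMaximal A).ne_top (top_le_iff.mp this)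
  obtain ⟨Q, hQ⟩ := Ideal.nonempty_minimalPrimes hne
  haveI := hQ.1.1
  have hht : Q.height ≤ 1 := Ideal.height_le_one_of_isPrincipal_of_mem_minimalPrimes _ Q hQ
  have hQm : Q ≠ maximalIdeal A := by
    rintro rfl
    have h2 : (2 : WithBot ℕ∞) ≤ ((maximalIdeal A).height : WithBot ℕ∞) := by
      rw [IsLocalRing.maximalIdeal_height_eq_ringKrullDim]; exact hdim
    have h3' : ((2 : ℕ∞) : WithBot ℕ∞) ≤ ((maximalIdeal A).height : WithBot ℕ∞) := h2
    have h3 : (2 : ℕ∞) ≤ (maximalIdeal A).height := WithBot.coe_le_coe.mp h3'
    have := h3.trans hht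
    norm_num at this
  have hDQ : D ∈ Q := hQ.1.2 (Ideal.subset_span rfl)
  refine det_notMem (Γ := H) (⊤ : Submonoid A) ea ?_ Q ?_ hDQ
  · intro x _
    refine ⟨fun b => algebraMap R A (e.repr x b), fun b g => smul_algebraMap _ _, ?_⟩
    conv_lhs => rw [← e.sum_repr x]
    refine Finset.sum_congr rfl fun b _ => ?_
    rw [Algebra.smul_def]
  · intro g h hgh
    by_contra hcon'
    push Not at hcon'
    apply hgh
    have hmem : h * g⁻¹ ∈ Q.inertia H := by
      intro y
      have := hcon' (g⁻¹ • y) (Submonoid.mem_top _)
      rw [smul_inv_smul, ← mul_smul] at this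
      have h2 := Q.neg_mem this
      rwa [neg_sub] at h2
    rw [hI Q hQ.1.1 hQm, Subgroup.mem_bot, mul_inv_eq_one] at hmem
    exact hmem.symm

end Unram

end Groth.Agent.Lib.Helper84.WQ24
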