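import Mathlib
import Groth.Agent.Lib.Helper84.WQ24

/-!
# Dimension two, `|H| = p^2` (helper84)
-/

set_option autoImplicit false
set_option linter.unusedSectionVars false
set_option linter.style.haveILetI false

universe u v w

namespace Groth.Agent.Lib.Helper84.WQ25

open IsLocalRing Groth.Agent.Lib.Helper84.WQ24

theorem main (p : ℕ) [Fact p.Prime] (R : Type u) [CommRing R] [IsRegularLocalRing R]
    (A : Type v) [CommRing A] [IsDomain A] [IsIntegrallyClosed A] [IsLocalRing A]
    [Algebra R A] [Module.Finite R A] (hinj : Function.Injective (algebraMap R A))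
    (hres : Function.Surjective (IsLocalRing.residue A ∘ algebraMap R A))
    (H : Type w) [Group H] [Finite H] [MulSemiringAction H A] [SMulCommClass H R A] [FaithfulSMul H A]
    (hfix : ∀ a : A, (∀ h : H, h • a = a) → a ∈ Set.range (algebraMap R A))
    (hdim : ringKrullDim A = 2) (hcard : Nat.card H = p ^ 2)
    (Γ : Subgroup H) (hΓ : Nat.card Γ = p)
    (hram : ∀ P : Ideal A, P.IsPrime → P ≠ IsLocalRing.maximalIdeal A → P.inertia H ⊓ Γ = ⊥) :
    (∀ P : Ideal A, P.IsPrime → P.height = 1 → P.inertia H ≠ ⊥ → Nat.card (P.inertia H) = p) ∧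
      (∀ g h : H, g * h = h * g) ∧ ∀ h : H, h ^ p = 1 := by
  classical
  have hp : p.Prime := Fact.out
  haveI : IsNoetherianRing A := IsNoetherianRing.of_finite R A
  refine ⟨?_, (IsPGroup.isMulCommutative_of_card_eq_prime_sq hcard).is_comm.comm, ?_⟩
  · intro P hP hP1 hI
    have hPm : P ≠ maximalIdeal A := by
      rintro rfl
      have h2 := IsLocalRing.maximalIdeal_height_eq_ringKrullDim (R := A)
      rw [hdim, hP1] at h2
      norm_num at h2
    have h1 := hram P hP hPm
    have hdvd : Nat.card (P.inertia H) ∣ p ^ 2 := hcard ▸ Subgroup.card_subgroup_dvd_card _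
    obtain ⟨k, hk, hkc⟩ := (Nat.dvd_prime_pow hp).mp hdvd
    interval_cases k
    · exact absurd (Subgroup.card_eq_one.mp (by simpa using hkc)) hI
    · simpa using hkc
    · exfalso
      have htop : P.inertia H = ⊤ := Subgroup.eq_top_of_card_eq _ (by rw [hkc, hcard])
      rw [htop, top_inf_eq] at h1
      rw [h1, Subgroup.card_bot] at hΓ
      exact hp.one_lt.ne hΓ
  · intro h
    by_contra hh
    have hord : orderOf h = p ^ 2 := by
      have hdvd : orderOf h ∣ p ^ 2 := hcard ▸ orderOf_dvd_natCard h
      obtain ⟨k, hk, hkc⟩ := (Nat.dvd_prime_pow hp).mp hdvd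
      interval_cases k
      · exfalso; apply hh
        have : h = 1 := orderOf_eq_one_iff.mp (by simpa using hkc)
        rw [this, one_pow]
      · exfalso; apply hh
        have : orderOf h = p := by simpa using hkc
        rw [← this]; exact pow_orderOf_eq_one h
      · exact hkc
    haveI : IsCyclic H := isCyclic_of_orderOf_eq_card h (by rw [hord, hcard])
    letI : Fintype H := Fintype.ofFinite H
    have hS : ∀ x : H, x ^ p = 1 → x ∈ Γ := by
      have hle := IsCyclic.card_pow_eq_one_le (α := H) hp.pos
      let ΓF : Finset H := Finset.univ.filter (· ∈ Γ)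
      have hsub : ΓF ⊆ Finset.univ.filter (fun a : H => a ^ p = 1) := by
        intro x hx
        simp only [ΓF, Finset.mem_filter, Finset.mem_univ, true_and] at hx ⊢
        have := pow_card_eq_one' (G := Γ) (x := ⟨x, hx⟩)
        rw [hΓ] at this
        exact congrArg Subtype.val this
      have hcardΓ : ΓF.card = p := by
        rw [← hΓ, Nat.card_eq_fintype_card, Fintype.card_subtype]
      have heq := Finset.eq_of_subset_of_card_le hsub (by rw [hcardΓ]; exact hle)
      intro x hx
      have : x ∈ Finset.univ.filter (fun a : H => a ^ p = 1) := by simp [hx]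
      rw [← heq] at this
      simpa [ΓF] using this
    have hI : ∀ P : Ideal A, P.IsPrime → P ≠ maximalIdeal A → P.inertia H = ⊥ := by
      intro P hP hPm
      rw [eq_bot_iff]
      intro k hk
      have h1 := hram P hP hPm
      have hkp : k ^ p ∈ Γ := hS _ (by rw [← pow_mul, ← sq, ← hcard]; exact pow_card_eq_one')
      have hkp1 : k ^ p = 1 := by
        have : k ^ p ∈ P.inertia H ⊓ Γ := ⟨Subgroup.pow_mem _ hk p, hkp⟩
        rwa [h1, Subgroup.mem_bot] at this
      have : k ∈ P.inertia H ⊓ Γ := ⟨hk, hS k hkp1⟩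
      rwa [h1] at this
    have hCM := Groth.Agent.Lib.Helper49.Serre.isCohenMacaulayLocalRing_of_isIntegrallyClosed_of_dim_le_two
      A hdim.le
    haveI : Module.Free R A := free_of_finite_CM R A hinj hCM.supportDim_eq_depth
    have h3 := card_le_one_of_inertia_eq_bot hinj hfix hres hdim.ge hI
    rw [hcard] at h3
    have : 1 < p ^ 2 := Nat.one_lt_pow (by norm_num) hp.one_lt
    omega

end Groth.Agent.Lib.Helper84.WQ25
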