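import Mathlib
import Groth.Agent.Lib.Helper84.WQ5

/-!
# The generalized Artin–Schreier quotient: the top-coefficient form is a perfect pairing and is
invariant under translations `u_i ↦ u_i + s_i`.
-/

set_option autoImplicit false

universe u

namespace Groth.Agent.Lib.Helper84.WQ

open Groth.Agent.Lib.Helper84.MonicTower

section Perfect

variable (p : ℕ) {S : Type u} [CommRing S] {n : ℕ} (α β : Fin n → S)

theorem monN_mem_Fil_pred (hp : 2 ≤ p) (g : Fin n → ℕ) (i : Fin n) (hi : p ≤ g i) :
    monN p α β g ∈ Fil p α β (((∑ j, g j : ℕ) : ℤ) - 1) := by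
  set g' : Fin n → ℕ := fun j => if j = i then g i - p else g j with hg'
  have hgg : g = g' + Pi.single i p := by
    funext j
    by_cases hj : j = i
    · subst hj
      simp only [hg', Pi.add_apply, if_true, Pi.single_eq_same]
      omega
    · simp [hg', hj]
  have hsum : ∑ j, g j = ∑ j, g' j + p := by
    conv_lhs => rw [hgg]
    simp only [Pi.add_apply, Finset.sum_add_distrib]
    rw [Finset.sum_pi_single']
    simp
  have hsum1 : ∑ j, (g' + Pi.single i 1 : Fin n → ℕ) j = ∑ j, g' j + 1 := by
    simp only [Pi.add_apply, Finset.sum_add_distrib]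
    rw [Finset.sum_pi_single']
    simp
  have key : monN p α β g = algebraMap S (GQ p α β) (α i) *
      monN p α β (g' + Pi.single i 1) + algebraMap S (GQ p α β) (β i) * monN p α β g' := by
    conv_lhs => rw [hgg]
    rw [monN_add, monN_single, gu_rel, monN_add, monN_single, pow_one]
    ring
  rw [key, ← Algebra.smul_def, ← Algebra.smul_def]
  refine add_mem (Submodule.smul_mem _ _ ?_) (Submodule.smul_mem _ _ ?_)
  · refine monN_mem_Fil p α β ?_
    rw [hsum1, hsum]
    push_cast
    omega
  · refine monN_mem_Fil p α β ?_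
    rw [hsum]
    push_cast
    omega

theorem sum_toN_le (e : Fin n → Fin p) : ∑ i, toN p e i ≤ n * (p - 1) := by
  calc ∑ i, toN p e i ≤ ∑ _i : Fin n, (p - 1) := by
        refine Finset.sum_le_sum fun i _ => ?_
        have := (e i).isLt
        simp only [toN]
        omega
    _ = n * (p - 1) := by simp

variable [Nontrivial S]

theorem gram (hp : 2 ≤ p) (e f : Fin n → Fin p)
    (h : ∑ i, toN p e i + ∑ i, toN p f i ≤ n * (p - 1)) :
    lam p α β hp (mon p α β e * mon p α β f) =
      if (∀ i, (e i : ℕ) + (f i : ℕ) = p - 1) then 1 else 0 := by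
  have hmul : mon p α β e * mon p α β f = monN p α β (toN p e + toN p f) :=
    (monN_add p α β _ _).symm
  by_cases hbox : ∀ i, (e i : ℕ) + (f i : ℕ) < p
  · have h1 : monN p α β (toN p e + toN p f) =
        mon p α β (fun i => ⟨(e i : ℕ) + (f i : ℕ), hbox i⟩) := rfl
    rw [hmul, h1, lam_mon]
    congr 1
    apply propext
    constructor
    · intro h2 i
      have := congrFun h2 i
      simp only [topE, Fin.ext_iff] at this
      exact this
    · intro h2
      funext i
      simp only [topE, Fin.ext_iff]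
      exact h2 i
  · push Not at hbox
    obtain ⟨i, hi⟩ := hbox
    have h1 := monN_mem_Fil_pred p α β hp (toN p e + toN p f) i hi
    rw [hmul, lam_Fil p α β hp _ h1, if_neg]
    · intro h2
      have := h2 i
      omega
    · simp only [Pi.add_apply, Finset.sum_add_distrib]
      have h3 : 0 < ∑ j, toN p e j + ∑ j, toN p f j := by
        have h4 : toN p e i + toN p f i ≤ ∑ j, (toN p e j + toN p f j) :=
          Finset.single_le_sum (f := fun j => toN p e j + toN p f j)
            (fun _ _ => Nat.zero_le _) (Finset.mem_univ i)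
        rw [Finset.sum_add_distrib] at h4
        have h5 : p ≤ toN p e i + toN p f i := hi
        omega
      push_cast
      have h6 : ((∑ j, toN p e j : ℕ) : ℤ) + ((∑ j, toN p f j : ℕ) : ℤ) ≤ ((n * (p - 1) : ℕ) : ℤ) := by
        exact_mod_cast h
      push_cast at h6 ⊢
      omega

/-- the pairing map `c ↦ (x ↦ λ(x c))` -/
noncomputable def Θ (hp : 2 ≤ p) : GQ p α β →ₗ[S] Module.Dual S (GQ p α β) :=
  LinearMap.mk₂ S (fun c x => lam p α β hp (x * c))
    (fun c c' x => by rw [mul_add, map_add])
    (fun r c x => by rw [mul_smul_comm, map_smul])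
    (fun c x x' => by rw [add_mul, map_add])
    (fun r c x => by rw [smul_mul_assoc, map_smul])

theorem Θ_apply (hp : 2 ≤ p) (c x : GQ p α β) : Θ p α β hp c x = lam p α β hp (x * c) := rfl

/-- the complementary exponent -/
def compl (hp : 2 ≤ p) (e : Fin n → Fin p) : Fin n → Fin p :=
  fun i => ⟨p - 1 - (e i : ℕ), by omega⟩

theorem sum_compl (hp : 2 ≤ p) (e : Fin n → Fin p) :
    ∑ i, toN p (compl p hp e) i + ∑ i, toN p e i = n * (p - 1) := by
  rw [← Finset.sum_add_distrib]
  calc ∑ i, (toN p (compl p hp e) i + toN p e i) = ∑ _i : Fin n, (p - 1) := by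
        refine Finset.sum_congr rfl fun i _ => ?_
        have := (e i).isLt
        simp only [toN, compl]
        omega
    _ = n * (p - 1) := by simp

theorem coord_mem_range (hp : 2 ≤ p) : ∀ (m : ℕ) (e : Fin n → Fin p),
    n * (p - 1) - ∑ i, toN p e i = m →
    (monBasis p α β hp).coord e ∈ LinearMap.range (Θ p α β hp) := by
  classical
  intro m
  induction m using Nat.strong_induction_on with
  | _ m ih =>
    intro e he
    have hsum : Θ p α β hp (mon p α β (compl p hp e)) =
        ∑ e', (lam p α β hp (mon p α β e' * mon p α β (compl p hp e))) •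
          (monBasis p α β hp).coord e' := by
      rw [← (monBasis p α β hp).sum_dual_apply_smul_coord (Θ p α β hp (mon p α β (compl p hp e)))]
      refine Finset.sum_congr rfl fun e' _ => ?_
      rw [Θ_apply, monBasis_apply]
    rw [← Finset.add_sum_erase _ _ (Finset.mem_univ e)] at hsum
    have hc := sum_compl p hp e
    have h1 : lam p α β hp (mon p α β e * mon p α β (compl p hp e)) = 1 := by
      rw [gram p α β hp _ _ (by omega), if_pos]
      intro i
      have := (e i).isLt
      simp only [compl]
      omega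
    rw [h1, one_smul] at hsum
    have h2 : (monBasis p α β hp).coord e = Θ p α β hp (mon p α β (compl p hp e)) -
        ∑ e' ∈ Finset.univ.erase e,
          (lam p α β hp (mon p α β e' * mon p α β (compl p hp e))) •
            (monBasis p α β hp).coord e' := by
      rw [hsum]; abel
    rw [h2]
    refine sub_mem (LinearMap.mem_range_self _ _) (Submodule.sum_mem _ fun e' he' => ?_)
    by_cases hdeg : ∑ i, toN p e' i ≤ ∑ i, toN p e i
    · have h3 : lam p α β hp (mon p α β e' * mon p α β (compl p hp e)) = 0 := by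
        rw [gram p α β hp _ _ (by omega), if_neg]
        intro h4
        apply (Finset.mem_erase.1 he').1
        funext i
        have := h4 i
        have := (e i).isLt
        simp only [compl] at *
        apply Fin.ext
        omega
      rw [h3, zero_smul]
      exact zero_mem _
    · push Not at hdeg
      have h5 := sum_toN_le p e'
      exact Submodule.smul_mem _ _ (ih (n * (p - 1) - ∑ i, toN p e' i) (by omega) e' rfl)

theorem Θ_surjective (hp : 2 ≤ p) : Function.Surjective (Θ p α β hp) := by
  intro ψ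
  rw [← LinearMap.mem_range, ← (monBasis p α β hp).sum_dual_apply_smul_coord ψ]
  exact Submodule.sum_mem _ fun e _ =>
    Submodule.smul_mem _ _ (coord_mem_range p α β hp _ e rfl)

theorem Θ_injective (hp : 2 ≤ p) : Function.Injective (Θ p α β hp) := by
  have hfin := finite_GQ p α β hp
  have hs : Function.Surjective
      (((monBasis p α β hp).toDualEquiv.symm.toLinearMap).comp (Θ p α β hp)) := by
    rw [LinearMap.coe_comp]
    exact ((monBasis p α β hp).toDualEquiv.symm.surjective).comp (Θ_surjective p α β hp)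
  have hi := OrzechProperty.injective_of_surjective_endomorphism _ hs
  intro x y hxy
  apply hi
  simp only [LinearMap.comp_apply, hxy]

theorem mem_Fil_top (hp : 2 ≤ p) (t : GQ p α β) : t ∈ Fil p α β ((n * (p - 1) : ℕ) : ℤ) := by
  rw [Fil_eq_BFil p α β hp]
  have h := span_mon_eq_top p α β hp (Submodule.mem_top (x := t))
  refine Submodule.span_mono ?_ h
  rintro _ ⟨e, rfl⟩
  exact ⟨e, by exact_mod_cast sum_toN_le p e, rfl⟩

end Perfect

section Inv

variable (p : ℕ) {S : Type u} [CommRing S] {n : ℕ} (α β : Fin n → S)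
  (τ : GQ p α β →ₐ[S] GQ p α β)

/-- `t` has filtration degree `≤ d` and `τ t - t` has degree `≤ d - 1` -/
def Dp (d : ℤ) (t : GQ p α β) : Prop := t ∈ Fil p α β d ∧ τ t - t ∈ Fil p α β (d - 1)

theorem Dp_mono {d d' : ℤ} (h : d ≤ d') {t : GQ p α β} (ht : Dp p α β τ d t) :
    Dp p α β τ d' t :=
  ⟨Fil_mono p α β h ht.1, Fil_mono p α β (by omega) ht.2⟩

theorem Dp_map_mem {d : ℤ} {t : GQ p α β} (ht : Dp p α β τ d t) : τ t ∈ Fil p α β d := by
  have : τ t = t + (τ t - t) := by ring
  rw [this]
  exact add_mem ht.1 (Fil_mono p α β (by omega) ht.2)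

theorem Dp_mul {d d' : ℤ} {t t' : GQ p α β} (ht : Dp p α β τ d t) (ht' : Dp p α β τ d' t') :
    Dp p α β τ (d + d') (t * t') := by
  refine ⟨mul_mem_Fil p α β ht.1 ht'.1, ?_⟩
  have : τ (t * t') - t * t' = τ t * (τ t' - t') + (τ t - t) * t' := by rw [map_mul]; ring
  rw [this]
  refine add_mem ?_ ?_
  · have := mul_mem_Fil p α β (Dp_map_mem p α β τ ht) ht'.2
    rwa [show d + (d' - 1) = d + d' - 1 by ring] at this
  · have := mul_mem_Fil p α β ht.2 ht'.1
    rwa [show d - 1 + d' = d + d' - 1 by ring] at this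

theorem Dp_one : Dp p α β τ 0 1 := by
  refine ⟨one_mem_Fil p α β, ?_⟩
  rw [map_one, sub_self]
  exact zero_mem _

variable (hτ : ∀ i, ∃ s : S, τ (gu p α β i) = gu p α β i + algebraMap S (GQ p α β) s)

include hτ in
theorem Dp_gu (i : Fin n) : Dp p α β τ 1 (gu p α β i) := by
  refine ⟨gu_mem_Fil p α β i, ?_⟩
  obtain ⟨s, hs⟩ := hτ i
  rw [hs, add_sub_cancel_left]
  exact algebraMap_mem_Fil p α β s

include hτ in
theorem Dp_pow (i : Fin n) (m : ℕ) : Dp p α β τ (m : ℤ) (gu p α β i ^ m) := by
  induction m with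
  | zero => rw [pow_zero]; exact Dp_one p α β τ
  | succ m ih =>
    rw [pow_succ]
    have := Dp_mul p α β τ ih (Dp_gu p α β τ hτ i)
    rwa [show (m : ℤ) + 1 = ((m + 1 : ℕ) : ℤ) by push_cast; ring] at this

include hτ in
theorem Dp_prod (g : Fin n → ℕ) (s : Finset (Fin n)) :
    Dp p α β τ ((∑ i ∈ s, g i : ℕ) : ℤ) (∏ i ∈ s, gu p α β i ^ g i) := by
  classical
  induction s using Finset.induction_on with
  | empty => simpa using Dp_one p α β τ
  | insert a s ha ih =>
    rw [Finset.prod_insert ha, Finset.sum_insert ha]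
    have := Dp_mul p α β τ (Dp_pow p α β τ hτ a (g a)) ih
    rwa [show ((g a : ℕ) : ℤ) + ((∑ i ∈ s, g i : ℕ) : ℤ) = ((g a + ∑ i ∈ s, g i : ℕ) : ℤ) by
      push_cast; ring] at this

include hτ in
theorem Dp_of_mem_Fil {d : ℤ} {t : GQ p α β} (ht : t ∈ Fil p α β d) : Dp p α β τ d t := by
  unfold Fil at ht
  induction ht using Submodule.span_induction with
  | mem y hy =>
    obtain ⟨g, hg, rfl⟩ := hy
    exact Dp_mono p α β τ hg (Dp_prod p α β τ hτ g Finset.univ)
  | zero =>
    refine ⟨zero_mem _, ?_⟩
    rw [map_zero, sub_self]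
    exact zero_mem _
  | add y z _ _ hy hz =>
    refine ⟨add_mem hy.1 hz.1, ?_⟩
    have : τ (y + z) - (y + z) = (τ y - y) + (τ z - z) := by rw [map_add]; ring
    rw [this]
    exact add_mem hy.2 hz.2
  | smul r y _ hy =>
    refine ⟨Submodule.smul_mem _ _ hy.1, ?_⟩
    have : τ (r • y) - r • y = r • (τ y - y) := by rw [map_smul, smul_sub]
    rw [this]
    exact Submodule.smul_mem _ _ hy.2

include hτ in
theorem lam_invariant [Nontrivial S] (hp : 2 ≤ p) (t : GQ p α β) :
    lam p α β hp (τ t) = lam p α β hp t := by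
  have h := (Dp_of_mem_Fil p α β τ hτ (mem_Fil_top p α β hp t)).2
  have h0 := lam_Fil p α β hp (by omega) h
  rw [map_sub, sub_eq_zero] at h0
  exact h0

end Inv

end Groth.Agent.Lib.Helper84.WQ
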