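import Mathlib
import Groth.Agent.Lib.Helper84.WQ7
import Groth.Agent.S0565
import Groth.Agent.Lib.Helper33.RegularRing
import Groth.Agent.Lib.Helper96.RegularLoc

/-!
# Invariant rings are regular where the action is free (helper84)
-/

set_option autoImplicit false

universe u w

namespace Groth.Agent.Lib.Helper84.WQ8

open Groth.Agent.Lib.Helper84.WQ7 IsLocalRing

/-- Noetherianity descends along faithfully flat ring maps. -/
theorem isNoetherianRing_of_faithfullyFlat (B C : Type*) [CommRing B] [CommRing C] [Algebra B C]
    [Module.FaithfullyFlat B C] [IsNoetherianRing C] : IsNoetherianRing B := by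
  rw [isNoetherianRing_iff, isNoetherian_iff']
  have hmono : StrictMono (Ideal.map (algebraMap B C)) :=
    Monotone.strictMono_of_injective (fun _ _ h => Ideal.map_mono h)
      Ideal.map_injective_of_faithfullyFlat
  have : WellFoundedGT (Ideal C) := (isNoetherian_iff' (R := C) (M := C)).mp inferInstance
  exact hmono.wellFoundedGT

/-- If a finite group acts on a regular ring `A` and acts freely at all primes over the
prime `P` of the ring of invariants, then the invariants are regular at `P`. -/
theorem isRegularLocalRing_atPrime_fixed (A : Type u) [CommRing A] [IsRegularRing A]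
    (G : Type w) [Group G] [Finite G] [MulSemiringAction G A]
    (P : Ideal (FixedPoints.subring A G)) [P.IsPrime]
    (hfree : ∀ Q : Ideal A, Q.IsPrime → Q.comap (algebraMap (FixedPoints.subring A G) A) = P →
      ∀ g : G, g ≠ 1 → ∃ a : A, g • a - a ∉ Q) :
    IsRegularLocalRing (Localization.AtPrime P) := by
  classical
  cases nonempty_fintype G
  let B := FixedPoints.subring A G
  have : Algebra.IsIntegral B A := isIntegral_fixed G A
  have hinj : Function.Injective (algebraMap B A) := Subtype.val_injective
  -- Step 1: a witness outside `P`
  obtain ⟨s, hsW, hsP⟩ : ∃ s : B, W G A (s : A) ∧ s ∉ P := by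
    by_contra hcon
    push Not at hcon
    have hle : (WIdeal G A).comap (algebraMap B A) ≤ P := fun s hs => hcon s hs
    obtain ⟨Q, hQI, hQp, hQP⟩ := Ideal.exists_ideal_over_prime_of_isIntegral P (WIdeal G A) hle
    exact not_WIdeal_le Q (hfree Q hQp hQP) hQI
  -- Step 2: flatness
  let S : Submonoid B := P.primeCompl
  let B' := Localization.AtPrime P
  let A' := Localization (Algebra.algebraMapSubmonoid A S)
  have hproj : Module.Projective B' A' := projective_localization S s hsP hsW
  have : Module.Flat B' A' := inferInstance
  -- Step 3: a prime over `P`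
  obtain ⟨Q, -, hQp, hQP⟩ := Ideal.exists_ideal_over_prime_of_isIntegral P (⊥ : Ideal A) (by
    rw [Ideal.comap_bot_of_injective _ hinj]; exact bot_le)
  have := hQp
  have hdisj : Disjoint (Algebra.algebraMapSubmonoid A S : Set A) (Q : Set A) := by
    rw [Set.disjoint_left]
    rintro _ ⟨t, htS, rfl⟩ htQ
    apply htS
    rw [← hQP]
    exact htQ
  let Q' : Ideal A' := Q.map (algebraMap A A')
  have hQ'p : Q'.IsPrime :=
    IsLocalization.isPrime_of_isPrime_disjoint (Algebra.algebraMapSubmonoid A S) A' Q hQp hdisj
  let C := Localization.AtPrime Q'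
  have : IsRegularRing A' :=
    Groth.Agent.Lib.Helper96.isRegularRing_of_isLocalization (Algebra.algebraMapSubmonoid A S) A'
  have : IsRegularLocalRing C := IsRegularRing.isRegularLocalRing_localization Q'
  have : IsScalarTower B' A' C := inferInstance
  have : Module.Flat B' C := Module.Flat.trans B' A' C
  have : IsLocalHom (algebraMap B' C) := by
    apply ((IsLocalRing.local_hom_TFAE (algebraMap B' C)).out 0 2).mpr
    rw [← Localization.AtPrime.map_eq_maximalIdeal (I := P),
      ← Localization.AtPrime.map_eq_maximalIdeal (I := Q'), Ideal.map_map]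
    have h1 : (algebraMap B' C).comp (algebraMap B B')
        = (algebraMap A' C).comp ((algebraMap A A').comp (algebraMap B A)) := by
      rw [IsScalarTower.algebraMap_eq B' A' C, RingHom.comp_assoc]
      congr 1
      rw [← IsScalarTower.algebraMap_eq B B' A', ← IsScalarTower.algebraMap_eq B A A']
    rw [h1, ← Ideal.map_map, ← Ideal.map_map]
    apply Ideal.map_mono
    apply Ideal.map_mono
    rw [Ideal.map_le_iff_le_comap, hQP]
  have : Module.FaithfullyFlat B' C := Module.FaithfullyFlat.of_flat_of_isLocalHom
  have : IsNoetherianRing B' := isNoetherianRing_of_faithfullyFlat B' C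
  exact Groth.Agent.S0565.result B' C

end Groth.Agent.Lib.Helper84.WQ8
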