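import Mathlib
import Groth.Agent.Lib.Helper84.DerReg2

set_option autoImplicit false
universe u

namespace Groth.Agent.Lib.Helper84.WeierReg

open Polynomial IsLocalRing
open scoped Polynomial.Bivariate

section Der
variable {R : Type u} [CommRing R] (W : WeierstrassCurve.Affine R)

/-- `∂/∂Y` as a `ℤ`-derivation of `R[X][Y]`. -/
noncomputable def DY : Derivation ℤ R[X][Y] R[X][Y] :=
  (Polynomial.derivative' (R := R[X])).restrictScalars ℤ

/-- `∂/∂X` as a `ℤ`-derivation of `R[X][Y]` (coefficientwise derivative). -/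
noncomputable def DX : Derivation ℤ R[X][Y] R[X][Y] :=
  @Differential.mapCoeffs R[X] _ ⟨(Polynomial.derivative' (R := R)).restrictScalars ℤ⟩

lemma DY_apply (g : R[X][Y]) : DY g = Polynomial.derivative g := rfl

lemma coeff_DX (p : R[X][Y]) (i : ℕ) : (DX p).coeff i = Polynomial.derivative (p.coeff i) := rfl

lemma DX_C (g : R[X]) : DX (C g : R[X][Y]) = C (Polynomial.derivative g) := by
  ext1 i
  rw [coeff_DX, coeff_C, coeff_C]
  split_ifs
  · rfl
  · simp

lemma DX_Y : DX (Y : R[X][Y]) = 0 := by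
  ext1 i
  rw [coeff_DX, coeff_X, coeff_zero]
  split_ifs <;> simp

lemma DY_polynomial : DY W.polynomial = W.polynomialY := by
  rw [DY_apply, WeierstrassCurve.Affine.polynomial, WeierstrassCurve.Affine.polynomialY]
  simp only [derivative_sub, derivative_add, derivative_mul, derivative_C, derivative_X_pow,
    derivative_X, zero_mul, mul_one, zero_add, sub_zero]
  simp only [Nat.cast_ofNat, Nat.add_one_sub_one, pow_one, map_ofNat]
  try ring

lemma DX_polynomial : DX W.polynomial = W.polynomialX := by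
  rw [WeierstrassCurve.Affine.polynomial, WeierstrassCurve.Affine.polynomialX]
  simp only [map_sub, map_add, Derivation.leibniz, Derivation.leibniz_pow, DX_C, DX_Y]
  simp only [derivative_sub, derivative_add, derivative_mul, derivative_C, derivative_X_pow,
    derivative_X, zero_mul, mul_one, zero_add, sub_zero, smul_zero, add_zero, smul_eq_mul]
  simp only [Nat.cast_ofNat, Nat.add_one_sub_one, pow_one, map_ofNat, map_mul, map_add, map_pow,
    C_0, mul_zero, add_zero, sub_zero]
  try ring

end Der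

section Ident
variable {R : Type u} [CommRing R] (W : WeierstrassCurve.Affine R)

lemma X_cube_eq : (C X : R[X][Y]) ^ 3 = 2 * W.polynomial - Y * W.polynomialY - C X * W.polynomialX
    - C (C W.a₃) * Y + C (C W.a₄) * C X + 2 * C (C W.a₆) := by
  rw [WeierstrassCurve.Affine.polynomial, WeierstrassCurve.Affine.polynomialX,
    WeierstrassCurve.Affine.polynomialY]
  simp only [map_add, map_mul, map_pow, map_ofNat]
  ring

lemma Y_sq_eq : (Y : R[X][Y]) ^ 2 = W.polynomial - C (C W.a₁) * C X * Y - C (C W.a₃) * Y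
    + (C X) ^ 3 + C (C W.a₂) * (C X) ^ 2 + C (C W.a₄) * C X + C (C W.a₆) := by
  rw [WeierstrassCurve.Affine.polynomial]
  simp only [map_add, map_mul, map_pow]
  ring

/-- Lemma B: a singular point of the special fibre is the origin. -/
lemma CX_mem_and_Y_mem (p : Ideal R[X][Y]) [hp : p.IsPrime]
    (h3 : C (C W.a₃) ∈ p) (h4 : C (C W.a₄) ∈ p) (h6 : C (C W.a₆) ∈ p)
    (hW : W.polynomial ∈ p) (hWX : W.polynomialX ∈ p) (hWY : W.polynomialY ∈ p) :
    (C X : R[X][Y]) ∈ p ∧ (Y : R[X][Y]) ∈ p := by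
  have hx : (C X : R[X][Y]) ∈ p := by
    apply hp.mem_of_pow_mem 3
    rw [X_cube_eq W]
    refine p.add_mem (p.add_mem (p.sub_mem (p.sub_mem (p.sub_mem ?_ ?_) ?_) ?_) ?_) ?_
    · exact p.mul_mem_left _ hW
    · exact p.mul_mem_left _ hWY
    · exact p.mul_mem_left _ hWX
    · exact p.mul_mem_right _ h3
    · exact p.mul_mem_right _ h4
    · exact p.mul_mem_left _ h6
  refine ⟨hx, ?_⟩
  apply hp.mem_of_pow_mem 2
  rw [Y_sq_eq W]
  refine p.add_mem (p.add_mem (p.add_mem (p.add_mem (p.sub_mem (p.sub_mem hW ?_) ?_) ?_) ?_) ?_) h6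
  · exact p.mul_mem_right _ (p.mul_mem_left _ hx)
  · exact p.mul_mem_right _ h3
  · exact p.pow_mem_of_mem hx 3 (by norm_num)
  · exact p.mul_mem_left _ (p.pow_mem_of_mem hx 2 (by norm_num))
  · exact p.mul_mem_left _ hx

end Ident

section Origin
variable {R : Type u} [CommRing R] (W : WeierstrassCurve.Affine R)

/-- evaluation at the origin -/
noncomputable def ev0 : R[X][Y] →+* R := (evalRingHom (0 : R)).comp (evalRingHom (0 : R[X]))

lemma ev0_polynomial : ev0 W.polynomial = - W.a₆ := by
  have := W.evalEval_polynomial_zero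
  rw [← this]
  simp [ev0, Polynomial.evalEval]

variable [IsLocalRing R]

/-- Lemma A: at the origin of the special fibre, `W ∉ M²` when `a₆ ∉ m²`. -/
lemma notMem_sq_origin (p : Ideal R[X][Y]) [hp : p.IsPrime]
    (hm : ∀ r ∈ maximalIdeal R, C (C r) ∈ p) (hx : (C X : R[X][Y]) ∈ p) (hy : (Y : R[X][Y]) ∈ p)
    (h6' : W.a₆ ∉ maximalIdeal R ^ 2) :
    algebraMap R[X][Y] (Localization.AtPrime p) W.polynomial ∉
      maximalIdeal (Localization.AtPrime p) ^ 2 := by
  intro hmem
  obtain ⟨t, ht, htW⟩ := Groth.Agent.Lib.Helper84.DerReg.exists_mul_mem_sq p hmem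
  have key : ∀ g : R[X][Y], Ideal.Quotient.mk p g = Ideal.Quotient.mk p (C (C (ev0 g))) := by
    intro g
    have : (Ideal.Quotient.mk p) = ((Ideal.Quotient.mk p).comp
        ((C : R[X] →+* R[X][Y]).comp (C : R →+* R[X]))).comp ev0 := by
      apply Polynomial.ringHom_ext'
      · apply Polynomial.ringHom_ext'
        · ext r; simp [ev0]
        · simp only [RingHom.comp_apply, ev0, coe_evalRingHom, eval_C, eval_X, map_zero]
          exact Ideal.Quotient.eq_zero_iff_mem.2 hx
      · simp only [RingHom.comp_apply, ev0, coe_evalRingHom, eval_X, map_zero]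
        exact Ideal.Quotient.eq_zero_iff_mem.2 hy
    exact RingHom.congr_fun this g
  have hmem_m : ∀ g ∈ p, ev0 g ∈ maximalIdeal R := by
    intro g hg
    by_contra hne
    have hu : IsUnit (ev0 g) := by
      by_contra h; exact hne ((mem_maximalIdeal _).2 h)
    have h1 : (C (C (ev0 g)) : R[X][Y]) ∈ p := by
      rw [← Ideal.Quotient.eq_zero_iff_mem, ← key g]
      exact Ideal.Quotient.eq_zero_iff_mem.2 hg
    exact hp.ne_top (Ideal.eq_top_of_isUnit_mem _ h1 ((hu.map C).map C))
  have hunit : IsUnit (ev0 t) := by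
    by_contra h
    apply ht
    rw [← Ideal.Quotient.eq_zero_iff_mem, key t]
    exact Ideal.Quotient.eq_zero_iff_mem.2 (hm _ ((mem_maximalIdeal _).2 h))
  have hle : Ideal.map ev0 p ≤ maximalIdeal R := Ideal.map_le_iff_le_comap.2 hmem_m
  have h2 : ev0 (t * W.polynomial) ∈ maximalIdeal R ^ 2 := by
    have := Ideal.mem_map_of_mem ev0 htW
    rw [Ideal.map_pow] at this
    exact Ideal.pow_right_mono hle 2 this
  rw [map_mul, ev0_polynomial] at h2
  obtain ⟨u, hu⟩ := hunit
  apply h6'
  have : W.a₆ = - (↑u⁻¹ * (ev0 t * -W.a₆)) := by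
    rw [← hu]; simp
  rw [this]
  exact Ideal.neg_mem_iff _ |>.2 (Ideal.mul_mem_left _ _ h2)

end Origin

section Generic
variable {R : Type u} [CommRing R] (W : WeierstrassCurve.Affine R)

/-- Lemma C: no singular points on the generic fibre when `Δ ≠ 0`. -/
lemma false_of_singular_generic (p : Ideal R[X][Y]) [hp : p.IsPrime] (hΔ : W.Δ ≠ 0)
    (hinj : Function.Injective ((Ideal.Quotient.mk p).comp
      ((C : R[X] →+* R[X][Y]).comp (C : R →+* R[X]))))
    (hW : W.polynomial ∈ p) (hWX : W.polynomialX ∈ p) (hWY : W.polynomialY ∈ p) : False := by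
  set φ := Ideal.Quotient.mk p with hφ
  set ψ : R →+* (R[X][Y] ⧸ p) := φ.comp ((C : R[X] →+* R[X][Y]).comp (C : R →+* R[X])) with hψ
  have hΔ' : (WeierstrassCurve.map W ψ).Δ ≠ (0 : R[X][Y] ⧸ p) := by
    rw [WeierstrassCurve.map_Δ]
    intro h
    exact hΔ (hinj (by rw [h, map_zero]))
  have hψa : ∀ r : R, ψ r = φ (C (C r)) := fun r => rfl
  have heq : WeierstrassCurve.Affine.Equation (WeierstrassCurve.map W ψ) (φ (C X)) (φ Y) := by
    rw [WeierstrassCurve.Affine.equation_iff']
    have h0 : φ W.polynomial = 0 := Ideal.Quotient.eq_zero_iff_mem.2 hW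
    rw [WeierstrassCurve.Affine.polynomial] at h0
    simp only [map_add, map_mul, map_pow, map_sub] at h0
    simp only [WeierstrassCurve.map_a₁, WeierstrassCurve.map_a₂, WeierstrassCurve.map_a₃,
      WeierstrassCurve.map_a₄, WeierstrassCurve.map_a₆, hψa]
    rw [← h0]; try ring
  have hns := (WeierstrassCurve.Affine.equation_iff_nonsingular_of_Δ_ne_zero hΔ').1 heq
  rw [WeierstrassCurve.Affine.nonsingular_iff'] at hns
  obtain ⟨-, h | h⟩ := hns
  · apply h
    have h0 : φ W.polynomialX = 0 := Ideal.Quotient.eq_zero_iff_mem.2 hWX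
    rw [WeierstrassCurve.Affine.polynomialX] at h0
    simp only [map_add, map_mul, map_pow, map_sub, map_ofNat] at h0
    simp only [WeierstrassCurve.map_a₁, WeierstrassCurve.map_a₂, WeierstrassCurve.map_a₃,
      WeierstrassCurve.map_a₄, WeierstrassCurve.map_a₆, hψa]
    rw [← h0]; try ring
  · apply h
    have h0 : φ W.polynomialY = 0 := Ideal.Quotient.eq_zero_iff_mem.2 hWY
    rw [WeierstrassCurve.Affine.polynomialY] at h0
    simp only [map_add, map_mul, map_pow, map_sub, map_ofNat] at h0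
    simp only [WeierstrassCurve.map_a₁, WeierstrassCurve.map_a₂, WeierstrassCurve.map_a₃,
      WeierstrassCurve.map_a₄, WeierstrassCurve.map_a₆, hψa]
    rw [← h0]; try ring

end Generic

section Main
variable {R : Type u} [CommRing R] [IsDomain R] [IsDiscreteValuationRing R]
  (W : WeierstrassCurve.Affine R)

/-- For every prime `p ∋ W` of `R[X][Y]`, the Weierstrass polynomial is not in `(pA_p)²`. -/
theorem notMem_sq (hΔ : W.Δ ≠ 0)
    (h3 : W.a₃ ∈ maximalIdeal R) (h4 : W.a₄ ∈ maximalIdeal R)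
    (h6 : W.a₆ ∈ maximalIdeal R) (h6' : W.a₆ ∉ maximalIdeal R ^ 2)
    (p : Ideal R[X][Y]) [hp : p.IsPrime] (hW : W.polynomial ∈ p) :
    algebraMap R[X][Y] (Localization.AtPrime p) W.polynomial ∉
      maximalIdeal (Localization.AtPrime p) ^ 2 := by
  by_cases hX : W.polynomialX ∈ p
  swap
  · refine Groth.Agent.Lib.Helper84.DerReg.algebraMap_notMem_sq p DX hW ?_
    intro h
    apply hX
    rw [← DX_polynomial W]
    exact h
  by_cases hY : W.polynomialY ∈ p
  swap
  · refine Groth.Agent.Lib.Helper84.DerReg.algebraMap_notMem_sq p DY hW ?_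
    intro h
    apply hY
    rw [← DY_polynomial W]
    exact h
  set c : Ideal R := p.comap ((C : R[X] →+* R[X][Y]).comp (C : R →+* R[X])) with hcdef
  have hc : c.IsPrime := Ideal.comap_isPrime _ _
  by_cases hbot : c = ⊥
  · exfalso
    refine false_of_singular_generic W p hΔ ?_ hW hX hY
    rw [RingHom.injective_iff_ker_eq_bot, ← RingHom.comap_ker, Ideal.mk_ker]
    exact hbot
  · have hmax : c = maximalIdeal R := IsLocalRing.eq_maximalIdeal (hc.isMaximal hbot)
    have hm : ∀ r ∈ maximalIdeal R, (C (C r) : R[X][Y]) ∈ p := by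
      intro r hr
      rw [← hmax] at hr
      exact hr
    obtain ⟨hx, hy⟩ := CX_mem_and_Y_mem W p (hm _ h3) (hm _ h4) (hm _ h6) hW hX hY
    exact notMem_sq_origin W p hm hx hy h6'

/-- S11104: the affine Weierstrass scheme is regular. -/
theorem isRegularLocalRing_localization (hΔ : W.Δ ≠ 0)
    (h3 : W.a₃ ∈ maximalIdeal R) (h4 : W.a₄ ∈ maximalIdeal R)
    (h6 : W.a₆ ∈ maximalIdeal R) (h6' : W.a₆ ∉ maximalIdeal R ^ 2)
    (P : Ideal W.CoordinateRing) [hPp : P.IsPrime] :
    IsRegularLocalRing (Localization.AtPrime P) := by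
  let p : Ideal R[X][Y] := P.comap (Ideal.Quotient.mk (Ideal.span {W.polynomial}))
  have : p.IsPrime := Ideal.comap_isPrime (H := hPp) _ _
  have hW : W.polynomial ∈ p := by
    show Ideal.Quotient.mk (Ideal.span {W.polynomial}) W.polynomial ∈ P
    have h0 : Ideal.Quotient.mk (Ideal.span {W.polynomial}) W.polynomial = 0 :=
      Ideal.Quotient.eq_zero_iff_mem.2 (Ideal.subset_span rfl)
    rw [h0]
    exact P.zero_mem
  exact Groth.Agent.Lib.Helper84.DerReg.isRegularLocalRing_localization_quotient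
    (Ideal.span {W.polynomial}) W.polynomial rfl P (hq := hPp) p rfl
    (notMem_sq W hΔ h3 h4 h6 h6' p hW)

/-- S11097: regularity at the origin of the special fibre. -/
theorem isRegularLocalRing_localization_origin
    (h6' : W.a₆ ∉ maximalIdeal R ^ 2)
    (P : Ideal W.CoordinateRing) [hPp : P.IsPrime]
    (hP : ∀ r ∈ maximalIdeal R, algebraMap R W.CoordinateRing r ∈ P)
    (hx : WeierstrassCurve.Affine.CoordinateRing.mk W (C X) ∈ P)
    (hy : WeierstrassCurve.Affine.CoordinateRing.mk W X ∈ P) :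
    IsRegularLocalRing (Localization.AtPrime P) := by
  let p : Ideal R[X][Y] := P.comap (Ideal.Quotient.mk (Ideal.span {W.polynomial}))
  have : p.IsPrime := Ideal.comap_isPrime (H := hPp) _ _
  refine Groth.Agent.Lib.Helper84.DerReg.isRegularLocalRing_localization_quotient
    (Ideal.span {W.polynomial}) W.polynomial rfl P (hq := hPp) p rfl ?_
  exact notMem_sq_origin W p (fun r hr => hP r hr) hx hy h6'

end Main

end Groth.Agent.Lib.Helper84.WeierReg
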